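import Cfsg.Statements.S5185
import Mathlib
import Cfsg.Agent.Lib.FusChainEss
import Cfsg.Agent.Lib.QdBasic
import Cfsg.Agent.Lib.FusEss

set_option autoImplicit false
universe u
open Cfsg

namespace Cfsg.Agent.S5185


open Subgroup Cfsg.FusionSystem Cfsg.Agent.Lib.FusChainEss Cfsg.Agent.Lib.QdBasic Multiplicative

section coord

variable {p : ℕ} [hp : Fact p.Prime]

theorem vpow_add {G : Type*} [Group G] {v : G} (hv : v ^ p = 1) (a b : ZMod p) : v ^ (a + b).val = v ^ a.val * v ^ b.val := by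
  rw [ZMod.val_add, ← pow_add]
  exact (pow_eq_pow_mod _ hv).symm

theorem pow_val_inv {G : Type*} [Group G] {v : G} (hv : v ^ p = 1) {a : ZMod p} (ha : a ≠ 0) : (v ^ a.val) ^ (a⁻¹).val = v := by
  have hP : p.Prime := Fact.out
  haveI : Fact (1 < p) := ⟨hP.one_lt⟩
  rw [← pow_mul, pow_eq_pow_mod _ hv, ← ZMod.val_mul, mul_inv_cancel₀ ha, ZMod.val_one, pow_one]

def e0 : Multiplicative (Pl p) := ofAdd ![1, 0]
def e1 : Multiplicative (Pl p) := ofAdd ![0, 1]

theorem decomp (x : Multiplicative (Pl p)) : x = (e0 (p := p)) ^ (toAdd x 0).val * (e1 (p := p)) ^ (toAdd x 1).val := by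
  apply toAdd.injective
  rw [toAdd_mul, toAdd_pow, toAdd_pow]
  funext i
  fin_cases i
  · simp [e0, e1]
  · simp [e0, e1]

theorem hom_ext' {G' : Type*} [Group G'] {f g : Multiplicative (Pl p) →* G'} (h0 : f e0 = g e0) (h1 : f e1 = g e1) : f = g := by
  apply MonoidHom.ext
  intro x
  rw [decomp x, map_mul, map_mul, map_pow, map_pow, map_pow, map_pow, h0, h1]

variable {G : Type u} [Group G]

def cc (hab : ∀ a b : G, a * b = b * a) (hex : ∀ a : G, a ^ p = 1) (v w : G) : Multiplicative (Pl p) →* G where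
  toFun x := v ^ (toAdd x 0).val * w ^ (toAdd x 1).val
  map_one' := by simp
  map_mul' x y := by
    rw [toAdd_mul, Pi.add_apply, Pi.add_apply, vpow_add (hex v), vpow_add (hex w)]
    exact (show Commute (v ^ (toAdd y 0).val) (w ^ (toAdd x 1).val) from hab _ _).mul_mul_mul_comm _ _

theorem cc_apply (hab : ∀ a b : G, a * b = b * a) (hex : ∀ a : G, a ^ p = 1) (v w : G) (x : Multiplicative (Pl p)) :
    cc hab hex v w x = v ^ (toAdd x 0).val * w ^ (toAdd x 1).val := rfl

theorem cc_e0 (hab : ∀ a b : G, a * b = b * a) (hex : ∀ a : G, a ^ p = 1) (v w : G) : cc hab hex v w e0 = v := by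
  have hP : p.Prime := Fact.out
  haveI : Fact (1 < p) := ⟨hP.one_lt⟩
  simp [cc_apply, e0, ZMod.val_one]

theorem cc_e1 (hab : ∀ a b : G, a * b = b * a) (hex : ∀ a : G, a ^ p = 1) (v w : G) : cc hab hex v w e1 = w := by
  have hP : p.Prime := Fact.out
  haveI : Fact (1 < p) := ⟨hP.one_lt⟩
  simp [cc_apply, e1, ZMod.val_one]

theorem cc_mk (hab : ∀ a b : G, a * b = b * a) (hex : ∀ a : G, a ^ p = 1) (v w : G) (x y : ZMod p) :
    cc hab hex v w (ofAdd ![x, y]) = v ^ x.val * w ^ y.val := by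
  simp [cc_apply]

theorem cc_inj (hab : ∀ a b : G, a * b = b * a) (hex : ∀ a : G, a ^ p = 1) {v w : G} (hv : v ≠ 1) (hw : w ∉ zpowers v) :
    Function.Injective (cc hab hex v w) := by
  rw [injective_iff_map_eq_one]
  intro x hx
  rw [cc_apply] at hx
  have hb : toAdd x 1 = 0 := by
    by_contra hb
    apply hw
    rw [← pow_val_inv (hex w) hb]
    apply Subgroup.pow_mem
    have h1 : w ^ (toAdd x 1).val = (v ^ (toAdd x 0).val)⁻¹ := by
      exact eq_inv_of_mul_eq_one_right hx
    rw [h1]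
    exact Subgroup.inv_mem _ (Subgroup.pow_mem _ (Subgroup.mem_zpowers v) _)
  have ha : toAdd x 0 = 0 := by
    by_contra ha
    rw [hb, ZMod.val_zero, pow_zero, mul_one] at hx
    apply hv
    rw [← pow_val_inv (hex v) ha, hx, one_pow]
  apply toAdd.injective
  funext i
  fin_cases i
  · exact ha
  · exact hb

theorem cc_bij [Finite G] (hab : ∀ a b : G, a * b = b * a) (hex : ∀ a : G, a ^ p = 1) (hcard : Nat.card G = p ^ 2) {v w : G} (hv : v ≠ 1) (hw : w ∉ zpowers v) :
    Function.Bijective (cc hab hex v w) := by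
  refine (Nat.bijective_iff_injective_and_card _).2 ⟨cc_inj hab hex hv hw, ?_⟩
  rw [hcard]
  have : Nat.card (Multiplicative (Pl p)) = Nat.card (Pl p) := rfl
  rw [this, Nat.card_fun, Nat.card_zmod]
  simp only [Nat.card_eq_fintype_card, Fintype.card_fin]

/-- the form of an element of `p`-power order fixing `v` -/
theorem form [Finite G] (hab : ∀ a b : G, a * b = b * a) (hex : ∀ a : G, a ^ p = 1) (hcard : Nat.card G = p ^ 2) {v w : G} (hv : v ≠ 1) (hw : w ∉ zpowers v)
    (τ : MulAut G) {k : ℕ} (hτ : τ ^ (p ^ k) = 1) (hfix : τ v = v) : ∃ a : ZMod p, τ w = v ^ a.val * w := by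
  have hP : p.Prime := Fact.out
  haveI : Fact (1 < p) := ⟨hP.one_lt⟩
  have hb := cc_bij hab hex hcard hv hw
  set c := cc hab hex v w with hc
  obtain ⟨y, hy⟩ := hb.2 (τ w)
  have hτc : ∀ u : Multiplicative (Pl p), τ (c u) = c (e0 ^ (toAdd u 0).val * y ^ (toAdd u 1).val) := by
    intro u
    rw [map_mul, map_pow, map_pow, hy, hc, cc_e0, ← hc, hc, cc_apply, map_mul, map_pow, map_pow, hfix]
  have hstep : ∀ m : ℕ, ∃ x : ZMod p, (τ ^ m) w = c (ofAdd ![x, (toAdd y 1) ^ m]) := by
    intro m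
    induction m with
    | zero =>
      refine ⟨0, ?_⟩
      have : c (ofAdd ![0, (toAdd y 1) ^ 0]) = w := by
        rw [hc, cc_mk]
        simp [ZMod.val_one]
      rw [this]
      rfl
    | succ m ih =>
      obtain ⟨x, hx⟩ := ih
      refine ⟨x + (toAdd y 1) ^ m * toAdd y 0, ?_⟩
      have h1 : (τ ^ (m + 1)) w = τ ((τ ^ m) w) := by
        rw [pow_succ']
        rfl
      rw [h1, hx, hτc]
      congr 1
      apply toAdd.injective
      funext i
      fin_cases i
      · simp only [toAdd_mul, toAdd_pow, Pi.add_apply, Pi.smul_apply, toAdd_ofAdd]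
        simp only [nsmul_eq_mul, ZMod.natCast_zmod_val]
        simp [e0]
      · simp only [toAdd_mul, toAdd_pow, Pi.add_apply, Pi.smul_apply, toAdd_ofAdd]
        simp only [nsmul_eq_mul, ZMod.natCast_zmod_val]
        simp [e0, pow_succ]
  obtain ⟨x, hx⟩ := hstep (p ^ k)
  rw [hτ, ZMod.pow_card_pow] at hx
  have hw1 : w = c e1 := by rw [hc, cc_e1]
  have h2 : c e1 = c (ofAdd ![x, toAdd y 1]) := by rw [← hw1]; exact hx
  have h3 := hb.1 h2
  have h4 : toAdd y 1 = 1 := by
    have := congrFun (toAdd.injective.eq_iff.2 h3) 1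
    simpa [e1] using this.symm
  refine ⟨toAdd y 0, ?_⟩
  rw [← hy, hc, cc_apply, h4, ZMod.val_one, pow_one]

def actAut : SL2 p →* MulAut (Multiplicative (Pl p)) where
  toFun σ :=
    { toFun := fun x => ofAdd (act σ (toAdd x))
      invFun := fun x => ofAdd (act σ⁻¹ (toAdd x))
      left_inv := fun x => by simp [act_inv_act]
      right_inv := fun x => by simp [act_act_inv]
      map_mul' := fun x y => by simp [act_add] }
  map_one' := by
    ext x
    simp [act_one]
  map_mul' σ τ := by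
    ext x
    simp [act_mul]

theorem actAut_apply (σ : SL2 p) (x : Multiplicative (Pl p)) : actAut σ x = ofAdd (act σ (toAdd x)) := rfl

def U (a : ZMod p) : SL2 p := ⟨!![1, a; 0, 1], by simp [Matrix.det_fin_two_of]⟩
def L (a : ZMod p) : SL2 p := ⟨!![1, 0; a, 1], by simp [Matrix.det_fin_two_of]⟩

theorem U_coe (a : ZMod p) : ((U a : SL2 p) : Matrix (Fin 2) (Fin 2) (ZMod p)) = !![1, a; 0, 1] := rfl
theorem L_coe (a : ZMod p) : ((L a : SL2 p) : Matrix (Fin 2) (Fin 2) (ZMod p)) = !![1, 0; a, 1] := rfl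

theorem U_mul (s t : ZMod p) : U s * U t = U (s + t) := by
  apply Subtype.ext
  show ((U s * U t : SL2 p) : Matrix (Fin 2) (Fin 2) (ZMod p)) = _
  rw [Matrix.SpecialLinearGroup.coe_mul, U_coe, U_coe, U_coe, Matrix.mul_fin_two]
  simp [add_comm]

theorem L_mul (s t : ZMod p) : L s * L t = L (s + t) := by
  apply Subtype.ext
  show ((L s * L t : SL2 p) : Matrix (Fin 2) (Fin 2) (ZMod p)) = _
  rw [Matrix.SpecialLinearGroup.coe_mul, L_coe, L_coe, L_coe, Matrix.mul_fin_two]
  simp [add_comm]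

theorem U_zero : U (0 : ZMod p) = 1 := by
  apply Subtype.ext
  ext i j
  fin_cases i <;> fin_cases j <;> simp [U]

theorem L_zero : L (0 : ZMod p) = 1 := by
  apply Subtype.ext
  ext i j
  fin_cases i <;> fin_cases j <;> simp [L]

theorem U_pow (s : ZMod p) (n : ℕ) : U s ^ n = U ((n : ZMod p) * s) := by
  induction n with
  | zero => simp [U_zero]
  | succ n ih =>
    rw [pow_succ, ih, U_mul]
    congr 1
    push_cast
    ring

theorem L_pow (s : ZMod p) (n : ℕ) : L s ^ n = L ((n : ZMod p) * s) := by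
  induction n with
  | zero => simp [L_zero]
  | succ n ih =>
    rw [pow_succ, ih, L_mul]
    congr 1
    push_cast
    ring

theorem act_U_e0 (a : ZMod p) : act (U a) (toAdd (e0 (p := p))) = ![1, 0] := by
  funext i
  fin_cases i <;> simp [act, U, e0, Matrix.mulVec, dotProduct, Fin.sum_univ_two]

theorem act_U_e1 (a : ZMod p) : act (U a) (toAdd (e1 (p := p))) = ![a, 1] := by
  funext i
  fin_cases i <;> simp [act, U, e1, Matrix.mulVec, dotProduct, Fin.sum_univ_two]

theorem act_L_e0 (a : ZMod p) : act (L a) (toAdd (e0 (p := p))) = ![1, a] := by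
  funext i
  fin_cases i <;> simp [act, L, e0, Matrix.mulVec, dotProduct, Fin.sum_univ_two]

theorem act_L_e1 (a : ZMod p) : act (L a) (toAdd (e1 (p := p))) = ![0, 1] := by
  funext i
  fin_cases i <;> simp [act, L, e1, Matrix.mulVec, dotProduct, Fin.sum_univ_two]

theorem sl2_gen (T : Subgroup (SL2 p)) (hU : ∀ t, U t ∈ T) (hL : ∀ t, L t ∈ T) : ∀ σ, σ ∈ T := by
  have key : ∀ σ : SL2 p, (σ : Matrix (Fin 2) (Fin 2) (ZMod p)) 1 0 ≠ 0 → σ ∈ T := by
    intro σ hγ
    have hdet := sl2_det σ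
    set α := (σ : Matrix (Fin 2) (Fin 2) (ZMod p)) 0 0 with hα
    set β := (σ : Matrix (Fin 2) (Fin 2) (ZMod p)) 0 1 with hβ
    set γ := (σ : Matrix (Fin 2) (Fin 2) (ZMod p)) 1 0 with hγ'
    set δ := (σ : Matrix (Fin 2) (Fin 2) (ZMod p)) 1 1 with hδ
    obtain ⟨x, hx⟩ : ∃ x, x * γ = α - 1 := ⟨(α - 1) / γ, div_mul_cancel₀ _ hγ⟩
    obtain ⟨y, hy⟩ : ∃ y, y * γ = δ - 1 := ⟨(δ - 1) / γ, div_mul_cancel₀ _ hγ⟩
    have e : σ = U x * L γ * U y := by
      apply Subtype.ext
      show (σ : Matrix (Fin 2) (Fin 2) (ZMod p)) = ((U x * L γ * U y : SL2 p) : Matrix (Fin 2) (Fin 2) (ZMod p))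
      rw [Matrix.SpecialLinearGroup.coe_mul, Matrix.SpecialLinearGroup.coe_mul, U_coe, L_coe, U_coe, Matrix.mul_fin_two, Matrix.mul_fin_two]
      ext i j
      fin_cases i <;> fin_cases j
      · simp
        rw [← hα]
        linear_combination -hx
      · simp
        rw [← hβ]
        apply mul_right_cancel₀ hγ
        linear_combination (-1 : ZMod p) * hdet - (1 + x * γ) * hy - δ * hx
      · simp
        rw [← hγ']
      · simp
        rw [← hδ]
        linear_combination -hy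
    rw [e]
    exact T.mul_mem (T.mul_mem (hU _) (hL _)) (hU _)
  intro σ
  by_cases hγ : (σ : Matrix (Fin 2) (Fin 2) (ZMod p)) 1 0 = 0
  · have hdet := sl2_det σ
    rw [hγ, mul_zero, sub_zero] at hdet
    have hα : (σ : Matrix (Fin 2) (Fin 2) (ZMod p)) 0 0 ≠ 0 := by
      intro h
      rw [h, zero_mul] at hdet
      exact zero_ne_one hdet
    have h1 : L 1 * σ ∈ T := by
      apply key
      rw [Matrix.SpecialLinearGroup.coe_mul, L_coe, Matrix.mul_apply, Fin.sum_univ_two]
      simpa [hγ] using hα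
    have h2 : σ = (L 1)⁻¹ * (L 1 * σ) := by group
    rw [h2]
    exact T.mul_mem (T.inv_mem (hL 1)) h1
  · exact key σ hγ

end coord

section main

variable {p : ℕ} [hp : Fact p.Prime] {G : Type u} [Group G] [Finite G]

theorem exists_fix (P : Subgroup (MulAut G)) (hP : IsPGroup p P) (hd : p ∣ Nat.card G) : ∃ v : G, v ≠ 1 ∧ ∀ τ ∈ P, τ v = v := by
  obtain ⟨b, hb, hne⟩ := hP.exists_fixed_point_of_prime_dvd_card_of_fixed_point (α := G) hd (a := 1) (by
    intro g
    exact map_one (g : MulAut G))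
  refine ⟨b, hne.symm, fun τ hτ => ?_⟩
  exact hb ⟨τ, hτ⟩

theorem sl2_of_two (hab : ∀ a b : G, a * b = b * a) (hex : ∀ a : G, a ^ p = 1) (hcard : Nat.card G = p ^ 2)
    (A : Subgroup (MulAut G)) (P1 P2 : Sylow p A) (hne : P1 ≠ P2) (hb1 : (P1 : Subgroup A) ≠ ⊥) (hb2 : (P2 : Subgroup A) ≠ ⊥) :
    ∃ K : Subgroup A, Nonempty (K ≃* SL2 p) := by
  classical
  have hP : p.Prime := Fact.out
  haveI : Fact (1 < p) := ⟨hP.one_lt⟩
  have hdvd : p ∣ Nat.card G := by rw [hcard]; exact dvd_pow_self p (by norm_num)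
  have hmapp : ∀ Q : Sylow p A, IsPGroup p ((Q : Subgroup A).map A.subtype) := fun Q => Q.isPGroup'.map _
  obtain ⟨v1, hv1, hfix1⟩ := exists_fix _ (hmapp P1) hdvd
  obtain ⟨v2, hv2, hfix2⟩ := exists_fix _ (hmapp P2) hdvd
  have hfix1' : ∀ τ ∈ (P1 : Subgroup A), (τ : MulAut G) v1 = v1 := fun τ hτ => hfix1 _ ⟨τ, hτ, rfl⟩
  have hfix2' : ∀ τ ∈ (P2 : Subgroup A), (τ : MulAut G) v2 = v2 := fun τ hτ => hfix2 _ ⟨τ, hτ, rfl⟩
  have hpow : ∀ Q : Sylow p A, ∀ τ ∈ (Q : Subgroup A), ∃ k, (τ : MulAut G) ^ (p ^ k) = 1 := by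
    intro Q τ hτ
    obtain ⟨k, hk⟩ := Q.isPGroup' ⟨τ, hτ⟩
    refine ⟨k, ?_⟩
    have h1 : (τ : A) ^ (p ^ k) = 1 := congrArg Subtype.val hk
    exact congrArg Subtype.val h1
  have hord : ∀ v : G, v ≠ 1 → Nat.card (zpowers v) = p := by
    intro v hv
    rw [Nat.card_zpowers]
    exact orderOf_eq_prime (hex v) hv
  have hzeq : ∀ {u v : G}, u ≠ 1 → v ≠ 1 → v ∈ zpowers u → zpowers v = zpowers u := by
    intro u v hu hv h
    apply Subgroup.eq_of_le_of_card_ge (Subgroup.zpowers_le.2 h)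
    rw [hord u hu, hord v hv]
  by_cases h12 : v2 ∈ zpowers v1
  · -- both Sylows lie in a single `p`-group
    exfalso
    obtain ⟨w, hw⟩ : ∃ w, w ∉ zpowers v1 := by
      by_contra hall
      push_neg at hall
      have h1 : zpowers v1 = ⊤ := by
        ext x
        exact ⟨fun _ => trivial, fun _ => hall x⟩
      have h2 : Nat.card (zpowers v1) = p ^ 2 := by rw [h1, Subgroup.card_top, hcard]
      rw [hord v1 hv1] at h2
      have : p ^ 1 = p ^ 2 := by rw [pow_one]; exact h2
      have := Nat.pow_right_injective hP.two_le this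
      omega
    have hfix2'' : ∀ τ ∈ (P2 : Subgroup A), (τ : MulAut G) v1 = v1 := by
      intro τ hτ
      have h1 : v1 ∈ zpowers v2 := by
        rw [hzeq hv1 hv2 h12]
        exact Subgroup.mem_zpowers v1
      obtain ⟨n, hn⟩ := h1
      rw [← hn, map_zpow, hfix2' τ hτ]
    let T : Subgroup (MulAut G) :=
      { carrier := {τ | τ v1 = v1 ∧ ∃ a : ℤ, τ w = v1 ^ a * w}
        one_mem' := ⟨rfl, 0, by simp⟩
        mul_mem' := by
          rintro τ τ' ⟨h1, a, ha⟩ ⟨h2, b, hb⟩
          refine ⟨?_, b + a, ?_⟩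
          · show τ (τ' v1) = v1
            rw [h2, h1]
          · show τ (τ' w) = _
            rw [hb, map_mul, map_zpow, h1, ha, zpow_add, mul_assoc]
        inv_mem' := by
          rintro τ ⟨h1, a, ha⟩
          refine ⟨?_, -a, ?_⟩
          · apply (MulEquiv.symm_apply_eq τ).2
            exact h1.symm
          · apply (MulEquiv.symm_apply_eq τ).2
            rw [map_mul, map_zpow, h1, ha, zpow_neg, inv_mul_cancel_left] }
    have hTp : ∀ τ ∈ T, τ ^ p = 1 := by
      rintro τ ⟨h1, a, ha⟩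
      have hb := cc_bij hab hex hcard hv1 hw
      have hstep : ∀ m : ℕ, (τ ^ m) v1 = v1 ∧ (τ ^ m) w = v1 ^ (m * a) * w := by
        intro m
        induction m with
        | zero => simp
        | succ m ih =>
          have e : τ ^ (m + 1) = τ * τ ^ m := pow_succ' τ m
          constructor
          · rw [e]
            show τ ((τ ^ m) v1) = v1
            rw [ih.1, h1]
          · rw [e]
            show τ ((τ ^ m) w) = _
            rw [ih.2, map_mul, map_zpow, h1, ha, ← mul_assoc, ← zpow_add]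
            congr 2
            push_cast
            ring
      obtain ⟨h3, h4⟩ := hstep p
      have h5 : (τ ^ p) w = w := by
        rw [h4, zpow_mul, zpow_natCast, hex v1, one_zpow, one_mul]
      have h6 : ((τ ^ p : MulAut G).toMonoidHom).comp (cc hab hex v1 w) = cc hab hex v1 w := by
        apply hom_ext'
        · show (τ ^ p) (cc hab hex v1 w e0) = _
          rw [cc_e0, h3]
        · show (τ ^ p) (cc hab hex v1 w e1) = _
          rw [cc_e1, h5]
      ext x
      obtain ⟨y, rfl⟩ := hb.2 x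
      exact congrFun (congrArg DFunLike.coe h6) y
    have hTp' : IsPGroup p (T.subgroupOf A) := by
      rintro ⟨τ, hτ⟩
      refine ⟨1, ?_⟩
      rw [pow_one]
      apply Subtype.ext
      apply Subtype.ext
      exact hTp _ hτ
    have hle : ∀ Q : Sylow p A, (∀ τ ∈ (Q : Subgroup A), (τ : MulAut G) v1 = v1) → (Q : Subgroup A) ≤ T.subgroupOf A := by
      intro Q hQ τ hτ
      obtain ⟨k, hk⟩ := hpow Q τ hτ
      obtain ⟨a, ha⟩ := form hab hex hcard hv1 hw (τ : MulAut G) hk (hQ τ hτ)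
      exact Subgroup.mem_subgroupOf.2 ⟨hQ τ hτ, (a.val : ℤ), by rw [zpow_natCast]; exact ha⟩
    have e1 := P1.is_maximal' hTp' (hle P1 hfix1')
    have e2 := P2.is_maximal' hTp' (hle P2 hfix2'')
    apply hne
    apply Sylow.ext
    rw [← e1, ← e2]
  · -- the two fixed lines differ
    have h21 : v1 ∉ zpowers v2 := by
      intro h
      apply h12
      rw [hzeq hv2 hv1 h]
      exact Subgroup.mem_zpowers v2
    have hb := cc_bij hab hex hcard hv1 h12
    obtain ⟨τ1, hτ1, hτ1ne⟩ := (Subgroup.ne_bot_iff_exists_ne_one (H := (P1 : Subgroup A))).1 hb1 |>.imp (fun x hx => hx) |> fun ⟨x, hx⟩ => (⟨x.1, x.2, fun h => hx (Subtype.ext h)⟩ : ∃ τ : A, τ ∈ (P1 : Subgroup A) ∧ τ ≠ 1)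
    obtain ⟨τ2, hτ2, hτ2ne⟩ := (Subgroup.ne_bot_iff_exists_ne_one (H := (P2 : Subgroup A))).1 hb2 |>.imp (fun x hx => hx) |> fun ⟨x, hx⟩ => (⟨x.1, x.2, fun h => hx (Subtype.ext h)⟩ : ∃ τ : A, τ ∈ (P2 : Subgroup A) ∧ τ ≠ 1)
    obtain ⟨k1, hk1⟩ := hpow P1 τ1 hτ1
    obtain ⟨k2, hk2⟩ := hpow P2 τ2 hτ2
    obtain ⟨a, ha⟩ := form hab hex hcard hv1 h12 (τ1 : MulAut G) hk1 (hfix1' τ1 hτ1)
    obtain ⟨b, hb'⟩ := form hab hex hcard hv2 h21 (τ2 : MulAut G) hk2 (hfix2' τ2 hτ2)
    set c := cc hab hex v1 v2 with hc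
    let ce : Multiplicative (Pl p) ≃* G := MulEquiv.ofBijective c hb
    let Φ : SL2 p →* MulAut G := (MulAut.congr ce).toMonoidHom.comp actAut
    have hΦ : ∀ (σ : SL2 p) (x : Multiplicative (Pl p)), Φ σ (c x) = c (actAut σ x) := by
      intro σ x
      have e : c x = ce x := rfl
      show ce (actAut σ (ce.symm (c x))) = _
      rw [e, MulEquiv.symm_apply_apply]
      rfl
    have hext : ∀ {α β : MulAut G}, (∀ x, α (c x) = β (c x)) → α = β := by
      intro α β h
      ext y
      obtain ⟨x, rfl⟩ := hb.2 y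
      rw [h x]
    have hmk : ∀ x y : ZMod p, c (ofAdd ![x, y]) = v1 ^ x.val * v2 ^ y.val := fun x y => cc_mk hab hex v1 v2 x y
    have hU1 : Φ (U a) = (τ1 : MulAut G) := by
      apply hext
      intro x
      rw [hΦ]
      have h6 : c.comp (actAut (U a)).toMonoidHom = ((τ1 : MulAut G).toMonoidHom).comp c := by
        apply hom_ext'
        · show c (actAut (U a) e0) = (τ1 : MulAut G) (c e0)
          rw [actAut_apply, act_U_e0, hmk, hc, cc_e0, hfix1' τ1 hτ1]
          simp [ZMod.val_one]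
        · show c (actAut (U a) e1) = (τ1 : MulAut G) (c e1)
          rw [actAut_apply, act_U_e1, hmk, hc, cc_e1, ha]
          simp [ZMod.val_one]
      exact congrFun (congrArg DFunLike.coe h6) x
    have hL1 : Φ (L b) = (τ2 : MulAut G) := by
      apply hext
      intro x
      rw [hΦ]
      have h6 : c.comp (actAut (L b)).toMonoidHom = ((τ2 : MulAut G).toMonoidHom).comp c := by
        apply hom_ext'
        · show c (actAut (L b) e0) = (τ2 : MulAut G) (c e0)
          rw [actAut_apply, act_L_e0, hmk, hc, cc_e0, hb']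
          simp [ZMod.val_one]
          exact hab _ _
        · show c (actAut (L b) e1) = (τ2 : MulAut G) (c e1)
          rw [actAut_apply, act_L_e1, hmk, hc, cc_e1, hfix2' τ2 hτ2]
          simp [ZMod.val_one]
      exact congrFun (congrArg DFunLike.coe h6) x
    have ha0 : a ≠ 0 := by
      rintro rfl
      apply hτ1ne
      apply Subtype.ext
      apply hext
      have h6 : ((τ1 : MulAut G).toMonoidHom).comp c = c := by
        apply hom_ext'
        · show (τ1 : MulAut G) (c e0) = c e0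
          rw [hc, cc_e0, hfix1' τ1 hτ1]
        · show (τ1 : MulAut G) (c e1) = c e1
          rw [hc, cc_e1, ha]
          simp
      intro x
      exact congrFun (congrArg DFunLike.coe h6) x
    have hb0 : b ≠ 0 := by
      rintro rfl
      apply hτ2ne
      apply Subtype.ext
      apply hext
      have h6 : ((τ2 : MulAut G).toMonoidHom).comp c = c := by
        apply hom_ext'
        · show (τ2 : MulAut G) (c e0) = c e0
          rw [hc, cc_e0, hb']
          simp
        · show (τ2 : MulAut G) (c e1) = c e1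
          rw [hc, cc_e1, hfix2' τ2 hτ2]
      intro x
      exact congrFun (congrArg DFunLike.coe h6) x
    have hUa : ∀ t, Φ (U t) ∈ A := by
      intro t
      have e : U t = U a ^ (t / a).val := by
        rw [U_pow, ZMod.natCast_zmod_val, div_mul_cancel₀ _ ha0]
      rw [e, map_pow, hU1]
      exact A.pow_mem τ1.2 _
    have hLa : ∀ t, Φ (L t) ∈ A := by
      intro t
      have e : L t = L b ^ (t / b).val := by
        rw [L_pow, ZMod.natCast_zmod_val, div_mul_cancel₀ _ hb0]
      rw [e, map_pow, hL1]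
      exact A.pow_mem τ2.2 _
    have hall : ∀ σ, Φ σ ∈ A := sl2_gen (A.comap Φ) hUa hLa
    have hinj : Function.Injective Φ := by
      intro σ τ h
      apply eq_of_act_eq
      intro u
      have h1 := congrArg (fun f : MulAut G => f (c (ofAdd u))) h
      simp only [hΦ] at h1
      have h2 := hb.1 h1
      exact toAdd.injective h2
    let Ψ : SL2 p →* A := Φ.codRestrict A hall
    have hΨ : Function.Injective Ψ := by
      intro σ τ h
      exact hinj (congrArg Subtype.val h)
    exact ⟨Ψ.range, ⟨(MonoidHom.ofInjective hΨ).symm⟩⟩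

end main


/-- Let F be a saturated fusion system over a finite p-group S and H an essential subgroup of order p². Then H is elementary abelian (isomorphic to C_p × C_p) and its F-automorphism group contains a subgroup isomorphic to SL(2,p). -/
theorem result {Ω : Type u} [Group Ω] {S : Subgroup Ω} [Finite S] (p : ℕ) [Fact p.Prime] (hS : IsPGroup p S)
    (F : Cfsg.FusionSystem S) (hF : F.IsSaturated p) (H : Subgroup Ω) (hH : F.IsEssential p H) (hcard : Nat.card H = p ^ 2) :
    Cfsg.IsElementaryAbelian p H ∧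
      ∃ K : Subgroup ↥(F.autGroup H), Nonempty (↥K ≃* Matrix.SpecialLinearGroup (Fin 2) (ZMod p)) := by
  classical
  have hP : p.Prime := Fact.out
  have hPS : H ≤ S := hH.1.1
  haveI : Finite H := Cfsg.Agent.Lib.FusBasic.finite_of_le hPS
  have hH2 : IsMulCommutative H := IsPGroup.isMulCommutative_of_card_eq_prime_sq hcard
  have hab : ∀ a b : H, a * b = b * a := fun a b => hH2.is_comm.comm a b
  have hm : ∀ a b : H, (a * b) ^ p = a ^ p * b ^ p := fun a b => (show Commute a b from hab a b).mul_pow p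
  have hex : ∀ a : H, a ^ p = 1 := by
    by_contra hexp
    let π : H →* H := { toFun := fun x => x ^ p, map_one' := one_pow p, map_mul' := hm }
    have hk : ∀ x, x ∈ π.ker ↔ x ^ p = 1 := fun x => Iff.rfl
    have hc1 : Nat.card π.ker * Nat.card π.range = p ^ 2 := by
      have h1 := Subgroup.card_mul_index π.ker
      rw [Subgroup.index_ker, hcard] at h1
      exact h1
    obtain ⟨a, ha⟩ : ∃ a, Nat.card π.ker = p ^ a := IsPGroup.iff_card.1 ((IsPGroup.of_card hcard).to_subgroup _)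
    have ha3 : a ≤ 2 := by
      have : p ^ a ∣ p ^ 2 := ha ▸ (Dvd.intro _ hc1)
      exact (Nat.pow_dvd_pow_iff_le_right hP.one_lt).1 this
    have ha0 : a ≠ 0 := by
      rintro rfl
      obtain ⟨x, hx⟩ := exists_prime_orderOf_dvd_card' (G := H) p (by rw [hcard]; exact dvd_pow_self p (by norm_num))
      have h1 : x ∈ π.ker := (hk x).2 (by rw [← hx]; exact pow_orderOf_eq_one x)
      have h2 : Nat.card π.ker = 1 := by rw [ha, pow_zero]
      have h3 : π.ker = ⊥ := Subgroup.eq_bot_of_card_eq _ h2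
      rw [h3, Subgroup.mem_bot] at h1
      rw [h1, orderOf_one] at hx
      exact hP.one_lt.ne hx
    have ha3' : a ≠ 2 := by
      rintro rfl
      apply hexp
      have h1 : π.ker = ⊤ := Subgroup.eq_top_of_card_eq _ (by rw [ha, hcard])
      intro x
      exact (hk x).1 (by rw [h1]; trivial)
    have ha1 : a = 1 := by omega
    subst ha1
    rw [pow_one] at ha
    refine chain_contra hS F hF hH (m := 2) (c := ![⊥, π.ker, ⊤]) rfl rfl ?_ ?_ ?_
    · intro i
      fin_cases i
      · exact bot_le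
      · exact le_top
    · intro i
      fin_cases i
      · show Nat.card π.ker = p * Nat.card (⊥ : Subgroup H)
        rw [Subgroup.card_bot, mul_one, ha]
      · show Nat.card (⊤ : Subgroup H) = p * Nat.card π.ker
        rw [Subgroup.card_top, hcard, ha, pow_two]
    · intro γ _ i x hx
      fin_cases i
      · have h1 : x = 1 := Subgroup.mem_bot.1 hx
        rw [h1, map_one]
        exact Subgroup.one_mem _
      · have h1 : x ^ p = 1 := hx
        show γ x ∈ π.ker
        rw [hk, ← map_pow, h1, map_one]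
      · trivial
  refine ⟨⟨hH2, fun a ha => congrArg Subtype.val (hex ⟨a, ha⟩)⟩, ?_⟩
  -- Sylow subgroups of the automiser
  have hrad := Cfsg.Agent.Lib.FusAut.essential_radical hS F hH
  have hInn : Inn H = ⊥ := by
    rw [eq_bot_iff]
    rintro _ ⟨g, rfl⟩
    rw [Subgroup.mem_bot]
    ext x
    show ((g * x * g⁻¹ : H) : Ω) = x
    rw [hab g x, mul_inv_cancel_right]
  have hcore : Cfsg.pCore p ↥(F.autGroup H) = ⊥ := by
    have h1 := hrad.2
    rw [hInn] at h1
    exact (Subgroup.map_eq_bot_iff_of_injective _ (Subgroup.subtype_injective _)).1 h1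
  have hlt := Cfsg.Agent.Lib.FusEss.essential_lt hS F hF hH
  obtain ⟨s, hsN, hsH⟩ := SetLike.exists_of_lt (Cfsg.Agent.Lib.FusSat.normalizerIn_gt hS hlt)
  obtain ⟨hsS, hsn⟩ := Cfsg.Agent.Lib.FusBasic.mem_normalizerIn.1 hsN
  have hind : Cfsg.Agent.Lib.FusSat.cAut H ⟨s, hsn⟩ ∈ Cfsg.autInducedBy S H := Cfsg.Agent.Lib.FusSat.mem_autInducedBy'.2 ⟨s, hsS, fun x => rfl⟩
  have htA : Cfsg.Agent.Lib.FusSat.cAut H ⟨s, hsn⟩ ∈ F.autGroup H := Cfsg.Agent.Lib.FusAut.autInduced_le_autGroup F hPS hind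
  have htne : Cfsg.Agent.Lib.FusSat.cAut H ⟨s, hsn⟩ ≠ 1 := by
    intro h1
    apply hsH
    apply hH.1.2 H (Cfsg.Agent.Lib.FusSat.isConj_refl F hPS)
    rw [Cfsg.Agent.Lib.FusBasic.mem_centralizerIn]
    refine ⟨hsS, fun y hy => ?_⟩
    have h2 := congrArg (fun f : MulAut H => ((f ⟨y, hy⟩ : H) : Ω)) h1
    have h3 : s * y * s⁻¹ = y := h2
    rw [mul_inv_eq_iff_eq_mul] at h3
    exact h3.symm
  have hdvdA : p ∣ Nat.card (F.autGroup H) := by
    obtain ⟨k, hk⟩ := (Cfsg.Agent.Lib.FusSat.isPGroup_autInduced hS H) ⟨_, hind⟩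
    have hk' : (Cfsg.Agent.Lib.FusSat.cAut H ⟨s, hsn⟩) ^ (p ^ k) = 1 := congrArg Subtype.val hk
    have h1 : orderOf (Cfsg.Agent.Lib.FusSat.cAut H ⟨s, hsn⟩) ∣ p ^ k := orderOf_dvd_of_pow_eq_one hk'
    obtain ⟨j, hj, hj2⟩ := (Nat.dvd_prime_pow hP).1 h1
    have hj0 : j ≠ 0 := by
      rintro rfl
      rw [pow_zero, orderOf_eq_one_iff] at hj2
      exact htne hj2
    have h2 : orderOf (⟨_, htA⟩ : F.autGroup H) = p ^ j := by rw [Subgroup.orderOf_mk, hj2]
    exact (dvd_pow_self p hj0).trans (h2 ▸ orderOf_dvd_natCard _)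
  obtain ⟨P1⟩ : Nonempty (Sylow p (F.autGroup H)) := inferInstance
  have hb1 := Sylow.ne_bot_of_dvd_card P1 hdvdA
  have hex2 : ∃ P2 : Sylow p (F.autGroup H), P1 ≠ P2 := by
    by_contra hall
    push_neg at hall
    haveI : Subsingleton (Sylow p (F.autGroup H)) := ⟨fun a b => by rw [← hall a, ← hall b]⟩
    have hn := Sylow.normal_of_subsingleton P1
    have h1 := Cfsg.Agent.Lib.H1Core.le_pCore hn P1.isPGroup'
    rw [hcore, le_bot_iff] at h1
    exact hb1 h1
  obtain ⟨P2, hne⟩ := hex2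
  exact sl2_of_two hab hex hcard (F.autGroup H) P1 P2 hne hb1 (Sylow.ne_bot_of_dvd_card P2 hdvdA)

end Cfsg.Agent.S5185
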