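import Cfsg.Statements.S5275
import Mathlib
import Cfsg.Agent.Lib.FusGT5
import Cfsg.Agent.Lib.LZJD2
import Cfsg.Agent.S5096

set_option autoImplicit false
open Cfsg

namespace Cfsg.Agent.S5275


open Cfsg.FusionSystem Cfsg.Agent.Lib.FusBasic Cfsg.Agent.Lib.FusGroup Cfsg.Agent.Lib.FusSat Cfsg.Agent.Lib.FusReal Cfsg.Agent.Lib.FusGT Cfsg.Agent.Lib.FusNorm

universe u v

variable {p : ℕ} [Fact p.Prime] {Ω : Type u} [Group Ω] {S : Subgroup Ω} [Finite S] {F : Cfsg.FusionSystem S}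

/-- the normalizer of a subgroup `U'` corresponding to `U` in a local model has a normal `p`-complement when the normalizer system of `U` is inner -/
theorem npc_of_inner {Q : Subgroup Ω} (hSN : S ≤ Subgroup.normalizer (Q : Set Ω))
    {E : Cfsg.FusionSystem (normalizerIn S Q)} (hE : F.IsNormalizerSystem Q E) {L : Type v} [Group L] [Finite L] {ι : ↥(normalizerIn S Q) →* L}
    (hr : E.IsRealizedBy ι) (P : Sylow p L) (hP : (P : Subgroup L) = ι.range)
    {U : Subgroup Ω} (hUS : U ≤ S) (hUN : S ≤ Subgroup.normalizer (U : Set Ω))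
    {N₀ : Cfsg.FusionSystem (normalizerIn S U)} (hN₀ : F.IsNormalizerSystem U N₀) (hinner : Inner N₀)
    (U' : Subgroup L) (hU'P : U' ≤ ι.range) (hU'mem : ∀ t : (normalizerIn S Q), ι t ∈ U' ↔ (t : Ω) ∈ U)
    (hPU' : (P : Subgroup L) ≤ Subgroup.normalizer (U' : Set L)) :
    Cfsg.HasNormalPComplement p ↥(Subgroup.normalizer (U' : Set L)) := by
  classical
  have hTS : normalizerIn S Q = S := normalizerIn_eq hSN
  have hTleS : normalizerIn S Q ≤ S := inf_le_left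
  have hUT : U ≤ (normalizerIn S Q) := hUS.trans hTS.ge
  haveI : Finite (normalizerIn S Q) := finite_normalizerIn Q
  haveI : Finite U := finite_of_le hUS
  refine Cfsg.Agent.Lib.PNilp.hasNormalPComplement_of_fusion (P.subtype hPU') ?_
  intro x hx y hy hg
  rw [Sylow.coe_subtype] at hx hy
  obtain ⟨g, hgxy⟩ := hg
  have hx' : (x : L) ∈ ι.range := by
    rw [← hP]
    exact Subgroup.mem_subgroupOf.1 hx
  have hy' : (y : L) ∈ ι.range := by
    rw [← hP]
    exact Subgroup.mem_subgroupOf.1 hy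
  obtain ⟨x₀, hx₀⟩ := hx'
  obtain ⟨y₀, hy₀⟩ := hy'
  have hgxy' : (g : L) * ι x₀ * (g : L)⁻¹ = ι y₀ := by
    rw [hx₀, hy₀]
    exact congrArg Subtype.val hgxy
  set Z : Subgroup Ω := Subgroup.zpowers (x₀ : Ω) with hZ
  have hZT : Z ≤ (normalizerIn S Q) := by
    rw [hZ, Subgroup.zpowers_le]
    exact x₀.2
  set R : Subgroup Ω := Z ⊔ U with hR
  have hRT : R ≤ (normalizerIn S Q) := sup_le hZT hUT
  have hgU : ∀ u : (normalizerIn S Q), (u : Ω) ∈ U → (g : L) * ι u * (g : L)⁻¹ ∈ U' := by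
    intro u hu
    exact (Subgroup.mem_normalizer_iff.1 g.2 _).1 ((hU'mem u).2 hu)
  let K : Subgroup Ω := ((ι.range.comap (MulAut.conj (g : L)).toMonoidHom).comap ι).map (normalizerIn S Q).subtype
  have hK : R ≤ K := by
    refine sup_le ?_ ?_
    · rw [hZ, Subgroup.zpowers_le]
      refine ⟨x₀, ?_, rfl⟩
      show (g : L) * ι x₀ * (g : L)⁻¹ ∈ ι.range
      rw [hgxy']
      exact ⟨_, rfl⟩
    · intro u hu
      refine ⟨⟨u, hUT hu⟩, ?_, rfl⟩
      show (g : L) * ι ⟨u, hUT hu⟩ * (g : L)⁻¹ ∈ ι.range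
      exact hU'P (hgU ⟨u, hUT hu⟩ hu)
  have h1 : ∀ r : R, (g : L) * ι ⟨r, hRT r.2⟩ * (g : L)⁻¹ ∈ ι.range := by
    intro r
    obtain ⟨t, ht, hte⟩ := hK r.2
    have : t = ⟨r, hRT r.2⟩ := Subtype.ext hte
    rw [← this]
    exact ht
  obtain ⟨ψ, hψ, hψv, hψe⟩ := exists_conj_hom hr (g : L) hRT h1
  have hψF : ψ ∈ F.Hom R := normalizerSystem_sub hE R hψ
  have hψU : ∀ u : R, (u : Ω) ∈ U → ψ u ∈ U := by
    intro u hu
    have h2 := hψe u
    have h3 := hgU ⟨u, hRT u.2⟩ hu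
    rw [← h2] at h3
    exact (hU'mem _).1 h3
  have hUR : U ≤ R := le_sup_right
  have hmapU : (U.subgroupOf R).map ψ = U := map_eq_of_le hUR (inj F hψF) hψU
  have hx₀R : (x₀ : Ω) ∈ R := (le_sup_left : Z ≤ R) (Subgroup.mem_zpowers _)
  have hZN : Z ≤ normalizerIn S U := fun z hz => ⟨hTleS (hZT hz), hUN (hTleS (hZT hz))⟩
  let φ : Z →* Ω := ψ.comp (Subgroup.inclusion (le_sup_left : Z ≤ R))
  have hφN : φ ∈ N₀.Hom Z := by
    rw [hN₀]
    exact ⟨res_mem F le_sup_left hψF, hZN, fun z => ⟨val_mem F hψF _, hUN (val_mem F hψF _)⟩, ψ, hψF, fun _ => rfl, hmapU⟩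
  rw [hinner] at hφN
  obtain ⟨-, s, hs, hse⟩ := hφN
  have hsT : s ∈ (normalizerIn S Q) := hTS.ge (mem_normalizerIn.1 hs).1
  have hιs : ι ⟨s, hsT⟩ ∈ (P : Subgroup L) := hP.ge ⟨⟨s, hsT⟩, rfl⟩
  refine ⟨⟨ι ⟨s, hsT⟩, hPU' hιs⟩, ?_, ?_⟩
  · rw [Sylow.coe_subtype]
    exact Subgroup.mem_subgroupOf.2 hιs
  · apply Subtype.ext
    show ι ⟨s, hsT⟩ * (x : L) * (ι ⟨s, hsT⟩)⁻¹ = y
    rw [← hx₀, ← hy₀, ← hgxy']
    have h5 := hse ⟨x₀, Subgroup.mem_zpowers _⟩
    have h6 : ψ ⟨x₀, hx₀R⟩ = s * (x₀ : Ω) * s⁻¹ := h5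
    have h7 := hψe ⟨x₀, hx₀R⟩
    have h8 : (⟨ψ ⟨x₀, hx₀R⟩, hψv _⟩ : (normalizerIn S Q)) = ⟨s, hsT⟩ * x₀ * ⟨s, hsT⟩⁻¹ := Subtype.ext h6
    rw [h8, map_mul, map_mul, map_inv] at h7
    exact h7

/-- A Glauberman–Thompson nilpotency criterion for fusion systems relative to a strongly closed subgroup. Let p be an odd prime, F a saturated fusion system over a finite p-group S, and D a subgroup of S that is strongly closed in F. Let Z(J(D)) be the centre of the subgroup of D generated by the abelian subgroups of D of largest order. Then F is the inner fusion system of S if and only if the normalizer fusion system of Z(J(D)) in F is the inner fusion system of N_S(Z(J(D))) = S. -/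
theorem result {Ω : Type*} [Group Ω] {S : Subgroup Ω} [Finite S] (p : ℕ) [Fact p.Prime] (hS : IsPGroup p ↥S) (F : Cfsg.FusionSystem S) (hF : F.IsSaturated p) (hp : p ≠ 2) (D : Subgroup Ω) (hD : F.StronglyClosed D) : (∀ P : Subgroup Ω, F.Hom P = (Cfsg.innerFusionSystem S).Hom P) ↔ ∀ N : Cfsg.FusionSystem (Cfsg.FusionSystem.normalizerIn S (Cfsg.centerThompsonAOf D)), F.IsNormalizerSystem (Cfsg.centerThompsonAOf D) N → ∀ P : Subgroup Ω, N.Hom P = (Cfsg.innerFusionSystem (Cfsg.FusionSystem.normalizerIn S (Cfsg.centerThompsonAOf D))).Hom P := by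

  classical
  have hDS : D ≤ S := hD.1
  have hUS : Cfsg.centerThompsonAOf D ≤ S := (Cfsg.Agent.Lib.FusGT.zj_le D).trans hDS
  have hSD : S ≤ Subgroup.normalizer (D : Set Ω) := sc_normalizer F hD
  have hUN : S ≤ Subgroup.normalizer ((Cfsg.centerThompsonAOf D : Subgroup Ω) : Set Ω) :=
    fun s hs => zj_normalized (hSD hs)
  constructor
  · intro hI N hN
    exact inner_normalizer hUN hI hN
  · intro h
    by_contra hI
    have hI' : ¬ Inner F := hI
    obtain ⟨Q, hQ1, hQS, hSN, hQb, hC⟩ := exists_core_odd hp hS hF hI'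
    obtain ⟨E, hE⟩ := Cfsg.Agent.S5096.result F Q hQS
    have hFN : F.IsFullyNormalized Q := fn_of_normalized hQS hSN
    obtain ⟨L, iL, ι, hM⟩ := exists_local_model hS hF hFN hC hE
    haveI : Finite ↥(Cfsg.FusionSystem.normalizerIn S Q) := finite_normalizerIn Q
    have hpT : IsPGroup p ↥(Cfsg.FusionSystem.normalizerIn S Q) := hS.to_le inf_le_left
    have hnpc : ¬ Cfsg.HasNormalPComplement p L := by
      obtain ⟨U, hQU, hUN', α, hα, hnp, hinv⟩ := hQb
      exact not_npc_of_model hpT hM hUN' (mem_E_autGroup hE hQU hUN' hα hinv) hnp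
    obtain ⟨hfin, hr, ⟨P, hP⟩, hCL⟩ := hM
    have hTS : Cfsg.FusionSystem.normalizerIn S Q = S := normalizerIn_eq hSN
    have hDT : D ≤ Cfsg.FusionSystem.normalizerIn S Q := hDS.trans hTS.ge
    obtain ⟨N₀, hN₀⟩ := Cfsg.Agent.S5096.result F _ hUS
    have hinner : Inner N₀ := h N₀ hN₀
    -- the image of `D`
    set D₀ : Subgroup ↥(Cfsg.FusionSystem.normalizerIn S Q) := D.subgroupOf _ with hD₀
    set D' : Subgroup L := D₀.map ι with hD'
    have hD₀mem : ∀ t, ι t ∈ D' ↔ (t : Ω) ∈ D := by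
      intro t
      constructor
      · rintro ⟨t', ht', he⟩
        rw [← hr.1 he]
        exact ht'
      · intro ht
        exact ⟨t, ht, rfl⟩
    have hD'P : D' ≤ (P : Subgroup L) := by
      rw [hP]
      rintro _ ⟨t, -, rfl⟩
      exact ⟨t, rfl⟩
    have hsc : Cfsg.IsStronglyClosed D' (P : Subgroup L) := by
      refine ⟨hD'P, ?_⟩
      intro x hx g hg
      obtain ⟨t, ht, rfl⟩ := hx
      have ht' : (t : Ω) ∈ D := ht
      rw [hP] at hg
      obtain ⟨y, hy⟩ := hg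
      -- conjugation by g from ⟨t⟩ into the range
      have hZT : Subgroup.zpowers (t : Ω) ≤ Cfsg.FusionSystem.normalizerIn S Q := by
        rw [Subgroup.zpowers_le]
        exact t.2
      have h1 : ∀ r : Subgroup.zpowers (t : Ω), g * ι ⟨r, hZT r.2⟩ * g⁻¹ ∈ ι.range := by
        rintro ⟨r, k, rfl⟩
        have : (⟨(fun z : ℤ => (t : Ω) ^ z) k, hZT ⟨k, rfl⟩⟩ : ↥(Cfsg.FusionSystem.normalizerIn S Q)) = t ^ k := Subtype.ext (by simp)
        simp only [this, map_zpow]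
        rw [← conj_zpow, ← hy]
        exact ⟨y ^ k, map_zpow _ _ _⟩
      obtain ⟨ψ, hψ, hψv, hψe⟩ := exists_conj_hom hr g hZT h1
      have hψF : ψ ∈ F.Hom _ := normalizerSystem_sub hE _ hψ
      have h2 := hD.2 (Subgroup.zpowers (t : Ω)) ((Subgroup.zpowers_le.2 ht')) ψ hψF ⟨t, Subgroup.mem_zpowers _⟩
      have h3 := hψe ⟨t, Subgroup.mem_zpowers _⟩
      have h4 : ι ⟨(t : Ω), hZT (Subgroup.mem_zpowers _)⟩ = ι t := congrArg ι (Subtype.ext rfl)
      rw [h4] at h3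
      rw [← h3]
      exact (hD₀mem _).2 h2
    -- the image of `Z(J(D))`
    have hU'eq : Cfsg.centerThompsonAOf D' = (Cfsg.centerThompsonAOf D₀).map ι :=
      Cfsg.Agent.Lib.PZJ.centerThompsonAOf_map ι D₀ (fun x _ hx => hr.1 (by rw [hx, map_one]))
    have hUeq : Cfsg.centerThompsonAOf D = (Cfsg.centerThompsonAOf D₀).map (Cfsg.FusionSystem.normalizerIn S Q).subtype := by
      have h5 := Cfsg.Agent.Lib.PZJ.centerThompsonAOf_map (Cfsg.FusionSystem.normalizerIn S Q).subtype D₀ (fun x _ hx => Subtype.ext hx)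
      have h6 : D₀.map (Cfsg.FusionSystem.normalizerIn S Q).subtype = D := by
        rw [hD₀, Subgroup.subgroupOf_map_subtype]
        exact inf_eq_left.2 hDT
      rw [h6] at h5
      exact h5
    have hUmem : ∀ t : ↥(Cfsg.FusionSystem.normalizerIn S Q), ι t ∈ Cfsg.centerThompsonAOf D' ↔ (t : Ω) ∈ Cfsg.centerThompsonAOf D := by
      intro t
      rw [hU'eq, hUeq]
      constructor
      · rintro ⟨t', ht', he⟩
        rw [← hr.1 he]
        exact ⟨t', ht', rfl⟩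
      · rintro ⟨t', ht', he⟩
        rw [← Subtype.ext he]
        exact ⟨t', ht', rfl⟩
    have hU'P : Cfsg.centerThompsonAOf D' ≤ ι.range := by
      rw [hU'eq]
      rintro _ ⟨t, -, rfl⟩
      exact ⟨t, rfl⟩
    have hPU' : (P : Subgroup L) ≤ Subgroup.normalizer (Cfsg.centerThompsonAOf D' : Set L) := by
      intro x hx
      exact zj_normalized (Cfsg.Agent.Lib.LZJD.sylow_le_normalizer_D _ D' hsc hx)
    exact hnpc (Cfsg.Agent.Lib.LZJD.s3082 hp P D' hsc (Or.inl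
      (npc_of_inner hSN hE hr P hP hUS hUN hN₀ hinner _ hU'P hUmem hPU')))


end Cfsg.Agent.S5275
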