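import Cfsg.Statements.S5272
import Mathlib
import Cfsg.Agent.Lib.FusAxGT
import Cfsg.Agent.S5096
import Cfsg.Agent.S5275

set_option autoImplicit false
open Cfsg

namespace Cfsg.Agent.S5272


open Cfsg.FusionSystem Cfsg.Agent.Lib.FusBasic Cfsg.Agent.Lib.FusAut Cfsg.Agent.Lib.FusSat Cfsg.Agent.Lib.FusReal Cfsg.Agent.Lib.FusReal2 Cfsg.Agent.Lib.FusGT Cfsg.Agent.Lib.FusNorm Cfsg.Agent.Lib.FusAxGT
open Cfsg.Agent.Lib.H1Core Cfsg.Agent.Lib.PZJ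

universe u

variable {p : ℕ} [Fact p.Prime] {Ω : Type u} [Group Ω] {S : Subgroup Ω} [Finite S] {F : Cfsg.FusionSystem S}

/-- `L₀`: a minimal overgroup of the Sylow subgroup without a normal complement -/
theorem exists_min_sub {L : Type u} [Group L] [Finite L] (P : Subgroup L) (hnpc : ¬ Cfsg.HasNormalPComplement p L) :
    ∃ L₀ : Subgroup L, P ≤ L₀ ∧ ¬ Cfsg.HasNormalPComplement p ↥L₀ ∧
      ∀ H : Subgroup ↥L₀, P ≤ H.map L₀.subtype → H ≠ ⊤ → Cfsg.HasNormalPComplement p ↥H := by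
  classical
  have h0 : (⊤ : Subgroup L) ∈ {X : Subgroup L | P ≤ X ∧ ¬ Cfsg.HasNormalPComplement p ↥X} := by
    refine ⟨le_top, fun h => hnpc ?_⟩
    exact npc_of_surjective (⊤ : Subgroup L).subtype (fun x => ⟨⟨x, trivial⟩, rfl⟩) h
  obtain ⟨L₀, ⟨h1, h2⟩, hmin⟩ := Set.exists_min_image _ (fun X : Subgroup L => Nat.card X) (Set.toFinite _) ⟨_, h0⟩
  refine ⟨L₀, h1, h2, fun H hP hne => ?_⟩
  by_contra hH
  have h3 : H.map L₀.subtype ∈ {X : Subgroup L | P ≤ X ∧ ¬ Cfsg.HasNormalPComplement p ↥X} := by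
    refine ⟨hP, fun h => hH ?_⟩
    exact npc_of_injective (H.equivMapOfInjective L₀.subtype L₀.subtype_injective).toMonoidHom
      (H.equivMapOfInjective L₀.subtype L₀.subtype_injective).injective h
  have h4 := hmin _ h3
  have h5 : Nat.card ↥(H.map L₀.subtype) = Nat.card H := Subgroup.card_map_of_injective L₀.subtype_injective
  have h6 : Nat.card H < Nat.card ↥L₀ := by
    have := Cfsg.Agent.Lib.PNilp.card_lt_of_lt' (lt_top_iff_ne_top.2 hne)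
    rwa [Subgroup.card_top] at this
  omega

set_option maxHeartbeats 1000000 in
theorem main_inner (hp : p ≠ 2) (hS : IsPGroup p ↥S) (hF : F.IsSaturated p)
    (𝒜 : Set (Subgroup Ω)) (h𝒜 : ∀ A ∈ 𝒜, A ≤ S ∧ IsMulCommutative ↥A) (hne : 𝒜.Nonempty)
    (hinv : ∀ Q : Subgroup Ω, Q ≤ S → (∃ A ∈ 𝒜, A ≤ Q) → ∀ α ∈ F.autGroup Q, ∀ x : ↥Q, (x : Ω) ∈ (⨅ A ∈ {A : Subgroup Ω | A ∈ 𝒜 ∧ A ≤ Q}, A) → (((α : MulAut ↥Q) x : ↥Q) : Ω) ∈ (⨅ A ∈ {A : Subgroup Ω | A ∈ 𝒜 ∧ A ≤ Q}, A))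
    (hrep : ∀ B : Subgroup Ω, B ≤ S → ⁅⁅B, B⁆, B⁆ = ⊥ → (∃ A ∈ 𝒜, ⁅B, B⁆ ≤ A ∧ ¬ B ≤ A) → ∃ A ∈ 𝒜, ⁅B, B⁆ ≤ A ∧ ¬ B ≤ A ∧ B ≤ Subgroup.normalizer (A : Set Ω))
    (hZS : (⨅ A ∈ 𝒜, A) ≤ S) (hZN : S ≤ Subgroup.normalizer (((⨅ A ∈ 𝒜, A) : Subgroup Ω) : Set Ω))
    {N₀ : Cfsg.FusionSystem (normalizerIn S (⨅ A ∈ 𝒜, A))} (hN₀ : F.IsNormalizerSystem (⨅ A ∈ 𝒜, A) N₀) (hinner : Inner N₀) : Inner F := by
  classical
  by_contra hI
  obtain ⟨Q, hQS, hSN, hQb, hC, hmod⟩ := exists_core_mod hp hS hF hI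
  obtain ⟨E, hE⟩ := Cfsg.Agent.S5096.result F Q hQS
  have hFN : F.IsFullyNormalized Q := fn_of_normalized hQS hSN
  obtain ⟨L, iL, ι, hM⟩ := exists_local_model hS hF hFN hC hE
  haveI : Finite ↥(normalizerIn S Q) := finite_normalizerIn Q
  have hpT : IsPGroup p ↥(normalizerIn S Q) := hS.to_le inf_le_left
  have hnpc : ¬ Cfsg.HasNormalPComplement p L := by
    obtain ⟨U, hQU, hUN', α, hα, hnp, hinv'⟩ := hQb
    exact not_npc_of_model hpT hM hUN' (mem_E_autGroup hE hQU hUN' hα hinv') hnp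
  obtain ⟨hfin, hr, ⟨P, hP⟩, hCL⟩ := hM
  have hTS : normalizerIn S Q = S := normalizerIn_eq hSN
  have hEn : E.IsNormal Q := normal_in_normalizer hQS hE
  have hQT : Q ≤ normalizerIn S Q := hEn.1
  let K : Subgroup L := (Q.subgroupOf (normalizerIn S Q)).map ι
  have hKmem : ∀ t, ι t ∈ K ↔ (t : Ω) ∈ Q := by
    intro t
    constructor
    · rintro ⟨t', ht', he⟩
      rw [← hr.1 he]
      exact ht'
    · intro h
      exact ⟨t, h, rfl⟩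
  haveI hKn : K.Normal := by
    refine ⟨fun n hn g => ?_⟩
    obtain ⟨t, ht, rfl⟩ := hn
    have ht' : (t : Ω) ∈ Q := ht
    obtain ⟨r', hr', he⟩ := map_normal_of_model hr P hP hCL hEn g ht'
    have e2 : (⟨(t : Ω), hEn.1 ht'⟩ : ↥(normalizerIn S Q)) = t := Subtype.ext rfl
    rw [e2] at he
    rw [← he]
    exact (hKmem r').2 hr'
  have hKP : K ≤ (P : Subgroup L) := by
    rw [hP]
    rintro _ ⟨t, -, rfl⟩
    exact ⟨t, rfl⟩
  have hbarL := quot_npc hQS hSN hE hr P hP K hKmem hKP hmod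
  obtain ⟨L₀, hPL₀, hL₀, hmin⟩ := exists_min_sub (p := p) (P : Subgroup L) hnpc
  let P₀ : Sylow p ↥L₀ := P.subtype hPL₀
  have hP₀mem : ∀ x : ↥L₀, x ∈ (P₀ : Subgroup ↥L₀) ↔ (x : L) ∈ (P : Subgroup L) := by
    intro x
    rw [Sylow.coe_subtype, Subgroup.mem_subgroupOf]
  have hi : ∀ H : Subgroup ↥L₀, (P₀ : Subgroup ↥L₀) ≤ H → H ≠ ⊤ → Cfsg.HasNormalPComplement p ↥H := by
    intro H hH hne
    refine hmin H (fun x hx => ⟨⟨x, hPL₀ hx⟩, hH ((hP₀mem _).2 hx), rfl⟩) hne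
  have hOp : IsPGroup p ↥(pCore p L) := pCore_isPGroup p
  have hOP : pCore p L ≤ (P : Subgroup L) := pCore_le_sylow p P
  haveI hOn : (pCore p L).Normal := pCore_normal p L
  have hO : pPrimeCore p ↥L₀ = ⊥ := by
    have hXc := pPrimeCore_coprime (G := ↥L₀) p
    haveI hXn : (pPrimeCore p ↥L₀).Normal := pPrimeCore_normal p _
    haveI hO₀n : ((pCore p L).subgroupOf L₀).Normal := inferInstance
    have hdisj : ∀ x : ↥L₀, x ∈ pPrimeCore p ↥L₀ → x ∈ (pCore p L).subgroupOf L₀ → x = 1 := by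
      intro x hx1 hx2
      have hx2' : (x : L) ∈ pCore p L := Subgroup.mem_subgroupOf.1 hx2
      obtain ⟨k, hk⟩ := hOp ⟨x, hx2'⟩
      have h1 : x ^ p ^ k = 1 := by
        apply Subtype.ext
        simpa using congrArg Subtype.val hk
      have h2 : x ^ Nat.card ↥(pPrimeCore p ↥L₀) = 1 := by
        have h := congrArg Subtype.val (pow_card_eq_one' (x := (⟨x, hx1⟩ : ↥(pPrimeCore p ↥L₀))))
        exact h
      exact eq_one_of_pow_of_coprime hXc h2 h1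
    have hcomm : ∀ x ∈ pPrimeCore p ↥L₀, ∀ y ∈ (pCore p L).subgroupOf L₀, x * y = y * x := by
      intro x hx y hy
      refine Subgroup.commute_of_normal_of_disjoint _ _ hXn hO₀n ?_ x y hx hy
      rw [disjoint_iff, eq_bot_iff]
      rintro z ⟨hz1, hz2⟩
      exact Subgroup.mem_bot.2 (hdisj z hz1 hz2)
    rw [eq_bot_iff]
    intro x hx
    have h1 : (x : L) ∈ Subgroup.centralizer ((pCore p L : Subgroup L) : Set L) := by
      refine Subgroup.mem_centralizer_iff.2 fun y hy => ?_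
      have h2 := hcomm x hx ⟨y, hPL₀ (hOP hy)⟩ (Subgroup.mem_subgroupOf.2 hy)
      exact (congrArg Subtype.val h2).symm
    exact Subgroup.mem_bot.2 (hdisj x hx (Subgroup.mem_subgroupOf.2 (hCL h1)))
  have hbar : Cfsg.HasNormalPComplement p (↥L₀ ⧸ pCore p ↥L₀) := by
    haveI hK₀n : (K.subgroupOf L₀).Normal := inferInstance
    have hK₀p : IsPGroup p ↥(K.subgroupOf L₀) := by
      intro x
      obtain ⟨k, hk⟩ := P.2 ⟨(x : ↥L₀), hKP (Subgroup.mem_subgroupOf.1 x.2)⟩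
      refine ⟨k, Subtype.ext (Subtype.ext ?_)⟩
      simpa using congrArg Subtype.val hk
    have hK₀O : K.subgroupOf L₀ ≤ pCore p ↥L₀ := le_pCore hK₀n hK₀p
    let f : ↥L₀ ⧸ K.subgroupOf L₀ →* L ⧸ K := QuotientGroup.map _ _ L₀.subtype (fun x hx => hx)
    have hf : Function.Injective f := by
      rw [injective_iff_map_eq_one]
      intro a ha
      obtain ⟨x, rfl⟩ := QuotientGroup.mk_surjective a
      have h1 : ((x : L) : L ⧸ K) = 1 := ha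
      rw [QuotientGroup.eq_one_iff] at h1
      exact (QuotientGroup.eq_one_iff x).2 (Subgroup.mem_subgroupOf.2 h1)
    have h2 : Cfsg.HasNormalPComplement p (↥L₀ ⧸ K.subgroupOf L₀) := npc_of_injective f hf hbarL
    let g : ↥L₀ ⧸ K.subgroupOf L₀ →* ↥L₀ ⧸ pCore p ↥L₀ := QuotientGroup.map _ _ (MonoidHom.id _) (fun x hx => hK₀O hx)
    refine npc_of_surjective g ?_ h2
    intro a
    obtain ⟨x, rfl⟩ := QuotientGroup.mk_surjective a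
    exact ⟨(x : ↥L₀ ⧸ K.subgroupOf L₀), rfl⟩
  obtain ⟨hc, hst⟩ := step_v hp P₀ hi hO hbar
  -- the family
  have hιL₀ : ∀ t, ι t ∈ L₀ := fun t => hPL₀ (by rw [hP]; exact ⟨t, rfl⟩)
  let ι₀ : ↥(normalizerIn S Q) →* ↥L₀ := ι.codRestrict L₀ hιL₀
  have hι₀inj : Function.Injective ι₀ := by
    intro a b e
    exact hr.1 (congrArg Subtype.val e)
  have hι₀P : ∀ x : ↥L₀, x ∈ (P₀ : Subgroup ↥L₀) → ∃ t, ι₀ t = x := by
    intro x hx
    have h1 := (hP₀mem x).1 hx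
    rw [hP] at h1
    obtain ⟨t, ht⟩ := h1
    exact ⟨t, Subtype.ext ht⟩
  have hι₀P' : ∀ t, ι₀ t ∈ (P₀ : Subgroup ↥L₀) := by
    intro t
    refine (hP₀mem _).2 ?_
    rw [hP]
    exact ⟨t, rfl⟩
  let m : Subgroup Ω → Subgroup ↥L₀ := fun A => (A.subgroupOf (normalizerIn S Q)).map ι₀
  have hm_mem : ∀ (A : Subgroup Ω) (t), ι₀ t ∈ m A ↔ (t : Ω) ∈ A := by
    intro A t
    constructor
    · rintro ⟨t', ht', he⟩
      rw [← hι₀inj he]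
      exact ht'
    · intro h
      exact ⟨t, h, rfl⟩
  have hAT : ∀ A ∈ 𝒜, A ≤ normalizerIn S Q := fun A hA => (h𝒜 A hA).1.trans hTS.ge
  let cm : Subgroup ↥L₀ → Subgroup Ω := fun X => (X.comap ι₀).map (normalizerIn S Q).subtype
  have hcm_mem : ∀ (X : Subgroup ↥L₀) (t : ↥(normalizerIn S Q)), (t : Ω) ∈ cm X ↔ ι₀ t ∈ X := by
    intro X t
    constructor
    · rintro ⟨t', ht', he⟩
      rw [← Subtype.ext he]
      exact ht'
    · intro h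
      exact ⟨t, h, rfl⟩
  have hcmT : ∀ X : Subgroup ↥L₀, cm X ≤ normalizerIn S Q := by
    rintro X _ ⟨t, -, rfl⟩
    exact t.2
  have hAcm : ∀ A ∈ 𝒜, ∀ X : Subgroup ↥L₀, A ≤ cm X ↔ m A ≤ X := by
    intro A hA X
    constructor
    · rintro h _ ⟨t, ht, rfl⟩
      exact (hcm_mem X t).1 (h ht)
    · intro h x hx
      exact (hcm_mem X ⟨x, hAT A hA hx⟩).2 (h ((hm_mem A _).2 hx))
  obtain ⟨A₀, hA₀⟩ := hne
  have hfam : (⨅ A₁ ∈ m '' 𝒜, A₁).Normal := by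
    refine inf_family_normal hc hst P₀ (m '' 𝒜) ?_ ?_ ⟨_, A₀, hA₀, rfl⟩ ?_ ?_
    · rintro _ ⟨A, hA, rfl⟩ _ ⟨t, -, rfl⟩
      exact hι₀P' t
    · rintro _ ⟨A, hA, rfl⟩
      haveI := (h𝒜 A hA).2
      refine Cfsg.Agent.Lib.PZJ.isMulComm_of_forall ?_
      rintro _ ⟨a, ha, rfl⟩ _ ⟨b, hb, rfl⟩
      rw [← map_mul, ← map_mul]
      congr 1
      apply Subtype.ext
      exact Cfsg.Agent.Lib.PQuad.comm_of_isMulComm (h𝒜 A hA).2 ha hb
    · rintro Q₀ hQ₀ ⟨_, ⟨A₁, hA₁, rfl⟩, hA₁Q⟩ g hg x hx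
      have hxm : ∀ A ∈ 𝒜, m A ≤ Q₀ → x ∈ m A := fun A hA h =>
        Subgroup.mem_iInf.1 (Subgroup.mem_iInf.1 hx (m A)) ⟨⟨A, hA, rfl⟩, h⟩
      obtain ⟨t, ht, rfl⟩ := hxm A₁ hA₁ hA₁Q
      have ht₁ : (t : Ω) ∈ A₁ := ht
      have hQcS : cm Q₀ ≤ S := (hcmT Q₀).trans inf_le_left
      obtain ⟨α, hα, hαe⟩ := aut_of_conj hE hr (g : L) (hcmT Q₀) hQcS (fun y => by
        have h1 : ι₀ ⟨y, hcmT Q₀ y.2⟩ ∈ Q₀ := (hcm_mem Q₀ ⟨y, hcmT Q₀ y.2⟩).1 y.2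
        have h2 := (Subgroup.mem_normalizer_iff.1 hg _).1 h1
        obtain ⟨t', ht'⟩ := hι₀P _ (hQ₀ h2)
        refine ⟨t', ?_, congrArg Subtype.val ht'⟩
        exact (hcm_mem Q₀ t').2 (by rw [ht']; exact h2))
      have hA₁c : A₁ ≤ cm Q₀ := (hAcm A₁ hA₁ Q₀).2 hA₁Q
      have htI : (t : Ω) ∈ ⨅ A ∈ {A : Subgroup Ω | A ∈ 𝒜 ∧ A ≤ cm Q₀}, A := by
        refine Subgroup.mem_iInf.2 fun A => Subgroup.mem_iInf.2 fun hA' => ?_
        exact (hm_mem A t).1 (hxm A hA'.1 ((hAcm A hA'.1 Q₀).1 hA'.2))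
      have h := hinv (cm Q₀) hQcS ⟨A₁, hA₁, hA₁c⟩ α hα ⟨t, hA₁c ht₁⟩ htI
      have e : g * ι₀ t * g⁻¹ = ι₀ ⟨((α ⟨t, hA₁c ht₁⟩ : ↥(cm Q₀)) : Ω), hcmT Q₀ (α ⟨t, hA₁c ht₁⟩).2⟩ := by
        apply Subtype.ext
        exact (hαe ⟨t, hA₁c ht₁⟩).symm
      rw [e]
      refine Subgroup.mem_iInf.2 fun A₂ => Subgroup.mem_iInf.2 ?_
      rintro ⟨⟨A, hA, rfl⟩, hle⟩
      refine (hm_mem A _).2 ?_
      exact Subgroup.mem_iInf.1 (Subgroup.mem_iInf.1 h A) ⟨hA, (hAcm A hA Q₀).2 hle⟩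
    · rintro B' hB' hcom ⟨_, ⟨A, hA, rfl⟩, h1, h2⟩
      let B : Subgroup ↥(normalizerIn S Q) := B'.comap ι₀
      have hBmap : B.map ι₀ = B' := by
        apply le_antisymm
        · rintro _ ⟨c, hc, rfl⟩
          exact hc
        · intro x hx
          obtain ⟨t, rfl⟩ := hι₀P x (hB' hx)
          exact ⟨t, hx, rfl⟩
      let Bc : Subgroup Ω := B.map (normalizerIn S Q).subtype
      have hBcS : Bc ≤ S := by
        rintro _ ⟨t, -, rfl⟩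
        exact (hTS.le t.2)
      have hcom₁ : ⁅⁅B, B⁆, B⁆ = ⊥ := by
        apply (Subgroup.map_eq_bot_iff_of_injective _ hι₀inj).1
        rw [Subgroup.map_commutator, Subgroup.map_commutator, hBmap]
        exact hcom
      have hcomc : ⁅⁅Bc, Bc⁆, Bc⁆ = ⊥ := by
        show ⁅⁅B.map _, B.map _⁆, B.map _⁆ = ⊥
        rw [← Subgroup.map_commutator, ← Subgroup.map_commutator, hcom₁, Subgroup.map_bot]
      have hC₁ : ∀ (A' : Subgroup Ω) (C : Subgroup ↥(normalizerIn S Q)), C.map ι₀ ≤ m A' ↔ C.map (normalizerIn S Q).subtype ≤ A' := by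
        intro A' C
        constructor
        · rintro h _ ⟨c, hc, rfl⟩
          exact (hm_mem A' c).1 (h ⟨c, hc, rfl⟩)
        · rintro h _ ⟨c, hc, rfl⟩
          exact (hm_mem A' c).2 (h ⟨c, hc, rfl⟩)
      have hcomm₁ : ⁅B', B'⁆ = (⁅B, B⁆).map ι₀ := by
        rw [Subgroup.map_commutator, hBmap]
      have hcomm₂ : ⁅Bc, Bc⁆ = (⁅B, B⁆).map (normalizerIn S Q).subtype := by
        rw [Subgroup.map_commutator]
      obtain ⟨A₃, hA₃, h3, h4, h5⟩ := hrep Bc hBcS hcomc ⟨A, hA, by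
          rw [hcomm₂, ← hC₁, ← hcomm₁]
          exact h1, fun h => h2 (by
          rw [← hBmap]
          exact (hC₁ A B).2 h)⟩
      refine ⟨m A₃, ⟨A₃, hA₃, rfl⟩, ?_, ?_, ?_⟩
      · rw [hcomm₁, hC₁, ← hcomm₂]
        exact h3
      · intro h
        apply h4
        rw [← hBmap] at h
        exact (hC₁ A₃ B).1 h
      · intro b hb
        refine Cfsg.Agent.Lib.PGlaub.mem_normalizer_of_conj_mem ?_
        rw [← hBmap] at hb
        obtain ⟨c, hc, rfl⟩ := hb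
        rintro _ ⟨a, ha, rfl⟩
        have ha' : (a : Ω) ∈ A₃ := ha
        have hcN : (c : Ω) ∈ Subgroup.normalizer (A₃ : Set Ω) := h5 ⟨c, hc, rfl⟩
        have h6 := (Subgroup.mem_normalizer_iff.1 hcN _).1 ha'
        rw [← map_mul, ← map_inv, ← map_mul]
        exact (hm_mem A₃ _).2 h6
  -- conclude
  let U' : Subgroup L := (⨅ A₁ ∈ m '' 𝒜, A₁).map L₀.subtype
  have hU'mem : ∀ t : ↥(normalizerIn S Q), ι t ∈ U' ↔ (t : Ω) ∈ ⨅ A ∈ 𝒜, A := by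
    intro t
    constructor
    · rintro ⟨z, hz, he⟩
      have e : z = ι₀ t := Subtype.ext he
      rw [e] at hz
      refine Subgroup.mem_iInf.2 fun A => Subgroup.mem_iInf.2 fun hA => ?_
      exact (hm_mem A t).1 (Subgroup.mem_iInf.1 (Subgroup.mem_iInf.1 hz (m A)) ⟨A, hA, rfl⟩)
    · intro h
      refine ⟨ι₀ t, ?_, rfl⟩
      refine Subgroup.mem_iInf.2 fun A₁ => Subgroup.mem_iInf.2 ?_
      rintro ⟨A, hA, rfl⟩
      exact (hm_mem A t).2 (Subgroup.mem_iInf.1 (Subgroup.mem_iInf.1 h A) hA)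
  have hU'P : U' ≤ ι.range := by
    rintro _ ⟨z, hz, rfl⟩
    obtain ⟨t, ht, rfl⟩ := Subgroup.mem_iInf.1 (Subgroup.mem_iInf.1 hz (m A₀)) ⟨A₀, hA₀, rfl⟩
    exact ⟨t, rfl⟩
  have hL₀N : L₀ ≤ Subgroup.normalizer (U' : Set L) := by
    intro x hx
    refine Cfsg.Agent.Lib.PGlaub.mem_normalizer_of_conj_mem ?_
    rintro _ ⟨z, hz, rfl⟩
    exact ⟨⟨x, hx⟩ * z * ⟨x, hx⟩⁻¹, hfam.conj_mem z hz ⟨x, hx⟩, rfl⟩
  have hU'N := Cfsg.Agent.S5275.npc_of_inner hSN hE hr P hP hZS hZN hN₀ hinner U' hU'P hU'mem (hPL₀.trans hL₀N)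
  exact hL₀ (npc_of_injective (Subgroup.inclusion hL₀N) (Subgroup.inclusion_injective _) hU'N)

/-- An axiomatic Glauberman–Thompson nilpotency criterion for fusion systems. Let p be an odd prime, F a saturated fusion system over a finite p-group S, and 𝒜 a nonempty family of abelian subgroups of S. For Q ≤ S write I(Q) for the intersection of the members of 𝒜 contained in Q. Assume (invariance) that for every Q ≤ S containing a member of 𝒜, every F-automorphism of Q maps I(Q) into itself, and (replacement) that for every subgroup B of S of nilpotency class at most 2, if some member of 𝒜 contains [B,B] but not B, then B normalizes some member of 𝒜 that contains [B,B] but not B. Then F is the inner fusion system of S if and only if the normalizer fusion system of I(S) in F is the inner fusion system of N_S(I(S)). -/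
theorem result {Ω : Type*} [Group Ω] {S : Subgroup Ω} [Finite S] (p : ℕ) [Fact p.Prime] (hS : IsPGroup p ↥S) (F : Cfsg.FusionSystem S) (hF : F.IsSaturated p) (hp : p ≠ 2) (𝒜 : Set (Subgroup Ω)) (h𝒜 : ∀ A ∈ 𝒜, A ≤ S ∧ IsMulCommutative ↥A) (hne : 𝒜.Nonempty) (hinv : ∀ Q : Subgroup Ω, Q ≤ S → (∃ A ∈ 𝒜, A ≤ Q) → ∀ α ∈ F.autGroup Q, ∀ x : ↥Q, (x : Ω) ∈ (⨅ A ∈ {A : Subgroup Ω | A ∈ 𝒜 ∧ A ≤ Q}, A) → (((α : MulAut ↥Q) x : ↥Q) : Ω) ∈ (⨅ A ∈ {A : Subgroup Ω | A ∈ 𝒜 ∧ A ≤ Q}, A)) (hrep : ∀ B : Subgroup Ω, B ≤ S → ⁅⁅B, B⁆, B⁆ = ⊥ → (∃ A ∈ 𝒜, ⁅B, B⁆ ≤ A ∧ ¬ B ≤ A) → ∃ A ∈ 𝒜, ⁅B, B⁆ ≤ A ∧ ¬ B ≤ A ∧ B ≤ Subgroup.normalizer (A : Set Ω)) : (∀ P : Subgroup Ω, F.Hom P = (Cfsg.innerFusionSystem S).Hom P) ↔ ∀ N : Cfsg.FusionSystem (Cfsg.FusionSystem.normalizerIn S (⨅ A ∈ 𝒜, A)), F.IsNormalizerSystem (⨅ A ∈ 𝒜, A) N → ∀ P : Subgroup Ω, N.Hom P = (Cfsg.innerFusionSystem (Cfsg.FusionSystem.normalizerIn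 S (⨅ A ∈ 𝒜, A))).Hom P := by
  classical
  obtain ⟨A₀, hA₀⟩ := hne
  have hZS : (⨅ A ∈ 𝒜, A) ≤ S := (iInf₂_le A₀ hA₀).trans (h𝒜 A₀ hA₀).1
  haveI : Finite ↥(⨅ A ∈ 𝒜, A) := finite_of_le hZS
  have hSeq : (⨅ A ∈ {A : Subgroup Ω | A ∈ 𝒜 ∧ A ≤ S}, A) = ⨅ A ∈ 𝒜, A := by
    apply le_antisymm
    · exact le_iInf₂ fun A hA' => iInf₂_le A ⟨hA', (h𝒜 A hA').1⟩
    · exact le_iInf₂ fun A hA' => iInf₂_le A hA'.1
  have hZN : S ≤ Subgroup.normalizer (((⨅ A ∈ 𝒜, A) : Subgroup Ω) : Set Ω) := by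
    intro s hs
    refine mem_normalizer_of_conj_le' ?_
    intro z hz
    have hα : MulAut.conj (⟨s, hs⟩ : ↥S) ∈ F.autGroup S := inn_le_autGroup F le_rfl ⟨⟨s, hs⟩, rfl⟩
    have h := hinv S le_rfl ⟨A₀, hA₀, (h𝒜 A₀ hA₀).1⟩ _ hα ⟨z, hZS hz⟩ (by rw [hSeq]; exact hz)
    rw [hSeq] at h
    exact h
  constructor
  · intro hI N hN
    exact inner_normalizer hZN hI hN
  · intro h
    obtain ⟨N₀, hN₀⟩ := Cfsg.Agent.S5096.result F _ hZS
    exact main_inner hp hS hF 𝒜 h𝒜 ⟨A₀, hA₀⟩ hinv hrep hZS hZN hN₀ (h N₀ hN₀)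


end Cfsg.Agent.S5272
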