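import Cfsg.Statements.S0985
import Cfsg.Agent.Lib.H1Small
import Cfsg.Agent.Lib.SubCount

set_option autoImplicit false
open Cfsg

namespace Cfsg.Agent.S0985

/-- If the number of Sylow p-subgroups of a finite group is not congruent to 1 modulo p^k, then there are two distinct Sylow p-subgroups P and R such that the index of P ∩ R in P is at most p^(k-1). -/
theorem result {G : Type*} [Group G] [Finite G] (p k : ℕ) [Fact p.Prime] (h : ¬ Nat.card (Sylow p G) ≡ 1 [MOD p ^ k]) : ∃ P R : Sylow p G, P ≠ R ∧ ((R : Subgroup G).subgroupOf (P : Subgroup G)).index ≤ p ^ (k - 1) := by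
  classical
  by_contra hcon
  push Not at hcon
  apply h
  -- pick any Sylow subgroup P
  obtain ⟨P⟩ : Nonempty (Sylow p G) := inferInstance
  rcases Nat.eq_zero_or_pos k with rfl | hk
  · simp [Nat.ModEq, Nat.mod_one]
  -- each orbit of P on the other Sylow subgroups has size divisible by p^k
  have hpp : p.Prime := Fact.out
  have horb : ∀ R : Sylow p G, R ≠ P →
      p ^ k ∣ Nat.card (MulAction.orbit (P : Subgroup G) R) := by
    intro R hR
    have h1 := hcon P R hR.symm
    have h2 : IsPGroup p (P : Subgroup G) := P.isPGroup'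
    have hst : MulAction.stabilizer (P : Subgroup G) R = (R : Subgroup G).subgroupOf (P : Subgroup G) := by
      ext x
      rw [MulAction.mem_stabilizer_iff, Subgroup.mem_subgroupOf]
      constructor
      · intro hx
        have hx' : (x : G) • R = R := hx
        have h3 : (x : G) ∈ Subgroup.normalizer ((R : Subgroup G) : Set G) :=
          Sylow.smul_eq_iff_mem_normalizer.mp hx'
        have h4 : (x : G) ∈ (P : Subgroup G) ⊓ Subgroup.normalizer ((R : Subgroup G) : Set G) :=
          Subgroup.mem_inf.mpr ⟨x.2, h3⟩
        have h5 := h2.inf_normalizer_sylow R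
        have h6 : (x : G) ∈ (P : Subgroup G) ⊓ (R : Subgroup G) := by
          rw [← h5]; exact h4
        exact (Subgroup.mem_inf.mp h6).2
      · intro hx
        have h3 : (x : G) ∈ Subgroup.normalizer ((R : Subgroup G) : Set G) :=
          Subgroup.le_normalizer hx
        exact Sylow.smul_eq_iff_mem_normalizer.mpr h3
    have hidx : Nat.card (MulAction.orbit (P : Subgroup G) R) = ((R : Subgroup G).subgroupOf (P : Subgroup G)).index := by
      rw [← hst]
      exact Nat.card_congr (MulAction.orbitEquivQuotientStabilizer _ R)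
    rw [hidx]
    have hdvd : ((R : Subgroup G).subgroupOf (P : Subgroup G)).index ∣ Nat.card (P : Subgroup G) :=
      Subgroup.index_dvd_card _
    rw [P.card_eq_multiplicity] at hdvd
    obtain ⟨j, hj, hj2⟩ := (Nat.dvd_prime_pow hpp).mp hdvd
    rw [hj2] at h1 ⊢
    apply pow_dvd_pow
    by_contra hlt
    have : j ≤ k - 1 := by omega
    exact absurd (Nat.pow_le_pow_right hpp.pos this) (by omega)
  have hinv : ∀ (g : (P : Subgroup G)) (x : Sylow p G), x ≠ P → g • x ≠ P := by
    intro g x hx hgx
    apply hx
    have hgP : g • P = P := by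
      have : (g : G) • P = P := Sylow.smul_eq_iff_mem_normalizer.mpr (Subgroup.le_normalizer g.2)
      exact this
    exact smul_left_cancel g (hgx.trans hgP.symm)
  have hd := Cfsg.Agent.Lib.SubCount.dvd_card_of_invariant (G := (P : Subgroup G)) (X := Sylow p G) (fun x => x ≠ P) hinv (p ^ k) horb
  have hc : Nat.card {x : Sylow p G // x ≠ P} + 1 = Nat.card (Sylow p G) := by
    haveI := Fintype.ofFinite (Sylow p G)
    rw [Nat.card_eq_fintype_card, Nat.card_eq_fintype_card, Fintype.card_subtype_compl]
    have h1 : 0 < Fintype.card (Sylow p G) := Fintype.card_pos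
    simp only [Fintype.card_subtype_eq]
    omega
  rw [← hc]
  obtain ⟨c, hc'⟩ := hd
  rw [hc']
  simp [Nat.ModEq]

end Cfsg.Agent.S0985
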