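import Cfsg.Statements.S1012
import Cfsg.Agent.Lib.H1Small4

set_option autoImplicit false
open Cfsg

namespace Cfsg.Agent.S1012

/-- A group of order 24 containing no element of order 6 is isomorphic to the symmetric group of degree 4. -/
theorem result {G : Type*} [Group G] [Finite G] (h : Nat.card G = 24) (h6 : ∀ g : G, orderOf g ≠ 6) : Nonempty (G ≃* Equiv.Perm (Fin 4)) := by
  classical
  haveI h3p : Fact (Nat.Prime 3) := ⟨by norm_num⟩
  haveI h2p : Fact (Nat.Prime 2) := ⟨by norm_num⟩
  obtain ⟨P⟩ : Nonempty (Sylow 3 G) := inferInstance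
  obtain ⟨h1, h2', h3, h4⟩ := Cfsg.Agent.Lib.H1Small.sylow_data (p := 3) 1 8 (by omega) (by norm_num) P
  rw [pow_one] at h1
  -- element of order 3 in P
  obtain ⟨y, hy⟩ : ∃ y : G, y ∈ (P : Subgroup G) ∧ orderOf y = 3 := by
    obtain ⟨y, hy⟩ := exists_prime_orderOf_dvd_card' (G := (P : Subgroup G)) 3 (by rw [h1])
    exact ⟨y, y.2, (Subgroup.orderOf_coe y).trans hy⟩
  -- an involution commuting with an element of order 3 gives an element of order 6
  have hno : ∀ t z : G, orderOf t = 2 → orderOf z = 3 → Commute t z → False := by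
    intro t z ht hz hc
    apply h6 (t * z)
    rw [hc.orderOf_mul_eq_mul_orderOf_of_coprime (by rw [ht, hz]; norm_num), ht, hz]
  have hcand := Cfsg.Agent.Lib.H1Small.mem_cands _ 8 3 0 h2' (by norm_num) h3 (Nat.zero_le _)
  rw [show (Nat.divisors 8).filter (fun d => d % 3 = 1 ∧ 0 ≤ d) = {1, 4} by decide +kernel] at hcand
  simp only [Finset.mem_insert, Finset.mem_singleton] at hcand
  rcases hcand with hn | hn
  · -- P normal: an involution centralizes it
    exfalso
    have hN : Nat.card (Subgroup.normalizer ((P : Subgroup G) : Set G)) = 24 := by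
      rw [hn] at h4; omega
    have hr := Cfsg.Agent.Lib.H1Small.relIndex_centralizer_dvd_sub_one (p := 3) (P : Subgroup G) h1
    set C := Subgroup.centralizer ((P : Subgroup G) : Set G)
    set N := Subgroup.normalizer ((P : Subgroup G) : Set G)
    have hm : C.relIndex N * Nat.card ↥(C ⊓ N) = Nat.card N := by
      rw [← Subgroup.inf_relIndex_right]
      exact Cfsg.Agent.Lib.H1Small.relIndex_mul_card inf_le_right
    have hrle : C.relIndex N ≤ 2 := Nat.le_of_dvd (by norm_num) hr
    have he : 2 ∣ Nat.card ↥(C ⊓ N) := by
      have hr' : C.relIndex N = 1 ∨ C.relIndex N = 2 := by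
        have : C.relIndex N ≠ 0 := by
          intro h0
          rw [h0, zero_mul] at hm
          omega
        omega
      rcases hr' with hr' | hr' <;> rw [hr'] at hm <;> omega
    obtain ⟨t, ht⟩ := exists_prime_orderOf_dvd_card' 2 he
    have ht' : orderOf (t : G) = 2 := (Subgroup.orderOf_coe t).trans ht
    have htC : (t : G) ∈ C := (Subgroup.mem_inf.mp t.2).1
    exact hno (t : G) y ht' hy.2 ((Subgroup.mem_centralizer_iff.mp htC) y hy.1).symm
  · -- action on the four Sylow subgroups
    let e : Sylow 3 G ≃ Fin 4 := Finite.equivFinOfCardEq hn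
    let f₀ : G →* Equiv.Perm (Sylow 3 G) := MulAction.toPermHom G (Sylow 3 G)
    let f : G →* Equiv.Perm (Fin 4) := (Equiv.permCongrHom e).toMonoidHom.comp f₀
    have hK : f₀.ker = ⊥ := by
      by_contra hne
      -- all kernel elements normalize all Sylow subgroups
      have hker : ∀ k ∈ f₀.ker, ∀ Q : Sylow 3 G, k ∈ Subgroup.normalizer ((Q : Subgroup G) : Set G) := by
        intro k hk Q
        rw [← Cfsg.Agent.Lib.H1Small.smul_eq_iff_mem_nrm]
        have := congrArg (fun g : Equiv.Perm (Sylow 3 G) => g Q) (MonoidHom.mem_ker.mp hk)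
        exact this
      have hle : f₀.ker ≤ Subgroup.normalizer ((P : Subgroup G) : Set G) := fun k hk => hker k hk P
      have hdvd : Nat.card f₀.ker ∣ 6 := by
        have := Subgroup.card_dvd_of_le hle
        have hN6 : Nat.card (Subgroup.normalizer ((P : Subgroup G) : Set G)) = 6 := by
          rw [hn] at h4; omega
        rwa [hN6] at this
      have h3ker : ¬ 3 ∣ Nat.card f₀.ker := by
        intro hd
        obtain ⟨z, hz⟩ := exists_prime_orderOf_dvd_card' 3 hd
        have hz' : orderOf (z : G) = 3 := (Subgroup.orderOf_coe z).trans hz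
        -- z lies in every Sylow 3-subgroup
        have hall : ∀ Q : Sylow 3 G, Q = P := by
          intro Q
          have hzQ : (z : G) ∈ (Q : Subgroup G) :=
            Cfsg.Agent.Lib.H1Small.mem_of_mem_nrm Q
              (Cfsg.Agent.Lib.H1Small.isPGroup_zpowers_of_orderOf hz') (Subgroup.mem_zpowers _) (hker z z.2 Q)
          have hzP : (z : G) ∈ (P : Subgroup G) :=
            Cfsg.Agent.Lib.H1Small.mem_of_mem_nrm P
              (Cfsg.Agent.Lib.H1Small.isPGroup_zpowers_of_orderOf hz') (Subgroup.mem_zpowers _) (hker z z.2 P)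
          have hc : ∀ A : Sylow 3 G, (z : G) ∈ (A : Subgroup G) → Subgroup.zpowers (z : G) = (A : Subgroup G) := by
            intro A hA
            apply Subgroup.eq_of_le_of_card_ge ((Subgroup.zpowers_le).mpr hA)
            rw [Nat.card_zpowers, hz', Cfsg.Agent.Lib.H1Small.card_sylow_eq A P, h1]
          exact Sylow.ext ((hc Q hzQ).symm.trans (hc P hzP))
        have : Nat.card (Sylow 3 G) = 1 := by
          rw [Nat.card_eq_one_iff_unique]
          exact ⟨⟨fun a b => (hall a).trans (hall b).symm⟩, ⟨P⟩⟩
        omega
      have hcard2 : Nat.card f₀.ker = 2 := by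
        have hm : Nat.card f₀.ker ∈ Nat.divisors 6 := Nat.mem_divisors.mpr ⟨hdvd, by norm_num⟩
        rw [show Nat.divisors 6 = {1, 2, 3, 6} by decide +kernel] at hm
        simp only [Finset.mem_insert, Finset.mem_singleton] at hm
        rcases hm with h | h | h | h
        · exact absurd (Subgroup.eq_bot_of_card_eq _ h) hne
        · exact h
        · exact absurd (by rw [h]) h3ker
        · exact absurd (by rw [h]; norm_num) h3ker
      obtain ⟨t, ht⟩ := exists_prime_orderOf_dvd_card' 2 (by rw [hcard2])
      have ht' : orderOf (t : G) = 2 := (Subgroup.orderOf_coe t).trans ht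
      have ht1 : t ≠ 1 := by
        intro h
        rw [h, orderOf_one] at ht
        omega
      -- t is central
      have hcen : ∀ g : G, g * (t : G) * g⁻¹ = t := by
        intro g
        have hmem : g * (t : G) * g⁻¹ ∈ f₀.ker := f₀.normal_ker.conj_mem _ t.2 g
        let t' : f₀.ker := ⟨_, hmem⟩
        have ht1' : t' ≠ 1 := by
          intro h
          have h2 : g * (t : G) * g⁻¹ = 1 := congrArg Subtype.val h
          apply ht1
          apply Subtype.ext
          have : (t : G) = g⁻¹ * (g * (t : G) * g⁻¹) * g := by group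
          rw [this, h2]; simp
        obtain ⟨a, -, huniq⟩ := (Nat.card_eq_two_iff' (1 : f₀.ker)).mp hcard2
        have e1 := huniq t' ht1'
        have e2 := huniq t ht1
        exact congrArg Subtype.val (e1.trans e2.symm)
      have hcomm : Commute (t : G) y := by
        have := hcen y
        show (t : G) * y = y * (t : G)
        rw [mul_inv_eq_iff_eq_mul] at this
        exact this.symm
      exact hno (t : G) y ht' hy.2 hcomm
    have hinj : Function.Injective f := by
      have h0 : Function.Injective f₀ := (MonoidHom.ker_eq_bot_iff f₀).mp hK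
      intro a b hab
      apply h0
      exact (Equiv.permCongrHom e).injective hab
    have hbij : Function.Bijective f := by
      apply hinj.bijective_of_nat_card_le
      rw [h, Nat.card_perm]
      simp [Nat.factorial]
    exact ⟨MulEquiv.ofBijective f hbij⟩

end Cfsg.Agent.S1012
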