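import Cfsg.Statements.S0754
import Mathlib

set_option autoImplicit false
open Cfsg

namespace Cfsg.Agent.S0754

/-- In a field F with q^2 elements, every non-zero μ with μ^q = μ (that is, μ in the subfield of order q) has exactly q + 1 solutions λ of λ^(q+1) = μ. -/
theorem result {F : Type*} [Field F] [Fintype F] {q : ℕ} (hF : Fintype.card F = q ^ 2) (μ : F) (hμ : μ ≠ 0) (hμq : μ ^ q = μ) : Nat.card {x : F // x ^ (q + 1) = μ} = q + 1 := by
  classical
  have hq1 : 1 < q := by
    have := Fintype.one_lt_card (α := F)
    rw [hF] at this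
    rcases q with _ | _ | q
    · simp at this
    · simp at this
    · omega
  -- work in the unit group, cyclic of order (q-1)(q+1)
  have hcard : Nat.card Fˣ = (q + 1) * (q - 1) := by
    rw [Nat.card_eq_fintype_card, Fintype.card_units, hF]
    have : q ^ 2 = (q - 1) * (q + 1) + 1 := by
      obtain ⟨r, rfl⟩ : ∃ r, q = r + 1 := ⟨q - 1, by omega⟩
      simp only [Nat.add_sub_cancel]
      ring
    rw [this]
    simp [mul_comm]
  let u : Fˣ := Units.mk0 μ hμ
  let φ : Fˣ →* Fˣ := powMonoidHom (q + 1)
  have hker : Nat.card φ.ker = q + 1 := by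
    have := IsCyclic.card_powMonoidHom_ker (G := Fˣ) (q + 1)
    rw [hcard] at this
    simpa [φ, Nat.gcd_eq_right (Dvd.intro _ rfl : (q+1) ∣ (q+1) * (q-1))] using this
  -- μ is in the image of φ
  have hrange : Nat.card φ.range = q - 1 := by
    have := IsCyclic.card_powMonoidHom_range (G := Fˣ) (q + 1)
    rw [hcard] at this
    have h2 : Nat.gcd ((q + 1) * (q - 1)) (q + 1) = q + 1 := Nat.gcd_eq_right (Dvd.intro _ rfl)
    rw [h2] at this
    rw [this]
    exact Nat.mul_div_cancel_left _ (by omega)
  have hmem : u ∈ φ.range := by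
    -- the elements x with x^(q-1) = 1 have the right count
    have hle : (φ.range : Subgroup Fˣ) ≤ (powMonoidHom (q - 1) : Fˣ →* Fˣ).ker := by
      rintro _ ⟨x, rfl⟩
      simp only [MonoidHom.mem_ker, φ, powMonoidHom_apply]
      rw [← pow_mul, ← hcard]
      exact pow_card_eq_one'
    have hker2 : Nat.card (powMonoidHom (q - 1) : Fˣ →* Fˣ).ker = q - 1 := by
      have := IsCyclic.card_powMonoidHom_ker (G := Fˣ) (q - 1)
      rw [hcard] at this
      rw [this]
      exact Nat.gcd_eq_right (Dvd.intro_left _ rfl)
    have heq : φ.range = (powMonoidHom (q - 1) : Fˣ →* Fˣ).ker := by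
      apply Subgroup.eq_of_le_of_card_ge hle
      rw [hker2, hrange]
    rw [heq]
    simp only [MonoidHom.mem_ker, powMonoidHom_apply]
    ext
    simp only [Units.val_pow_eq_pow_val, Units.val_one, u, Units.val_mk0]
    have : μ ^ (q - 1) * μ = μ := by
      rw [← pow_succ, Nat.sub_add_cancel (by omega : 1 ≤ q), hμq]
    exact mul_right_cancel₀ hμ (by rw [this, one_mul])
  obtain ⟨x₀, hx₀⟩ := hmem
  -- fibre is coset
  let e : {x : F // x ^ (q + 1) = μ} ≃ φ.ker :=
    { toFun := fun x => ⟨(Units.mk0 x.1 (by
          intro h0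
          have := x.2
          rw [h0, zero_pow (by omega)] at this
          exact hμ this.symm)) * x₀⁻¹, by
          simp only [MonoidHom.mem_ker, map_mul, map_inv, hx₀]
          rw [mul_inv_eq_one]
          ext
          simp [φ, u, x.2]⟩
      invFun := fun y => ⟨((y.1 * x₀ : Fˣ) : F), by
          have h1 := y.2
          rw [MonoidHom.mem_ker] at h1
          have h2 : φ (y.1 * x₀) = u := by rw [map_mul, h1, one_mul, hx₀]
          have h3 := congrArg Units.val h2
          simpa [φ, u] using h3⟩
      left_inv := fun x => by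
        ext
        simp
      right_inv := fun y => by
        ext
        simp }
  rw [Nat.card_congr e, hker]

end Cfsg.Agent.S0754
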