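import Cfsg.Statements.S0033
import Cfsg.Agent.Lib.H1Thomp

set_option autoImplicit false
open Cfsg

namespace Cfsg.Agent.S0033

/-- Thompson's Theorem on fixed-point-free automorphisms: a finite group with an automorphism of prime order fixing only the identity is nilpotent. -/
theorem result {G : Type*} [Group G] [Finite G] (φ : G ≃* G)
    (hφ : MonoidHom.FixedPointFree (φ : G →* G)) (p : ℕ) (hp : p.Prime) (hord : orderOf φ = p) :
    Group.IsNilpotent G := by
  have hit : ∀ x : G, (φ : G →* G)^[p] x = x := by
    intro x
    have h1 : φ ^ p = 1 := by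
      rw [← hord]
      exact pow_orderOf_eq_one φ
    have h2 : ∀ (i : ℕ) (y : G), (φ ^ i) y = ((φ : G →* G))^[i] y := by
      intro i y
      induction i with
      | zero => rfl
      | succ n ih =>
        rw [Function.iterate_succ_apply', ← ih, pow_succ']
        rfl
    rw [← h2, h1]
    rfl
  exact Cfsg.Agent.Lib.H1Thomp.thompson_aux hp (Nat.card G) G (φ : G →* G) rfl hφ hit

end Cfsg.Agent.S0033
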