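import Cfsg.Statements.S3939
import Cfsg.Agent.Lib.CritAut
-- import your own Cfsg.Agent.* helpers here

set_option autoImplicit false
open Cfsg

namespace Cfsg.Agent.S3939

open Subgroup
open scoped commutatorElement

/-- In a finite nilpotent group, elements of orders powers of distinct primes commute. -/
theorem comm_of_nilp {H : Type*} [Group H] [Finite H] [Group.IsNilpotent H] (x y : H) {p q a b : ℕ}
    (hp : p.Prime) (hq : q.Prime) (hpq : p ≠ q) (hx : orderOf x = p ^ a) (hy : orderOf y = q ^ b) :
    x * y = y * x := by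
  haveI : Fact p.Prime := ⟨hp⟩
  haveI : Fact q.Prime := ⟨hq⟩
  obtain ⟨P⟩ : Nonempty (Sylow p H) := inferInstance
  obtain ⟨Q⟩ : Nonempty (Sylow q H) := inferInstance
  have hPn : (P : Subgroup H).Normal := inferInstance
  have hQn : (Q : Subgroup H).Normal := inferInstance
  have hxP : x ∈ (P : Subgroup H) := Cfsg.Agent.Lib.FGSBasic.mem_sylow_of_normal P hPn ⟨a, hx⟩
  have hyQ : y ∈ (Q : Subgroup H) := Cfsg.Agent.Lib.FGSBasic.mem_sylow_of_normal Q hQn ⟨b, hy⟩
  have hd : Disjoint (P : Subgroup H) (Q : Subgroup H) := by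
    apply Subgroup.disjoint_of_coprime_natCard
    obtain ⟨m, hm⟩ := IsPGroup.iff_card.mp P.2
    obtain ⟨n, hn⟩ := IsPGroup.iff_card.mp Q.2
    rw [hm, hn]
    exact Nat.Coprime.pow _ _ ((Nat.coprime_primes hp hq).mpr hpq)
  exact Subgroup.commute_of_normal_of_disjoint _ _ hPn hQn hd x y hxP hyQ

theorem index_prime_pow_of_contains {G : Type*} [Group G] [Finite G] {p : ℕ} (hp : p.Prime) (C : Subgroup G)
    (h : ∀ (r b : ℕ) (x : G), r.Prime → r ≠ p → orderOf x = r ^ b → x ∈ C) : ∃ a : ℕ, C.index = p ^ a := by
  classical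
  refine ⟨_, Nat.eq_prime_pow_of_unique_prime_dvd (Subgroup.index_ne_zero_of_finite) ?_⟩
  intro r hr hd
  by_contra hrp
  haveI : Fact r.Prime := ⟨hr⟩
  obtain ⟨R⟩ : Nonempty (Sylow r G) := inferInstance
  have hle : (R : Subgroup G) ≤ C := by
    intro x hx
    obtain ⟨b, hb⟩ := IsPGroup.iff_orderOf.mp R.2 ⟨x, hx⟩
    rw [Subgroup.orderOf_mk] at hb
    exact h r b x hr hrp hb
  have h1 := Subgroup.index_dvd_of_le hle
  exact R.not_dvd_index (hd.trans h1)

/-- In a finite group G the set of elements g such that the subgroup generated by g and x is nilpotent for every x ∈ G is exactly the hypercenter of G (the last term of the upper central series). -/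
theorem result {G : Type*} [Group G] [Finite G] (g : G) :
    (∀ x : G, Group.IsNilpotent ↥(Subgroup.closure ({x, g} : Set G))) ↔ g ∈ ⨆ n : ℕ, Subgroup.upperCentralSeries G n := by
  classical
  constructor
  · intro hnil
    have hcl := Cfsg.Agent.Lib.FGSBasic.mem_closure_primePow_parts g
    refine (closure_le _).mpr ?_ hcl
    rintro y ⟨hyg, p, k, hp, hyo⟩
    haveI : Fact p.Prime := ⟨hp⟩
    -- `y` commutes with all `r`-elements
    have hcomm : ∀ (r b : ℕ) (x : G), r.Prime → r ≠ p → orderOf x = r ^ b → x * y = y * x := by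
      intro r b x hr hrp hxo
      haveI := hnil x
      set H := closure ({x, g} : Set G) with hH
      have hxH : x ∈ H := subset_closure (by simp)
      have hgH : g ∈ H := subset_closure (by simp)
      have hyH : y ∈ H := (zpowers_le.mpr hgH) hyg
      have := comm_of_nilp (⟨x, hxH⟩ : H) ⟨y, hyH⟩ hr hp hrp (by rw [Subgroup.orderOf_mk]; exact hxo)
        (by rw [Subgroup.orderOf_mk]; exact hyo)
      exact congrArg Subtype.val this
    obtain ⟨a, ha⟩ := index_prime_pow_of_contains hp (centralizer ({y} : Set G))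
      (fun r b x hr hrp hx => mem_centralizer_singleton_iff.mpr (hcomm r b x hr hrp hx))
    have hzy : IsPGroup p (zpowers y) := IsPGroup.iff_card.mpr ⟨k, by rw [Nat.card_zpowers, hyo]⟩
    obtain ⟨P, hP⟩ := hzy.exists_le_sylow
    have hyP : y ∈ (P : Subgroup G) := hP (mem_zpowers y)
    set N : Subgroup G := normalClosure ({y} : Set G) with hNdef
    haveI hNn : N.Normal := normalClosure_normal
    have hyN : y ∈ N := subset_normalClosure (Set.mem_singleton y)
    have hNP : N ≤ (P : Subgroup G) := by
      rw [hNdef, normalClosure, closure_le]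
      intro v hv
      rw [Group.mem_conjugatesOfSet_iff] at hv
      obtain ⟨a', ha', hc⟩ := hv
      rw [Set.mem_singleton_iff] at ha'
      subst ha'
      obtain ⟨u, rfl⟩ := isConj_iff.mp hc
      obtain ⟨w, hw, c, hc', e⟩ := Lib.CritAut.exists_mul_of_index_prime_pow P _ ha u
      have hcx := mem_centralizer_singleton_iff.mp hc'
      have : u * a' * u⁻¹ = w * a' * w⁻¹ := by
        rw [e]
        calc w * c * a' * (w * c)⁻¹ = w * (c * a') * c⁻¹ * w⁻¹ := by group
          _ = w * (a' * c) * c⁻¹ * w⁻¹ := by rw [hcx]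
          _ = _ := by group
      rw [SetLike.mem_coe, this]
      exact mul_mem (mul_mem hw hyP) (inv_mem hw)
    have hCN : ∀ (r b : ℕ) (x : G), r.Prime → r ≠ p → orderOf x = r ^ b → x ∈ centralizer (N : Set G) := by
      intro r b x hr hrp hx
      have hle : N ≤ centralizer ({x} : Set G) := by
        rw [hNdef, normalClosure, closure_le]
        intro v hv
        rw [Group.mem_conjugatesOfSet_iff] at hv
        obtain ⟨a', ha', hc⟩ := hv
        rw [Set.mem_singleton_iff] at ha'
        subst ha'
        obtain ⟨u, rfl⟩ := isConj_iff.mp hc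
        rw [SetLike.mem_coe, mem_centralizer_singleton_iff]
        have h1 : orderOf (u⁻¹ * x * u) = r ^ b := by
          have : u⁻¹ * x * u = u⁻¹ * x * (u⁻¹)⁻¹ := by rw [inv_inv]
          rw [this, Cfsg.Agent.Lib.FGSBasic.orderOf_conj, hx]
        have h2 := hcomm r b _ hr hrp h1
        calc u * a' * u⁻¹ * x = u * (a' * (u⁻¹ * x * u)) * u⁻¹ := by group
          _ = u * ((u⁻¹ * x * u) * a') * u⁻¹ := by rw [h2]
          _ = _ := by group
      rw [mem_centralizer_iff]
      intro v hv
      exact (mem_centralizer_singleton_iff.mp (hle hv))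
    obtain ⟨a', ha'⟩ := index_prime_pow_of_contains hp (centralizer (N : Set G)) hCN
    have hfac := Lib.CritAut.exists_mul_of_index_prime_pow P _ ha'
    haveI : Group.IsNilpotent (P : Subgroup G) := P.2.isNilpotent
    obtain ⟨c, hc⟩ := _root_.nilpotent_iff_lowerCentralSeries.mp
      (inferInstance : Group.IsNilpotent (P : Subgroup G))
    have key : ∀ i j : ℕ, j + i = c → ∀ v ∈ N, ∀ h : v ∈ (P : Subgroup G),
        (⟨v, h⟩ : (P : Subgroup G)) ∈ (⊤ : Subgroup (P : Subgroup G)).lowerCentralSeries j →
        v ∈ Subgroup.upperCentralSeries G i := by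
      intro i
      induction i with
      | zero =>
        intro j hj v _ h hv
        have hj' : j = c := by omega
        rw [hj', hc] at hv
        have h1 := congrArg Subtype.val (mem_bot.mp hv)
        have h2 : v = 1 := h1
        rw [h2]
        exact one_mem _
      | succ i ih =>
        intro j hj v hvN h hv
        rw [Subgroup.mem_upperCentralSeries_succ_iff]
        intro u
        obtain ⟨w, hw, c', hc', e⟩ := hfac u
        have hcv : v * c' = c' * v := mem_centralizer_iff.mp hc' v hvN
        have h1 : ⁅v, u⁆ = v * w * v⁻¹ * w⁻¹ := by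
          rw [commutatorElement_def, e]
          have h3 : c' * v⁻¹ = v⁻¹ * c' := by
            have : Commute c' v := hcv.symm
            exact this.inv_right.eq
          calc v * (w * c') * v⁻¹ * (w * c')⁻¹ = v * w * (c' * v⁻¹) * c'⁻¹ * w⁻¹ := by group
            _ = v * w * (v⁻¹ * c') * c'⁻¹ * w⁻¹ := by rw [h3]
            _ = _ := by group
        rw [h1]
        have hN2 : v * w * v⁻¹ * w⁻¹ ∈ N := by
          have h4 : w * v⁻¹ * w⁻¹ ∈ N := hNn.conj_mem _ (N.inv_mem hvN) w
          have : v * w * v⁻¹ * w⁻¹ = v * (w * v⁻¹ * w⁻¹) := by group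
          rw [this]
          exact N.mul_mem hvN h4
        refine ih (j + 1) (by omega) _ hN2 (hNP hN2) ?_
        rw [Subgroup.mem_lowerCentralSeries_succ_iff]
        apply Subgroup.subset_closure
        refine ⟨_, hv, ⟨w, hw⟩, mem_top _, ?_⟩
        apply Subtype.ext
        rw [commutatorElement_def]
        rfl
    have hfin := key c 0 (by omega) y hyN hyP (by simp)
    exact (le_iSup (fun n : ℕ => Subgroup.upperCentralSeries G n) c) hfin
  · intro hg x
    have hdir : Directed (· ≤ ·) (fun n : ℕ => Subgroup.upperCentralSeries G n) := by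
      apply Monotone.directed_le
      apply monotone_nat_of_le_succ
      intro n v hv
      rw [Subgroup.mem_upperCentralSeries_succ_iff]
      intro u
      have h1 : (Subgroup.upperCentralSeries G n).Normal := inferInstance
      rw [commutatorElement_def]
      have h2 := h1.conj_mem _ ((Subgroup.upperCentralSeries G n).inv_mem hv) u
      have h3 : v * u * v⁻¹ * u⁻¹ = v * (u * v⁻¹ * u⁻¹) := by group
      rw [h3]
      exact (Subgroup.upperCentralSeries G n).mul_mem hv h2
    obtain ⟨n, hn⟩ := (Subgroup.mem_iSup_of_directed hdir).mp hg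
    set H := closure ({x, g} : Set G) with hH
    have hxH : x ∈ H := subset_closure (by simp)
    have hgH : g ∈ H := subset_closure (by simp)
    have hZ : ∀ m : ℕ, ∀ v : H, (v : G) ∈ Subgroup.upperCentralSeries G m → v ∈ Subgroup.upperCentralSeries H m := by
      intro m
      induction m with
      | zero =>
        intro v hv
        have : (v : G) = 1 := by simpa using hv
        have h2 : v = 1 := Subtype.ext this
        rw [h2]; exact one_mem _
      | succ m ih =>
        intro v hv
        rw [Subgroup.mem_upperCentralSeries_succ_iff] at hv ⊢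
        intro u
        apply ih
        have := hv u
        simpa [commutatorElement_def] using this
    set Z := Subgroup.upperCentralSeries H n with hZdef
    haveI : Z.Normal := inferInstance
    let φ := QuotientGroup.mk' Z
    have hφone : ∀ a : H, φ a = 1 ↔ a ∈ Z := fun a => QuotientGroup.eq_one_iff a
    have hφg : φ ⟨g, hgH⟩ = 1 := (hφone _).mpr (hZ n _ hn)
    have hzp : ∀ (h : G) (hh : h ∈ H), φ ⟨h, hh⟩ ∈ zpowers (φ ⟨x, hxH⟩) := by
      intro h hh
      induction hh using closure_induction with
      | mem v hv =>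
        rcases hv with rfl | rfl
        · exact mem_zpowers _
        · rw [hφg]; exact one_mem _
      | one =>
        have : (⟨1, one_mem _⟩ : H) = 1 := rfl
        rw [this, map_one]; exact one_mem _
      | mul a b ha hb iha ihb =>
        have : (⟨a * b, mul_mem ha hb⟩ : H) = ⟨a, ha⟩ * ⟨b, hb⟩ := rfl
        rw [this, map_mul]; exact mul_mem iha ihb
      | inv a ha iha =>
        have : (⟨a⁻¹, inv_mem ha⟩ : H) = (⟨a, ha⟩ : H)⁻¹ := rfl
        rw [this, map_inv]; exact inv_mem iha
    refine ⟨⟨n + 1, ?_⟩⟩
    rw [eq_top_iff]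
    intro a _
    rw [Subgroup.mem_upperCentralSeries_succ_iff]
    intro b
    rw [← hφone, commutatorElement_def, map_mul, map_mul, map_mul, map_inv, map_inv]
    obtain ⟨i, hi⟩ := mem_zpowers_iff.mp (hzp a a.2)
    obtain ⟨j, hj⟩ := mem_zpowers_iff.mp (hzp b b.2)
    have ha : φ a = φ ⟨x, hxH⟩ ^ i := hi.symm
    have hb : φ b = φ ⟨x, hxH⟩ ^ j := hj.symm
    rw [ha, hb, ← zpow_add, ← zpow_neg, ← zpow_neg, ← zpow_add, ← zpow_add]
    have : i + j + -i + -j = 0 := by ring
    rw [this, zpow_zero]

end Cfsg.Agent.S3939
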