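import Cfsg.Statements.S0809
import Cfsg.Agent.Lib.H1SL2Syl2

set_option autoImplicit false
open Cfsg

namespace Cfsg.Agent.S0809


open Matrix Cfsg.Agent.Lib.H1GL2 Cfsg.Agent.Lib.H1SL2 Cfsg.Agent.Lib.H1PSL2 Cfsg.Agent.Lib.H1PSL2P
  Cfsg.Agent.Lib.H1SL2C Cfsg.Agent.Lib.H1Torus

section
variable {F : Type*} [Field F]

theorem tr_zero_of_sq {x : SL2 F} (h2 : (2 : F) ≠ 0) (hx : x * x = mone) : tr x = 0 := by
  have hd := sl_det x
  have e00 := congrArg (fun z : SL2 F => (z : M2 F) 0 0) hx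
  have e11 := congrArg (fun z : SL2 F => (z : M2 F) 1 1) hx
  simp only [sl_mul00, sl_mul11, mone00, mone11] at e00 e11
  have h : tr x ^ 2 = 0 := by
    simp only [tr]
    linear_combination e00 + e11 + 2 * hd
  simpa using h

theorem tr_sq_ne {x : SL2 F} (h2 : (2 : F) ≠ 0) (hx : x * x = mone) : tr x ^ 2 ≠ 4 := by
  rw [tr_zero_of_sq h2 hx]
  intro h
  have h3 : (2 : F) * 2 = 0 := by linear_combination -h
  exact (mul_ne_zero h2 h2) h3

theorem card_Tz_conj {x y : SL2 F} (h : IsConj x y) : Nat.card (Tz x) = Nat.card (Tz y) := by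
  obtain ⟨g, rfl⟩ := isConj_iff.1 h
  refine Nat.card_congr ⟨fun t => ⟨g * t * g⁻¹, ?_⟩, fun t => ⟨g⁻¹ * t * g, ?_⟩, ?_, ?_⟩
  · rw [mem_Tz]
    have h1 : (t : SL2 F) * x = x * t := mem_Tz.1 t.2
    calc g * (t : SL2 F) * g⁻¹ * (g * x * g⁻¹) = g * ((t : SL2 F) * x) * g⁻¹ := by group
      _ = g * (x * t) * g⁻¹ := by rw [h1]
      _ = _ := by group
  · rw [mem_Tz]
    have h1 : (t : SL2 F) * (g * x * g⁻¹) = (g * x * g⁻¹) * t := mem_Tz.1 t.2
    calc g⁻¹ * (t : SL2 F) * g * x = g⁻¹ * ((t : SL2 F) * (g * x * g⁻¹)) * g := by group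
      _ = g⁻¹ * ((g * x * g⁻¹) * t) * g := by rw [h1]
      _ = _ := by group
  · intro t
    apply Subtype.ext
    show g⁻¹ * (g * (t : SL2 F) * g⁻¹) * g = t
    group
  · intro t
    apply Subtype.ext
    show g * (g⁻¹ * (t : SL2 F) * g) * g⁻¹ = t
    group

/-- The normaliser of the group generated by `x` with `x² = -1` is the normaliser of its torus. -/
theorem normalizer_eq {x : SL2 F} (h2 : (2 : F) ≠ 0) (hx : x * x = mone) :
    Subgroup.normalizer ((Subgroup.zpowers x : Subgroup (SL2 F)) : Set (SL2 F)) =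
      Subgroup.normalizer ((Tz x : Subgroup (SL2 F)) : Set (SL2 F)) := by
  have hx4 := tr_sq_ne h2 hx
  have hAT : Subgroup.zpowers x ≤ Tz x := by
    rw [Subgroup.zpowers_le]
    exact self_mem_Tz x
  ext g
  rw [mem_normalizer_iff hx4 g]
  constructor
  · intro hg
    have h1 : g * x * g⁻¹ ∈ Subgroup.zpowers x := by
      have := (Subgroup.mem_normalizer_iff.1 hg x).1 (Subgroup.mem_zpowers x)
      exact this
    have h3 : tr (g * x * g⁻¹) = tr x := (tr_of_isConj (isConj_iff.2 ⟨g, rfl⟩)).symm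
    exact same_trace hx4 (hAT h1) h3
  · intro hg
    have hz : Subgroup.zpowers (g * x * g⁻¹) = Subgroup.zpowers x := by
      rcases hg with h | h
      · rw [h]
      · rw [h, Subgroup.zpowers_inv]
    have hconj : ∀ k : ℤ, g * x ^ k * g⁻¹ = (g * x * g⁻¹) ^ k := fun k => (conj_zpow).symm
    apply Subgroup.mem_normalizer_iff.2
    intro h
    constructor
    · intro hh
      obtain ⟨k, hk⟩ := Subgroup.mem_zpowers_iff.1 hh
      have e : g * h * g⁻¹ = (g * x * g⁻¹) ^ k := by
        rw [← hk]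
        exact hconj k
      rw [e, ← hz]
      exact Subgroup.zpow_mem_zpowers _ _
    · intro hh
      have hh' : g * h * g⁻¹ ∈ Subgroup.zpowers (g * x * g⁻¹) := by
        rw [hz]
        exact hh
      obtain ⟨k, hk⟩ := Subgroup.mem_zpowers_iff.1 hh'
      rw [← hconj k] at hk
      have h5 : x ^ k = h := by
        calc x ^ k = g⁻¹ * (g * x ^ k * g⁻¹) * g := by group
          _ = g⁻¹ * (g * h * g⁻¹) * g := by rw [hk]
          _ = h := by group
      rw [← h5]
      exact Subgroup.zpow_mem_zpowers _ _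

variable [Fintype F]

/-- Centraliser order from a generated torus. -/
theorem card_Tz_of_gen {τ : SL2 F} (hτ : tr τ ^ 2 ≠ 4) (hgen : ∀ t ∈ Tz τ, ∃ k : ℕ, t = τ ^ k)
    (h4 : 4 ∣ orderOf τ) {x : SL2 F} (h2 : (2 : F) ≠ 0) (hx : x * x = mone) :
    Nat.card (Tz x) = orderOf τ := by
  have hpos : 0 < orderOf τ := orderOf_pos τ
  obtain ⟨m, hm⟩ := h4
  have hm0 : m ≠ 0 := by
    rintro rfl
    omega
  set y := τ ^ m with hy
  have hyord : orderOf y = 4 := by
    rw [hy, orderOf_pow_of_dvd hm0 ⟨4, by rw [hm]; ring⟩, hm]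
    exact Nat.mul_div_cancel _ (Nat.pos_of_ne_zero hm0)
  have hy1 : y * y ≠ 1 := by
    intro h
    have h3 : y ^ 2 = 1 := by rw [pow_two]; exact h
    have := orderOf_dvd_of_pow_eq_one h3
    rw [hyord] at this
    omega
  have hyy : y * y = mone := by
    have h3 : (y * y) * (y * y) = 1 := by
      have h5 : y ^ 4 = 1 := by
        rw [← hyord]
        exact pow_orderOf_eq_one y
      rw [← h5]
      simp only [pow_succ, pow_zero, one_mul, mul_assoc]
    rcases eq_one_or_mone_of_sq h2 _ h3 with h | h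
    · exact absurd h hy1
    · exact h
  have hyT : y ∈ Tz τ := (Tz τ).pow_mem (self_mem_Tz τ) m
  have hy0 : y ≠ 1 := by
    intro h
    rw [h, mul_one] at hy1
    exact hy1 rfl
  have hym : y ≠ mone := by
    intro h
    apply hy1
    rw [h, mone_mul_mone]
  have hc : IsConj x y := conj_of_trace x y (by rw [tr_zero_of_sq h2 hx, tr_zero_of_sq h2 hyy]) (tr_sq_ne h2 hx)
  rw [card_Tz_conj hc, Tz_eq hτ hyT hy0 hym, card_Tz hgen]

theorem exists_gen4 (h2 : (2 : F) ≠ 0) (A : Subgroup (SL2 F)) (hA : Nat.card A = 4) :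
    ∃ x, x * x = mone ∧ A = Subgroup.zpowers x := by
  classical
  obtain ⟨x, hxA, hx1⟩ : ∃ x ∈ A, x * x ≠ 1 := by
    by_contra hcon
    push Not at hcon
    have h3 : (A : Set (SL2 F)) ⊆ {1, mone} := by
      intro z hz
      rcases eq_one_or_mone_of_sq h2 z (hcon z hz) with h | h
      · left; exact h
      · right; exact h
    have h4 := Set.ncard_le_ncard h3 (Set.toFinite _)
    have h5 : ({1, mone} : Set (SL2 F)).ncard ≤ 2 := by
      have := Set.ncard_insert_le (1 : SL2 F) ({mone} : Set (SL2 F))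
      rwa [Set.ncard_singleton] at this
    have h6 : (A : Set (SL2 F)).ncard = 4 := by
      rw [← hA]
      exact Nat.card_coe_set_eq _
    omega
  have hx4 : x ^ 4 = 1 := by
    have h3 : (⟨x, hxA⟩ : A) ^ 4 = 1 := by
      rw [← hA]
      exact pow_card_eq_one'
    have := congrArg (fun z : A => (z : SL2 F)) h3
    simpa using this
  have hxx : x * x = mone := by
    have h3 : (x * x) * (x * x) = 1 := by
      rw [← hx4]
      simp only [pow_succ, pow_zero, one_mul, mul_assoc]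
    rcases eq_one_or_mone_of_sq h2 _ h3 with h | h
    · exact absurd h hx1
    · exact h
  refine ⟨x, hxx, ?_⟩
  symm
  apply Subgroup.eq_of_le_of_card_ge
  · rw [Subgroup.zpowers_le]
    exact hxA
  · rw [hA, Nat.card_zpowers]
    haveI : Fact (Nat.Prime 2) := ⟨Nat.prime_two⟩
    have h5 : orderOf x = 2 ^ (1 + 1) := orderOf_eq_prime_pow (by rw [pow_one, pow_two]; exact hx1) (by norm_num; exact hx4)
    rw [h5]
    norm_num
end


/-- In SL_2(q), q odd: any two subgroups of order 4 are conjugate, and the normaliser of a subgroup of order 4 has order 2(q − 1) if q ≡ 1 (mod 4) and 2(q + 1) if q ≡ 3 (mod 4); consequently all involutions of PSL_2(q) are conjugate. -/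
theorem result {F : Type*} [Field F] [Fintype F] {q : ℕ} (hF : Fintype.card F = q) (hodd : Odd q) (A : Subgroup (Matrix.SpecialLinearGroup (Fin 2) F)) (hA : Nat.card A = 4) : (∀ B : Subgroup (Matrix.SpecialLinearGroup (Fin 2) F), Nat.card B = 4 → ∃ g : Matrix.SpecialLinearGroup (Fin 2) F, B = A.map (MulAut.conj g).toMonoidHom) ∧ (q % 4 = 1 → Nat.card ↥(Subgroup.normalizer (A : Set (Matrix.SpecialLinearGroup (Fin 2) F))) = 2 * (q - 1)) ∧ (q % 4 = 3 → Nat.card ↥(Subgroup.normalizer (A : Set (Matrix.SpecialLinearGroup (Fin 2) F))) = 2 * (q + 1)) ∧ (∀ x y : Matrix.ProjectiveSpecialLinearGroup (Fin 2) F, orderOf x = 2 → orderOf y = 2 → IsConj x y) := by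
  classical
  subst hF
  have hchar : ringChar F ≠ 2 := by
    intro h
    have := FiniteField.even_card_of_char_two h
    obtain ⟨k, hk⟩ := hodd
    omega
  have h2F : (2 : F) ≠ 0 := Ring.two_ne_zero hchar
  have hq : 1 < Fintype.card F := Fintype.one_lt_card
  obtain ⟨x, hx, rfl⟩ := exists_gen4 h2F A hA
  refine ⟨?_, ?_, ?_, ?_⟩
  · intro B hB
    obtain ⟨y, hy, rfl⟩ := exists_gen4 h2F B hB
    have hc : IsConj x y := conj_of_trace x y (by rw [tr_zero_of_sq h2F hx, tr_zero_of_sq h2F hy]) (tr_sq_ne h2F hx)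
    obtain ⟨g, rfl⟩ := isConj_iff.1 hc
    refine ⟨g, ?_⟩
    rw [MonoidHom.map_zpowers]
    rfl
  · intro h1
    rw [normalizer_eq h2F hx, card_normalizer (tr_sq_ne h2F hx)]
    obtain ⟨ζ, hζ⟩ := IsCyclic.exists_ofOrder_eq_natCard (α := Fˣ)
    rw [Nat.card_units, Nat.card_eq_fintype_card] at hζ
    have hζgen : ∀ u : Fˣ, ∃ k : ℕ, u = ζ ^ k := by
      intro u
      have h1 : Function.Bijective (fun i : Fin (orderOf ζ) => ζ ^ (i : ℕ)) := by
        rw [Fintype.bijective_iff_injective_and_card]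
        refine ⟨fun i j h => Fin.ext (pow_injOn_Iio_orderOf i.2 j.2 h), ?_⟩
        rw [Fintype.card_fin, hζ, Fintype.card_units]
      obtain ⟨i, hi⟩ := h1.2 u
      exact ⟨i, hi.symm⟩
    have hsq : (ζ : F) ^ 2 ≠ 1 := by
      intro h
      have h1' : ζ ^ 2 = 1 := Units.ext (by simpa using h)
      have h2 := orderOf_dvd_of_pow_eq_one h1'
      rw [hζ] at h2
      have := Nat.le_of_dvd (by norm_num) h2
      omega
    have h01 : (dg ζ : M2 F) 0 1 = 0 := rfl
    have h10 : (dg ζ : M2 F) 1 0 = 0 := rfl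
    have hτ := Cfsg.Agent.Lib.H1Torus.diag_tr h01 hsq
    have hgen := Cfsg.Agent.Lib.H1Torus.diag_gen ζ hζgen h01 h10 hsq
    have hord : orderOf (dg ζ) = Fintype.card F - 1 := by
      rw [orderOf_injective dg dg_injective, hζ]
    rw [card_Tz_of_gen hτ hgen (by rw [hord]; omega) h2F hx, hord]
  · intro h3
    rw [normalizer_eq h2F hx, card_normalizer (tr_sq_ne h2F hx)]
    obtain ⟨τ, hord, -, hgen0⟩ := ns_data (F := F)
    obtain ⟨hτ, hns⟩ := Cfsg.Agent.Lib.H1Torus.ns_gen_props τ hord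
    have hgen : ∀ t ∈ Tz τ, ∃ k : ℕ, t = τ ^ k := fun t ht => hgen0 t hns (mem_Tz.mp ht)
    rw [card_Tz_of_gen hτ hgen (by rw [hord]; omega) h2F hx, hord]
  · intro a b ha hb
    have key : ∀ z : Matrix.ProjectiveSpecialLinearGroup (Fin 2) F, orderOf z = 2 → ∃ w : SL2 F, pi w = z ∧ w * w = mone := by
      intro z hz
      obtain ⟨w, hw⟩ := QuotientGroup.mk'_surjective _ z
      have hw' : pi w = z := hw
      refine ⟨w, hw', ?_⟩
      have h3 : pi w ^ 2 = 1 := by
        rw [hw']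
        have := pow_orderOf_eq_one z
        rwa [hz] at this
      rcases (pi_pow_eq_one_iff w 2).1 h3 with h | h
      · exfalso
        rw [pow_two] at h
        have h5 : pi w = 1 := (pi_eq_one_iff w).2 (eq_one_or_mone_of_sq h2F w h)
        rw [hw'] at h5
        rw [h5, orderOf_one] at hz
        omega
      · rw [← pow_two]; exact h
    obtain ⟨u, rfl, hu⟩ := key a ha
    obtain ⟨v, rfl, hv⟩ := key b hb
    exact MonoidHom.map_isConj pi (conj_of_trace u v (by rw [tr_zero_of_sq h2F hu, tr_zero_of_sq h2F hv]) (tr_sq_ne h2F hu))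

end Cfsg.Agent.S0809
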