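import Cfsg.Statements.S4341
import Mathlib
import Cfsg.Agent.Lib.FGSBasic
import Cfsg.Agent.Lib.PNilp
import Cfsg.Agent.Lib.Herstein
import Cfsg.Agent.Lib.H1Core
-- import your own Cfsg.Agent.* helpers here

set_option autoImplicit false
open Cfsg

namespace Cfsg.Agent.S4341

open Subgroup
open scoped Pointwise

theorem relIndex_of_fact {G : Type*} [Group G] [Finite G] (A B X : Subgroup G) (hA : A ≤ X) (hB : B ≤ X)
    (h : ∀ x ∈ X, ∃ a ∈ A, ∃ b ∈ B, x = a * b) : B.relIndex X = B.relIndex A := by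
  have h1 := Cfsg.Agent.Lib.FGSBasic.relIndex_eq_index_of_factorization (A.subgroupOf X) (B.subgroupOf X) (by
    intro g
    obtain ⟨a, ha, b, hb, hab⟩ := h g g.2
    exact ⟨⟨a, hA ha⟩, ha, ⟨b, hB hb⟩, hb, Subtype.ext hab⟩)
  rw [Subgroup.relIndex_subgroupOf hA] at h1
  exact h1.symm

theorem norm_inf {G : Type*} [Group G] (P K : Subgroup G) [hK : K.Normal] (g : G)
    (hg : g ∈ normalizer (P : Set G)) : g ∈ normalizer ((P ⊓ K : Subgroup G) : Set G) := by
  rw [Subgroup.mem_normalizer_iff] at hg ⊢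
  intro h
  constructor
  · rintro ⟨h1, h2⟩
    exact ⟨(hg h).mp h1, hK.conj_mem h h2 g⟩
  · rintro ⟨h1, h2⟩
    refine ⟨(hg h).mpr h1, ?_⟩
    have := hK.conj_mem _ h2 g⁻¹
    simpa [mul_assoc] using this

/-- The Sylow number of a quotient. -/
theorem card_sylow_quot {H : Type*} [Group H] [Finite H] (p : ℕ) [Fact p.Prime] (PP : Sylow p H)
    (U : Subgroup H) [U.Normal] :
    Nat.card (Sylow p (H ⧸ U)) = (comap (QuotientGroup.mk' U)
      (normalizer (((PP : Subgroup H).map (QuotientGroup.mk' U) : Subgroup (H ⧸ U)) : Set (H ⧸ U)))).index := by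
  have hs : Function.Surjective (QuotientGroup.mk' U) := QuotientGroup.mk'_surjective U
  rw [(PP.mapSurjective hs).card_eq_index_normalizer, Subgroup.index_comap_of_surjective _ hs]
  rfl

theorem card_sylow_quot' {H : Type*} [Group H] [Finite H] (p : ℕ) [Fact p.Prime] (PP : Sylow p H)
    (U : Subgroup H) [U.Normal] (hU : U ≤ PP) :
    Nat.card (Sylow p (H ⧸ U)) = (normalizer ((PP : Subgroup H) : Set H)).index := by
  rw [card_sylow_quot p PP U]
  congr 1
  apply le_antisymm
  · intro x hx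
    apply Cfsg.Agent.Lib.Herstein.mem_normalizer_of_conj_le
    intro w hw
    have h1 : QuotientGroup.mk' U w ∈ (PP : Subgroup H).map (QuotientGroup.mk' U) := ⟨w, hw, rfl⟩
    have hx' : QuotientGroup.mk' U x ∈ normalizer (((PP : Subgroup H).map (QuotientGroup.mk' U) : Subgroup (H ⧸ U)) : Set (H ⧸ U)) := hx
    rw [Subgroup.mem_normalizer_iff] at hx'
    have h2 := (hx' _).mp h1
    obtain ⟨y, hy, hyw⟩ := h2
    have h3 : y⁻¹ * (x * w * x⁻¹) ∈ U := by
      rw [← QuotientGroup.eq_one_iff]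
      have : ((y : H) : H ⧸ U) = ((x * w * x⁻¹ : H) : H ⧸ U) := by
        simpa using hyw
      rw [QuotientGroup.mk_mul, QuotientGroup.mk_inv, this]
      exact inv_mul_cancel _
    have h4 := (PP : Subgroup H).mul_mem hy (hU h3)
    simpa using h4
  · intro x hx
    have := Subgroup.le_normalizer_map (H := (PP : Subgroup H)) (QuotientGroup.mk' U) ⟨x, hx, rfl⟩
    exact this

/-- Let K be a normal subgroup of a finite group G, p a prime and P a Sylow p-subgroup of G; let N be the normalizer of P ∩ K inside the subgroup PK. Then the number of Sylow p-subgroups of G equals the product of the numbers of Sylow p-subgroups of G/K, of K, and of N/(P ∩ K). (The normality of P ∩ K in N, which always holds, is assumed as a hypothesis so that the quotient can be formed.) -/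
theorem result {G : Type*} [Group G] [Finite G]
    (p : ℕ) [Fact p.Prime] (K : Subgroup G) [K.Normal] (P : Sylow p G) (N : Subgroup G)
    (hN : N = ((P : Subgroup G) ⊔ K) ⊓ Subgroup.normalizer (((P : Subgroup G) ⊓ K : Subgroup G) : Set G))
    [hn : (((P : Subgroup G) ⊓ K).subgroupOf N).Normal] :
    Nat.card (Sylow p G) =
      Nat.card (Sylow p (G ⧸ K)) * Nat.card (Sylow p K) * Nat.card (Sylow p (N ⧸ ((P : Subgroup G) ⊓ K).subgroupOf N)) := by
  classical
  set Q : Subgroup G := (P : Subgroup G) ⊓ K with hQ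
  have hPnorm : (P : Subgroup G) ≤ normalizer ((P : Subgroup G) : Set G) := Subgroup.le_normalizer
  have hNP_NQ : normalizer ((P : Subgroup G) : Set G) ≤ normalizer (Q : Set G) := fun g hg =>
    norm_inf (P : Subgroup G) K g hg
  have hPNQ : (P : Subgroup G) ≤ normalizer (Q : Set G) := hPnorm.trans hNP_NQ
  have hNmem : ∀ x, x ∈ N ↔ (x ∈ (P : Subgroup G) ⊔ K ∧ x ∈ normalizer (Q : Set G)) := by
    intro x; rw [hN]; rfl
  have hPN : (P : Subgroup G) ≤ N := fun x hx =>
    (hNmem x).mpr ⟨(le_sup_left : (P : Subgroup G) ≤ _) hx, hPNQ hx⟩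
  have hQN : Q ≤ N := inf_le_left.trans hPN
  -- the first count
  set L : Subgroup G := comap (QuotientGroup.mk' K)
      (normalizer (((P : Subgroup G).map (QuotientGroup.mk' K) : Subgroup (G ⧸ K)) : Set (G ⧸ K))) with hL
  have hc1 : Nat.card (Sylow p (G ⧸ K)) = L.index := card_sylow_quot p P K
  -- the second count
  have hc2 : Nat.card (Sylow p K) = (normalizer (Q : Set G)).relIndex K := by
    rw [(Cfsg.Agent.Lib.PNilp.sylowOfNormal P K).card_eq_index_normalizer]
    have h1 : ((Cfsg.Agent.Lib.PNilp.sylowOfNormal P K : Sylow p K) : Subgroup K) = Q.subgroupOf K := by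
      rw [Cfsg.Agent.Lib.PNilp.coe_sylowOfNormal]
      ext x
      simp [hQ, Subgroup.mem_subgroupOf]
    show _ = ((normalizer (Q : Set G)).subgroupOf K).index
    rw [Subgroup.subgroupOf_normalizer_eq (inf_le_right : Q ≤ K), ← h1]
    rfl
  -- the third count
  have hc3 : Nat.card (Sylow p (N ⧸ Q.subgroupOf N)) = (normalizer ((P : Subgroup G) : Set G)).relIndex N := by
    have hU : Q.subgroupOf N ≤ ((P.subtype hPN : Sylow p N) : Subgroup N) := by
      intro x hx
      exact (Subgroup.mem_subgroupOf.mp hx).1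
    rw [card_sylow_quot' p (P.subtype hPN) (Q.subgroupOf N) hU]
    show _ = ((normalizer ((P : Subgroup G) : Set G)).subgroupOf N).index
    rw [Subgroup.subgroupOf_normalizer_eq hPN]
    rfl
  have hKL : K ≤ L := by
    intro k hk
    have : QuotientGroup.mk' K k = 1 := (QuotientGroup.eq_one_iff _).mpr hk
    rw [hL, Subgroup.mem_comap, this]
    exact Subgroup.one_mem _
  have hNL : normalizer ((P : Subgroup G) : Set G) ≤ L := by
    intro x hx
    exact Subgroup.le_normalizer_map (H := (P : Subgroup G)) (QuotientGroup.mk' K) ⟨x, hx, rfl⟩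
  -- Frattini
  have hFr : ∀ g ∈ L, ∃ a ∈ K, ∃ b ∈ normalizer ((P : Subgroup G) : Set G), g = a * b := by
    intro g hg
    set R : Subgroup G := (P : Subgroup G) ⊔ K with hR
    have hPR : (P : Subgroup G) ≤ R := le_sup_left
    have hgPR : ((g • P : Sylow p G) : Subgroup G) ≤ R := by
      intro x hx
      rw [Sylow.coe_subgroup_smul, Cfsg.Agent.Lib.H1Core.mem_conj_smul] at hx
      have h1 : QuotientGroup.mk' K (g⁻¹ * x * g) ∈ (P : Subgroup G).map (QuotientGroup.mk' K) := ⟨_, hx, rfl⟩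
      have hg' : QuotientGroup.mk' K g ∈ normalizer (((P : Subgroup G).map (QuotientGroup.mk' K) : Subgroup (G ⧸ K)) : Set (G ⧸ K)) := hg
      rw [Subgroup.mem_normalizer_iff] at hg'
      have h2 := (hg' _).mp h1
      obtain ⟨y, hy, hyw⟩ := h2
      have h3 : y⁻¹ * x ∈ K := by
        rw [← QuotientGroup.eq_one_iff]
        have : ((y : G) : G ⧸ K) = (x : G ⧸ K) := by
          simpa [mul_assoc] using hyw
        rw [QuotientGroup.mk_mul, QuotientGroup.mk_inv, this]
        simp
      have h4 : y * (y⁻¹ * x) ∈ R := R.mul_mem (hPR hy) ((le_sup_right : K ≤ R) h3)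
      simpa using h4
    obtain ⟨r, hr⟩ := MulAction.exists_smul_eq R (P.subtype hPR) ((g • P : Sylow p G).subtype hgPR)
    have hw : g⁻¹ * (r : G) ∈ normalizer ((P : Subgroup G) : Set G) := by
      apply Cfsg.Agent.Lib.Herstein.mem_normalizer_of_conj_le
      intro y hy
      have hy' : (r * ⟨y, hPR hy⟩ * r⁻¹ : R) ∈ ((r • P.subtype hPR : Sylow p R) : Subgroup R) := by
        rw [Sylow.coe_subgroup_smul, Cfsg.Agent.Lib.H1Core.mem_conj_smul]
        have : r⁻¹ * (r * ⟨y, hPR hy⟩ * r⁻¹) * r = (⟨y, hPR hy⟩ : R) := by group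
        rw [this]
        exact hy
      rw [hr, Sylow.coe_subtype, Subgroup.mem_subgroupOf, Sylow.coe_subgroup_smul,
        Cfsg.Agent.Lib.H1Core.mem_conj_smul] at hy'
      have e : g⁻¹ * (r : G) * y * (g⁻¹ * (r : G))⁻¹ = g⁻¹ * ((r : G) * y * (r : G)⁻¹) * g := by group
      rw [e]
      exact hy'
    have hr3 : (r : G) ∈ K ⊔ (P : Subgroup G) := by
      rw [sup_comm]; exact r.2
    rw [← SetLike.mem_coe, Subgroup.normal_mul, Set.mem_mul] at hr3
    obtain ⟨k, hk, u, hu, hku⟩ := hr3
    refine ⟨k, hk, k⁻¹ * g, ?_, by group⟩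
    have h5 := (normalizer ((P : Subgroup G) : Set G)).mul_mem hw ((normalizer ((P : Subgroup G) : Set G)).inv_mem (hPnorm hu))
    rw [← hku] at h5
    have h6 : g⁻¹ * (k * u) * u⁻¹ = g⁻¹ * k := by group
    rw [h6] at h5
    have h7 := (normalizer ((P : Subgroup G) : Set G)).inv_mem h5
    simpa using h7
  have hAK : normalizer (Q : Set G) ⊓ K ≤ N := by
    rintro x ⟨hx1, hx2⟩
    exact (hNmem x).mpr ⟨(le_sup_right : K ≤ _) hx2, hx1⟩
  have hfactN : ∀ x ∈ N, ∃ a ∈ normalizer (Q : Set G) ⊓ K, ∃ b ∈ normalizer ((P : Subgroup G) : Set G) ⊓ N, x = a * b := by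
    intro x hx
    obtain ⟨hx1, hx2⟩ := (hNmem x).mp hx
    have hx3 : x ∈ K ⊔ (P : Subgroup G) := by rwa [sup_comm]
    rw [← SetLike.mem_coe, Subgroup.normal_mul, Set.mem_mul] at hx3
    obtain ⟨k, hk, u, hu, rfl⟩ := hx3
    refine ⟨k, ⟨?_, hk⟩, u, ⟨hPnorm hu, hPN hu⟩, rfl⟩
    have := (normalizer (Q : Set G)).mul_mem hx2 ((normalizer (Q : Set G)).inv_mem (hPNQ hu))
    simpa using this
  have e1 := Subgroup.relIndex_mul_index hNL
  have e2 := relIndex_of_fact K _ L hKL hNL hFr
  have e4 := relIndex_of_fact _ _ N hAK inf_le_right hfactN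
  rw [Subgroup.inf_relIndex_right] at e4
  have e5 : (normalizer ((P : Subgroup G) : Set G) ⊓ N).relIndex (normalizer (Q : Set G) ⊓ K) =
      (normalizer ((P : Subgroup G) : Set G)).relIndex (normalizer (Q : Set G) ⊓ K) := by
    rw [← Subgroup.inf_relIndex_right (normalizer ((P : Subgroup G) : Set G) ⊓ N),
      ← Subgroup.inf_relIndex_right (normalizer ((P : Subgroup G) : Set G)) (normalizer (Q : Set G) ⊓ K),
      inf_assoc, inf_of_le_right hAK]
  have e6 := Subgroup.relIndex_mul_relIndex (normalizer ((P : Subgroup G) : Set G) ⊓ K)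
    (normalizer (Q : Set G) ⊓ K) K (inf_le_inf_right K hNP_NQ) inf_le_right
  rw [Subgroup.inf_relIndex_right, Subgroup.inf_relIndex_right] at e6
  have e7 : (normalizer ((P : Subgroup G) : Set G) ⊓ K).relIndex (normalizer (Q : Set G) ⊓ K) =
      (normalizer ((P : Subgroup G) : Set G)).relIndex (normalizer (Q : Set G) ⊓ K) := by
    rw [← Subgroup.inf_relIndex_right (normalizer ((P : Subgroup G) : Set G) ⊓ K),
      ← Subgroup.inf_relIndex_right (normalizer ((P : Subgroup G) : Set G)) (normalizer (Q : Set G) ⊓ K),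
      inf_assoc, inf_of_le_right inf_le_right]
  have hc0 : Nat.card (Sylow p G) = (normalizer ((P : Subgroup G) : Set G)).index := P.card_eq_index_normalizer
  rw [hc0, hc1, hc2, hc3]
  rw [← e1, e2, e4, e5, ← e6, e7]
  ring

end Cfsg.Agent.S4341
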