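import Cfsg.Statements.S0106
import Cfsg.Agent.Lib.LdQuat
import Cfsg.Agent.Lib.PNilp

set_option autoImplicit false
open Cfsg

namespace Cfsg.Agent.S0106

open Subgroup QuaternionGroup Cfsg.Agent.Lib.LdQuat

variable {G : Type*} [Group G]

/-- An element of odd order normalizing a cyclic `2`-subgroup centralizes it. -/
theorem comm_of_cyc [Finite G] {g t : G} (hg : Nat.Coprime (orderOf g) 2) {k : ℕ} (ht : t ^ 2 ^ k = 1)
    (hn : g * t * g⁻¹ ∈ zpowers t) : g * t = t * g := by
  classical
  let Z := zpowers t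
  have hgZ : g ∈ normalizer (Z : Set G) := by
    have h1 : zpowers g ≤ normalizer (Z : Set G) := by
      apply Subgroup.le_normalizer_iff.mpr
      intro a ha z hz
      obtain ⟨m, rfl⟩ := mem_zpowers_iff.1 ha
      obtain ⟨n, rfl⟩ := mem_zpowers_iff.1 hz
      have key : ∀ m : ℕ, g ^ m * t * (g ^ m)⁻¹ ∈ Z := by
        intro m
        induction m with
        | zero => simp [Z]
        | succ m ih =>
          have h2 : g ^ (m + 1) * t * (g ^ (m + 1))⁻¹ = g * (g ^ m * t * (g ^ m)⁻¹) * g⁻¹ := by
            rw [pow_succ']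
            group
          rw [h2]
          obtain ⟨n, hn'⟩ := mem_zpowers_iff.1 ih
          rw [← hn']
          have h3 : g * t ^ n * g⁻¹ = (g * t * g⁻¹) ^ n := by
            rw [conj_zpow]
          rw [h3]
          exact zpow_mem hn n
      have hm : g ^ m ∈ (Submonoid.powers g) := by
        rw [mem_powers_iff_mem_zpowers]
        exact zpow_mem (mem_zpowers g) m
      obtain ⟨m', hm'⟩ := Submonoid.mem_powers_iff _ _ |>.1 hm
      rw [← hm', ← conj_zpow]
      exact zpow_mem (key m') n
    exact h1 (mem_zpowers g)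
  let c : MulAut Z := Z.normalizerMonoidHom ⟨g, hgZ⟩
  have hc1 : orderOf c ∣ orderOf g := by
    apply orderOf_dvd_of_pow_eq_one
    have h2 : (⟨g, hgZ⟩ : normalizer (Z : Set G)) ^ orderOf g = 1 := by
      apply Subtype.ext
      simp [pow_orderOf_eq_one]
    show (Z.normalizerMonoidHom ⟨g, hgZ⟩) ^ orderOf g = 1
    rw [← map_pow, h2, map_one]
  obtain ⟨j, -, hj⟩ := (Nat.dvd_prime_pow Nat.prime_two).1 (orderOf_dvd_of_pow_eq_one ht)
  have hcardZ : Nat.card Z = 2 ^ j := by
    rw [Nat.card_zpowers, hj]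
  have hc2 : orderOf c ∣ 2 ^ (j - 1) := by
    have h1 := orderOf_dvd_natCard c
    rw [IsCyclic.card_mulAut, hcardZ] at h1
    rcases Nat.eq_zero_or_pos j with rfl | hj0
    · simpa using h1
    · rw [Nat.totient_prime_pow Nat.prime_two hj0] at h1
      simpa using h1
  have hc3 : orderOf c = 1 := by
    have h1 : Nat.Coprime (orderOf g) (2 ^ (j - 1)) := Nat.Coprime.pow_right _ hg
    exact Nat.Coprime.eq_one_of_dvd (Nat.Coprime.coprime_dvd_left hc1 h1) hc2
  have hc4 : c = 1 := orderOf_eq_one_iff.1 hc3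
  have h5 := congrArg (fun f : MulAut Z => ((f ⟨t, mem_zpowers t⟩ : Z) : G)) hc4
  have h6 : g * t * g⁻¹ = t := h5
  calc g * t = g * t * g⁻¹ * g := by group
    _ = t * g := by rw [h6]

theorem comm_zp {g c : G} (h : g * c = c * g) (k : ℤ) : g * c ^ k = c ^ k * g :=
  (Commute.zpow_right h k)

section
variable [Finite G] (T : Subgroup G) (hT2 : IsPGroup 2 T) {M : ℕ} (u w : G)

include hT2 in
theorem two_pow_of_mem {x : G} (hx : x ∈ T) : ∃ k : ℕ, x ^ 2 ^ k = 1 := by
  obtain ⟨k, hk⟩ := hT2 ⟨x, hx⟩
  exact ⟨k, by simpa using congrArg Subtype.val hk⟩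

include hT2 in
theorem eq_one_of_odd_pow {d : G} (hd : d ∈ T) {r : ℕ} (hr : Nat.Coprime r 2) (h : d ^ r = 1) : d = 1 := by
  obtain ⟨k, hk⟩ := two_pow_of_mem T hT2 hd
  have h1 := orderOf_dvd_of_pow_eq_one h
  have h2 := orderOf_dvd_of_pow_eq_one hk
  have h3 : Nat.Coprime r (2 ^ k) := Nat.Coprime.pow_right _ hr
  have h4 := Nat.Coprime.eq_one_of_dvd (Nat.Coprime.coprime_dvd_left h1 h3) h2
  exact orderOf_eq_one_iff.1 h4

end

/-- The structure theorem: a subgroup of a generalized quaternion group with an odd automorphism acting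
nontrivially is isomorphic to the quaternion group of order 8. -/
theorem quat_sub [Finite G] (T : Subgroup G) (hT2 : IsPGroup 2 T) {M : ℕ} [NeZero M] (u w : G)
    (huT : u ∈ T) (hwT : w ∈ T) (h1 : w * u * w⁻¹ = u⁻¹) (h2 : w ^ 2 = u ^ M)
    (hord : orderOf u = 2 * M) (hform : ∀ s ∈ T, s ∈ zpowers u ∨ ∃ i : ℤ, s = w * u ^ i)
    (Q : Subgroup G) (hQ : Q ≤ T) (g : G) (hg : g ∈ normalizer (Q : Set G))
    (hco : Nat.Coprime (orderOf g) 2) (hgc : g ∉ centralizer (Q : Set G)) :
    Nonempty (Q ≃* Q8) := by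
  classical
  have hQconj : ∀ q ∈ Q, g * q * g⁻¹ ∈ Q := fun q hq => (mem_normalizer_iff.1 hg q).1 hq
  -- commuting with generators gives centralizing
  have hwz : ∀ i : ℤ, w * u ^ i = u ^ (-i) * w := by
    intro i
    have h3 : w * u ^ i * w⁻¹ = (u ^ i)⁻¹ := by
      rw [← conj_zpow, h1, inv_zpow]
    calc w * u ^ i = w * u ^ i * w⁻¹ * w := by group
      _ = u ^ (-i) * w := by rw [h3, zpow_neg]
  set z := u ^ M with hz
  have hz1 : z ≠ 1 := pow_ne_one_of_lt_orderOf (NeZero.ne M) (by rw [hord]; have := NeZero.pos M; omega)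
  have hz2 : z ^ 2 = 1 := by
    rw [hz, ← pow_mul, mul_comm M 2, ← hord, pow_orderOf_eq_one]
  have hzu : z ∈ zpowers u := pow_mem (mem_zpowers u) M
  have hsq : ∀ s ∈ T, s ∉ zpowers u → s ^ 2 = z := by
    intro s hs hsu
    rcases hform s hs with h | ⟨i, rfl⟩
    · exact absurd h hsu
    · rw [pow_two]
      calc w * u ^ i * (w * u ^ i) = u ^ (-i) * w * (w * u ^ i) := by rw [hwz]
        _ = u ^ (-i) * (w ^ 2) * u ^ i := by rw [pow_two]; group
        _ = u ^ (-i) * (u ^ M) * u ^ i := by rw [h2]
        _ = u ^ M := by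
          rw [← zpow_natCast u M]
          rw [← zpow_add, ← zpow_add]
          congr 1
          ring
  have hinv : ∀ s ∈ T, s ∉ zpowers u → ∀ d ∈ zpowers u, s * d * s⁻¹ = d⁻¹ := by
    intro s hs hsu d hd
    rcases hform s hs with h | ⟨i, rfl⟩
    · exact absurd h hsu
    · obtain ⟨k, rfl⟩ := mem_zpowers_iff.1 hd
      have h3 : w * u ^ k * w⁻¹ = (u ^ k)⁻¹ := by
        rw [← conj_zpow, h1, inv_zpow]
      have h4 : u ^ i * u ^ k = u ^ k * u ^ i := (Commute.refl u).zpow_zpow i k
      calc w * u ^ i * u ^ k * (w * u ^ i)⁻¹ = w * (u ^ i * u ^ k) * (w * u ^ i)⁻¹ := by group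
        _ = w * (u ^ k * u ^ i) * (w * u ^ i)⁻¹ := by rw [h4]
        _ = w * u ^ k * w⁻¹ := by group
        _ = (u ^ k)⁻¹ := h3
  have hdiff : ∀ s ∈ T, s ∉ zpowers u → ∀ s' ∈ T, s' ∉ zpowers u → s⁻¹ * s' ∈ zpowers u := by
    intro s hs hsu s' hs' hsu'
    rcases hform s hs with h | ⟨i, rfl⟩
    · exact absurd h hsu
    rcases hform s' hs' with h | ⟨j, rfl⟩
    · exact absurd h hsu'
    have : (w * u ^ i)⁻¹ * (w * u ^ j) = u ^ (-i + j) := by
      rw [zpow_add, zpow_neg]
      group
    rw [this]
    exact zpow_mem (mem_zpowers u) _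
  -- centralizing a cyclic subgroup
  have hcyc : ∀ c : G, zpowers c = Q → False := by
    intro c hc
    have hcQ : c ∈ Q := hc ▸ mem_zpowers c
    obtain ⟨k, hk⟩ := two_pow_of_mem T hT2 (hQ hcQ)
    have h3 : g * c * g⁻¹ ∈ zpowers c := by
      rw [hc]
      exact hQconj c hcQ
    have h4 := comm_of_cyc hco hk h3
    apply hgc
    rw [mem_centralizer_iff]
    intro x hx
    rw [← hc] at hx
    obtain ⟨m, rfl⟩ := mem_zpowers_iff.1 (show x ∈ zpowers c from hx)
    exact (comm_zp h4 m).symm
  have hcycle : ∀ C : Subgroup G, C ≤ zpowers u → IsCyclic C := by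
    intro C hC
    haveI : IsCyclic (C.subgroupOf (zpowers u)) := inferInstance
    have e := Subgroup.subgroupOfEquivOfLe hC
    exact isCyclic_of_surjective e.toMonoidHom e.surjective
  by_cases hQA : Q ≤ zpowers u
  · exfalso
    obtain ⟨c, hc⟩ := (Subgroup.isCyclic_iff_exists_zpowers_eq_top Q).1 (hcycle Q hQA)
    exact hcyc c hc
  · obtain ⟨y, hyQ, hyu⟩ := SetLike.not_le_iff_exists.1 hQA
    obtain ⟨c, hc⟩ := (Subgroup.isCyclic_iff_exists_zpowers_eq_top (Q ⊓ zpowers u)).1
      (hcycle _ inf_le_right)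
    have hmemC : ∀ x, x ∈ zpowers c ↔ x ∈ Q ∧ x ∈ zpowers u := by
      intro x
      rw [hc]
      exact Subgroup.mem_inf
    have hcQ : c ∈ Q := ((hmemC c).1 (mem_zpowers c)).1
    have hcu : c ∈ zpowers u := ((hmemC c).1 (mem_zpowers c)).2
    have hyT := hQ hyQ
    have hdec : ∀ q ∈ Q, q ∈ zpowers c ∨ y⁻¹ * q ∈ zpowers c := by
      intro q hq
      by_cases hqu : q ∈ zpowers u
      · left
        exact (hmemC q).2 ⟨hq, hqu⟩
      · right
        exact (hmemC _).2 ⟨mul_mem (inv_mem hyQ) hq, hdiff y hyT hyu q (hQ hq) hqu⟩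
    have hzC : z ∈ zpowers c :=
      (hmemC z).2 ⟨by rw [← hsq y hyT hyu]; exact pow_mem hyQ 2, hzu⟩
    by_cases hc4 : c ^ 4 = 1
    · by_cases hc2 : c ^ 2 = 1
      · -- `Q` is generated by `y`
        exfalso
        obtain ⟨k, hk⟩ := mem_zpowers_iff.1 hzC
        have hzc : c = z := by
          rcases Int.even_or_odd' k with ⟨m, rfl | rfl⟩
          · exfalso
            apply hz1
            rw [← hk, zpow_mul]
            have : c ^ (2 : ℤ) = 1 := by exact_mod_cast hc2
            rw [this, one_zpow]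
          · rw [← hk, zpow_add, zpow_mul]
            have : c ^ (2 : ℤ) = 1 := by exact_mod_cast hc2
            rw [this, one_zpow, one_mul, zpow_one]
        have hcy : c ∈ zpowers y := by
          rw [hzc, ← hsq y hyT hyu]
          exact pow_mem (mem_zpowers y) 2
        have hzy : zpowers c ≤ zpowers y := by
          rw [zpowers_le]
          exact hcy
        apply hcyc y
        apply le_antisymm
        · rw [zpowers_le]
          exact hyQ
        · intro q hq
          rcases hdec q hq with h | h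
          · exact hzy h
          · have h3 := hzy h
            have h4 : q = y * (y⁻¹ * q) := by group
            rw [h4]
            exact mul_mem (mem_zpowers y) h3
      · -- the quaternion case
        have hcz : c ^ 2 = z := by
          obtain ⟨k, rfl⟩ := mem_zpowers_iff.1 hcu
          have h3 : u ^ (4 * k) = 1 := by
            have h4 : ((u ^ k) ^ 4 : G) = u ^ (4 * k) := by
              rw [← zpow_natCast, ← zpow_mul]
              congr 1
              push_cast
              ring
            rw [← h4]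
            exact hc4
          have h5 : ((orderOf u : ℕ) : ℤ) ∣ 4 * k := orderOf_dvd_iff_zpow_eq_one.2 h3
          rw [hord] at h5
          obtain ⟨t, ht⟩ := h5
          have h6 : 2 * k = M * t := by
            push_cast at ht
            linarith
          have h7 : (u ^ k) ^ 2 = z ^ t := by
            rw [hz, ← zpow_natCast (u ^ k), ← zpow_natCast u M, ← zpow_mul, ← zpow_mul]
            congr 1
            push_cast
            linarith
          rw [h7]
          rcases Int.even_or_odd' t with ⟨m, rfl | rfl⟩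
          · exfalso
            apply hc2
            rw [h7, zpow_mul]
            have : z ^ (2 : ℤ) = 1 := by exact_mod_cast hz2
            rw [this, one_zpow]
          · rw [zpow_add, zpow_mul]
            have : z ^ (2 : ℤ) = 1 := by exact_mod_cast hz2
            rw [this, one_zpow, one_mul, zpow_one]
        have hoc : orderOf c = 4 := by
          haveI : Fact (Nat.Prime 2) := ⟨Nat.prime_two⟩
          have := orderOf_eq_prime_pow (p := 2) (n := 1) (x := c)
            (by simpa using hc2) (by simpa using hc4)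
          simpa using this
        apply Cfsg.Agent.Lib.H1Quat.quat_iso (n := 2) (⟨c, hcQ⟩ : Q) (⟨y, hyQ⟩ : Q)
        · rw [Subgroup.orderOf_mk, hoc]
        · exact Subtype.ext (hinv y hyT hyu c hcu)
        · apply Subtype.ext
          show y ^ 2 = c ^ 2
          rw [hcz, hsq y hyT hyu]
        · intro h
          obtain ⟨k, hk⟩ := mem_zpowers_iff.1 h
          have h3 : c ^ k = y := by
            have := congrArg Subtype.val hk
            simpa using this
          apply hyu
          rw [← h3]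
          exact zpow_mem hcu k
        · rintro ⟨q, hq⟩
          rcases hdec q hq with h | h
          · left
            obtain ⟨k, hk⟩ := mem_zpowers_iff.1 h
            exact mem_zpowers_iff.2 ⟨k, Subtype.ext (by simpa using hk)⟩
          · right
            obtain ⟨k, hk⟩ := mem_zpowers_iff.1 h
            exact mem_zpowers_iff.2 ⟨k, Subtype.ext (by simpa using hk)⟩
    · -- large cyclic part
      exfalso
      apply hgc
      have h4 : g * c * g⁻¹ ∈ zpowers c := by
        refine (hmemC _).2 ⟨hQconj c hcQ, ?_⟩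
        by_contra hout
        have h5 := hsq _ (hQ (hQconj c hcQ)) hout
        apply hc4
        have h6 : (g * c * g⁻¹) ^ 4 = 1 := by
          have : (g * c * g⁻¹) ^ 4 = ((g * c * g⁻¹) ^ 2) ^ 2 := by
            rw [← pow_mul]
          rw [this, h5, hz2]
        rw [conj_pow] at h6
        have h7 : c ^ 4 = g⁻¹ * (g * c ^ 4 * g⁻¹) * g := by group
        rw [h7, h6]
        group
      obtain ⟨k, hk⟩ := two_pow_of_mem T hT2 (hQ hcQ)
      have hcomm := comm_of_cyc hco hk h4
      have hyy : g * y * g⁻¹ ∉ zpowers u := by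
        intro hin
        have h5 := (hmemC _).2 ⟨hQconj y hyQ, hin⟩
        obtain ⟨m, hm⟩ := mem_zpowers_iff.1 h5
        have h6 : y = c ^ m := by
          have h7 : y = g⁻¹ * (g * y * g⁻¹) * g := by group
          rw [h7, ← hm]
          have h8 := comm_zp hcomm m
          calc g⁻¹ * c ^ m * g = g⁻¹ * (c ^ m * g) := by group
            _ = g⁻¹ * (g * c ^ m) := by rw [h8]
            _ = c ^ m := by group
        apply hyu
        rw [h6]
        exact zpow_mem hcu m
      have hd : y⁻¹ * (g * y * g⁻¹) ∈ zpowers c :=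
        (hmemC _).2 ⟨mul_mem (inv_mem hyQ) (hQconj y hyQ), hdiff y hyT hyu _ (hQ (hQconj y hyQ)) hyy⟩
      obtain ⟨m, hm⟩ := mem_zpowers_iff.1 hd
      have hgd : g * (y⁻¹ * (g * y * g⁻¹)) = (y⁻¹ * (g * y * g⁻¹)) * g := by
        rw [← hm]
        exact comm_zp hcomm m
      set d := y⁻¹ * (g * y * g⁻¹) with hddef
      have hgyd : g * y * g⁻¹ = y * d := by
        rw [hddef]
        group
      have hpow : ∀ n : ℕ, g ^ n * y * (g ^ n)⁻¹ = y * d ^ n := by
        intro n
        induction n with
        | zero => simp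
        | succ n ih =>
          have h5 : g ^ (n + 1) * y * (g ^ (n + 1))⁻¹ = g * (g ^ n * y * (g ^ n)⁻¹) * g⁻¹ := by
            rw [pow_succ']
            group
          rw [h5, ih]
          have h6 : g * d ^ n = d ^ n * g := (Commute.pow_right hgd n)
          calc g * (y * d ^ n) * g⁻¹ = g * y * (g⁻¹ * g) * d ^ n * g⁻¹ := by group
            _ = (g * y * g⁻¹) * (g * d ^ n) * g⁻¹ := by group
            _ = y * d * (d ^ n * g) * g⁻¹ := by rw [hgyd, h6]
            _ = y * d ^ (n + 1) := by
              rw [pow_succ']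
              group
      have hdr : d ^ orderOf g = 1 := by
        have h5 := hpow (orderOf g)
        rw [pow_orderOf_eq_one] at h5
        simp only [one_mul, inv_one, mul_one] at h5
        exact (mul_eq_left.1 h5.symm)
      have hd1 : d = 1 := eq_one_of_odd_pow T hT2
        (hQ ((hmemC d).1 hd).1) hco hdr
      have hgy : g * y = y * g := by
        have h5 : g * y * g⁻¹ = y := by
          rw [hgyd, hd1, mul_one]
        calc g * y = g * y * g⁻¹ * g := by group
          _ = y * g := by rw [h5]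
      rw [mem_centralizer_iff]
      intro x hx
      rcases hdec x hx with h | h
      · obtain ⟨k', rfl⟩ := mem_zpowers_iff.1 h
        exact (comm_zp hcomm k').symm
      · obtain ⟨k', hk'⟩ := mem_zpowers_iff.1 h
        have h5 : x = y * c ^ k' := by
          rw [hk']
          group
        rw [h5]
        have h6 := comm_zp hcomm k'
        calc y * c ^ k' * g = y * (c ^ k' * g) := by group
          _ = y * (g * c ^ k') := by rw [h6]
          _ = (y * g) * c ^ k' := by group
          _ = (g * y) * c ^ k' := by rw [hgy]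
          _ = g * (y * c ^ k') := by group

theorem result {G : Type*} [Group G] [Finite G] (T : Sylow 2 G) (n : ℕ) (hn : 1 ≤ n) (hT : Nonempty ((T : Subgroup G) ≃* QuaternionGroup (2 ^ n))) : Cfsg.HasNormalPComplement 2 G ∨ ∃ (H K : Subgroup G) (hK : (K.subgroupOf H).Normal), Nonempty ((H ⧸ K.subgroupOf H) ≃* Matrix.SpecialLinearGroup (Fin 2) (ZMod 3)) := by
  classical
  obtain ⟨eT⟩ := hT
  by_cases hsec : ∃ (H K : Subgroup G) (hK : (K.subgroupOf H).Normal), Nonempty ((H ⧸ K.subgroupOf H) ≃* Matrix.SpecialLinearGroup (Fin 2) (ZMod 3))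
  · exact Or.inr hsec
  left
  refine Cfsg.Agent.Lib.PNilp.hasNormalPComplement_of_automizer T fun Q hQ g hg hco => ?_
  by_contra hgc
  apply hsec
  haveI : NeZero (2 ^ n) := ⟨by positivity⟩
  haveI : NeZero (2 * 2 ^ n) := ⟨by positivity⟩
  let ι : QuaternionGroup (2 ^ n) →* G := (T : Subgroup G).subtype.comp eT.symm.toMonoidHom
  have hι : Function.Injective ι := by
    intro x y h
    exact eT.symm.injective (Subtype.ext h)
  have hmem : ∀ x, ι x ∈ (T : Subgroup G) := fun x => (eT.symm x).2
  have hform : ∀ s ∈ (T : Subgroup G), s ∈ zpowers (ι (a 1)) ∨ ∃ i : ℤ, s = ι (xa 0) * ι (a 1) ^ i := by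
    intro s hs
    have hs' : s = ι (eT ⟨s, hs⟩) := by
      simp [ι]
    cases h : eT ⟨s, hs⟩ with
    | a i =>
      left
      rw [hs', h]
      refine mem_zpowers_iff.2 ⟨(i.val : ℤ), ?_⟩
      rw [zpow_natCast, ← map_pow, a_one_pow, ZMod.natCast_zmod_val]
    | xa i =>
      right
      refine ⟨(i.val : ℤ), ?_⟩
      rw [hs', h, zpow_natCast, ← map_pow, ← map_mul, a_one_pow, ZMod.natCast_zmod_val, xa_mul_a, zero_add]
  obtain ⟨E⟩ := quat_sub (T : Subgroup G) T.2 (M := 2 ^ n) (ι (a 1)) (ι (xa 0)) (hmem _) (hmem _)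
    (by
      rw [← map_mul, ← map_inv, ← map_mul, ← map_inv]
      congr 1
      rw [mul_inv_eq_iff_eq_mul]
      have h0 : (a 1 : QuaternionGroup (2 ^ n))⁻¹ = a (-1) := rfl
      rw [h0, xa_mul_a, a_mul_xa]
      simp)
    (by
      rw [← map_pow, ← map_pow, xa_sq, a_one_pow])
    (by
      rw [orderOf_injective ι hι, orderOf_a_one])
    hform Q hQ g hg hco hgc
  exact section_of_q8 Q E g hg hco hgc

end Cfsg.Agent.S0106
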