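import Cfsg.Statements.S0118
import Cfsg.Agent.Lib.LZJF3
-- import your own Cfsg.Agent.* helpers here

set_option autoImplicit false
open Cfsg

namespace Cfsg.Agent.S0118

/-- Glauberman's ZJ-Theorem, in the case of groups with no section isomorphic to SL(2,p), p odd: conjugation of subsets of a Sylow p-subgroup P inside P is always induced from the normalizer of Z(J(P)). -/
theorem result {G : Type*} [Group G] [Finite G] {p : ℕ} [Fact p.Prime] (hp : p ≠ 2) (hfree : ¬ ∃ (H K : Subgroup G) (hK : (K.subgroupOf H).Normal), Nonempty ((H ⧸ K.subgroupOf H) ≃* Matrix.SpecialLinearGroup (Fin 2) (ZMod p))) (P : Sylow p G) (A : Set G) (hA : A ⊆ (P : Set G)) (g : G) (hAg : (fun a => g⁻¹ * a * g) '' A ⊆ (P : Set G)) : ∃ n ∈ Subgroup.normalizer (Cfsg.centerThompsonOf p (P : Subgroup G) : Set G), ∀ a ∈ A, n⁻¹ * a * n = g⁻¹ * a * g := by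
  classical
  have hqd : ¬ Cfsg.Involves ↥(Cfsg.qd p) G := fun h => by
    obtain ⟨K, R, hR, he⟩ := Cfsg.Agent.Lib.LQd.involves_sl2_of_qd h
    exact hfree ⟨K, R, hR, he⟩
  have hL : Cfsg.Agent.Lib.LZJD.DAxioms p (fun G _ T => Cfsg.centerThompsonOf p T) := by
    refine ⟨fun G _ T => Cfsg.Agent.Lib.PZJ.centerThompsonOf_le T,
      fun G H _ _ f T h => Cfsg.Agent.Lib.PZJ.centerThompsonOf_map f T h p,
      fun G _ _ T hT hne => Cfsg.Agent.Lib.PZJ.centerThompsonOf_ne_bot hT hne⟩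
  have hmain := Cfsg.Agent.Lib.LZJF.control_free hp hL (by
    intro G _ _ P D hD hc hst
    exact Cfsg.Agent.Lib.LZJD.centerThompson_normal_D hp hc hst P D hD) _ G rfl hqd P (P : Subgroup G)
    ⟨le_rfl, fun x hx g hg => hg⟩
  have hcl : Subgroup.closure A ≤ (P : Subgroup G) := (Subgroup.closure_le _).2 hA
  have hgcl : ∀ b ∈ Subgroup.closure A, g⁻¹ * b * g⁻¹⁻¹ ∈ (P : Subgroup G) := by
    have : Subgroup.closure A ≤ (P : Subgroup G).comap (MulAut.conj g⁻¹).toMonoidHom := by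
      rw [Subgroup.closure_le]
      intro a ha
      have := hAg ⟨a, ha, rfl⟩
      simpa using this
    intro b hb
    simpa using this hb
  obtain ⟨z, hz, hze⟩ := hmain (Subgroup.closure A) hcl g⁻¹ hgcl
  refine ⟨z⁻¹, inv_mem hz, fun a ha => ?_⟩
  have := hze a (Subgroup.subset_closure ha)
  simpa using this.symm

end Cfsg.Agent.S0118
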