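import Cfsg.Statements.S0214
import Mathlib
import Cfsg.Agent.Lib.InvolSylow

set_option autoImplicit false
open Cfsg

namespace Cfsg.Agent.S0214

open Cfsg.Agent.Lib.Invol Cfsg.Agent.Lib.InvolSylow

variable {G : Type*} [Group G] [Finite G]

omit [Finite G] in
lemma card_conj (D : Subgroup G) (c : G) :
    Nat.card (D.map (MulAut.conj c).toMonoidHom) = Nat.card D :=
  Subgroup.card_map_of_injective (MulAut.conj c).injective

lemma exists_conj_le (H : Subgroup G) (P : Sylow 2 ↥H) (F : Subgroup G) (hFH : F ≤ H)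
    (hF : IsPGroup 2 F) : ∃ h ∈ H, F.map (MulAut.conj h).toMonoidHom ≤ (P : Subgroup ↥H).map H.subtype := by
  have hF' : IsPGroup 2 (F.subgroupOf H) := hF.comap_of_injective H.subtype Subtype.coe_injective
  obtain ⟨Q, hQ⟩ := hF'.exists_le_sylow
  obtain ⟨h, rfl⟩ := MulAction.exists_smul_eq ↥H P Q
  refine ⟨(h⁻¹ : ↥H), (h⁻¹ : ↥H).2, ?_⟩
  rintro y ⟨x, hx, rfl⟩
  have hxH := hFH hx
  have h1 : (⟨x, hxH⟩ : ↥H) ∈ h • P := hQ (Subgroup.mem_subgroupOf.mpr hx)
  have h2 := mem_sylow_smul_iff.mp h1
  refine ⟨_, h2, ?_⟩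
  simp [MulAut.conj_apply]

lemma key (H : Subgroup G) (P : Sylow 2 ↥H)
    (hN : ∀ X : Subgroup ↥H, X ≤ (P : Subgroup ↥H) → X ≠ ⊥ →
      Subgroup.normalizer ((X.map H.subtype : Subgroup G) : Set G) ≤ H) :
    ∀ (k : ℕ) (D : Subgroup G) (c : G), Nat.card ((P : Subgroup ↥H).map H.subtype) - Nat.card D = k →
      D ≤ (P : Subgroup ↥H).map H.subtype → D ≠ ⊥ →
      D.map (MulAut.conj c).toMonoidHom ≤ (P : Subgroup ↥H).map H.subtype → c ∈ H := by
  set Pt : Subgroup G := (P : Subgroup ↥H).map H.subtype with hPt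
  have hPtH : Pt ≤ H := by
    rintro _ ⟨x, -, rfl⟩
    exact x.2
  have hPt2 : IsPGroup 2 Pt := P.isPGroup'.map H.subtype
  -- normalizer hypothesis for subgroups of Pt
  have hN' : ∀ D : Subgroup G, D ≤ Pt → D ≠ ⊥ → Subgroup.normalizer (D : Set G) ≤ H := by
    intro D hD hD1
    have hDH : D ≤ H := hD.trans hPtH
    have h1 := hN (D.subgroupOf H) ?_ ?_
    · rwa [Subgroup.map_subgroupOf_eq_of_le hDH] at h1
    · intro x hx
      have h2 : (x : G) ∈ Pt := hD (Subgroup.mem_subgroupOf.mp hx)
      obtain ⟨y, hy, hyx⟩ := h2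
      have : y = x := Subtype.ext hyx
      rwa [← this]
    · intro h2
      apply hD1
      have := Subgroup.map_subgroupOf_eq_of_le hDH
      rw [h2] at this
      simpa using this.symm
  intro k
  induction k using Nat.strong_induction_on with
  | _ k ih =>
    intro D c hk hD hD1 hDc
    set D' : Subgroup G := D.map (MulAut.conj c).toMonoidHom with hD'
    have hD'card : Nat.card D' = Nat.card D := card_conj D c
    by_cases hfull : D' = Pt
    · -- c normalizes Pt
      have hDfull : D = Pt := by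
        apply Subgroup.eq_of_le_of_card_ge hD
        rw [← hfull, hD'card]
      have hcN : c ∈ Subgroup.normalizer ((Pt : Subgroup G) : Set G) := by
        apply Subgroup.mem_normalizer_fintype
        intro n hn
        have : c * n * c⁻¹ ∈ D' := ⟨n, by rw [hDfull]; exact hn, rfl⟩
        rw [hfull] at this
        exact this
      refine hN' Pt le_rfl ?_ hcN
      intro h
      rw [← hDfull] at h
      exact hD1 h
    · -- normalizer grows
      have hnil : Group.IsNilpotent ↥Pt := hPt2.isNilpotent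
      have hlt : D'.subgroupOf Pt < ⊤ := by
        refine lt_top_iff_ne_top.mpr ?_
        intro h
        apply hfull
        apply le_antisymm hDc
        intro x hx
        have : (⟨x, hx⟩ : ↥Pt) ∈ D'.subgroupOf Pt := by rw [h]; trivial
        exact Subgroup.mem_subgroupOf.mp this
      have hgrow := Group.normalizerCondition_of_isNilpotent (G := ↥Pt) _ hlt
      obtain ⟨⟨y, hyPt⟩, hy1, hy2⟩ := SetLike.exists_of_lt hgrow
      have hyD' : y ∉ D' := fun h => hy2 (Subgroup.mem_subgroupOf.mpr h)
      have hyN : y ∈ Subgroup.normalizer ((D' : Subgroup G) : Set G) := by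
        apply Subgroup.mem_normalizer_fintype
        intro n hn
        have hnPt : n ∈ Pt := hDc hn
        have := (Subgroup.mem_normalizer_iff.mp hy1 ⟨n, hnPt⟩).mp (Subgroup.mem_subgroupOf.mpr hn)
        exact Subgroup.mem_subgroupOf.mp this
      set E : Subgroup G := Pt ⊓ Subgroup.normalizer ((D' : Subgroup G) : Set G) with hE
      have hD'E : D' ≤ E := by
        intro x hx
        refine Subgroup.mem_inf.mpr ⟨hDc hx, ?_⟩
        exact Subgroup.le_normalizer hx
      have hD'lt : Nat.card D' < Nat.card E := by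
        by_contra hcon
        rw [not_lt] at hcon
        have h7 : D' = E := Subgroup.eq_of_le_of_card_ge hD'E hcon
        exact hyD' (h7 ▸ Subgroup.mem_inf.mpr ⟨hyPt, hyN⟩)
      set F : Subgroup G := E.map (MulAut.conj c⁻¹).toMonoidHom with hF
      have hFcard : Nat.card F = Nat.card E := card_conj E c⁻¹
      have hDF : D ≤ F := by
        intro x hx
        refine ⟨c * x * c⁻¹, hD'E ⟨x, hx, rfl⟩, ?_⟩
        simp [MulAut.conj_apply, mul_assoc]
      have hFN : F ≤ Subgroup.normalizer (D : Set G) := by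
        rintro _ ⟨e, he, rfl⟩
        apply Subgroup.mem_normalizer_fintype
        intro x hx
        have he2 := (Subgroup.mem_inf.mp he).2
        have h1 : c * x * c⁻¹ ∈ D' := ⟨x, hx, rfl⟩
        have h2 : e * (c * x * c⁻¹) * e⁻¹ ∈ D' := (Subgroup.mem_normalizer_iff.mp he2 _).mp h1
        obtain ⟨w, hw, hw2⟩ := h2
        have h3 : c⁻¹ * (e * (c * x * c⁻¹) * e⁻¹) * c = w := by
          rw [← hw2]; simp [MulAut.conj_apply, mul_assoc]
        have h4 : (MulAut.conj c⁻¹).toMonoidHom e * x * ((MulAut.conj c⁻¹).toMonoidHom e)⁻¹ = w := by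
          rw [← h3]; simp [MulAut.conj_apply, mul_assoc]
        rw [h4]
        exact hw
      have hFH : F ≤ H := hFN.trans (hN' D hD hD1)
      have hF2 : IsPGroup 2 F := by
        have : IsPGroup 2 E := hPt2.to_le inf_le_left
        exact this.map _
      obtain ⟨h, hh, hh2⟩ := exists_conj_le H P F hFH hF2
      set D₂ : Subgroup G := F.map (MulAut.conj h).toMonoidHom with hD₂
      have hD₂card : Nat.card D₂ = Nat.card F := card_conj F h
      have hD₂1 : D₂ ≠ ⊥ := by
        intro h0
        have h1 : Nat.card D₂ = 1 := by rw [h0]; simp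
        have h2 : Nat.card D = 1 := by
          have h3 : Nat.card D ≤ Nat.card D₂ := by
            rw [hD₂card]; exact Subgroup.card_le_of_le hDF
          have := Nat.card_pos (α := D)
          omega
        exact hD1 (Subgroup.eq_bot_of_card_eq _ h2)
      have hconj : D₂.map (MulAut.conj (c * h⁻¹)).toMonoidHom ≤ Pt := by
        rintro _ ⟨_, ⟨_, ⟨e, he, rfl⟩, rfl⟩, rfl⟩
        refine (Subgroup.mem_inf.mp he).1 |> fun he' => ?_
        have : (MulAut.conj (c * h⁻¹)).toMonoidHom ((MulAut.conj h).toMonoidHom ((MulAut.conj c⁻¹).toMonoidHom e)) = e := by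
          simp [MulAut.conj_apply, mul_assoc]
        rw [this]
        exact he'
      have hlt2 : Nat.card Pt - Nat.card D₂ < k := by
        have h5 : Nat.card D₂ ≤ Nat.card Pt := Subgroup.card_le_of_le hh2
        omega
      have := ih _ hlt2 D₂ (c * h⁻¹) rfl hh2 hD₂1 hconj
      have h6 : c = (c * h⁻¹) * h := by group
      rw [h6]
      exact H.mul_mem this hh

/-- Let H be a proper subgroup of the finite group G and P a nontrivial Sylow 2-subgroup of H. Then H is strongly embedded in G if and only if N_G(X) ≤ H for every nontrivial subgroup X of P. -/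
theorem result {G : Type*} [Group G] [Finite G] (H : Subgroup G) (hH : H ≠ ⊤) (P : Sylow 2 ↥H) (hP : (P : Subgroup ↥H) ≠ ⊥) : Cfsg.IsStronglyEmbedded H ↔ (∀ X : Subgroup ↥H, X ≤ (P : Subgroup ↥H) → X ≠ ⊥ → Subgroup.normalizer ((X.map H.subtype : Subgroup G) : Set G) ≤ H) := by
  have hPnt : IsPGroup 2 ((P : Subgroup ↥H).map H.subtype) := P.isPGroup'.map H.subtype
  constructor
  · rintro ⟨-, -, hodd⟩ X hX hX1 n hn
    by_contra hnH
    have hXt : IsPGroup 2 (X.map H.subtype) := by
      apply IsPGroup.map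
      exact P.isPGroup'.to_le hX
    have hXt1 : X.map H.subtype ≠ ⊥ := by
      intro h
      apply hX1
      rwa [Subgroup.map_eq_bot_iff_of_injective _ Subtype.coe_injective] at h
    have hle : X.map H.subtype ≤ H ⊓ H.map (MulAut.conj n).toMonoidHom := by
      intro x hx
      have hxH : x ∈ H := by
        obtain ⟨y, -, rfl⟩ := hx
        exact y.2
      refine Subgroup.mem_inf.mpr ⟨hxH, mem_conj_iff.mpr ?_⟩
      have hninv : n⁻¹ ∈ Subgroup.normalizer ((X.map H.subtype : Subgroup G) : Set G) := Subgroup.inv_mem _ hn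
      have := (Subgroup.mem_normalizer_iff.mp hninv x).mp hx
      simp only [inv_inv] at this
      obtain ⟨y, -, hy⟩ := this
      rw [← hy]
      exact y.2
    have hdvd := Subgroup.card_dvd_of_le hle
    obtain ⟨k, hk⟩ := IsPGroup.iff_card.mp hXt
    have hk0 : k ≠ 0 := by
      rintro rfl
      apply hXt1
      exact Subgroup.eq_bot_of_card_eq _ (by simpa using hk)
    have h2 : 2 ∣ Nat.card ↥(X.map H.subtype) := by
      rw [hk]; exact dvd_pow_self 2 hk0
    exact (Nat.not_even_iff_odd.mpr (hodd n hnH)) (even_iff_two_dvd.mpr (h2.trans hdvd))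
  · intro hN
    refine ⟨hH, ?_, ?_⟩
    · -- even order
      obtain ⟨k, hk⟩ := IsPGroup.iff_card.mp P.isPGroup'
      have hk0 : k ≠ 0 := by
        rintro rfl
        apply hP
        exact Subgroup.eq_bot_of_card_eq _ (by simpa using hk)
      have h2 : 2 ∣ Nat.card (P : Subgroup ↥H) := by
        rw [hk]; exact dvd_pow_self 2 hk0
      have h3 : Nat.card (P : Subgroup ↥H) ∣ Nat.card H := Subgroup.card_subgroup_dvd_card _
      exact even_iff_two_dvd.mpr (h2.trans h3)
    · intro g hg
      by_contra hodd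
      rw [Nat.not_odd_iff_even] at hodd
      have hd : 2 ∣ Nat.card ↥(H ⊓ H.map (MulAut.conj g).toMonoidHom) := even_iff_two_dvd.mp hodd
      obtain ⟨s, hs⟩ := exists_prime_orderOf_dvd_card' 2 hd
      have hs2 : orderOf (s : G) = 2 := by rw [← Subgroup.orderOf_coe] at hs; exact hs
      obtain ⟨hs1, hs3⟩ := Subgroup.mem_inf.mp s.2
      rw [mem_conj_iff] at hs3
      set t : G := (s : G) with ht
      set t' : G := g⁻¹ * t * g with ht'
      have ht'o : orderOf t' = 2 := by
        have := orderOf_conj' g⁻¹ t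
        rw [hs2] at this
        rw [ht', ← this]
        simp
      have hz : ∀ x : G, orderOf x = 2 → IsPGroup 2 (Subgroup.zpowers x) := by
        intro x hx
        exact isPGroup_zpowers_of_pow (r := 1) (by simpa using sq_eq_one hx)
      have hle : ∀ x ∈ H, Subgroup.zpowers x ≤ H := fun x hx => by
        rwa [Subgroup.zpowers_le]
      obtain ⟨h₁, hh₁, h1⟩ := exists_conj_le H P _ (hle t hs1) (hz t hs2)
      obtain ⟨h₂, hh₂, h2⟩ := exists_conj_le H P _ (hle t' hs3) (hz t' ht'o)
      have hzt : t ∈ Subgroup.zpowers t := Subgroup.mem_zpowers t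
      have hD := key H P hN _ (Subgroup.zpowers t |>.map (MulAut.conj h₁).toMonoidHom) (h₂ * g⁻¹ * h₁⁻¹) rfl h1 ?_ ?_
      · apply hg
        have e : g = h₁⁻¹ * ((h₂ * g⁻¹ * h₁⁻¹)⁻¹) * h₂ := by group
        rw [e]
        exact H.mul_mem (H.mul_mem (H.inv_mem hh₁) (H.inv_mem hD)) hh₂
      · intro h0
        have h3 : (MulAut.conj h₁).toMonoidHom t ∈ (Subgroup.zpowers t).map (MulAut.conj h₁).toMonoidHom :=
          ⟨t, hzt, rfl⟩
        rw [h0] at h3
        have h4 : h₁ * t * h₁⁻¹ = 1 := by simpa [MulAut.conj_apply] using Subgroup.mem_bot.mp h3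
        have h5 : t = 1 := by
          have : t = h₁⁻¹ * (h₁ * t * h₁⁻¹) * h₁ := by group
          rw [this, h4]; group
        exact ne_one_of_two hs2 h5
      · rintro _ ⟨_, ⟨_, ⟨k, rfl⟩, rfl⟩, rfl⟩
        have : (MulAut.conj (h₂ * g⁻¹ * h₁⁻¹)).toMonoidHom ((MulAut.conj h₁).toMonoidHom (t ^ k))
            = (MulAut.conj h₂).toMonoidHom (t' ^ k) := by
          have e1 : t' ^ k = g⁻¹ * t ^ k * g := by
            have := conj_zpow (a := g⁻¹) (b := t) (i := k)
            simp only [inv_inv] at this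
            exact this
          rw [e1]
          simp only [MulEquiv.coe_toMonoidHom, MulAut.conj_apply]
          simp [mul_assoc]
        show (MulAut.conj (h₂ * g⁻¹ * h₁⁻¹)).toMonoidHom ((MulAut.conj h₁).toMonoidHom (t ^ k)) ∈ _
        rw [this]
        exact h2 ⟨t' ^ k, ⟨k, rfl⟩, rfl⟩

end Cfsg.Agent.S0214
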