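import Cfsg.Statements.S0223
import Mathlib

set_option autoImplicit false
open Cfsg

namespace Cfsg.Agent.S0223



/-- Let H be a proper subgroup of even order of the finite group G. Then H is strongly embedded if and only if (i) C_G(t) ≤ H for every involution t of H and (ii) H controls fusion of its involutions: involutions of H conjugate in G are conjugate in H. -/
theorem result {G : Type*} [Group G] [Finite G] (H : Subgroup G) (hH : H ≠ ⊤) (heven : Even (Nat.card H)) : Cfsg.IsStronglyEmbedded H ↔ ((∀ t ∈ H, orderOf t = 2 → Subgroup.centralizer ({t} : Set G) ≤ H) ∧ (∀ t ∈ H, ∀ s ∈ H, orderOf t = 2 → orderOf s = 2 → IsConj t s → ∃ h ∈ H, h * t * h⁻¹ = s)) := by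
  have hinvol : ∀ K : Subgroup G, Odd (Nat.card K) → ∀ t ∈ K, orderOf t ≠ 2 := by
    intro K hK t ht h2
    have h7 : orderOf (⟨t, ht⟩ : K) = 2 := by rw [Subgroup.orderOf_mk]; exact h2
    have h8 : 2 ∣ Nat.card K := h7 ▸ orderOf_dvd_natCard _
    exact (Nat.not_even_iff_odd.mpr hK) (even_iff_two_dvd.mpr h8)
  have hconjmem : ∀ g s : G, s ∈ H.map (MulAut.conj g).toMonoidHom ↔ g⁻¹ * s * g ∈ H := by
    intro g s
    constructor
    · rintro ⟨h, hh, rfl⟩
      simpa [mul_assoc] using hh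
    · intro hs
      exact ⟨g⁻¹ * s * g, hs, by simp [mul_assoc]⟩
  constructor
  · rintro ⟨-, -, hodd⟩
    refine ⟨?_, ?_⟩
    · intro t ht ht2 c hc
      by_contra hcH
      rw [Subgroup.mem_centralizer_singleton_iff] at hc
      refine hinvol _ (hodd c hcH) t (Subgroup.mem_inf.mpr ⟨ht, (hconjmem _ _).mpr ?_⟩) ht2
      have : c⁻¹ * t * c = t := by
        rw [mul_assoc, ← hc]; group
      rwa [this]
    · intro t ht s hs ht2 hs2 hconj
      obtain ⟨g, hg⟩ := isConj_iff.mp hconj
      by_cases hgH : g ∈ H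
      · exact ⟨g, hgH, hg⟩
      · exfalso
        refine hinvol _ (hodd g hgH) s (Subgroup.mem_inf.mpr ⟨hs, (hconjmem _ _).mpr ?_⟩) hs2
        rw [← hg]
        have : g⁻¹ * (g * t * g⁻¹) * g = t := by group
        rwa [this]
  · rintro ⟨hc, hf⟩
    refine ⟨hH, heven, ?_⟩
    intro g hg
    by_contra hodd
    rw [Nat.not_odd_iff_even] at hodd
    have hd : 2 ∣ Nat.card ↥(H ⊓ H.map (MulAut.conj g).toMonoidHom) := even_iff_two_dvd.mp hodd
    obtain ⟨s, hs⟩ := exists_prime_orderOf_dvd_card' 2 hd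
    have hs' : (s : G) ∈ H ⊓ H.map (MulAut.conj g).toMonoidHom := s.2
    have hs2 : orderOf (s : G) = 2 := by rw [← Subgroup.orderOf_coe] at hs; exact hs
    obtain ⟨hs1, hs3⟩ := Subgroup.mem_inf.mp hs'
    rw [hconjmem] at hs3
    set t := g⁻¹ * (s : G) * g with ht
    have ht2 : orderOf t = 2 := by
      have := MulEquiv.orderOf_eq (MulAut.conj g⁻¹) (s : G)
      rw [hs2] at this
      rw [ht, ← this]
      simp [MulAut.conj_apply]
    have hst : IsConj t (s : G) := by
      rw [isConj_iff]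
      exact ⟨g, by rw [ht]; group⟩
    obtain ⟨h, hh, hht⟩ := hf t hs3 s hs1 ht2 hs2 hst
    have hc' : h⁻¹ * g ∈ Subgroup.centralizer ({t} : Set G) := by
      rw [Subgroup.mem_centralizer_singleton_iff]
      have h5 : g * t * g⁻¹ = h * t * h⁻¹ := by rw [hht, ht]; group
      calc h⁻¹ * g * t = h⁻¹ * (g * t * g⁻¹) * g := by group
        _ = h⁻¹ * (h * t * h⁻¹) * g := by rw [h5]
        _ = t * (h⁻¹ * g) := by group
    have := hc t hs3 ht2 hc'
    apply hg
    have h6 : h * (h⁻¹ * g) = g := by group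
    rw [← h6]
    exact H.mul_mem hh this

end Cfsg.Agent.S0223
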