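import Cfsg.Statements.S0224
import Mathlib

set_option autoImplicit false
open Cfsg

namespace Cfsg.Agent.S0224



/-- Let H be a proper subgroup of even order of the finite group G. Then H is strongly embedded if and only if each involution of H fixes exactly one point (namely the coset H) in the action of G on the cosets of H. -/
theorem result {G : Type*} [Group G] [Finite G] (H : Subgroup G) (hH : H ≠ ⊤) (heven : Even (Nat.card H)) : Cfsg.IsStronglyEmbedded H ↔ ∀ t ∈ H, orderOf t = 2 → Nat.card {c : G ⧸ H // t • c = c} = 1 := by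
  classical
  have hinvol : ∀ K : Subgroup G, Odd (Nat.card K) → ∀ t ∈ K, orderOf t ≠ 2 := by
    intro K hK t ht h2
    have h7 : orderOf (⟨t, ht⟩ : K) = 2 := by rw [Subgroup.orderOf_mk]; exact h2
    have h8 : 2 ∣ Nat.card K := h7 ▸ orderOf_dvd_natCard _
    exact (Nat.not_even_iff_odd.mpr hK) (even_iff_two_dvd.mpr h8)
  have hconjmem : ∀ g s : G, s ∈ H.map (MulAut.conj g).toMonoidHom ↔ g⁻¹ * s * g ∈ H := by
    intro g s
    constructor
    · rintro ⟨h, hh, rfl⟩
      simpa [mul_assoc] using hh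
    · intro hs
      exact ⟨g⁻¹ * s * g, hs, by simp [mul_assoc]⟩
  -- fixing a coset
  have hfix : ∀ (t g : G), t • (QuotientGroup.mk g : G ⧸ H) = QuotientGroup.mk g ↔ t ∈ H.map (MulAut.conj g).toMonoidHom := by
    intro t g
    rw [hconjmem, MulAction.Quotient.smul_mk, QuotientGroup.eq, ← inv_mem_iff]
    simp [mul_assoc]
  have hbase : ∀ t ∈ H, t • (QuotientGroup.mk 1 : G ⧸ H) = QuotientGroup.mk 1 := by
    intro t ht
    rw [hfix, hconjmem]
    simpa using ht
  constructor
  · rintro ⟨-, -, hodd⟩ t ht ht2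
    rw [Nat.card_eq_one_iff_unique]
    refine ⟨⟨?_⟩, ⟨⟨QuotientGroup.mk 1, hbase t ht⟩⟩⟩
    rintro ⟨c₁, hc₁⟩ ⟨c₂, hc₂⟩
    apply Subtype.ext
    -- all fixed cosets equal H
    have hall : ∀ c : G ⧸ H, t • c = c → c = QuotientGroup.mk 1 := by
      intro c hc
      induction c using QuotientGroup.induction_on with
      | H g =>
        by_contra hne
        have hg : g ∉ H := by
          intro hg
          apply hne
          rw [QuotientGroup.eq]
          simpa using hg
        rw [hfix] at hc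
        exact hinvol _ (hodd g hg) t (Subgroup.mem_inf.mpr ⟨ht, hc⟩) ht2
    show c₁ = c₂
    rw [hall _ hc₁, hall _ hc₂]
  · intro h
    refine ⟨hH, heven, ?_⟩
    intro g hg
    by_contra hodd
    rw [Nat.not_odd_iff_even] at hodd
    have hd : 2 ∣ Nat.card ↥(H ⊓ H.map (MulAut.conj g).toMonoidHom) := even_iff_two_dvd.mp hodd
    obtain ⟨s, hs⟩ := exists_prime_orderOf_dvd_card' 2 hd
    have hs' : (s : G) ∈ H ⊓ H.map (MulAut.conj g).toMonoidHom := s.2
    have hs2 : orderOf (s : G) = 2 := by rw [← Subgroup.orderOf_coe] at hs; exact hs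
    obtain ⟨hs1, hs3⟩ := Subgroup.mem_inf.mp hs'
    have hone := h s hs1 hs2
    rw [Nat.card_eq_one_iff_unique] at hone
    obtain ⟨hsub, -⟩ := hone
    have h1 : (⟨QuotientGroup.mk 1, hbase s hs1⟩ : {c : G ⧸ H // (s : G) • c = c}) =
        ⟨QuotientGroup.mk g, (hfix s g).mpr hs3⟩ := hsub.elim _ _
    have h2 : (QuotientGroup.mk 1 : G ⧸ H) = QuotientGroup.mk g := congrArg Subtype.val h1
    rw [QuotientGroup.eq] at h2
    apply hg
    simpa using h2

end Cfsg.Agent.S0224
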