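import Cfsg.Statements.S0647
import Cfsg.Agent.Lib.PQuad2
-- import your own Cfsg.Agent.* helpers here

set_option autoImplicit false
open Cfsg

namespace Cfsg.Agent.S0647

/-- For a nonempty family of maximal abelian subgroups of a finite group, the intersection of the family is the centre of the subgroup it generates, which is also the full centralizer of that subgroup. -/
theorem result {S : Type*} [Group S] [Finite S] (𝒜 : Set (Subgroup S)) (hne : 𝒜.Nonempty) (hab : ∀ A ∈ 𝒜, IsMulCommutative A) (hmax : ∀ A ∈ 𝒜, ∀ B : Subgroup S, IsMulCommutative B → A ≤ B → B = A) : sInf 𝒜 = sSup 𝒜 ⊓ Subgroup.centralizer ((sSup 𝒜 : Subgroup S) : Set S) ∧ sInf 𝒜 = Subgroup.centralizer ((sSup 𝒜 : Subgroup S) : Set S) := by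
  classical
  have hC : Subgroup.centralizer ((sSup 𝒜 : Subgroup S) : Set S) ≤ sInf 𝒜 := by
    refine le_sInf fun A hA x hx => ?_
    have hxA : ∀ a ∈ A, a * x = x * a := by
      intro a ha
      exact (Subgroup.mem_centralizer_iff.1 hx) a ((le_sSup hA : A ≤ sSup 𝒜) ha)
    -- `A ⊔ ⟨x⟩` is abelian
    have hle : A ≤ Subgroup.centralizer ({x} : Set S) := by
      intro a ha
      rw [Subgroup.mem_centralizer_singleton_iff]
      exact hxA a ha
    have hab2 : IsMulCommutative ↥(A ⊔ Subgroup.zpowers x) := by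
      have hAb := hab A hA
      have hc1 : Subgroup.zpowers x ≤ Subgroup.centralizer (A : Set S) := by
        rw [Subgroup.zpowers_le, Subgroup.mem_centralizer_iff]
        exact hxA
      have hA2 : ∀ a ∈ A, ∀ b ∈ A, a * b = b * a := fun a ha b hb =>
        congrArg Subtype.val (hAb.is_comm.comm ⟨a, ha⟩ ⟨b, hb⟩)
      refine ⟨⟨fun u v => Subtype.ext ?_⟩⟩
      obtain ⟨a, ha, y, hy, hu⟩ := Cfsg.Agent.Lib.PQuad.mem_sup_of_commute hc1 u.2
      obtain ⟨b, hb, z, hz, hv⟩ := Cfsg.Agent.Lib.PQuad.mem_sup_of_commute hc1 v.2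
      change (u : S) * v = v * u
      rw [hu, hv]
      obtain ⟨k, rfl⟩ := hy
      obtain ⟨l, rfl⟩ := hz
      have e1 : ∀ c ∈ A, ∀ k : ℤ, c * x ^ k = x ^ k * c := fun c hc k =>
        (Commute.zpow_right (show Commute c x from hxA c hc) k).eq
      have e2 : (x ^ k : S) * x ^ l = x ^ l * x ^ k := (Commute.refl x).zpow_zpow k l
      change a * x ^ k * (b * x ^ l) = b * x ^ l * (a * x ^ k)
      calc a * x ^ k * (b * x ^ l) = a * (x ^ k * b) * x ^ l := by group
        _ = a * (b * x ^ k) * x ^ l := by rw [e1 b hb k]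
        _ = (a * b) * (x ^ k * x ^ l) := by group
        _ = (b * a) * (x ^ l * x ^ k) := by rw [hA2 a ha b hb, e2]
        _ = b * (a * x ^ l) * x ^ k := by group
        _ = b * (x ^ l * a) * x ^ k := by rw [e1 a ha l]
        _ = _ := by group
    have h1 := hmax A hA _ hab2 le_sup_left
    rw [← h1]
    exact (le_sup_right : Subgroup.zpowers x ≤ _) (Subgroup.mem_zpowers x)
  have hI : sInf 𝒜 ≤ Subgroup.centralizer ((sSup 𝒜 : Subgroup S) : Set S) := by
    intro x hx
    have hx' : ∀ A ∈ 𝒜, x ∈ A := fun A hA => Subgroup.mem_sInf.1 hx A hA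
    have hle : sSup 𝒜 ≤ Subgroup.centralizer ({x} : Set S) := by
      refine sSup_le fun A hA y hy => ?_
      rw [Subgroup.mem_centralizer_singleton_iff]
      exact congrArg Subtype.val ((hab A hA).is_comm.comm ⟨y, hy⟩ ⟨x, hx' A hA⟩)
    rw [Subgroup.mem_centralizer_iff]
    intro y hy
    have := hle hy
    rw [Subgroup.mem_centralizer_singleton_iff] at this
    exact this
  have hEq : sInf 𝒜 = Subgroup.centralizer ((sSup 𝒜 : Subgroup S) : Set S) := le_antisymm hI hC
  refine ⟨?_, hEq⟩
  apply le_antisymm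
  · refine le_inf ?_ hI
    obtain ⟨A, hA⟩ := hne
    exact (sInf_le hA).trans (le_sSup hA)
  · exact inf_le_right.trans hC

end Cfsg.Agent.S0647
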