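import Cfsg.Statements.S0648
import Mathlib

set_option autoImplicit false
open Cfsg

namespace Cfsg.Agent.S0648

open scoped commutatorElement

theorem lemK1 {G : Type*} [Group G] {b α y a t₀ : G} (h₀ : t₀ = α * y * α⁻¹ * y⁻¹)
    (h1 : a * b * a⁻¹ = b * α) (hy : a * y * a⁻¹ = y)
    (he : a * (b * y * b⁻¹ * y⁻¹) * a⁻¹ = b * y * b⁻¹ * y⁻¹) (htb : t₀ * b = b * t₀) : t₀ = 1 := by
  have h2 : α * y * α⁻¹ = t₀ * y := by rw [h₀]; group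
  have h3 : a * (b * y * b⁻¹ * y⁻¹) * a⁻¹ = (a * b * a⁻¹) * (a * y * a⁻¹) * (a * b * a⁻¹)⁻¹ * (a * y * a⁻¹)⁻¹ := by
    group
  rw [h3, h1, hy] at he
  have h4 : b * α * y * (b * α)⁻¹ * y⁻¹ = t₀ * (b * y * b⁻¹ * y⁻¹) := by
    calc b * α * y * (b * α)⁻¹ * y⁻¹ = b * (α * y * α⁻¹) * b⁻¹ * y⁻¹ := by group
      _ = b * (t₀ * y) * b⁻¹ * y⁻¹ := by rw [h2]
      _ = (b * t₀) * y * b⁻¹ * y⁻¹ := by group
      _ = (t₀ * b) * y * b⁻¹ * y⁻¹ := by rw [htb]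
      _ = t₀ * (b * y * b⁻¹ * y⁻¹) := by group
  rw [h4] at he
  exact mul_eq_right.mp he

theorem lemR {G : Type*} [Group G] {b α β y a t : G} (ht : t = α * β * α⁻¹ * β⁻¹)
    (h1 : a * b * a⁻¹ = b * α) (h2 : a * β * a⁻¹ = β * y)
    (he : a * (b * β * b⁻¹ * β⁻¹) * a⁻¹ = b * β * b⁻¹ * β⁻¹) (hαy : α * y = y * α)
    (htb : t * b = b * t) (hβf : β * (b * y * b⁻¹ * y⁻¹) = (b * y * b⁻¹ * y⁻¹) * β)
    (hte : t * (b * β * b⁻¹ * β⁻¹) = (b * β * b⁻¹ * β⁻¹) * t) : t * (b * y * b⁻¹ * y⁻¹) = 1 := by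
  have h3 : a * (b * β * b⁻¹ * β⁻¹) * a⁻¹ = (a * b * a⁻¹) * (a * β * a⁻¹) * (a * b * a⁻¹)⁻¹ * (a * β * a⁻¹)⁻¹ := by
    group
  rw [h3, h1, h2] at he
  have h5 : y * α⁻¹ = α⁻¹ * y := by
    rw [eq_inv_mul_iff_mul_eq, ← mul_assoc, hαy]; group
  have h6 : α * β * α⁻¹ = t * β := by rw [ht]; group
  have h7 : β * (b * y * b⁻¹ * y⁻¹) * β⁻¹ = b * y * b⁻¹ * y⁻¹ := by rw [hβf]; group
  have hkey : b * α * (β * y) * (b * α)⁻¹ * (β * y)⁻¹ = t * (b * β * b⁻¹ * β⁻¹) * (b * y * b⁻¹ * y⁻¹) := by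
    calc b * α * (β * y) * (b * α)⁻¹ * (β * y)⁻¹
        = b * (α * β * (y * α⁻¹)) * b⁻¹ * y⁻¹ * β⁻¹ := by group
      _ = b * (α * β * (α⁻¹ * y)) * b⁻¹ * y⁻¹ * β⁻¹ := by rw [h5]
      _ = b * ((α * β * α⁻¹) * y) * b⁻¹ * y⁻¹ * β⁻¹ := by group
      _ = b * (t * β * y) * b⁻¹ * y⁻¹ * β⁻¹ := by rw [h6]
      _ = (b * t) * β * y * b⁻¹ * y⁻¹ * β⁻¹ := by group
      _ = (t * b) * β * y * b⁻¹ * y⁻¹ * β⁻¹ := by rw [htb]
      _ = t * (b * β * b⁻¹ * β⁻¹) * (β * (b * y * b⁻¹ * y⁻¹) * β⁻¹) := by group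
      _ = t * (b * β * b⁻¹ * β⁻¹) * (b * y * b⁻¹ * y⁻¹) := by rw [h7]
  rw [hkey, hte, mul_assoc] at he
  exact mul_eq_left.mp he

theorem lemFinal {G : Type*} [Group G] {b α β y₁ y₂ t : G} (ht : t = α * β * α⁻¹ * β⁻¹)
    (hE : α * (β * y₂) = β * (α * y₁)) (htb : t * b = b * t)
    (htβα : t * (β * α) = (β * α) * t)
    (htf : t * (b * y₂ * b⁻¹ * y₂⁻¹) = (b * y₂ * b⁻¹ * y₂⁻¹) * t)
    (hR1 : t * (b * y₂ * b⁻¹ * y₂⁻¹) = 1)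
    (hR2 : t⁻¹ * (b * y₁ * b⁻¹ * y₁⁻¹) = 1) : t ^ 2 = 1 := by
  have h1 : α * β = t * (β * α) := by rw [ht]; group
  have h2 : t * y₂ = y₁ := by
    have h3 : (β * α) * (t * y₂) = (β * α) * y₁ := by
      calc (β * α) * (t * y₂) = ((β * α) * t) * y₂ := by group
        _ = (t * (β * α)) * y₂ := by rw [htβα]
        _ = (α * β) * y₂ := by rw [h1]
        _ = α * (β * y₂) := by group
        _ = β * (α * y₁) := hE
        _ = (β * α) * y₁ := by group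
    exact mul_left_cancel h3
  have h4 : b * y₁ * b⁻¹ * y₁⁻¹ = b * y₂ * b⁻¹ * y₂⁻¹ := by
    rw [← h2]
    calc b * (t * y₂) * b⁻¹ * (t * y₂)⁻¹ = (b * t) * y₂ * b⁻¹ * y₂⁻¹ * t⁻¹ := by group
      _ = (t * b) * y₂ * b⁻¹ * y₂⁻¹ * t⁻¹ := by rw [htb]
      _ = t * (b * y₂ * b⁻¹ * y₂⁻¹) * t⁻¹ := by group
      _ = (b * y₂ * b⁻¹ * y₂⁻¹) * t * t⁻¹ := by rw [htf]
      _ = b * y₂ * b⁻¹ * y₂⁻¹ := by group
  rw [h4] at hR2
  have h5 : b * y₂ * b⁻¹ * y₂⁻¹ = t := by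
    have := (inv_mul_eq_one.mp hR2)
    exact this.symm
  rw [h5] at hR1
  rw [pow_two]
  exact hR1
/-- If A acts on B centralizing [B, B], then [B, A] has derived subgroup central in B, and for abelian A and b ∈ B with [[b, A], A, A] = 1 the derived subgroup of the subgroup [b, A] generated by the commutators of b with A has exponent dividing 2. -/
theorem result {G : Type*} [Group G] [Finite G] (A B : Subgroup G) (hAB : A ≤ Subgroup.normalizer (B : Set G)) (hc : ⁅⁅B, B⁆, A⁆ = ⊥) : ⁅⁅B, A⁆, ⁅B, A⁆⁆ ≤ B ⊓ Subgroup.centralizer (B : Set G) ∧ (IsMulCommutative A → ∀ b ∈ B, ⁅⁅(Subgroup.closure {g : G | ∃ a ∈ A, g = b⁻¹ * a * b * a⁻¹}), A⁆, A⁆ = ⊥ → ∀ w ∈ ⁅(Subgroup.closure {g : G | ∃ a ∈ A, g = b⁻¹ * a * b * a⁻¹}), (Subgroup.closure {g : G | ∃ a ∈ A, g = b⁻¹ * a * b * a⁻¹})⁆, w ^ 2 = 1) := by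

  classical
  have hbconj : ∀ a ∈ A, ∀ u ∈ B, a * u * a⁻¹ ∈ B := fun a ha u hu =>
    (Subgroup.mem_normalizer_iff.mp (hAB ha) u).mp hu
  have hCB : ⁅B, A⁆ ≤ B := by
    rw [Subgroup.commutator_le]
    intro u hu a ha
    rw [commutatorElement_def]
    have : u * a * u⁻¹ * a⁻¹ = u * (a * u⁻¹ * a⁻¹) := by group
    rw [this]
    exact B.mul_mem hu (hbconj a ha _ (B.inv_mem hu))
  have hDB : ⁅B, B⁆ ≤ B := by
    rw [Subgroup.commutator_le]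
    intro u hu v hv
    rw [commutatorElement_def]
    exact B.mul_mem (B.mul_mem (B.mul_mem hu hv) (B.inv_mem hu)) (B.inv_mem hv)
  have hAD : ⁅A, ⁅B, B⁆⁆ = ⊥ := by rw [Subgroup.commutator_comm]; exact hc
  have hDBB : ⁅⁅B, B⁆, B⁆ ≤ ⁅B, B⁆ := Subgroup.commutator_mono hDB le_rfl
  have hCD : ⁅⁅B, A⁆, ⁅B, B⁆⁆ = ⊥ := by
    apply Subgroup.commutator_commutator_eq_bot_of_rotate
    · rw [hAD]; exact Subgroup.commutator_bot_left _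
    · exact le_bot_iff.mp (hc ▸ Subgroup.commutator_mono hDBB le_rfl)
  have hC2 : ⁅⁅⁅B, A⁆, ⁅B, A⁆⁆, B⁆ = ⊥ := by
    have hDC : ⁅⁅B, B⁆, ⁅B, A⁆⁆ = ⊥ := by rw [Subgroup.commutator_comm]; exact hCD
    apply Subgroup.commutator_commutator_eq_bot_of_rotate
    · exact le_bot_iff.mp (hDC ▸ Subgroup.commutator_mono (Subgroup.commutator_mono hCB le_rfl) le_rfl)
    · exact le_bot_iff.mp (hDC ▸ Subgroup.commutator_mono (Subgroup.commutator_mono le_rfl hCB) le_rfl)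
  have hCCc : ⁅⁅B, A⁆, ⁅B, A⁆⁆ ≤ Subgroup.centralizer (B : Set G) :=
    Subgroup.commutator_eq_bot_iff_le_centralizer.mp hC2
  have hCCB : ⁅⁅B, A⁆, ⁅B, A⁆⁆ ≤ B := (Subgroup.commutator_mono hCB hCB).trans hDB
  refine ⟨le_inf hCCB hCCc, ?_⟩
  intro hAc b hb hXA w hw
  set X := Subgroup.closure {g : G | ∃ a ∈ A, g = b⁻¹ * a * b * a⁻¹} with hXdef
  have hAcomm : ∀ a ∈ A, ∀ c ∈ A, a * c = c * a := fun a ha c hc =>
    congrArg Subtype.val (hAc.is_comm.comm (⟨a, ha⟩ : A) ⟨c, hc⟩)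
  let x : G → G := fun a => b⁻¹ * a * b * a⁻¹
  have hxX : ∀ a ∈ A, x a ∈ X := fun a ha => Subgroup.subset_closure ⟨a, ha, rfl⟩
  have hxC : ∀ a ∈ A, x a ∈ ⁅B, A⁆ := by
    intro a ha
    have := Subgroup.commutator_mem_commutator (B.inv_mem hb) ha
    rw [commutatorElement_def, inv_inv] at this
    exact this
  have hXC : X ≤ ⁅B, A⁆ := by
    rw [hXdef, Subgroup.closure_le]
    rintro g ⟨a, ha, rfl⟩
    exact hxC a ha
  have hXB : X ≤ B := hXC.trans hCB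
  have hconjX : ∀ a ∈ A, ∀ u ∈ X, a * u * a⁻¹ ∈ X := by
    intro a ha u hu
    induction hu using Subgroup.closure_induction with
    | mem g hg =>
      obtain ⟨c, hc, rfl⟩ := hg
      have e : a * (b⁻¹ * c * b * c⁻¹) * a⁻¹ = (x a)⁻¹ * x (a * c) := by
        simp only [x]; group
      rw [e]
      exact X.mul_mem (X.inv_mem (hxX a ha)) (hxX _ (A.mul_mem ha hc))
    | one => simp [X.one_mem]
    | mul g h _ _ ig ih =>
      have e : a * (g * h) * a⁻¹ = (a * g * a⁻¹) * (a * h * a⁻¹) := by group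
      rw [e]
      exact X.mul_mem ig ih
    | inv g _ ig =>
      have e : a * g⁻¹ * a⁻¹ = (a * g * a⁻¹)⁻¹ := by group
      rw [e]
      exact X.inv_mem ig
  have hDc : ∀ d ∈ ⁅B, B⁆, ∀ a ∈ A, a * d * a⁻¹ = d := by
    intro d hd a ha
    have := Subgroup.commutator_eq_bot_iff_le_centralizer.mp hc hd
    rw [Subgroup.mem_centralizer_iff] at this
    rw [this a ha]
    group
  have hCDc : ∀ u ∈ ⁅B, A⁆, ∀ d ∈ ⁅B, B⁆, u * d = d * u := by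
    intro u hu d hd
    have := Subgroup.commutator_eq_bot_iff_le_centralizer.mp hCD hu
    rw [Subgroup.mem_centralizer_iff] at this
    exact (this d hd).symm
  have hTc : ∀ t ∈ ⁅⁅B, A⁆, ⁅B, A⁆⁆, ∀ u ∈ B, t * u = u * t := by
    intro t ht u hu
    have := hCCc ht
    rw [Subgroup.mem_centralizer_iff] at this
    exact (this u hu).symm
  have hyA : ∀ u ∈ X, ∀ a ∈ A, ∀ a' ∈ A,
      a' * (u⁻¹ * (a * u * a⁻¹)) * a'⁻¹ = u⁻¹ * (a * u * a⁻¹) := by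
    intro u hu a ha a' ha'
    have h1 : u⁻¹ * (a * u * a⁻¹) ∈ ⁅X, A⁆ := by
      have := Subgroup.commutator_mem_commutator (X.inv_mem hu) ha
      rw [commutatorElement_def, inv_inv] at this
      have e : u⁻¹ * (a * u * a⁻¹) = u⁻¹ * a * u * a⁻¹ := by group
      rw [e]
      exact this
    have := Subgroup.commutator_eq_bot_iff_le_centralizer.mp hXA h1
    rw [Subgroup.mem_centralizer_iff] at this
    rw [this a' ha']
    group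
  have hyX : ∀ u ∈ X, ∀ a ∈ A, u⁻¹ * (a * u * a⁻¹) ∈ X := fun u hu a ha =>
    X.mul_mem (X.inv_mem hu) (hconjX a ha u hu)
  have ha1 : ∀ a ∈ A, a * b * a⁻¹ = b * x a := by
    intro a _
    simp only [x]
    group
  have hdb : ∀ u ∈ B, b * u * b⁻¹ * u⁻¹ ∈ ⁅B, B⁆ := by
    intro u hu
    have := Subgroup.commutator_mem_commutator hb hu
    rwa [commutatorElement_def] at this
  have hcc : ∀ u ∈ ⁅B, A⁆, ∀ v ∈ ⁅B, A⁆, u * v * u⁻¹ * v⁻¹ ∈ ⁅⁅B, A⁆, ⁅B, A⁆⁆ := by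
    intro u hu v hv
    have := Subgroup.commutator_mem_commutator hu hv
    rwa [commutatorElement_def] at this
  have hcomm : ∀ a ∈ A, ∀ u ∈ X, ∀ a' ∈ A,
      x a * (u⁻¹ * (a' * u * a'⁻¹)) = (u⁻¹ * (a' * u * a'⁻¹)) * x a := by
    intro a ha u hu a' ha'
    have hyX' := hyX u hu a' ha'
    have h0 := lemK1 (b := b) (α := x a) (y := u⁻¹ * (a' * u * a'⁻¹)) (a := a) rfl (ha1 a ha)
      (hyA u hu a' ha' a ha) (hDc _ (hdb _ (hXB hyX')) a ha)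
      (hTc _ (hcc _ (hxC a ha) _ (hXC hyX')) b hb)
    have h1 := mul_inv_eq_one.mp h0
    exact mul_inv_eq_iff_eq_mul.mp h1
  have hmain : ∀ a ∈ A, ∀ c ∈ A, (x a * x c * (x a)⁻¹ * (x c)⁻¹) ^ 2 = 1 := by
    intro a ha c hc
    have hαX := hxX a ha
    have hβX := hxX c hc
    have hαC := hxC a ha
    have hβC := hxC c hc
    have hαB := hCB hαC
    have hβB := hCB hβC
    have hy₂X := hyX (x c) hβX a ha
    have hy₁X := hyX (x a) hαX c hc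
    have h2 : a * x c * a⁻¹ = x c * ((x c)⁻¹ * (a * x c * a⁻¹)) := by group
    have h2' : c * x a * c⁻¹ = x a * ((x a)⁻¹ * (c * x a * c⁻¹)) := by group
    have hE : x a * (x c * ((x c)⁻¹ * (a * x c * a⁻¹))) = x c * (x a * ((x a)⁻¹ * (c * x a * c⁻¹))) := by
      rw [← h2, ← h2']
      have e1 : x a * (a * x c * a⁻¹) = x (a * c) := by simp only [x]; group
      have e2 : x c * (c * x a * c⁻¹) = x (c * a) := by simp only [x]; group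
      rw [e1, e2, hAcomm a ha c hc]
    have ht := hcc _ hαC _ hβC
    have ht' := hcc _ hβC _ hαC
    have hR1 := lemR (b := b) (α := x a) (β := x c) (y := (x c)⁻¹ * (a * x c * a⁻¹)) (a := a) rfl
      (ha1 a ha) h2 (hDc _ (hdb _ hβB) a ha) (hcomm a ha _ hβX a ha) (hTc _ ht b hb)
      (hCDc _ hβC _ (hdb _ (hXB hy₂X))) (hTc _ ht _ (hDB (hdb _ hβB)))
    have hR2 := lemR (b := b) (α := x c) (β := x a) (y := (x a)⁻¹ * (c * x a * c⁻¹)) (a := c) rfl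
      (ha1 c hc) h2' (hDc _ (hdb _ hαB) c hc) (hcomm c hc _ hαX c hc) (hTc _ ht' b hb)
      (hCDc _ hαC _ (hdb _ (hXB hy₁X))) (hTc _ ht' _ (hDB (hdb _ hαB)))
    have hinv : x c * x a * (x c)⁻¹ * (x a)⁻¹ = (x a * x c * (x a)⁻¹ * (x c)⁻¹)⁻¹ := by group
    rw [hinv] at hR2
    exact lemFinal rfl hE (hTc _ ht b hb) (hTc _ ht _ (B.mul_mem hβB hαB))
      (hTc _ ht _ (hDB (hdb _ (hXB hy₂X)))) hR1 hR2
  have hXX : ∀ u ∈ X, ∀ v ∈ X, u * v * u⁻¹ * v⁻¹ ∈ ⁅⁅B, A⁆, ⁅B, A⁆⁆ := fun u hu v hv =>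
    hcc u (hXC hu) v (hXC hv)
  have hgen : ∀ v ∈ X, (∀ a ∈ A, (x a * v * (x a)⁻¹ * v⁻¹) ^ 2 = 1) →
      ∀ u ∈ X, (u * v * u⁻¹ * v⁻¹) ^ 2 = 1 := by
    intro v hv hyp u hu
    induction hu using Subgroup.closure_induction with
    | mem g hg =>
      obtain ⟨a, ha, rfl⟩ := hg
      exact hyp a ha
    | one => simp
    | mul u₁ u₂ h₁ h₂ i₁ i₂ =>
      have hz₁ := hXX u₁ h₁ v hv
      have hz₂ := hXX u₂ h₂ v hv
      have e : (u₁ * u₂) * v * (u₁ * u₂)⁻¹ * v⁻¹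
          = (u₂ * v * u₂⁻¹ * v⁻¹) * (u₁ * v * u₁⁻¹ * v⁻¹) := by
        have h3 := hTc _ hz₂ u₁ (hXB h₁)
        calc (u₁ * u₂) * v * (u₁ * u₂)⁻¹ * v⁻¹
            = u₁ * (u₂ * v * u₂⁻¹ * v⁻¹) * (v * u₁⁻¹ * v⁻¹) := by group
          _ = (u₂ * v * u₂⁻¹ * v⁻¹) * u₁ * (v * u₁⁻¹ * v⁻¹) := by rw [← h3]
          _ = (u₂ * v * u₂⁻¹ * v⁻¹) * (u₁ * v * u₁⁻¹ * v⁻¹) := by group
      rw [e, pow_two]
      have h4 := hTc _ hz₂ _ (hCCB hz₁)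
      calc (u₂ * v * u₂⁻¹ * v⁻¹) * (u₁ * v * u₁⁻¹ * v⁻¹) * ((u₂ * v * u₂⁻¹ * v⁻¹) * (u₁ * v * u₁⁻¹ * v⁻¹))
          = (u₂ * v * u₂⁻¹ * v⁻¹) * ((u₁ * v * u₁⁻¹ * v⁻¹) * (u₂ * v * u₂⁻¹ * v⁻¹)) * (u₁ * v * u₁⁻¹ * v⁻¹) := by group
        _ = (u₂ * v * u₂⁻¹ * v⁻¹) * ((u₂ * v * u₂⁻¹ * v⁻¹) * (u₁ * v * u₁⁻¹ * v⁻¹)) * (u₁ * v * u₁⁻¹ * v⁻¹) := by rw [h4]
        _ = (u₂ * v * u₂⁻¹ * v⁻¹) ^ 2 * (u₁ * v * u₁⁻¹ * v⁻¹) ^ 2 := by rw [pow_two, pow_two]; group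
        _ = 1 := by rw [i₁, i₂, one_mul]
    | inv u h₁ i₁ =>
      have hz := hXX u h₁ v hv
      have h3 := hTc _ hz u (hXB h₁)
      have e : u⁻¹ * v * u⁻¹⁻¹ * v⁻¹ = (u * v * u⁻¹ * v⁻¹)⁻¹ := by
        have h5 : u⁻¹ * (u * v * u⁻¹ * v⁻¹)⁻¹ * u = (u * v * u⁻¹ * v⁻¹)⁻¹ := by
          have h6 := hTc _ (Subgroup.inv_mem _ hz) u (hXB h₁)
          rw [mul_assoc, h6]
          group
        rw [← h5]
        group
      rw [e, inv_pow, i₁, inv_one]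
  have hswap : ∀ u v : G, (u * v * u⁻¹ * v⁻¹) ^ 2 = 1 → (v * u * v⁻¹ * u⁻¹) ^ 2 = 1 := by
    intro u v h
    have e : v * u * v⁻¹ * u⁻¹ = (u * v * u⁻¹ * v⁻¹)⁻¹ := by group
    rw [e, inv_pow, h, inv_one]
  have hall : ∀ u ∈ X, ∀ v ∈ X, (u * v * u⁻¹ * v⁻¹) ^ 2 = 1 := by
    intro u hu v hv
    refine hgen v hv ?_ u hu
    intro a ha
    apply hswap
    refine hgen (x a) (hxX a ha) ?_ v hv
    intro c hc
    exact hmain c hc a ha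
  have hwle : ⁅X, X⁆ ≤ ⁅⁅B, A⁆, ⁅B, A⁆⁆ := Subgroup.commutator_mono hXC hXC
  rw [Subgroup.commutator_def] at hw hwle
  induction hw using Subgroup.closure_induction with
  | mem g hg =>
    obtain ⟨u, hu, v, hv, rfl⟩ := hg
    rw [commutatorElement_def]
    exact hall u hu v hv
  | one => simp
  | mul g h hg hh ig ih =>
    have h4 := hTc _ (hwle hh) _ (hCCB (hwle hg))
    rw [pow_two]
    calc g * h * (g * h) = g * (h * g) * h := by group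
      _ = g * (g * h) * h := by rw [h4]
      _ = g ^ 2 * h ^ 2 := by rw [pow_two, pow_two]; group
      _ = 1 := by rw [ig, ih, one_mul]
  | inv g hg ig => rw [inv_pow, ig, inv_one]

end Cfsg.Agent.S0648
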