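import Cfsg.Statements.S0649
import Cfsg.Agent.Lib.PGlaub
-- import your own Cfsg.Agent.* helpers here

set_option autoImplicit false
open Cfsg

namespace Cfsg.Agent.S0649

/-- In the Glauberman replacement situation, if B does not normalize A then some element of B normalizes N_S(A) without normalizing A. -/
theorem result {S : Type*} [Group S] [Finite S] {p : ℕ} [Fact p.Prime] (hS : IsPGroup p S) (B : Subgroup S) [B.Normal] (hB2 : p = 2 → IsMulCommutative B) (A : Subgroup S) (hA : IsMulCommutative A) (hBA : ⁅B, B⁆ ≤ A) (hnot : ¬ B ≤ Subgroup.normalizer (A : Set S)) : ∃ b ∈ B, b ∈ Subgroup.normalizer ((Subgroup.normalizer (A : Set S)) : Set S) ∧ b ∉ Subgroup.normalizer (A : Set S) := by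
  classical
  haveI : Fintype S := Fintype.ofFinite S
  -- N = N_S(A) < N ⊔ B
  set N := Subgroup.normalizer (A : Set S) with hN
  by_contra hcon
  push Not at hcon
  -- hcon : ∀ b ∈ B, b ∈ N(N) → b ∈ N
  have hnil : Group.IsNilpotent S := hS.isNilpotent
  have hlt : N < N ⊔ B := by
    refine lt_of_le_of_ne le_sup_left ?_
    intro h
    exact hnot (le_trans le_sup_right h.symm.le)
  haveI hnil2 : Group.IsNilpotent ↥(N ⊔ B) := (hS.to_subgroup (N ⊔ B)).isNilpotent
  -- normalizer grows inside the subgroup N ⊔ B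
  have hcond := Group.normalizerCondition_of_isNilpotent (G := ↥(N ⊔ B))
  have hNle : N ≤ N ⊔ B := le_sup_left
  have hlt' : N.subgroupOf (N ⊔ B) < ⊤ := by
    rw [lt_top_iff_ne_top]
    intro h
    have := Subgroup.subgroupOf_eq_top.1 h
    exact absurd (le_antisymm hNle this) (ne_of_lt hlt)
  have hgrow := hcond (N.subgroupOf (N ⊔ B)) hlt'
  obtain ⟨y, hy, hyn⟩ := SetLike.exists_of_lt hgrow
  obtain ⟨y, hyS⟩ := y
  have hyN : y ∉ N := fun h => hyn (Subgroup.mem_subgroupOf.2 h)
  -- y = n * b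
  obtain ⟨n, hn, b, hb, rfl⟩ : ∃ n ∈ N, ∃ b ∈ B, n * b = y := by
    obtain ⟨n, hn, b, hb, e⟩ := Subgroup.mem_sup_of_normal_right.1 hyS
    exact ⟨n, hn, b, hb, e⟩
  have hyNN : n * b ∈ Subgroup.normalizer (N : Set S) := by
    refine Cfsg.Agent.Lib.PGlaub.mem_normalizer_of_conj_mem ?_
    intro k hk
    have hk' : (⟨k, hNle hk⟩ : ↥(N ⊔ B)) ∈ N.subgroupOf (N ⊔ B) := Subgroup.mem_subgroupOf.2 hk
    have := (Subgroup.mem_normalizer_iff.1 hy _).1 hk'
    exact Subgroup.mem_subgroupOf.1 this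
  have hnN : n ∈ Subgroup.normalizer (N : Set S) := Subgroup.le_normalizer hn
  have hbN : b ∈ Subgroup.normalizer (N : Set S) := by
    have := mul_mem (inv_mem hnN) hyNN
    simpa using this
  exact hyN (mul_mem hn (hcon b hb hbN))

end Cfsg.Agent.S0649
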