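import Cfsg.Statements.S0994
import Cfsg.Agent.Lib.H1Small2

set_option autoImplicit false
open Cfsg

namespace Cfsg.Agent.S0994

/-- No finite simple group has order 1188 = 2^2 * 3^3 * 11. -/
theorem result {G : Type*} [Group G] [Finite G] [IsSimpleGroup G] : Nat.card G ≠ 1188 := by
  intro h
  have h11 : Fact (Nat.Prime 11) := ⟨by norm_num⟩
  obtain ⟨P⟩ : Nonempty (Sylow 11 G) := inferInstance
  obtain ⟨h1, h2, h3, h4⟩ := Cfsg.Agent.Lib.H1Small.sylow_data (p := 11) 1 108 (by rw [h]; norm_num) (by norm_num) P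
  have hne := Cfsg.Agent.Lib.H1Small.sylow_card_ne_one P (by rw [h1]; norm_num) (by rw [h1, h]; norm_num)
  have hle := Nat.le_of_dvd (by norm_num) h2
  generalize hn : Nat.card (Sylow 11 G) = n at *
  have hn12 : n = 12 := by
    interval_cases n <;> simp_all <;> omega
  subst hn12
  exact Cfsg.Agent.Lib.H1Small.false_of_prime_sylow (p := 11) 108 9 (by omega) (by norm_num) (by norm_num)
    (by rw [hn]) (by norm_num)

end Cfsg.Agent.S0994
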