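import Cfsg.Statements.S1250
import Mathlib
import Cfsg.Agent.Lib.SylowTools

set_option autoImplicit false
open Cfsg

namespace Cfsg.Agent.S1250

open Cfsg.Agent.Lib.InvolSylow Cfsg.Agent.Lib.SylowTools

/-- Let S be a Sylow p-subgroup of the finite group G, A ≤ S strongly closed in S, and N a normal subgroup. Then the image of A in G ⧸ N is strongly closed in the image of S (which is a Sylow p-subgroup of G ⧸ N). -/
theorem result {G : Type*} [Group G] [Finite G] {p : ℕ} [Fact p.Prime] (S : Sylow p G) (A : Subgroup G) (hA : Cfsg.IsStronglyClosed A (S : Subgroup G)) (N : Subgroup G) [N.Normal] : Cfsg.IsStronglyClosed (A.map (QuotientGroup.mk' N)) ((S : Subgroup G).map (QuotientGroup.mk' N)) := by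
  refine ⟨Subgroup.map_mono hA.1, ?_⟩
  rintro _ ⟨a, ha, rfl⟩ q hq
  induction q using QuotientGroup.induction_on with
  | H g =>
    -- w = g a g⁻¹ lies in S N
    set w := g * a * g⁻¹ with hw
    have hSa : a ∈ (S : Subgroup G) := hA.1 ha
    obtain ⟨k, hk⟩ := IsPGroup.iff_orderOf.mp S.isPGroup' ⟨a, hSa⟩
    rw [Subgroup.orderOf_mk] at hk
    have hwp : IsPGroup p (Subgroup.zpowers w) := by
      apply isPGroup_zpowers_of_pow (r := k)
      rw [hw, conj_pow, ← hk, pow_orderOf_eq_one]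
      simp
    have hq' : (QuotientGroup.mk w : G ⧸ N) ∈ (S : Subgroup G).map (QuotientGroup.mk' N) := by
      have e : (QuotientGroup.mk w : G ⧸ N) = (QuotientGroup.mk g : G ⧸ N) * (QuotientGroup.mk' N a) * (QuotientGroup.mk g : G ⧸ N)⁻¹ := by
        simp [hw]
      rw [e]; exact hq
    obtain ⟨s, hs, hsw⟩ := hq'
    have hsw' : s⁻¹ * w ∈ N := by
      exact QuotientGroup.eq.mp hsw
    -- the subgroup S ⊔ N
    set H := (S : Subgroup G) ⊔ N with hH
    have hwH : w ∈ H := by
      have : w = s * (s⁻¹ * w) := by group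
      rw [this]
      exact H.mul_mem (Subgroup.mem_sup_left hs) (Subgroup.mem_sup_right hsw')
    have hSH : (S : Subgroup G) ≤ H := le_sup_left
    -- S is a Sylow subgroup of H
    let P : Sylow p ↥H := S.subtype hSH
    have hPimg : (P : Subgroup ↥H).map H.subtype = (S : Subgroup G) := by
      rw [Sylow.coe_subtype, Subgroup.map_subgroupOf_eq_of_le hSH]
    obtain ⟨m, hmH, hm⟩ := exists_conj_le_image H P (Subgroup.zpowers w) (by
      rw [Subgroup.zpowers_le]; exact hwH) hwp
    rw [hPimg] at hm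
    have hmw : m * w * m⁻¹ ∈ (S : Subgroup G) := hm ⟨w, Subgroup.mem_zpowers w, rfl⟩
    -- write m = s' n'
    have hmem : m ∈ H := hmH
    rw [hH] at hmem
    have hmem' : m ∈ ((S : Subgroup G) ⊔ N : Subgroup G).carrier := hmem
    change m ∈ (↑((S : Subgroup G) ⊔ N) : Set G) at hmem'
    rw [Subgroup.mul_normal] at hmem'
    obtain ⟨s', hs', n', hn', hmeq⟩ := Set.mem_mul.mp hmem'
    have h1 : n' * w * n'⁻¹ ∈ (S : Subgroup G) := by
      have e : n' * w * n'⁻¹ = s'⁻¹ * (m * w * m⁻¹) * s' := by rw [← hmeq]; group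
      rw [e]
      exact Subgroup.mul_mem _ (Subgroup.mul_mem _ (Subgroup.inv_mem _ hs') hmw) hs'
    have h2 : n' * w * n'⁻¹ ∈ A := by
      have e : n' * w * n'⁻¹ = (n' * g) * a * (n' * g)⁻¹ := by rw [hw]; group
      rw [e] at h1 ⊢
      exact hA.2 a ha _ h1
    -- in the quotient
    have h3 : (QuotientGroup.mk' N) (n' * w * n'⁻¹) = (QuotientGroup.mk w : G ⧸ N) := by
      have hn1 : (QuotientGroup.mk n' : G ⧸ N) = 1 := (QuotientGroup.eq_one_iff _).mpr hn'
      simp [hn1]
    have e : (QuotientGroup.mk g : G ⧸ N) * (QuotientGroup.mk' N a) * (QuotientGroup.mk g : G ⧸ N)⁻¹ = QuotientGroup.mk w := by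
      simp [hw]
    rw [e, ← h3]
    exact ⟨_, h2, rfl⟩

end Cfsg.Agent.S1250
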