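import Cfsg.Statements.S1251
import Mathlib
import Cfsg.Agent.Lib.H9ZX

set_option autoImplicit false
open Cfsg

namespace Cfsg.Agent.S1251



/-- Let S be a Sylow 2-subgroup of the finite group G and A ≤ S strongly closed in S. If H is a subgroup normalized by A with no nontrivial normal subgroup of odd order and A ∩ H = 1, then A ≤ C_G(H). -/
theorem result {G : Type*} [Group G] [Finite G] (S : Sylow 2 G) (A : Subgroup G) (hA : Cfsg.IsStronglyClosed A (S : Subgroup G)) (H : Subgroup G) (hAH : A ≤ Subgroup.normalizer (H : Set G)) (hO : Cfsg.oddCore ↥H = ⊥) (hdisj : A ⊓ H = ⊥) : A ≤ Subgroup.centralizer (H : Set G) := by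
  intro a ha
  rw [Subgroup.mem_centralizer_iff]
  intro h hh
  exact Cfsg.Agent.Lib.H9ZX.comm_of_strong S A hA H hAH hO hdisj a ha h hh

end Cfsg.Agent.S1251
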