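import Cfsg.Statements.S1292
import Mathlib
import Cfsg.Agent.Lib.Comp3

set_option autoImplicit false
open Cfsg

namespace Cfsg.Agent.S1292

open Cfsg Cfsg.Agent.Lib.H1Core Cfsg.Agent.Lib.H1Fit Cfsg.Agent.Lib.Comp Cfsg.Agent.Lib.Comp2 Cfsg.Agent.Lib.Comp3

theorem mem_normalizer_of_subgroupOf {G : Type*} [Group G] {P T : Subgroup G} (hT : T ≤ P) (g : P)
    (hg : g ∈ Subgroup.normalizer ((T.subgroupOf P : Subgroup P) : Set P)) :
    (g : G) ∈ Subgroup.normalizer (T : Set G) := by
  rw [Subgroup.mem_normalizer_iff]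
  intro y
  by_cases hy : y ∈ P
  · have h1 := (Subgroup.mem_normalizer_iff.mp hg) ⟨y, hy⟩
    constructor
    · intro h2
      have h3 := h1.mp (Subgroup.mem_subgroupOf.mpr h2)
      exact Subgroup.mem_subgroupOf.mp h3
    · intro h2
      have h3 := h1.mpr (Subgroup.mem_subgroupOf.mpr h2)
      exact Subgroup.mem_subgroupOf.mp h3
  · constructor
    · intro h2
      exact absurd (hT h2) hy
    · intro h2
      exfalso
      apply hy
      have h3 := hT h2
      have h4 : y = (g : G)⁻¹ * ((g : G) * y * (g : G)⁻¹) * (g : G) := by group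
      rw [h4]
      exact mul_mem (mul_mem (inv_mem g.2) h3) g.2

theorem mem_normalizer_subgroupOf' {G : Type*} [Group G] {P T : Subgroup G} (g : P)
    (hg : (g : G) ∈ Subgroup.normalizer (T : Set G)) :
    g ∈ Subgroup.normalizer ((T.subgroupOf P : Subgroup P) : Set P) := by
  rw [Subgroup.mem_normalizer_iff]
  intro y
  have h1 := (Subgroup.mem_normalizer_iff.mp hg) (y : G)
  constructor
  · intro h2
    exact Subgroup.mem_subgroupOf.mpr (h1.mp (Subgroup.mem_subgroupOf.mp h2))
  · intro h2
    exact Subgroup.mem_subgroupOf.mpr (h1.mpr (Subgroup.mem_subgroupOf.mp h2))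

/-- Let G be a finite group such that F*(C_G(t)) = O_2(C_G(t)) for every involution t. Then F*(N_G(T)) = O_2(N_G(T)) for every nontrivial 2-subgroup T of G. -/
theorem result {G : Type*} [Group G] [Finite G] (h : ∀ t : G, orderOf t = 2 → Cfsg.generalizedFittingSubgroup ↥(Subgroup.centralizer ({t} : Set G)) = Cfsg.pCore 2 ↥(Subgroup.centralizer ({t} : Set G))) (T : Subgroup G) (hT : IsPGroup 2 ↥T) (hT1 : T ≠ ⊥) : Cfsg.generalizedFittingSubgroup ↥(Subgroup.normalizer (T : Set G)) = Cfsg.pCore 2 ↥(Subgroup.normalizer (T : Set G)) := by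
  haveI : Fact (Nat.Prime 2) := ⟨Nat.prime_two⟩
  -- a central involution
  have hTnt : Nontrivial T := (Subgroup.nontrivial_iff_ne_bot T).mpr hT1
  haveI := hTnt
  haveI : Nontrivial (Subgroup.center T) := hT.center_nontrivial
  have hZ2 : IsPGroup 2 (Subgroup.center T) := IsPGroup.to_subgroup hT _
  have hdvd : 2 ∣ Nat.card (Subgroup.center T) := by
    obtain ⟨k, hk⟩ := IsPGroup.iff_card.mp hZ2
    have h1 : 1 < Nat.card (Subgroup.center T) := Finite.one_lt_card
    rw [hk] at h1 ⊢
    rcases k with _ | k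
    · simp at h1
    · exact dvd_pow_self 2 (by omega)
  obtain ⟨z, hz⟩ := exists_prime_orderOf_dvd_card' 2 hdvd
  obtain ⟨t, ht⟩ : ∃ t : G, t = ((z : T) : G) := ⟨_, rfl⟩
  have htord : orderOf t = 2 := by
    rw [ht, Subgroup.orderOf_coe, Subgroup.orderOf_coe]
    exact hz
  have htc : ∀ y ∈ T, y * t = t * y := by
    intro y hy
    have h1 := (Subgroup.mem_center_iff.mp z.2) ⟨y, hy⟩
    rw [ht]
    exact congrArg Subtype.val h1
  set C := Subgroup.centralizer ({t} : Set G) with hC
  have hTC : T ≤ C := by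
    intro y hy
    rw [hC, Subgroup.mem_centralizer_iff]
    intro w hw
    rw [Set.mem_singleton_iff] at hw
    rw [hw]
    exact (htc y hy).symm
  have hT₀ : IsPGroup 2 (T.subgroupOf C) := hT.comap_subtype
  obtain ⟨hL₀, hD₀⟩ := Fstar_normalizer_aux (p := 2) (h t htord) (T.subgroupOf C) hT₀
  set N₀ := Subgroup.normalizer ((T.subgroupOf C : Subgroup C) : Set C) with hN₀
  set N := Subgroup.normalizer (T : Set G) with hN
  -- the comparison map
  let f : N₀ →* N :=
    { toFun := fun x => ⟨((x : C) : G), mem_normalizer_of_subgroupOf hTC (x : C) x.2⟩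
      map_one' := rfl
      map_mul' := fun _ _ => rfl }
  have hf : Function.Injective f := by
    intro a b hab
    have h1 : ((a : C) : G) = ((b : C) : G) := congrArg (Subtype.val : N → G) hab
    exact Subtype.ext (Subtype.ext h1)
  have hrange : ∀ y : N, (y : G) ∈ C → y ∈ f.range := by
    intro y hy
    exact ⟨⟨⟨(y : G), hy⟩, mem_normalizer_subgroupOf' _ y.2⟩, rfl⟩
  have hTP : (T.subgroupOf N).Normal := Subgroup.normal_subgroupOf_of_le_normalizer le_rfl
  have hTPp : IsPGroup 2 (T.subgroupOf N) := hT.comap_subtype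
  have hTN : T ≤ N := Subgroup.le_normalizer
  have htN : t ∈ T := by rw [ht]; exact z.1.2
  -- the odd core
  have hDbot : pPrimeCore 2 N = ⊥ := by
    rw [eq_bot_iff]
    intro a ha
    have hac : (a : G) ∈ C := by
      have h1 := comm_of_normal_pgroup_coprime hTP (pPrimeCore_normal 2 N) hTPp
        (pPrimeCore_coprime 2) ⟨t, hTN htN⟩ htN a ha
      have h2 : t * (a : G) = (a : G) * t := congrArg Subtype.val h1
      rw [hC, Subgroup.mem_centralizer_iff]
      intro w hw
      rw [Set.mem_singleton_iff] at hw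
      rw [hw]
      exact h2
    obtain ⟨x, hx⟩ := hrange a hac
    have hD : ((pPrimeCore 2 N).comap f) ≤ pPrimeCore 2 N₀ := by
      apply le_sSup
      refine ⟨Subgroup.Normal.comap (pPrimeCore_normal 2 N) f, ?_⟩
      have h1 : Nat.card ((pPrimeCore 2 N).comap f) ∣ Nat.card (pPrimeCore 2 N) := by
        let g : (pPrimeCore 2 N).comap f →* pPrimeCore 2 N :=
          { toFun := fun w => ⟨f (w : N₀), w.2⟩
            map_one' := Subtype.ext (map_one f)
            map_mul' := fun u v => Subtype.ext (map_mul f (u : N₀) (v : N₀)) }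
        have hinj : Function.Injective g := by
          intro u v huv
          have : f (u : N₀) = f (v : N₀) := congrArg Subtype.val huv
          exact Subtype.ext (hf this)
        exact Subgroup.card_dvd_of_injective g hinj
      exact Nat.Coprime.coprime_dvd_left h1 (pPrimeCore_coprime 2)
    have hxD : x ∈ (pPrimeCore 2 N).comap f := by
      rw [Subgroup.mem_comap, hx]
      exact ha
    have h2 := hD hxD
    rw [hD₀, Subgroup.mem_bot] at h2
    rw [Subgroup.mem_bot, ← hx, h2, map_one]
  -- the layer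
  have hLbot : layer N = ⊥ := by
    rw [layer_eq_bot_iff]
    intro L hL
    have hs : Group.IsSolvable (T.subgroupOf N) := by
      haveI := hTPp.isNilpotent
      infer_instance
    have hcomm := comp_comm_normal_solvable hL hTP hs
    rw [comm_iff] at hcomm
    have hLC : L ≤ f.range := by
      intro l hl
      apply hrange
      rw [hC, Subgroup.mem_centralizer_iff]
      intro w hw
      rw [Set.mem_singleton_iff] at hw
      rw [hw]
      have h1 := hcomm l hl ⟨t, hTN htN⟩ htN
      exact (congrArg Subtype.val h1).symm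
    rw [layer_eq_bot_iff] at hL₀
    apply hL₀ (L.comap f)
    refine ⟨hL.1.comap f, ?_⟩
    have h2 : (L.comap f).map f = L := Subgroup.map_comap_eq_self hLC
    have e := (L.comap f).equivMapOfInjective f hf
    rw [h2] at e
    exact qs_of_equiv e.symm hL.2
  unfold generalizedFittingSubgroup
  rw [hLbot, bot_sup_eq]
  exact fitting_eq_pCore_of_pPrimeCore_eq_bot 2 hDbot

end Cfsg.Agent.S1292
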