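import Cfsg.Statements.S1323
import Mathlib
import Cfsg.Agent.Lib.Comp

set_option autoImplicit false
open Cfsg

namespace Cfsg.Agent.S1323

open Equiv Equiv.Perm

variable {n : ℕ}

lemma swap_mul_mem (a b c : Fin n) (hab : a ≠ b) (hbc : b ≠ c) :
    (swap a b * swap b c : Perm (Fin n)) ∈ alternatingGroup (Fin n) := by
  rw [Equiv.Perm.mem_alternatingGroup, map_mul, sign_swap hab, sign_swap hbc]
  rfl

/-- 3-cycles: `a ↦ b ↦ c ↦ a`. -/
lemma exists_tc (a b c : Fin n) (hab : a ≠ b) (hbc : b ≠ c) (hac : a ≠ c) :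
    ∃ t : alternatingGroup (Fin n), (t : Perm (Fin n)) a = b ∧ (t : Perm (Fin n)) b = c ∧
      (t : Perm (Fin n)) c = a ∧ ∀ x, x ≠ a → x ≠ b → x ≠ c → (t : Perm (Fin n)) x = x := by
  refine ⟨⟨swap a b * swap b c, swap_mul_mem a b c hab hbc⟩, ?_, ?_, ?_, ?_⟩
  · show (swap a b * swap b c) a = b
    rw [Perm.mul_apply, swap_apply_of_ne_of_ne hab hac, swap_apply_left]
  · show (swap a b * swap b c) b = c
    rw [Perm.mul_apply, swap_apply_left, swap_apply_of_ne_of_ne hac.symm hbc.symm]
  · show (swap a b * swap b c) c = a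
    rw [Perm.mul_apply, swap_apply_right, swap_apply_right]
  · intro x h1 h2 h3
    show (swap a b * swap b c) x = x
    rw [Perm.mul_apply, swap_apply_of_ne_of_ne h2 h3, swap_apply_of_ne_of_ne h1 h2]

abbrev LL (n : ℕ) (h4 : 4 ≤ n) : Subgroup (alternatingGroup (Fin n)) :=
  ⨅ i : Fin 4, MulAction.stabilizer ↥(alternatingGroup (Fin n)) (Fin.castLE h4 i : Fin n)

lemma mem_LL {h4 : 4 ≤ n} {x : alternatingGroup (Fin n)} :
    x ∈ LL n h4 ↔ ∀ p : Fin n, p.val < 4 → (x : Perm (Fin n)) p = p := by
  unfold LL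
  rw [Subgroup.mem_iInf]
  constructor
  · intro h p hp
    have := h ⟨p.val, hp⟩
    rw [MulAction.mem_stabilizer_iff] at this
    have h2 : Fin.castLE h4 (⟨p.val, hp⟩ : Fin 4) = p := by ext; rfl
    rw [h2] at this
    exact this
  · intro h i
    rw [MulAction.mem_stabilizer_iff]
    exact h _ (by simp)

/-- In the set `{p | 4 ≤ p}` of size at least 5 any point can be moved by an element of `L`. -/
lemma exists_move_gamma (h4 : 4 ≤ n) (hn : 9 ≤ n) (y z : Fin n) (hy : 4 ≤ y.val) (hz : 4 ≤ z.val) (hyz : y ≠ z) :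
    ∃ l ∈ LL n h4, (l : Perm (Fin n)) y = z := by
  -- choose a third point
  have : ∃ w : Fin n, 4 ≤ w.val ∧ w ≠ y ∧ w ≠ z := by
    by_contra hcon
    push Not at hcon
    have h5 : ∀ i : Fin 5, ∃ b : Bool, (⟨4 + i.val, by omega⟩ : Fin n) = (if b then y else z) := by
      intro i
      by_cases h : (⟨4 + i.val, by omega⟩ : Fin n) = y
      · exact ⟨true, by simpa using h⟩
      · exact ⟨false, by simpa using hcon _ (by simp) h⟩
    choose f hf using h5
    have hinj : Function.Injective f := by
      intro i j hij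
      have h1 := hf i
      have h2 := hf j
      rw [hij] at h1
      have := h1.trans h2.symm
      simp only [Fin.mk.injEq] at this
      ext; omega
    have := Fintype.card_le_of_injective f hinj
    simp at this
  obtain ⟨w, hw, hwy, hwz⟩ := this
  obtain ⟨t, h1, h2, h3, h4'⟩ := exists_tc y z w hyz hwz.symm hwy.symm
  refine ⟨t, mem_LL.2 fun p hp => h4' p ?_ ?_ ?_, h1⟩
  · rintro rfl; omega
  · rintro rfl; omega
  · rintro rfl; omega

lemma exists_other_gamma (h4 : 4 ≤ n) (hn : 9 ≤ n) (y : Fin n) : ∃ z : Fin n, 4 ≤ z.val ∧ z ≠ y := by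
  by_cases h : y.val = 4
  · exact ⟨⟨5, by omega⟩, by simp, fun h2 => by rw [← h2] at h; simp at h⟩
  · exact ⟨⟨4, by omega⟩, by simp, fun h2 => by apply h; rw [← h2]⟩

lemma exists_move_gamma' (h4 : 4 ≤ n) (hn : 9 ≤ n) (y : Fin n) (hy : 4 ≤ y.val) :
    ∃ l ∈ LL n h4, (l : Perm (Fin n)) y ≠ y := by
  obtain ⟨z, hz, hzy⟩ := exists_other_gamma h4 hn y
  obtain ⟨l, hl, h⟩ := exists_move_gamma h4 hn y z hy hz hzy.symm
  exact ⟨l, hl, by rw [h]; exact hzy⟩

/-- elements of `L` fixing a point of Γ and moving another -/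
lemma exists_fix_move (h4 : 4 ≤ n) (hn : 9 ≤ n) (x y : Fin n) (hx : 4 ≤ x.val) (hy : 4 ≤ y.val) (hxy : x ≠ y) :
    ∃ l ∈ LL n h4, (l : Perm (Fin n)) x = x ∧ (l : Perm (Fin n)) y ≠ y := by
  have : ∃ w w' : Fin n, 4 ≤ w.val ∧ 4 ≤ w'.val ∧ w ≠ x ∧ w ≠ y ∧ w' ≠ x ∧ w' ≠ y ∧ w ≠ w' := by
    -- among points 4,5,6,7 choose two outside {x,y}
    by_contra hcon
    push Not at hcon
    have key : ∀ w w' : Fin n, 4 ≤ w.val → 4 ≤ w'.val → w ≠ x → w ≠ y → w' ≠ x → w' ≠ y → w = w' :=
      fun w w' a b c d e f => hcon w w' a b c d e f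
    let p4 : Fin n := ⟨4, by omega⟩
    let p5 : Fin n := ⟨5, by omega⟩
    let p6 : Fin n := ⟨6, by omega⟩
    let p7 : Fin n := ⟨7, by omega⟩
    have hx' : x.val ≠ y.val := fun h => hxy (Fin.ext h)
    have e1 : ∀ (a b : ℕ) (ha : a < n) (hb : b < n), 4 ≤ a → 4 ≤ b → a ≠ x.val → a ≠ y.val → b ≠ x.val → b ≠ y.val → a = b := by
      intro a b ha hb ha4 hb4 h1 h2 h3 h4''
      have := key ⟨a, ha⟩ ⟨b, hb⟩ ha4 hb4 (fun h => h1 (by rw [← h])) (fun h => h2 (by rw [← h])) (fun h => h3 (by rw [← h])) (fun h => h4'' (by rw [← h]))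
      simpa using this
    -- pigeonhole on 4 values
    by_cases h4x : 4 = x.val
    · by_cases h5y : 5 = y.val
      · have := e1 6 7 (by omega) (by omega) (by omega) (by omega) (by omega) (by omega) (by omega) (by omega); omega
      · by_cases h6y : 6 = y.val
        · have := e1 5 7 (by omega) (by omega) (by omega) (by omega) (by omega) (by omega) (by omega) (by omega); omega
        · have := e1 5 6 (by omega) (by omega) (by omega) (by omega) (by omega) h5y (by omega) h6y; omega
    · by_cases h4y : 4 = y.val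
      · by_cases h5x : 5 = x.val
        · have := e1 6 7 (by omega) (by omega) (by omega) (by omega) (by omega) (by omega) (by omega) (by omega); omega
        · by_cases h6x : 6 = x.val
          · have := e1 5 7 (by omega) (by omega) (by omega) (by omega) (by omega) (by omega) (by omega) (by omega); omega
          · have := e1 5 6 (by omega) (by omega) (by omega) (by omega) h5x (by omega) h6x (by omega); omega
      · by_cases h5 : 5 = x.val ∨ 5 = y.val
        · by_cases h6 : 6 = x.val ∨ 6 = y.val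
          · have := e1 4 7 (by omega) (by omega) (by omega) (by omega) (by omega) (by omega) (by omega) (by omega); omega
          · have := e1 4 6 (by omega) (by omega) (by omega) (by omega) (by omega) (by omega) (by omega) (by omega); omega
        · have := e1 4 5 (by omega) (by omega) (by omega) (by omega) (by omega) (by omega) (by omega) (by omega); omega
  obtain ⟨w, w', hw, hw', h1, h2, h3, h5, h6⟩ := this
  obtain ⟨t, t1, t2, t3, t4⟩ := exists_tc y w w' h2.symm h6 h5.symm
  refine ⟨t, mem_LL.2 fun p hp => t4 p ?_ ?_ ?_, t4 x hxy h1.symm h3.symm, ?_⟩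
  · rintro rfl; omega
  · rintro rfl; omega
  · rintro rfl; omega
  · rw [t1]; exact h2

/-- the centralizer of `L`: elements fixing `{p | 4 ≤ p}` pointwise -/
lemma mem_CC (h4 : 4 ≤ n) (hn : 9 ≤ n) {g : alternatingGroup (Fin n)} :
    g ∈ Subgroup.centralizer (LL n h4 : Set (alternatingGroup (Fin n))) ↔
      ∀ p : Fin n, 4 ≤ p.val → (g : Perm (Fin n)) p = p := by
  rw [Subgroup.mem_centralizer_iff]
  constructor
  · intro h x hx
    by_contra hne
    have hcomm : ∀ l ∈ LL n h4, (l : Perm (Fin n)) ((g : Perm (Fin n)) x) = (g : Perm (Fin n)) ((l : Perm (Fin n)) x) := by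
      intro l hl
      have := h l hl
      have h2 := congrArg (fun y : alternatingGroup (Fin n) => (y : Perm (Fin n)) x) this
      simpa using h2
    by_cases hgx : 4 ≤ ((g : Perm (Fin n)) x).val
    · obtain ⟨l, hl, h1, h2⟩ := exists_fix_move h4 hn x _ hx hgx (Ne.symm hne)
      apply h2
      rw [hcomm l hl, h1]
    · obtain ⟨l, hl, h1⟩ := exists_move_gamma' h4 hn x hx
      have h3 := hcomm l hl
      rw [mem_LL.1 hl _ (by omega)] at h3
      exact h1 ((g : Perm (Fin n)).injective h3).symm
  · intro h l hl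
    have hd : Disjoint (l : Perm (Fin n)) (g : Perm (Fin n)) := by
      intro x
      by_cases hx : x.val < 4
      · exact Or.inl (mem_LL.1 hl x hx)
      · exact Or.inr (h x (by omega))
    exact Subtype.ext hd.commute

def St (g : alternatingGroup (Fin n)) : Prop := ∀ p : Fin n, p.val < 4 → ((g : Perm (Fin n)) p).val < 4

lemma St_inv {g : alternatingGroup (Fin n)} (h : St g) : St g⁻¹ := by
  classical
  intro p hp
  let D : Finset (Fin n) := Finset.univ.filter (fun p => p.val < 4)
  have hsub : D.image (g : Perm (Fin n)) ⊆ D := by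
    intro y hy
    obtain ⟨q, hq, rfl⟩ := Finset.mem_image.1 hy
    simp only [D, Finset.mem_filter, Finset.mem_univ, true_and] at hq ⊢
    exact h q hq
  have heq : D.image (g : Perm (Fin n)) = D :=
    Finset.eq_of_subset_of_card_le hsub (by rw [Finset.card_image_of_injective _ (g : Perm (Fin n)).injective])
  have hp' : p ∈ D := by simp [D, hp]
  rw [← heq] at hp'
  obtain ⟨q, hq, rfl⟩ := Finset.mem_image.1 hp'
  simp only [D, Finset.mem_filter, Finset.mem_univ, true_and] at hq
  simpa using hq

lemma coe_conj (g h : alternatingGroup (Fin n)) (x : Fin n) :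
    ((g * h * g⁻¹ : alternatingGroup (Fin n)) : Perm (Fin n)) x =
      (g : Perm (Fin n)) ((h : Perm (Fin n)) (((g⁻¹ : alternatingGroup (Fin n)) : Perm (Fin n)) x)) := rfl

lemma inv_apply_self' (g : alternatingGroup (Fin n)) (x : Fin n) :
    ((g⁻¹ : alternatingGroup (Fin n)) : Perm (Fin n)) ((g : Perm (Fin n)) x) = x := by
  show (g : Perm (Fin n))⁻¹ ((g : Perm (Fin n)) x) = x
  simp

lemma apply_inv_self' (g : alternatingGroup (Fin n)) (x : Fin n) :
    (g : Perm (Fin n)) (((g⁻¹ : alternatingGroup (Fin n)) : Perm (Fin n)) x) = x := by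
  show (g : Perm (Fin n)) ((g : Perm (Fin n))⁻¹ x) = x
  simp

lemma St_conj_LL {h4 : 4 ≤ n} {g : alternatingGroup (Fin n)} (hg : St g) {l : alternatingGroup (Fin n)}
    (hl : l ∈ LL n h4) : g * l * g⁻¹ ∈ LL n h4 := by
  rw [mem_LL] at hl ⊢
  intro p hp
  rw [coe_conj, hl _ (St_inv hg p hp), apply_inv_self']

lemma St_conj_CC {g : alternatingGroup (Fin n)} (hg : St g) {l : alternatingGroup (Fin n)}
    (hl : ∀ p : Fin n, 4 ≤ p.val → (l : Perm (Fin n)) p = p) :
    ∀ p : Fin n, 4 ≤ p.val → ((g * l * g⁻¹ : alternatingGroup (Fin n)) : Perm (Fin n)) p = p := by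
  intro p hp
  have h1 : 4 ≤ (((g⁻¹ : alternatingGroup (Fin n)) : Perm (Fin n)) p).val := by
    by_contra hlt
    have := hg _ (show (((g⁻¹ : alternatingGroup (Fin n)) : Perm (Fin n)) p).val < 4 by omega)
    rw [apply_inv_self'] at this
    omega
  rw [coe_conj, hl _ h1, apply_inv_self']

lemma mem_normalizer_LL (h4 : 4 ≤ n) (hn : 9 ≤ n) {g : alternatingGroup (Fin n)} :
    g ∈ Subgroup.normalizer (LL n h4 : Set (alternatingGroup (Fin n))) ↔ St g := by
  rw [Subgroup.mem_normalizer_iff]
  constructor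
  · intro h p hp
    by_contra hlt
    obtain ⟨l, hl, hl2⟩ := exists_move_gamma' h4 hn _ (show 4 ≤ ((g : Perm (Fin n)) p).val by omega)
    have h2 : g⁻¹ * l * g ∈ LL n h4 := by
      have := (h (g⁻¹ * l * g)).2 (by
        have e : g * (g⁻¹ * l * g) * g⁻¹ = l := by group
        show g * (g⁻¹ * l * g) * g⁻¹ ∈ LL n h4
        rw [e]; exact hl)
      exact this
    have h3 := mem_LL.1 h2 p hp
    apply hl2
    have h5 : ((g⁻¹ * l * g : alternatingGroup (Fin n)) : Perm (Fin n)) p =
       ((g⁻¹ : alternatingGroup (Fin n)) : Perm (Fin n)) ((l : Perm (Fin n)) ((g : Perm (Fin n)) p)) := rfl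
    rw [h5] at h3
    have h6 := congrArg (g : Perm (Fin n)) h3
    rwa [apply_inv_self'] at h6
  · intro hg l
    constructor
    · intro hl
      exact St_conj_LL hg hl
    · intro hl
      have := St_conj_LL (St_inv hg) hl
      have e : g⁻¹ * (g * l * g⁻¹) * g⁻¹⁻¹ = l := by group
      rwa [e] at this

lemma St_of_CC {g : alternatingGroup (Fin n)} (h4 : 4 ≤ n)
    (h : ∀ c : alternatingGroup (Fin n), (∀ p : Fin n, 4 ≤ p.val → (c : Perm (Fin n)) p = p) →
      ∀ p : Fin n, 4 ≤ p.val → ((g * c * g⁻¹ : alternatingGroup (Fin n)) : Perm (Fin n)) p = p) : St g := by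
  intro p hp
  by_contra hlt
  -- a 3-cycle on the first four points moving `p`
  have : ∃ a b : Fin n, a.val < 4 ∧ b.val < 4 ∧ a ≠ p ∧ b ≠ p ∧ a ≠ b := by
    by_cases h0 : p.val = 0
    · exact ⟨⟨1, by omega⟩, ⟨2, by omega⟩, by simp, by simp, fun h => by rw [← h] at h0; simp at h0, fun h => by rw [← h] at h0; simp at h0, by simp⟩
    · by_cases h1 : p.val = 1
      · exact ⟨⟨0, by omega⟩, ⟨2, by omega⟩, by simp, by simp, fun h => by rw [← h] at h1; simp at h1, fun h => by rw [← h] at h1; simp at h1, by simp⟩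
      · exact ⟨⟨0, by omega⟩, ⟨1, by omega⟩, by simp, by simp, fun h => by rw [← h] at h0; simp at h0, fun h => by rw [← h] at h1; simp at h1, by simp⟩
  obtain ⟨a, b, ha, hb, hap, hbp, hab⟩ := this
  obtain ⟨c, c1, c2, c3, c4⟩ := exists_tc p a b hap.symm hab hbp.symm
  have hc : ∀ q : Fin n, 4 ≤ q.val → (c : Perm (Fin n)) q = q := by
    intro q hq
    refine c4 q ?_ ?_ ?_
    · rintro rfl; omega
    · rintro rfl; omega
    · rintro rfl; omega
  have h3 := h c hc _ (show 4 ≤ ((g : Perm (Fin n)) p).val by omega)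
  rw [coe_conj, inv_apply_self', c1] at h3
  exact hap ((g : Perm (Fin n)).injective h3)

lemma mem_normalizer_CC (h4 : 4 ≤ n) (hn : 9 ≤ n) {g : alternatingGroup (Fin n)} :
    g ∈ Subgroup.normalizer (Subgroup.centralizer (LL n h4 : Set (alternatingGroup (Fin n))) : Set (alternatingGroup (Fin n))) ↔ St g := by
  rw [Subgroup.mem_normalizer_iff]
  constructor
  · intro h
    refine St_of_CC h4 fun c hc => ?_
    have := (h c).1 ((mem_CC h4 hn).2 hc)
    exact (mem_CC h4 hn).1 this
  · intro hg l
    constructor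
    · intro hl
      exact (mem_CC h4 hn).2 (St_conj_CC hg ((mem_CC h4 hn).1 hl))
    · intro hl
      have := St_conj_CC (St_inv hg) ((mem_CC h4 hn).1 hl)
      have e : g⁻¹ * (g * l * g⁻¹) * g⁻¹⁻¹ = l := by group
      rw [e] at this
      exact (mem_CC h4 hn).2 this

lemma mem_map_conj {H : Subgroup (alternatingGroup (Fin n))} {g x : alternatingGroup (Fin n)} :
    x ∈ H.map (MulAut.conj g).toMonoidHom ↔ g⁻¹ * x * g ∈ H := by
  constructor
  · rintro ⟨y, hy, rfl⟩
    have e : g⁻¹ * ((MulAut.conj g).toMonoidHom y) * g = y := by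
      simp [MulAut.conj_apply]; group
    rw [e]; exact hy
  · intro h
    exact ⟨_, h, by simp [MulAut.conj_apply]; group⟩

/-- quasisimplicity of `L`. -/
lemma LL_qs (h4 : 4 ≤ n) (hn : 9 ≤ n) : Cfsg.IsQuasisimple (LL n h4) := by
  classical
  let Γ : Fin n → Prop := fun p => 4 ≤ p.val
  have hcard : 5 ≤ Nat.card (Subtype Γ) := by
    have hinj : Function.Injective (fun i : Fin 5 => (⟨⟨4 + i.val, by omega⟩, by simp [Γ]⟩ : Subtype Γ)) := by
      intro i j hij
      have := congrArg (fun y : Subtype Γ => y.1.val) hij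
      simp only at this
      ext; omega
    have := Nat.card_le_card_of_injective _ hinj
    simpa using this
  haveI hs : IsSimpleGroup (alternatingGroup (Subtype Γ)) := alternatingGroup.isSimpleGroup hcard
  -- the isomorphism
  let φ : alternatingGroup (Subtype Γ) →* LL n h4 :=
    { toFun := fun y => ⟨⟨Equiv.Perm.ofSubtype y.1, by
          rw [Equiv.Perm.mem_alternatingGroup, Equiv.Perm.sign_ofSubtype]
          exact y.2⟩, by
          rw [mem_LL]
          intro p hp
          exact Equiv.Perm.ofSubtype_apply_of_not_mem _ (by simp only [Γ]; omega)⟩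
      map_one' := by
        apply Subtype.ext; apply Subtype.ext
        simp
      map_mul' := fun a b => by
        apply Subtype.ext; apply Subtype.ext
        simp }
  have hφinj : Function.Injective φ := by
    intro a b hab
    have h1 : Equiv.Perm.ofSubtype a.1 = Equiv.Perm.ofSubtype b.1 := by
      have := congrArg (fun y : LL n h4 => ((y : alternatingGroup (Fin n)) : Perm (Fin n))) hab
      exact this
    exact Subtype.ext (Equiv.Perm.ofSubtype_injective h1)
  have hφsurj : Function.Surjective φ := by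
    rintro ⟨⟨x, hx⟩, hxL⟩
    have hxf : ∀ p : Fin n, p.val < 4 → x p = p := fun p hp => mem_LL.1 hxL p hp
    have hinv : ∀ a, Γ (x a) ↔ Γ a := by
      intro a
      simp only [Γ]
      constructor
      · intro h
        by_contra hlt
        have := hxf a (by omega)
        rw [this] at h
        omega
      · intro h
        by_contra hlt
        have h2 := hxf (x a) (by omega)
        have := x.injective h2
        rw [this] at hlt
        omega
    have hsupp : ∀ a, x a ≠ a → Γ a := by
      intro a ha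
      by_contra hlt
      exact ha (hxf a (by simp only [Γ] at hlt; omega))
    have e := Equiv.Perm.ofSubtype_subtypePerm hinv hsupp
    refine ⟨⟨x.subtypePerm hinv, ?_⟩, ?_⟩
    · rw [Equiv.Perm.mem_alternatingGroup, ← Equiv.Perm.sign_ofSubtype, e]
      exact hx
    · apply Subtype.ext; apply Subtype.ext
      exact e
  let e : alternatingGroup (Subtype Γ) ≃* LL n h4 := MulEquiv.ofBijective φ ⟨hφinj, hφsurj⟩
  haveI hsL : IsSimpleGroup (LL n h4) := e.symm.isSimpleGroup
  have hnc : ¬ ∀ a b : LL n h4, a * b = b * a := by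
    intro hc
    obtain ⟨l, hl, hl2⟩ := exists_move_gamma' h4 hn ⟨4, by omega⟩ (by simp)
    have : l ∈ Subgroup.centralizer (LL n h4 : Set (alternatingGroup (Fin n))) := by
      rw [Subgroup.mem_centralizer_iff]
      intro m hm
      have := hc ⟨m, hm⟩ ⟨l, hl⟩
      exact congrArg Subtype.val this
    exact hl2 ((mem_CC h4 hn).1 this _ (by simp))
  have hperf : commutator (LL n h4) = ⊤ := by
    haveI hcn : (commutator (LL n h4)).Normal := inferInstance
    rcases hcn.eq_bot_or_eq_top with h | h
    · exfalso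
      apply hnc
      intro a b
      rw [commutator_def, Subgroup.commutator_eq_bot_iff_le_centralizer] at h
      have := h (Subgroup.mem_top b)
      rw [Subgroup.mem_centralizer_iff] at this
      exact this a (Subgroup.mem_top a)
    · exact h
  refine Cfsg.Agent.Lib.Comp.qs_of_normal_central hperf inferInstance ?_
  intro N hN
  rcases hN.eq_bot_or_eq_top with h | h
  · right; rw [h]; exact bot_le
  · left; exact h

/-- For n ≥ 9, the subgroup of the alternating group on Fin n fixing each of the points 0, 1, 2, 3 is a standard subgroup. -/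
theorem result (n : ℕ) (h4 : 4 ≤ n) (hn : 9 ≤ n) : Cfsg.IsStandardSubgroup (⨅ i : Fin 4, MulAction.stabilizer ↥(alternatingGroup (Fin n)) (Fin.castLE h4 i : Fin n)) := by
  have hqs := LL_qs h4 hn
  refine ⟨hqs, ⟨?_, ?_⟩, ?_, ?_⟩
  · -- even order: contains a double transposition
    have hp01 : (⟨0, by omega⟩ : Fin n) ≠ ⟨1, by omega⟩ := by simp
    have hp12 : (⟨1, by omega⟩ : Fin n) ≠ ⟨2, by omega⟩ := by simp
    have hp23 : (⟨2, by omega⟩ : Fin n) ≠ ⟨3, by omega⟩ := by simp
    let x0 : Perm (Fin n) := swap ⟨0, by omega⟩ ⟨1, by omega⟩ * swap ⟨2, by omega⟩ ⟨3, by omega⟩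
    have hx0 : x0 ∈ alternatingGroup (Fin n) := by
      rw [Equiv.Perm.mem_alternatingGroup, map_mul, sign_swap hp01, sign_swap hp23]; rfl
    let x : alternatingGroup (Fin n) := ⟨x0, hx0⟩
    have hxC : x ∈ Subgroup.centralizer (LL n h4 : Set (alternatingGroup (Fin n))) := by
      rw [mem_CC h4 hn]
      intro p hp
      show (swap _ _ * swap _ _ : Perm (Fin n)) p = p
      have h1 : p ≠ (⟨0, by omega⟩ : Fin n) := fun h => by rw [h] at hp; simp at hp
      have h2 : p ≠ (⟨1, by omega⟩ : Fin n) := fun h => by rw [h] at hp; simp at hp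
      have h3 : p ≠ (⟨2, by omega⟩ : Fin n) := fun h => by rw [h] at hp; simp at hp
      have h5 : p ≠ (⟨3, by omega⟩ : Fin n) := fun h => by rw [h] at hp; simp at hp
      rw [Perm.mul_apply, swap_apply_of_ne_of_ne h3 h5, swap_apply_of_ne_of_ne h1 h2]
    have hx1 : x ≠ 1 := by
      intro h
      have := congrArg (fun y : alternatingGroup (Fin n) => (y : Perm (Fin n)) ⟨0, by omega⟩) h
      have e0 : (swap (⟨2, by omega⟩ : Fin n) ⟨3, by omega⟩) ⟨0, by omega⟩ = ⟨0, by omega⟩ :=
        swap_apply_of_ne_of_ne (by simp) (by simp)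
      have h2 : x0 ⟨0, by omega⟩ = ⟨1, by omega⟩ := by
        show (swap _ _ * swap _ _ : Perm (Fin n)) _ = _
        rw [Perm.mul_apply, e0, swap_apply_left]
      have h3 : x0 ⟨0, by omega⟩ = ⟨0, by omega⟩ := this
      rw [h2] at h3
      simp at h3
    have hxx : x ^ 2 = 1 := by
      apply Subtype.ext
      show x0 ^ 2 = 1
      have hd : Disjoint (swap (⟨0, by omega⟩ : Fin n) ⟨1, by omega⟩) (swap (⟨2, by omega⟩ : Fin n) ⟨3, by omega⟩) := by
        intro y
        by_cases h0 : y = ⟨0, by omega⟩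
        · right; rw [h0]; exact swap_apply_of_ne_of_ne (by simp) (by simp)
        · by_cases h1 : y = ⟨1, by omega⟩
          · right; rw [h1]; exact swap_apply_of_ne_of_ne (by simp) (by simp)
          · left; exact swap_apply_of_ne_of_ne h0 h1
      show (swap _ _ * swap _ _ : Perm (Fin n)) ^ 2 = 1
      rw [hd.commute.mul_pow, pow_two, pow_two, swap_mul_self, swap_mul_self, one_mul]
    have hord : orderOf (⟨x, hxC⟩ : Subgroup.centralizer (LL n h4 : Set (alternatingGroup (Fin n)))) = 2 := by
      rw [← Subgroup.orderOf_coe]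
      exact orderOf_eq_prime hxx hx1
    have hdvd := orderOf_dvd_natCard (⟨x, hxC⟩ : Subgroup.centralizer (LL n h4 : Set (alternatingGroup (Fin n))))
    rw [hord] at hdvd
    exact even_iff_two_dvd.2 hdvd
  · intro g hg
    classical
    rw [mem_normalizer_CC h4 hn] at hg
    unfold St at hg
    push Not at hg
    obtain ⟨p, hp, hgp⟩ := hg
    by_contra hodd
    rw [Nat.not_odd_iff_even, even_iff_two_dvd] at hodd
    haveI : Fact (Nat.Prime 2) := ⟨Nat.prime_two⟩
    obtain ⟨x, hx⟩ := exists_prime_orderOf_dvd_card' (G := ↥(Subgroup.centralizer (LL n h4 : Set (alternatingGroup (Fin n))) ⊓ (Subgroup.centralizer (LL n h4 : Set (alternatingGroup (Fin n)))).map (MulAut.conj g).toMonoidHom)) 2 hodd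
    have hy : orderOf (x : alternatingGroup (Fin n)) = 2 := by rw [Subgroup.orderOf_coe]; exact hx
    have hz : orderOf ((x : alternatingGroup (Fin n)) : Perm (Fin n)) = 2 := by rw [Subgroup.orderOf_coe]; exact hy
    have hxC := (mem_CC h4 hn).1 x.2.1
    have hxC2 := (mem_CC h4 hn).1 (mem_map_conj.1 x.2.2)
    let D : Finset (Fin n) := Finset.univ.filter (fun p => p.val < 4)
    have hDcard : D.card ≤ 4 := by
      have : D = (Finset.univ : Finset (Fin 4)).map (Fin.castLEEmb h4) := by
        ext q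
        simp only [D, Finset.mem_filter, Finset.mem_univ, true_and, Finset.mem_map]
        constructor
        · intro hq
          exact ⟨⟨q.val, hq⟩, by ext; rfl⟩
        · rintro ⟨r, -, rfl⟩
          exact r.2
      rw [this]
      simp
    have hpD : p ∈ D := by simp [D, hp]
    have hsupp : ((x : alternatingGroup (Fin n)) : Perm (Fin n)).support ⊆ (D.erase p).image (g : Perm (Fin n)) := by
      intro a ha
      rw [Equiv.Perm.mem_support] at ha
      have ha4 : a.val < 4 := by
        by_contra hlt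
        exact ha (hxC a (by omega))
      let q := ((g⁻¹ : alternatingGroup (Fin n)) : Perm (Fin n)) a
      have hgq : (g : Perm (Fin n)) q = a := apply_inv_self' g a
      have hq4 : q.val < 4 := by
        by_contra hlt
        have h1 := hxC2 q (by omega)
        have h2 : ((g⁻¹ * x * g : alternatingGroup (Fin n)) : Perm (Fin n)) q =
          ((g⁻¹ : alternatingGroup (Fin n)) : Perm (Fin n)) (((x : alternatingGroup (Fin n)) : Perm (Fin n)) ((g : Perm (Fin n)) q)) := rfl
        rw [h2, hgq] at h1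
        have h3 := congrArg (g : Perm (Fin n)) h1
        rw [apply_inv_self', hgq] at h3
        exact ha h3
      refine Finset.mem_image.2 ⟨q, Finset.mem_erase.2 ⟨?_, by simp [D, hq4]⟩, hgq⟩
      rintro rfl
      rw [hgq] at hgp
      omega
    have hcard3 : ((x : alternatingGroup (Fin n)) : Perm (Fin n)).support.card ≤ 3 := by
      calc _ ≤ ((D.erase p).image (g : Perm (Fin n))).card := Finset.card_le_card hsupp
        _ ≤ (D.erase p).card := Finset.card_image_le
        _ = D.card - 1 := Finset.card_erase_of_mem hpD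
        _ ≤ 3 := by omega
    obtain ⟨m, hm⟩ := Equiv.Perm.cycleType_prime_order (σ := ((x : alternatingGroup (Fin n)) : Perm (Fin n))) (by rw [hz]; exact Nat.prime_two)
    rw [hz] at hm
    have hsum := Equiv.Perm.sum_cycleType ((x : alternatingGroup (Fin n)) : Perm (Fin n))
    rw [hm] at hsum
    simp only [Multiset.sum_replicate, smul_eq_mul] at hsum
    have hm0 : m = 0 := by omega
    subst hm0
    have hsign := Equiv.Perm.sign_of_cycleType ((x : alternatingGroup (Fin n)) : Perm (Fin n))
    rw [hm] at hsign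
    have h1 : Equiv.Perm.sign ((x : alternatingGroup (Fin n)) : Perm (Fin n)) = 1 :=
      Equiv.Perm.mem_alternatingGroup.1 (x : alternatingGroup (Fin n)).2
    rw [h1] at hsign
    have h2 : (1 : ℤˣ) = (-1) ^ 3 := by simpa using hsign
    exact absurd h2 (by decide)
  · intro g _ hcomm
    -- a point of Γ whose `g`-preimage is in Γ
    have : ∃ a : Fin n, 4 ≤ a.val ∧ 4 ≤ (((g⁻¹ : alternatingGroup (Fin n)) : Perm (Fin n)) a).val := by
      by_contra hcon
      push Not at hcon
      have hf : ∀ i : Fin 5, (((g⁻¹ : alternatingGroup (Fin n)) : Perm (Fin n)) ⟨4 + i.val, by omega⟩).val < 4 :=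
        fun i => hcon _ (by simp)
      let f : Fin 5 → Fin 4 := fun i => ⟨_, hf i⟩
      have hinj : Function.Injective f := by
        intro i j hij
        have h1 : (((g⁻¹ : alternatingGroup (Fin n)) : Perm (Fin n)) ⟨4 + i.val, by omega⟩) = (((g⁻¹ : alternatingGroup (Fin n)) : Perm (Fin n)) ⟨4 + j.val, by omega⟩) := by
          apply Fin.ext
          have h0 : (f i).val = (f j).val := by rw [hij]
          exact h0
        have h2 := (((g⁻¹ : alternatingGroup (Fin n)) : Perm (Fin n))).injective h1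
        simp only [Fin.mk.injEq] at h2
        ext; omega
      have := Fintype.card_le_of_injective f hinj
      simp at this
    obtain ⟨a, ha, hga⟩ := this
    obtain ⟨l, hl, hl2⟩ := exists_move_gamma' h4 hn _ hga
    have hc : g * l * g⁻¹ ∈ (LL n h4).map (MulAut.conj g).toMonoidHom := ⟨l, hl, rfl⟩
    rw [Subgroup.commutator_eq_bot_iff_le_centralizer] at hcomm
    have h1 : g * l * g⁻¹ ∈ Subgroup.centralizer (LL n h4 : Set (alternatingGroup (Fin n))) := by
      rw [Subgroup.mem_centralizer_iff]
      intro m hm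
      have := hcomm hm
      rw [Subgroup.mem_centralizer_iff] at this
      exact (this _ hc).symm
    have h2 := (mem_CC h4 hn).1 h1 a ha
    rw [coe_conj] at h2
    apply hl2
    have h3 := congrArg (((g⁻¹ : alternatingGroup (Fin n)) : Perm (Fin n))) h2
    rwa [inv_apply_self'] at h3
  · ext g
    rw [mem_normalizer_LL h4 hn, mem_normalizer_CC h4 hn]

end Cfsg.Agent.S1323
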