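import Cfsg.Statements.S1339
import Mathlib
import Cfsg.Agent.Lib.LSpe4
import Cfsg.Agent.Lib.H1Core

set_option autoImplicit false
open Cfsg

namespace Cfsg.Agent.S1339

open Matrix

section
variable {F : Type*} [Field F] [Fintype F] [DecidableEq F] {n : ℕ} {i j : Fin n}

lemma f2_eq_one (hF : Fintype.card F = 2) {x : F} (hx : x ≠ 0) : x = 1 := by
  have := FiniteField.pow_card_sub_one_eq_one x hx
  rw [hF] at this
  simpa using this

lemma f2_add_self (hF : Fintype.card F = 2) (x : F) : x + x = 0 := by
  have h1 : (1 : F) + 1 = 0 := by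
    by_contra h
    have := f2_eq_one hF h
    have h2 : (1 : F) = 0 := by
      have h3 : (1 : F) + 1 = 1 + 0 := by rw [this, add_zero]
      exact add_left_cancel h3
    exact one_ne_zero h2
  calc x + x = x * (1 + 1) := by ring
    _ = 0 := by rw [h1, mul_zero]

lemma comm_single {M : Matrix (Fin n) (Fin n) F}
    (h : (transvection i j (1 : F)) * M = M * (transvection i j (1 : F))) :
    Matrix.single i j (1 : F) * M = M * Matrix.single i j (1 : F) := by
  unfold transvection at h
  rw [add_mul, mul_add, one_mul, mul_one] at h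
  exact add_left_cancel h

lemma col_zero {M : Matrix (Fin n) (Fin n) F}
    (h : Matrix.single i j (1 : F) * M = M * Matrix.single i j (1 : F)) {a : Fin n} (ha : a ≠ i) :
    M a i = 0 := by
  have h1 := congrFun (congrFun h a) j
  rw [Matrix.single_mul_apply_of_ne (1 : F) i j a j ha M, Matrix.mul_single_apply_same (1 : F) i j a M, mul_one] at h1
  exact h1.symm

lemma row_zero {M : Matrix (Fin n) (Fin n) F}
    (h : Matrix.single i j (1 : F) * M = M * Matrix.single i j (1 : F)) {b : Fin n} (hb : b ≠ j) :
    M j b = 0 := by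
  have h1 := congrFun (congrFun h i) b
  rw [Matrix.single_mul_apply_same (1 : F) i j b M, Matrix.mul_single_apply_of_ne (1 : F) i j i b hb M, one_mul] at h1
  exact h1

/-- The map to the middle block (extended by the identity). -/
def blk (i j : Fin n) (M : Matrix (Fin n) (Fin n) F) : Matrix (Fin n) (Fin n) F :=
  Matrix.of fun a b => if a ≠ i ∧ b ≠ j then M a b else (1 : Matrix (Fin n) (Fin n) F) a b

lemma blk_mul (hij : i ≠ j) {M N : Matrix (Fin n) (Fin n) F}
    (hM : ∀ a, a ≠ i → M a i = 0) (hN : ∀ b, b ≠ j → N j b = 0) :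
    blk i j (M * N) = blk i j M * blk i j N := by
  ext a b
  rw [Matrix.mul_apply]
  by_cases ha : a = i
  · subst ha
    have h1 : ∀ c, blk a j M a c * blk a j N c b = (1 : Matrix (Fin n) (Fin n) F) a c * blk a j N c b := by
      intro c
      simp [blk]
    simp only [h1]
    rw [← Matrix.mul_apply, Matrix.one_mul]
    simp [blk]
  · by_cases hb : b = j
    · subst hb
      have h1 : ∀ c, blk i b M a c * blk i b N c b = blk i b M a c * (1 : Matrix (Fin n) (Fin n) F) c b := by
        intro c
        simp [blk]
      simp only [h1]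
      rw [← Matrix.mul_apply, Matrix.mul_one]
      simp [blk]
    · have h0 : blk i j (M * N) a b = (M * N) a b := by simp [blk, ha, hb]
      rw [h0, Matrix.mul_apply]
      refine Finset.sum_congr rfl fun c _ => ?_
      by_cases hci : c = i
      · subst hci
        have h2 : blk c j M a c = M a c := by simp [blk, ha, hij]
        rw [h2, hM a ha]
        simp
      · by_cases hcj : c = j
        · subst hcj
          have h2 : blk i c N c b = N c b := by simp [blk, hb, Ne.symm hij]
          rw [h2, hN b hb]
          simp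
        · have h2 : blk i j M a c = M a c := by simp [blk, ha, hcj]
          have h3 : blk i j N c b = N c b := by simp [blk, hci, hb]
          rw [h2, h3]

lemma blk_one : blk i j (1 : Matrix (Fin n) (Fin n) F) = 1 := by
  ext a b
  simp [blk]

lemma fourth_power (hF : Fintype.card F = 2) (hij : i ≠ j) {M : Matrix (Fin n) (Fin n) F}
    (hb : blk i j M = 1) (hii : M i i = 1) (hjj : M j j = 1) : M * M * (M * M) = 1 := by
  let N : Matrix (Fin n) (Fin n) F := M - 1
  have hMN : M = 1 + N := by simp [N]
  have hN1 : ∀ a b, a ≠ i → b ≠ j → N a b = 0 := by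
    intro a b ha hb'
    have h1 := congrFun (congrFun hb a) b
    have h2 : blk i j M a b = M a b := by simp [blk, ha, hb']
    rw [h2] at h1
    simp [N, h1]
  have hNii : N i i = 0 := by simp [N, hii]
  have hNjj : N j j = 0 := by simp [N, hjj]
  let B : Matrix (Fin n) (Fin n) F := N * N
  have hB : ∀ a b, ¬ (a = i ∧ b = j) → B a b = 0 := by
    intro a b hab
    show (N * N) a b = 0
    rw [Matrix.mul_apply]
    refine Finset.sum_eq_zero fun c _ => ?_
    by_cases ha : a = i
    · have hb' : b ≠ j := fun h => hab ⟨ha, h⟩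
      by_cases hc : c = i
      · subst hc; subst ha; rw [hNii, zero_mul]
      · rw [hN1 c b hc hb', mul_zero]
    · by_cases hc : c = j
      · subst hc
        by_cases hb' : b = c
        · subst hb'; rw [hNjj, mul_zero]
        · rw [hN1 c b (Ne.symm hij) hb', mul_zero]
      · rw [hN1 a c ha hc, zero_mul]
  have hBB : B * B = 0 := by
    ext a b
    rw [Matrix.mul_apply]
    simp only [Matrix.zero_apply]
    refine Finset.sum_eq_zero fun c _ => ?_
    by_cases hc : c = j
    · subst hc
      rw [hB c b (fun h => hij h.1.symm), mul_zero]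
    · rw [hB a c (fun h => hc h.2), zero_mul]
  have hadd : ∀ A : Matrix (Fin n) (Fin n) F, A + A = 0 := by
    intro A
    ext a b
    exact f2_add_self hF _
  have hMM : M * M = 1 + B := by
    show M * M = 1 + N * N
    rw [hMN]
    have : (1 + N) * (1 + N) = 1 + (N + N) + N * N := by
      rw [add_mul, mul_add, mul_add, one_mul, one_mul, mul_one]
      abel
    rw [this, hadd, add_zero]
  rw [hMM, add_mul, mul_add, mul_add, one_mul, one_mul, mul_one, hBB, add_zero]
  rw [add_assoc, hadd, add_zero]

end

/-- Let F be a field with 2 elements, n ≥ 3, and t ∈ SL(n, F) a transvection (t = 1 + E_{ij}, i ≠ j). Then the generalized Fitting subgroup of C(t) is O_2(C(t)). -/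
theorem result {F : Type*} [Field F] [Fintype F] [DecidableEq F] (hF : Fintype.card F = 2) (n : ℕ) (hn : 3 ≤ n) (i j : Fin n) (hij : i ≠ j) (t : Matrix.SpecialLinearGroup (Fin n) F) (ht : (t : Matrix (Fin n) (Fin n) F) = Matrix.transvection i j 1) : Cfsg.generalizedFittingSubgroup ↥(Subgroup.centralizer ({t} : Set (Matrix.SpecialLinearGroup (Fin n) F))) = Cfsg.pCore 2 ↥(Subgroup.centralizer ({t} : Set (Matrix.SpecialLinearGroup (Fin n) F))) := by
  classical
  -- notation
  set X := Subgroup.centralizer ({t} : Set (Matrix.SpecialLinearGroup (Fin n) F)) with hX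
  have hxc : ∀ x : X, Matrix.single i j (1 : F) * ((x : Matrix.SpecialLinearGroup (Fin n) F) : Matrix (Fin n) (Fin n) F) =
      ((x : Matrix.SpecialLinearGroup (Fin n) F) : Matrix (Fin n) (Fin n) F) * Matrix.single i j (1 : F) := by
    intro x
    apply comm_single
    have h := Subgroup.mem_centralizer_iff.1 x.2 t rfl
    have h2 := congrArg (fun y : Matrix.SpecialLinearGroup (Fin n) F => (y : Matrix (Fin n) (Fin n) F)) h
    simp only [Matrix.SpecialLinearGroup.coe_mul] at h2
    rw [ht] at h2
    exact h2
  -- the block hom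
  let ρ : X →* Matrix (Fin n) (Fin n) F :=
    { toFun := fun x => blk i j ((x : Matrix.SpecialLinearGroup (Fin n) F) : Matrix (Fin n) (Fin n) F)
      map_one' := by
        simp [blk_one]
      map_mul' := fun x y => by
        have := blk_mul (F := F) hij (M := ((x : Matrix.SpecialLinearGroup (Fin n) F) : Matrix (Fin n) (Fin n) F))
          (N := ((y : Matrix.SpecialLinearGroup (Fin n) F) : Matrix (Fin n) (Fin n) F))
          (fun a ha => col_zero (hxc x) ha) (fun b hb => row_zero (hxc y) hb)
        simpa using this }
  have hρ : ∀ x : X, ρ x = blk i j ((x : Matrix.SpecialLinearGroup (Fin n) F) : Matrix (Fin n) (Fin n) F) := fun _ => rfl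
  -- diagonal entries
  have hdiag : ∀ x : X, ((x : Matrix.SpecialLinearGroup (Fin n) F) : Matrix (Fin n) (Fin n) F) i i = 1 := by
    intro x
    apply f2_eq_one hF
    intro h0
    have hdet := (x : Matrix.SpecialLinearGroup (Fin n) F).2
    have : ((x : Matrix.SpecialLinearGroup (Fin n) F) : Matrix (Fin n) (Fin n) F).det = 0 := by
      apply Matrix.det_eq_zero_of_column_eq_zero i
      intro a
      by_cases ha : a = i
      · rw [ha]; exact h0
      · exact col_zero (hxc x) ha
    rw [this] at hdet
    exact zero_ne_one hdet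
  have hdiag' : ∀ x : X, ((x : Matrix.SpecialLinearGroup (Fin n) F) : Matrix (Fin n) (Fin n) F) j j = 1 := by
    intro x
    apply f2_eq_one hF
    intro h0
    have hdet := (x : Matrix.SpecialLinearGroup (Fin n) F).2
    have : ((x : Matrix.SpecialLinearGroup (Fin n) F) : Matrix (Fin n) (Fin n) F).det = 0 := by
      apply Matrix.det_eq_zero_of_row_eq_zero j
      intro b
      by_cases hb : b = j
      · rw [hb]; exact h0
      · exact row_zero (hxc x) hb
    rw [this] at hdet
    exact zero_ne_one hdet
  -- the normal 2-subgroup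
  have hQp : IsPGroup 2 ρ.ker := by
    intro x
    refine ⟨2, ?_⟩
    apply Subtype.ext
    apply Subtype.ext
    apply Subtype.ext
    have h1 := fourth_power hF hij (M := (((x : X) : Matrix.SpecialLinearGroup (Fin n) F) : Matrix (Fin n) (Fin n) F))
      (MonoidHom.mem_ker.1 x.2) (hdiag x) (hdiag' x)
    have h2 : (((x : X) : Matrix.SpecialLinearGroup (Fin n) F) : Matrix (Fin n) (Fin n) F) ^ 4 = 1 := by
      rw [show (4 : ℕ) = 2 + 2 from rfl, pow_add, pow_two]
      exact h1
    simpa using h2
  have hQcore : ρ.ker ≤ Cfsg.pCore 2 X :=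
    Cfsg.Agent.Lib.H1Core.le_pCore inferInstance hQp
  refine Cfsg.Agent.Lib.LSpe.char_iff_Fstar.1 ?_
  intro g hg
  apply hQcore
  rw [MonoidHom.mem_ker, hρ]
  ext a b
  by_cases hab : a ≠ i ∧ b ≠ j
  · obtain ⟨ha, hb⟩ := hab
    have e1 : blk i j (((g : X) : Matrix.SpecialLinearGroup (Fin n) F) : Matrix (Fin n) (Fin n) F) a b = (((g : X) : Matrix.SpecialLinearGroup (Fin n) F) : Matrix (Fin n) (Fin n) F) a b := by
      simp [blk, ha, hb]
    rw [e1]
    by_cases haj : a = j
    · subst haj
      rw [row_zero (hxc g) hb, Matrix.one_apply_ne (Ne.symm hb)]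
    · -- use the transvection `1 + E_{i a}`
      let τ : Matrix.SpecialLinearGroup (Fin n) F := ⟨transvection i a (1 : F), det_transvection_of_ne i a (Ne.symm ha) 1⟩
      have hτt : τ ∈ X := by
        rw [hX, Subgroup.mem_centralizer_iff]
        intro y hy
        rw [Set.mem_singleton_iff] at hy
        subst hy
        apply Subtype.ext
        show (y : Matrix (Fin n) (Fin n) F) * transvection i a 1 = transvection i a 1 * (y : Matrix (Fin n) (Fin n) F)
        rw [ht]
        unfold transvection
        simp only [add_mul, mul_add, one_mul, mul_one]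
        rw [Matrix.single_mul_single_of_ne _ _ _ _ (Ne.symm hij), Matrix.single_mul_single_of_ne _ _ _ _ ha]
        abel
      have hτQ : (⟨τ, hτt⟩ : X) ∈ ρ.ker := by
        rw [MonoidHom.mem_ker, hρ]
        ext c d
        by_cases hcd : c ≠ i ∧ d ≠ j
        · have e2 : blk i j (τ : Matrix (Fin n) (Fin n) F) c d = (τ : Matrix (Fin n) (Fin n) F) c d := by
            simp [blk, hcd.1, hcd.2]
          show blk i j (τ : Matrix (Fin n) (Fin n) F) c d = _
          rw [e2]
          show (transvection i a (1 : F)) c d = _
          unfold transvection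
          rw [Matrix.add_apply, Matrix.single_apply_of_row_ne (Ne.symm hcd.1), add_zero]
        · show blk i j (τ : Matrix (Fin n) (Fin n) F) c d = _
          simp only [blk, Matrix.of_apply]
          rw [if_neg hcd]
      have hc : (⟨τ, hτt⟩ : X) * g = g * ⟨τ, hτt⟩ :=
        Subgroup.mem_centralizer_iff.1 hg _ (hQcore hτQ)
      have hc2 := congrArg (fun y : X => ((y : Matrix.SpecialLinearGroup (Fin n) F) : Matrix (Fin n) (Fin n) F)) hc
      have hc3 : transvection i a (1 : F) * (((g : X) : Matrix.SpecialLinearGroup (Fin n) F) : Matrix (Fin n) (Fin n) F) =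
          (((g : X) : Matrix.SpecialLinearGroup (Fin n) F) : Matrix (Fin n) (Fin n) F) * transvection i a (1 : F) := hc2
      have hc4 := comm_single hc3
      by_cases hba : b = a
      · subst hba
        have h5 := congrFun (congrFun hc4 i) b
        rw [Matrix.single_mul_apply_same (1 : F) i b b, Matrix.mul_single_apply_same (1 : F) i b i, one_mul, mul_one, hdiag g] at h5
        rw [h5, Matrix.one_apply_eq]
      · have h5 := congrFun (congrFun hc4 i) b
        rw [Matrix.single_mul_apply_same (1 : F) i a b, Matrix.mul_single_apply_of_ne (1 : F) i a i b hba, one_mul] at h5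
        rw [h5, Matrix.one_apply_ne (Ne.symm hba)]
  · have e1 : blk i j (((g : X) : Matrix.SpecialLinearGroup (Fin n) F) : Matrix (Fin n) (Fin n) F) a b = (1 : Matrix (Fin n) (Fin n) F) a b := by
      simp only [blk, Matrix.of_apply]
      rw [if_neg hab]
    rw [e1]

end Cfsg.Agent.S1339
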