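import Cfsg.Statements.S1340
import Mathlib
import Cfsg.Agent.Lib.SLGen
import Cfsg.Agent.Lib.Comp
import Cfsg.Agent.Lib.H1Core

set_option autoImplicit false
open Cfsg

namespace Cfsg.Agent.S1340

open Matrix Cfsg

section Blk
variable {F : Type*} [Field F]

def blk {m : ℕ} (A : Matrix (Fin m) (Fin m) F) : Matrix (Fin (m+1)) (Fin (m+1)) F :=
  Matrix.of (fun i j => Fin.cases (motive := fun _ => F) (Fin.cases (motive := fun _ => F) 1 (fun _ => 0) j)
    (fun i' => Fin.cases (motive := fun _ => F) 0 (fun j' => A i' j') j) i)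

@[simp] theorem blk_00 {m : ℕ} (A : Matrix (Fin m) (Fin m) F) : blk A 0 0 = 1 := rfl
@[simp] theorem blk_0s {m : ℕ} (A : Matrix (Fin m) (Fin m) F) (j : Fin m) : blk A 0 j.succ = 0 := rfl
@[simp] theorem blk_s0 {m : ℕ} (A : Matrix (Fin m) (Fin m) F) (i : Fin m) : blk A i.succ 0 = 0 := rfl
@[simp] theorem blk_ss {m : ℕ} (A : Matrix (Fin m) (Fin m) F) (i j : Fin m) : blk A i.succ j.succ = A i j := rfl

theorem blk_one {m : ℕ} : blk (1 : Matrix (Fin m) (Fin m) F) = 1 := by
  ext i j
  refine Fin.cases ?_ (fun i' => ?_) i <;> refine Fin.cases ?_ (fun j' => ?_) j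
  · simp
  · simp [Matrix.one_apply, (Fin.succ_ne_zero j').symm]
  · simp [Matrix.one_apply, Fin.succ_ne_zero i']
  · simp [Matrix.one_apply]

theorem blk_mul {m : ℕ} (A B : Matrix (Fin m) (Fin m) F) : blk (A * B) = blk A * blk B := by
  ext i j
  refine Fin.cases ?_ (fun i' => ?_) i <;> refine Fin.cases ?_ (fun j' => ?_) j
  · simp [Matrix.mul_apply, Fin.sum_univ_succ]
  · simp [Matrix.mul_apply, Fin.sum_univ_succ]
  · simp [Matrix.mul_apply, Fin.sum_univ_succ]
  · simp [Matrix.mul_apply, Fin.sum_univ_succ]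

theorem det_of_block {m : ℕ} (X : Matrix (Fin (m+1)) (Fin (m+1)) F) (h00 : X 0 0 = 1) (h0s : ∀ j : Fin m, X 0 j.succ = 0) :
    X.det = (X.submatrix Fin.succ Fin.succ).det := by
  rw [Matrix.det_succ_row_zero, Fin.sum_univ_succ]
  simp [h00, h0s]

theorem det_blk {m : ℕ} (A : Matrix (Fin m) (Fin m) F) : (blk A).det = A.det := by
  rw [det_of_block _ (blk_00 A) (blk_0s A)]
  congr 1

theorem eq_blk {m : ℕ} (X : Matrix (Fin (m+1)) (Fin (m+1)) F) (h00 : X 0 0 = 1) (h0s : ∀ j : Fin m, X 0 j.succ = 0)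
    (hs0 : ∀ j : Fin m, X j.succ 0 = 0) : X = blk (X.submatrix Fin.succ Fin.succ) := by
  ext i j
  refine Fin.cases ?_ (fun i' => ?_) i <;> refine Fin.cases ?_ (fun j' => ?_) j
  · simp [h00]
  · simp [h0s]
  · simp [hs0]
  · simp

def psi (m : ℕ) : Matrix.SpecialLinearGroup (Fin m) F →* Matrix.GeneralLinearGroup (Fin (m+1)) F :=
  (Matrix.SpecialLinearGroup.toGL (n := Fin (m+1)) (R := F)).comp
  { toFun := fun A => ⟨blk A.1, by rw [det_blk]; exact A.2⟩
    map_one' := Subtype.ext blk_one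
    map_mul' := fun A B => Subtype.ext (blk_mul A.1 B.1) }

@[simp] theorem psi_coe {m : ℕ} (A : Matrix.SpecialLinearGroup (Fin m) F) :
    ((psi m A : Matrix.GeneralLinearGroup (Fin (m+1)) F) : Matrix (Fin (m+1)) (Fin (m+1)) F) = blk A.1 := rfl

theorem psi_inj {m : ℕ} : Function.Injective (psi (F := F) m) := by
  intro A B h
  apply Subtype.ext
  ext i j
  have := congrArg (fun g : Matrix.GeneralLinearGroup (Fin (m+1)) F => (g : Matrix (Fin (m+1)) (Fin (m+1)) F) i.succ j.succ) h
  simpa using this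

def dd (m : ℕ) : Fin (m+1) → F := Fin.cases (motive := fun _ => F) (-1) (fun _ => 1)

@[simp] theorem dd_0 {m : ℕ} : (dd m 0 : F) = -1 := rfl
@[simp] theorem dd_s {m : ℕ} (i : Fin m) : (dd m i.succ : F) = 1 := rfl

theorem dd_sq {m : ℕ} (i : Fin (m+1)) : (dd m i * dd m i : F) = 1 := by
  refine Fin.cases ?_ (fun i' => ?_) i <;> simp

def tt (m : ℕ) : Matrix.GeneralLinearGroup (Fin (m+1)) F where
  val := Matrix.diagonal (dd m)
  inv := Matrix.diagonal (dd m)
  val_inv := by
    rw [Matrix.diagonal_mul_diagonal, ← Matrix.diagonal_one]; congr 1; funext i; exact dd_sq i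
  inv_val := by
    rw [Matrix.diagonal_mul_diagonal, ← Matrix.diagonal_one]; congr 1; funext i; exact dd_sq i

theorem tt_comm_entries {m : ℕ} (h2 : (2:F) ≠ 0) (g : Matrix.GeneralLinearGroup (Fin (m+1)) F)
    (hg : g ∈ Subgroup.centralizer ({tt m} : Set (Matrix.GeneralLinearGroup (Fin (m+1)) F))) (j : Fin m) :
    (g : Matrix (Fin (m+1)) (Fin (m+1)) F) 0 j.succ = 0 ∧ (g : Matrix (Fin (m+1)) (Fin (m+1)) F) j.succ 0 = 0 := by
  have hc : tt m * g = g * tt m := Subgroup.mem_centralizer_iff.mp hg _ rfl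
  have hm : Matrix.diagonal (dd m) * (g : Matrix (Fin (m+1)) (Fin (m+1)) F) = (g : Matrix (Fin (m+1)) (Fin (m+1)) F) * Matrix.diagonal (dd m) :=
    congrArg (fun g : Matrix.GeneralLinearGroup (Fin (m+1)) F => (g : Matrix (Fin (m+1)) (Fin (m+1)) F)) hc
  have h1 := congrFun (congrFun hm 0) j.succ
  have h3 := congrFun (congrFun hm j.succ) 0
  rw [Matrix.diagonal_mul, Matrix.mul_diagonal] at h1 h3
  simp only [dd_0, dd_s] at h1 h3
  constructor
  · have : (2:F) * (g : Matrix (Fin (m+1)) (Fin (m+1)) F) 0 j.succ = 0 := by linear_combination -h1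
    exact (mul_eq_zero.mp this).resolve_left h2
  · have : (2:F) * (g : Matrix (Fin (m+1)) (Fin (m+1)) F) j.succ 0 = 0 := by linear_combination h3
    exact (mul_eq_zero.mp this).resolve_left h2

theorem psi_comm {m : ℕ} (A : Matrix.SpecialLinearGroup (Fin m) F) :
    psi m A ∈ Subgroup.centralizer ({tt m} : Set (Matrix.GeneralLinearGroup (Fin (m+1)) F)) := by
  refine Subgroup.mem_centralizer_iff.mpr ?_
  rintro _ rfl
  apply Units.ext
  show Matrix.diagonal (dd m) * blk A.1 = blk A.1 * Matrix.diagonal (dd m)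
  ext i j
  rw [Matrix.diagonal_mul, Matrix.mul_diagonal]
  refine Fin.cases ?_ (fun i' => ?_) i <;> refine Fin.cases ?_ (fun j' => ?_) j <;> simp

/-- conjugates of `psi A` by the centralizer stay in the image -/
theorem psi_conj {m : ℕ} (h2 : (2:F) ≠ 0) (g : Matrix.GeneralLinearGroup (Fin (m+1)) F)
    (hg : g ∈ Subgroup.centralizer ({tt m} : Set (Matrix.GeneralLinearGroup (Fin (m+1)) F)))
    (A : Matrix.SpecialLinearGroup (Fin m) F) :
    ∃ B : Matrix.SpecialLinearGroup (Fin m) F, psi m B = g * psi m A * g⁻¹ := by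
  set C := Subgroup.centralizer ({tt m} : Set (Matrix.GeneralLinearGroup (Fin (m+1)) F)) with hC
  have hX : g * psi m A * g⁻¹ ∈ C := C.mul_mem (C.mul_mem hg (psi_comm A)) (C.inv_mem hg)
  set X := g * psi m A * g⁻¹ with hXdef
  set g' : Matrix (Fin (m+1)) (Fin (m+1)) F := (g : Matrix (Fin (m+1)) (Fin (m+1)) F) with hg'
  set gi : Matrix (Fin (m+1)) (Fin (m+1)) F := ((g⁻¹ : Matrix.GeneralLinearGroup (Fin (m+1)) F) : Matrix (Fin (m+1)) (Fin (m+1)) F) with hgi
  have hgg : g' * gi = 1 := by
    exact Units.mul_inv g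
  have hXm : (X : Matrix (Fin (m+1)) (Fin (m+1)) F) = g' * blk A.1 * gi := rfl
  have e1 := tt_comm_entries h2 g hg
  have e2 := tt_comm_entries h2 g⁻¹ (C.inv_mem hg)
  have e3 := tt_comm_entries h2 X hX
  have h00 : (X : Matrix (Fin (m+1)) (Fin (m+1)) F) 0 0 = 1 := by
    rw [hXm, Matrix.mul_apply, Fin.sum_univ_succ, Matrix.mul_apply, Fin.sum_univ_succ]
    have h5 : ∀ j : Fin m, gi j.succ 0 = 0 := fun j => (e2 j).2
    have h6 : ∀ j : Fin m, g' 0 j.succ = 0 := fun j => (e1 j).1
    simp only [h5, h6, mul_zero, Finset.sum_const_zero, add_zero, zero_mul, blk_00, mul_one]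
    have := congrFun (congrFun hgg 0) 0
    rw [Matrix.mul_apply, Fin.sum_univ_succ] at this
    simpa [h5] using this
  have hdet : ((X : Matrix (Fin (m+1)) (Fin (m+1)) F)).det = 1 := by
    rw [hXm, Matrix.det_mul, Matrix.det_mul, det_blk, A.2, mul_one, ← Matrix.det_mul, hgg, Matrix.det_one]
  have hblk := eq_blk (X : Matrix (Fin (m+1)) (Fin (m+1)) F) h00 (fun j => (e3 j).1) (fun j => (e3 j).2)
  refine ⟨⟨(X : Matrix (Fin (m+1)) (Fin (m+1)) F).submatrix Fin.succ Fin.succ, ?_⟩, ?_⟩
  · rw [← det_blk, ← hblk, hdet]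
  · apply Units.ext
    exact hblk.symm

theorem sl_quasisimple {m : ℕ} (hm : 2 ≤ m) (h : 3 ≤ m ∨ ∃ a : F, a ≠ 0 ∧ a^2 ≠ 1) :
    IsQuasisimple (Matrix.SpecialLinearGroup (Fin m) F) := by
  have hperf : commutator (Matrix.SpecialLinearGroup (Fin m) F) = ⊤ := by
    rcases h with h | ⟨a, ha, hsq⟩
    · exact Cfsg.Agent.Lib.SLGen.commutator_SL_eq_top h
    · rw [eq_top_iff]
      intro A _
      refine Cfsg.Agent.Lib.SLGen.sl_induction (fun A => A ∈ commutator (Matrix.SpecialLinearGroup (Fin m) F)) ?_ (fun _ _ => mul_mem) (one_mem _) A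
      intro i j hij c
      obtain ⟨x, y, hxy⟩ := Cfsg.Agent.Lib.SLGen.T_mem_commutatorSet_of_sq hij ha hsq c
      rw [← hxy]
      exact Subgroup.commutator_mem_commutator (Subgroup.mem_top _) (Subgroup.mem_top _)
  have hnt : Nontrivial (Fin m) := Fin.nontrivial_iff_two_le.mpr hm
  refine ⟨⟨hperf⟩, ?_⟩
  have hperf2 : commutator (Matrix.ProjectiveSpecialLinearGroup (Fin m) F) = ⊤ := by
    have : Group.IsPerfect (Matrix.SpecialLinearGroup (Fin m) F) := ⟨hperf⟩
    have : Group.IsPerfect (Matrix.ProjectiveSpecialLinearGroup (Fin m) F) := inferInstance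
    exact this.commutator_eq_top
  exact MulAction.IwasawaStructure.isSimpleGroup hperf2 Cfsg.Agent.Lib.SLGen.PSLIwasawa inferInstance

end Blk

/-- Let F be a finite field of odd order and n ≥ 3 with (n, |F|) ≠ (3, 3). Then GL(n, F) has a non-central involution t such that C(t) / O(C(t)) has a component. -/
theorem result {F : Type*} [Field F] [Fintype F] [DecidableEq F] (hF : Odd (Fintype.card F)) (n : ℕ) (hn : 3 ≤ n) (h33 : ¬ (n = 3 ∧ Fintype.card F = 3)) : ∃ t : Matrix.GeneralLinearGroup (Fin n) F, orderOf t = 2 ∧ t ∉ Subgroup.center (Matrix.GeneralLinearGroup (Fin n) F) ∧ Cfsg.HasComponent (↥(Subgroup.centralizer ({t} : Set (Matrix.GeneralLinearGroup (Fin n) F))) ⧸ Cfsg.oddCore ↥(Subgroup.centralizer ({t} : Set (Matrix.GeneralLinearGroup (Fin n) F)))) := by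
  classical
  obtain ⟨m, rfl⟩ : ∃ m, n = m + 1 := ⟨n-1, by omega⟩
  have hchar : ringChar F ≠ 2 := by
    intro h
    have h1 := FiniteField.even_card_of_char_two h
    exact (Nat.not_even_iff_odd.mpr hF) (Nat.even_iff.mpr h1)
  have h2 : (2:F) ≠ 0 := Ring.two_ne_zero hchar
  have hneg : (-1:F) ≠ 1 := Ring.neg_one_ne_one_of_char_ne_two hchar
  have hm : 2 ≤ m := by omega
  refine ⟨tt m, ?_, ?_, ?_⟩
  · haveI : Fact (Nat.Prime 2) := ⟨Nat.prime_two⟩
    apply orderOf_eq_prime
    · rw [pow_two]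
      apply Units.ext
      show Matrix.diagonal (dd m) * Matrix.diagonal (dd m) = (1 : Matrix (Fin (m+1)) (Fin (m+1)) F)
      rw [Matrix.diagonal_mul_diagonal, ← Matrix.diagonal_one]; congr 1; funext i; exact dd_sq i
    · intro h
      have := congrArg (fun g : Matrix.GeneralLinearGroup (Fin (m+1)) F => (g : Matrix (Fin (m+1)) (Fin (m+1)) F) 0 0) h
      simp [tt] at this
      exact hneg this
  · intro hc
    let j : Fin m := ⟨0, by omega⟩
    have hne : (0 : Fin (m+1)) ≠ j.succ := (Fin.succ_ne_zero j).symm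
    let T := Matrix.SpecialLinearGroup.toGL (Matrix.SpecialLinearGroup.transvection hne (1:F))
    have hT : T ∈ Subgroup.centralizer ({tt m} : Set (Matrix.GeneralLinearGroup (Fin (m+1)) F)) := by
      refine Subgroup.mem_centralizer_iff.mpr ?_
      rintro _ rfl
      exact (Subgroup.mem_center_iff.mp hc T).symm
    have := (tt_comm_entries h2 T hT j).1
    have h9 : (T : Matrix (Fin (m+1)) (Fin (m+1)) F) 0 j.succ = 1 := by
      show (Matrix.transvection 0 j.succ (1:F)) 0 j.succ = 1
      simp [Matrix.transvection, Matrix.one_apply, hne]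
    rw [h9] at this
    exact one_ne_zero this
  · set N := Subgroup.centralizer ({tt m} : Set (Matrix.GeneralLinearGroup (Fin (m+1)) F)) with hN
    let Ψ : Matrix.SpecialLinearGroup (Fin m) F →* N := (psi m).codRestrict N psi_comm
    have hΨ : Function.Injective Ψ := by
      intro A B h
      exact psi_inj (congrArg Subtype.val h)
    let π := QuotientGroup.mk' (Cfsg.oddCore N)
    let φ := π.comp Ψ
    have hqs : IsQuasisimple (Matrix.SpecialLinearGroup (Fin m) F) := by
      apply sl_quasisimple hm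
      by_cases h3 : 3 ≤ m
      · exact Or.inl h3
      · right
        by_contra hcon
        push Not at hcon
        have hsub : (Finset.univ : Finset F) ⊆ {0, 1, -1} := by
          intro a _
          by_cases ha : a = 0
          · simp [ha]
          · have h4 := hcon a ha
            have h5 : (a - 1) * (a + 1) = 0 := by linear_combination h4
            rcases mul_eq_zero.mp h5 with h6 | h6
            · have : a = 1 := by linear_combination h6
              simp [this]
            · have : a = -1 := by linear_combination h6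
              simp [this]
        have hc1 := Finset.card_le_card hsub
        have hc2 : ({0, 1, -1} : Finset F).card ≤ 3 := Finset.card_le_three
        rw [Finset.card_univ] at hc1
        have hc3 : 1 < Fintype.card F := Fintype.one_lt_card
        have hodd := hF
        have hne3 : Fintype.card F ≠ 3 := fun h => h33 ⟨by omega, h⟩
        have hcases : Fintype.card F = 2 ∨ Fintype.card F = 3 := by omega
        rcases hcases with h | h
        · rw [h] at hodd; exact absurd hodd (by decide)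
        · exact hne3 h
    refine ⟨φ.range, ?_, ?_⟩
    · apply Subgroup.Normal.isSubnormal
      constructor
      rintro _ ⟨A, rfl⟩ y
      obtain ⟨g, rfl⟩ := QuotientGroup.mk_surjective y
      obtain ⟨B, hB⟩ := psi_conj h2 g.1 g.2 A
      refine ⟨B, ?_⟩
      have : Ψ B = g * Ψ A * g⁻¹ := Subtype.ext hB
      show π (Ψ B) = _
      rw [this]
      simp [φ, π]
    · refine Cfsg.Agent.Lib.Comp.qs_of_surjective_of_ker_le_center φ.rangeRestrict φ.rangeRestrict_surjective hqs ?_
      rw [MonoidHom.ker_rangeRestrict]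
      haveI : φ.ker.Normal := MonoidHom.normal_ker φ
      refine (Cfsg.Agent.Lib.Comp.qs_normal hqs φ.ker).resolve_left ?_
      intro htop
      let i : Fin m := ⟨0, by omega⟩
      let j : Fin m := ⟨1, by omega⟩
      have hij : i ≠ j := by simp [i, j, Fin.ext_iff]
      have h10 : (-1:F) ≠ 0 := neg_ne_zero.mpr one_ne_zero
      let x := Matrix.SpecialLinearGroup.diag2n hij (-1:F) h10
      have hx : x ∈ φ.ker := by rw [htop]; trivial
      have hx2 : (Ψ x) ∈ Cfsg.oddCore N := by
        have : π (Ψ x) = 1 := hx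
        exact (QuotientGroup.eq_one_iff _).mp this
      have hxsq : x * x = 1 := by
        apply Subtype.ext
        show Matrix.diagonal _ * Matrix.diagonal _ = (1 : Matrix (Fin m) (Fin m) F)
        rw [Matrix.diagonal_mul_diagonal, ← Matrix.diagonal_one]
        congr 1; funext k
        split_ifs <;> simp
      have hxne : x ≠ 1 := by
        intro h
        have := congrArg (fun g : Matrix.SpecialLinearGroup (Fin m) F => (g : Matrix (Fin m) (Fin m) F) i i) h
        simp [x] at this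
        exact hneg this
      have hw : (Ψ x)^2 = 1 := by rw [pow_two, ← map_mul, hxsq, map_one]
      have hwne : Ψ x ≠ 1 := by
        intro h
        exact hxne (hΨ (by rw [h, map_one]))
      haveI : Fact (Nat.Prime 2) := ⟨Nat.prime_two⟩
      have hcop : (Nat.card (Cfsg.pPrimeCore 2 N)).Coprime 2 := Cfsg.Agent.Lib.H1Core.pPrimeCore_coprime 2
      have h1 : orderOf (⟨Ψ x, hx2⟩ : Cfsg.pPrimeCore 2 N) ∣ 2 := by
        apply orderOf_dvd_of_pow_eq_one
        exact Subtype.ext (by simpa using hw)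
      have h3 : orderOf (⟨Ψ x, hx2⟩ : Cfsg.pPrimeCore 2 N) ∣ Nat.card (Cfsg.pPrimeCore 2 N) := orderOf_dvd_natCard _
      have h5 : orderOf (⟨Ψ x, hx2⟩ : Cfsg.pPrimeCore 2 N) = 1 := Nat.Coprime.eq_one_of_dvd (Nat.Coprime.coprime_dvd_left h3 hcop) h1
      have h6 := orderOf_eq_one_iff.mp h5
      exact hwne (by simpa using congrArg Subtype.val h6)


end Cfsg.Agent.S1340
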