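import Cfsg.Statements.S1907
import Mathlib
import Cfsg.Agent.Lib.PConstr
import Cfsg.Agent.Lib.Comp2
import Cfsg.Agent.Lib.H1Cop
import Cfsg.Agent.Lib.SylowTools

set_option autoImplicit false
open Cfsg

namespace Cfsg.Agent.S1907

open Cfsg Cfsg.Agent.Lib.H1Core Cfsg.Agent.Lib.Comp2 Cfsg.Agent.Lib.PConstr Cfsg.Agent.Lib.SylowTools
open Cfsg.Agent.Lib

section
variable {G : Type*} [Group G] [Finite G] {p : ℕ} [Fact p.Prime]

lemma mem_split (P : Sylow p G) {x : G} (hx : x ∈ pPrimePCore p G) :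
    ∃ u ∈ (P : Subgroup G) ⊓ pPrimePCore p G, ∃ d ∈ pPrimeCore p G, x = u * d := by
  set π := QuotientGroup.mk' (pPrimeCore p G) with hπ
  have hsurj : Function.Surjective π := QuotientGroup.mk'_surjective _
  have h1 : π x ∈ pCore p (G ⧸ pPrimeCore p G) := hx
  have h2 := pCore_le_sylow p (P.mapSurjective hsurj) h1
  obtain ⟨u, hu, hux⟩ := h2
  have hd : u⁻¹ * x ∈ pPrimeCore p G := by
    apply QuotientGroup.eq.mp
    exact hux
  refine ⟨u, ⟨hu, ?_⟩, u⁻¹ * x, hd, by group⟩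
  have e : u = x * (u⁻¹ * x)⁻¹ := by group
  rw [e]
  exact Subgroup.mul_mem _ hx (Subgroup.inv_mem _ (pPrimeCore_le_pPrimePCore hd))

lemma frattini (P : Sylow p G) (g : G) :
    ∃ d ∈ pPrimeCore p G, ∃ m ∈ Subgroup.normalizer (((P : Subgroup G) ⊓ pPrimePCore p G : Subgroup G) : Set G),
      g = d * m := by
  set L := pPrimePCore p G with hL
  set D := pPrimeCore p G with hD
  set H := (P : Subgroup G) ⊓ L with hH
  haveI hLn : L.Normal := by
    rw [hL, pPrimePCore]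
    exact Subgroup.Normal.comap (pCore_normal p _) _
  haveI hDn : D.Normal := pPrimeCore_normal p G
  have hHp : IsPGroup p H := P.isPGroup'.to_le inf_le_left
  have hHL : H ≤ L := inf_le_right
  have hHp' : IsPGroup p (H.subgroupOf L) := hHp.comap_of_injective L.subtype Subtype.coe_injective
  obtain ⟨S₀, hS₀⟩ := hHp'.exists_le_sylow
  have himg : (S₀ : Subgroup L).map L.subtype = H := by
    apply le_antisymm
    · rintro _ ⟨x, hx, rfl⟩
      obtain ⟨u, hu, d, hd, hxe⟩ := mem_split P x.2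
      have hu' : (⟨u, hu.2⟩ : L) ∈ (S₀ : Subgroup L) := hS₀ hu
      have hd' : d = u⁻¹ * (x : G) := by rw [hxe]; group
      have hdS : (⟨d, pPrimeCore_le_pPrimePCore hd⟩ : L) ∈ (S₀ : Subgroup L) := by
        have e : (⟨d, pPrimeCore_le_pPrimePCore hd⟩ : L) = (⟨u, hu.2⟩ : L)⁻¹ * x := by
          apply Subtype.ext; exact hd'
        rw [e]
        exact Subgroup.mul_mem _ (Subgroup.inv_mem _ hu') hx
      have hp : IsPGroup p ((S₀ : Subgroup L).map L.subtype) := S₀.isPGroup'.map _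
      have hd1 : d = 1 := eq_one_of_mem_pgroup_coprime hp (pPrimeCore_coprime p) ⟨_, hdS, rfl⟩ hd
      show (x : G) ∈ H
      rw [hxe, hd1, mul_one]
      exact hu
    · intro x hx
      exact ⟨⟨x, hHL hx⟩, hS₀ (by exact hx), rfl⟩
  have hfr := Sylow.normalizer_sup_eq_top S₀
  rw [himg] at hfr
  have hg : g ∈ Subgroup.normalizer (H : Set G) ⊔ L := by rw [hfr]; trivial
  obtain ⟨n, hn, l, hl, rfl⟩ := Subgroup.mem_sup_of_normal_right.mp hg
  obtain ⟨u, hu, d, hd, rfl⟩ := mem_split P hl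
  have hum : u ∈ Subgroup.normalizer (H : Set G) := Subgroup.le_normalizer hu
  set m := n * u with hm
  have hmN : m ∈ Subgroup.normalizer (H : Set G) := Subgroup.mul_mem _ hn hum
  refine ⟨m * d * m⁻¹, hDn.conj_mem d hd m, m, hmN, ?_⟩
  rw [hm]; group

lemma part_a (P : Sylow p G) (y : G)
    (hy : y ∈ Subgroup.normalizer (((P : Subgroup G) ⊓ pPrimePCore p G : Subgroup G) : Set G))
    (hyp : ∃ k : ℕ, orderOf y = p ^ k) (d : G) (hd : d ∈ pPrimeCore p G)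
    (hdy : d⁻¹ * y * d ∈ Subgroup.normalizer (((P : Subgroup G) ⊓ pPrimePCore p G : Subgroup G) : Set G)) :
    ∃ d₁ ∈ pPrimeCore p G ⊓ Subgroup.centralizer ({y} : Set G),
      ∃ d₂ ∈ pPrimeCore p G ⊓ Subgroup.centralizer (((P : Subgroup G) ⊓ pPrimePCore p G : Subgroup G) : Set G), d = d₁ * d₂ := by
  set L := pPrimePCore p G with hL
  set D := pPrimeCore p G with hD
  set H := (P : Subgroup G) ⊓ L with hH
  haveI hDn : D.Normal := pPrimeCore_normal p G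
  have hDc : (Nat.card D).Coprime p := pPrimeCore_coprime p
  have hHp : IsPGroup p H := P.isPGroup'.to_le inf_le_left
  set N := Subgroup.normalizer (H : Set G) with hN
  set C := D ⊓ N with hC
  have hCc : (Nat.card C).Coprime p := Nat.Coprime.coprime_dvd_left (Subgroup.card_dvd_of_le inf_le_left) hDc
  -- `C` centralizes `H`
  have hCH : ∀ c ∈ C, c ∈ Subgroup.centralizer (H : Set G) := by
    rintro c ⟨hcD, hcN⟩
    refine Subgroup.mem_centralizer_iff.mpr ?_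
    intro u hu
    have h1 : c * u * c⁻¹ * u⁻¹ ∈ H := H.mul_mem ((Subgroup.mem_normalizer_iff.mp hcN u).mp hu) (H.inv_mem hu)
    have h2 : c * u * c⁻¹ * u⁻¹ ∈ D := by
      have e : c * u * c⁻¹ * u⁻¹ = c * (u * c⁻¹ * u⁻¹) := by group
      rw [e]
      exact D.mul_mem hcD (hDn.conj_mem _ (D.inv_mem hcD) u)
    have h3 := eq_one_of_mem_pgroup_coprime hHp hDc h1 h2
    rw [mul_inv_eq_one, mul_inv_eq_iff_eq_mul] at h3
    exact h3.symm
  set y₁ := d⁻¹ * y * d with hy₁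
  obtain ⟨k, hk⟩ := hyp
  have hyk : y ^ p ^ k = 1 := by rw [← hk, pow_orderOf_eq_one]
  have hy₁k : y₁ ^ p ^ k = 1 := by
    have e : y₁ = d⁻¹ * y * d⁻¹⁻¹ := by rw [hy₁, inv_inv]
    rw [e, conj_pow, hyk]
    group
  have hNC : ∀ n ∈ N, ∀ c ∈ C, n * c * n⁻¹ ∈ C := by
    rintro n hn c ⟨hcD, hcN⟩
    exact ⟨hDn.conj_mem c hcD n, N.mul_mem (N.mul_mem hn hcN) (N.inv_mem hn)⟩
  have hzp : IsPGroup p (Subgroup.zpowers y) := InvolSylow.isPGroup_zpowers_of_pow hyk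
  have hzp₁ : IsPGroup p (Subgroup.zpowers y₁) := InvolSylow.isPGroup_zpowers_of_pow hy₁k
  have hnorm : Subgroup.zpowers y ≤ Subgroup.normalizer (C : Set G) := by
    rw [Subgroup.zpowers_le]
    exact Subgroup.mem_normalizer_fintype (fun c hc => hNC y hy c hc)
  set T := C ⊔ Subgroup.zpowers y with hT
  have hzT : Subgroup.zpowers y ≤ T := le_sup_right
  have hp' : IsPGroup p ((Subgroup.zpowers y).subgroupOf T) := hzp.comap_of_injective T.subtype Subtype.coe_injective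
  obtain ⟨S₁, hS₁⟩ := hp'.exists_le_sylow
  have himg : (S₁ : Subgroup T).map T.subtype = Subgroup.zpowers y := by
    apply le_antisymm
    · rintro _ ⟨x, hx, rfl⟩
      obtain ⟨c, hc, a, ha, hca⟩ := (H1Cop.mem_sup_iff hnorm).mp x.2
      have hzS : (⟨a, hzT ha⟩ : T) ∈ (S₁ : Subgroup T) := hS₁ ha
      have hcS : (⟨c, le_sup_left (a := C) hc⟩ : T) ∈ (S₁ : Subgroup T) := by
        have e : (⟨c, le_sup_left (a := C) hc⟩ : T) = x * (⟨a, hzT ha⟩ : T)⁻¹ := by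
          apply Subtype.ext
          show c = (x : G) * a⁻¹
          rw [← hca]; group
        rw [e]
        exact Subgroup.mul_mem _ hx (Subgroup.inv_mem _ hzS)
      have hp : IsPGroup p ((S₁ : Subgroup T).map T.subtype) := S₁.isPGroup'.map _
      have hc1 : c = 1 := eq_one_of_mem_pgroup_coprime hp hCc ⟨_, hcS, rfl⟩ hc
      show (x : G) ∈ _
      rw [← hca, hc1, one_mul]
      exact ha
    · intro x hx
      exact ⟨⟨x, hzT hx⟩, hS₁ (by exact hx), rfl⟩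
  have hc₀ : y₁ * y⁻¹ ∈ C := by
    refine ⟨?_, N.mul_mem hdy (N.inv_mem hy)⟩
    have e : y₁ * y⁻¹ = d⁻¹ * (y * d * y⁻¹) := by rw [hy₁]; group
    rw [e]
    exact D.mul_mem (D.inv_mem hd) (hDn.conj_mem d hd y)
  have hFT : Subgroup.zpowers y₁ ≤ T := by
    rw [Subgroup.zpowers_le]
    have e : y₁ = (y₁ * y⁻¹) * y := by group
    rw [e]
    exact T.mul_mem (le_sup_left (a := C) hc₀) (hzT (Subgroup.mem_zpowers y))
  obtain ⟨t, htT, hle⟩ := exists_conj_le_image T S₁ _ hFT hzp₁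
  rw [himg] at hle
  have ht' : t⁻¹ ∈ T := T.inv_mem htT
  obtain ⟨c₁, hc₁, a, ha, hca⟩ := (H1Cop.mem_sup_iff hnorm).mp ht'
  have hte : t = a⁻¹ * c₁⁻¹ := by
    rw [← mul_inv_rev, hca, inv_inv]
  set c := c₁⁻¹ with hc
  have hcC : c ∈ C := C.inv_mem hc₁
  have h1 : t * y₁ * t⁻¹ ∈ Subgroup.zpowers y :=
    hle ⟨y₁, Subgroup.mem_zpowers y₁, rfl⟩
  have h2 : c * y₁ * c⁻¹ ∈ Subgroup.zpowers y := by
    have e : c * y₁ * c⁻¹ = a * (t * y₁ * t⁻¹) * a⁻¹ := by rw [hte]; group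
    rw [e]
    exact Subgroup.mul_mem _ (Subgroup.mul_mem _ ha h1) (Subgroup.inv_mem _ ha)
  have h3 : c * y₁ * c⁻¹ * y⁻¹ ∈ Subgroup.zpowers y :=
    Subgroup.mul_mem _ h2 (Subgroup.inv_mem _ (Subgroup.mem_zpowers y))
  have h4 : c * y₁ * c⁻¹ * y⁻¹ ∈ C := by
    have e : c * y₁ * c⁻¹ * y⁻¹ = c * (y₁ * c⁻¹ * y₁⁻¹) * (y₁ * y⁻¹) := by group
    rw [e]
    exact C.mul_mem (C.mul_mem hcC (hNC y₁ hdy _ (C.inv_mem hcC))) hc₀
  have h5 := eq_one_of_mem_pgroup_coprime hzp hCc h3 h4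
  have h6 : c * y₁ * c⁻¹ = y := mul_inv_eq_one.mp h5
  refine ⟨d * c⁻¹, ⟨D.mul_mem hd (D.inv_mem hcC.1), ?_⟩, c, ⟨hcC.1, hCH c hcC⟩, by group⟩
  refine Subgroup.mem_centralizer_iff.mpr ?_
  intro z hz
  rw [Set.mem_singleton_iff.mp hz]
  have e : y * (d * c⁻¹) = (d * c⁻¹) * (c * y₁ * c⁻¹) := by
    rw [hy₁]; group
  rw [e, h6]
end

/-- Let P be a Sylow p-subgroup of a finite group G, H = P ∩ O_{p',p}(G), N = N_G(H) and D = O_{p'}(G). (a) If y is an element of p-power order of N and d ∈ D with d⁻¹ y d ∈ N, then d = d₁ d₂ with d₁ ∈ C_D(y) and d₂ ∈ C_D(H). (b) Two elements of P that are conjugate in G are conjugate in N. -/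
theorem result {G : Type*} [Group G] [Finite G] {p : ℕ} [Fact p.Prime] (P : Sylow p G) :
    (∀ y ∈ Subgroup.normalizer (((P : Subgroup G) ⊓ Cfsg.pPrimePCore p G : Subgroup G) : Set G), (∃ k : ℕ, orderOf y = p ^ k) →
      ∀ d ∈ Cfsg.pPrimeCore p G, d⁻¹ * y * d ∈ Subgroup.normalizer (((P : Subgroup G) ⊓ Cfsg.pPrimePCore p G : Subgroup G) : Set G) →
        ∃ d₁ ∈ Cfsg.pPrimeCore p G ⊓ Subgroup.centralizer ({y} : Set G),
          ∃ d₂ ∈ Cfsg.pPrimeCore p G ⊓ Subgroup.centralizer (((P : Subgroup G) ⊓ Cfsg.pPrimePCore p G : Subgroup G) : Set G), d = d₁ * d₂) ∧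
    ∀ x y : G, x ∈ (P : Subgroup G) → y ∈ (P : Subgroup G) → IsConj x y →
      ∃ n ∈ Subgroup.normalizer (((P : Subgroup G) ⊓ Cfsg.pPrimePCore p G : Subgroup G) : Set G), n * x * n⁻¹ = y := by
  refine ⟨fun y hy hyp d hd hdy => part_a P y hy hyp d hd hdy, ?_⟩
  intro x y hx hy hxy
  set L := pPrimePCore p G with hL
  set D := pPrimeCore p G with hD
  set H := (P : Subgroup G) ⊓ L with hH
  haveI hLn : L.Normal := by
    rw [hL, pPrimePCore]
    exact Subgroup.Normal.comap (pCore_normal p _) _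
  have hPN : (P : Subgroup G) ≤ Subgroup.normalizer (H : Set G) := by
    intro u hu
    refine Subgroup.mem_normalizer_fintype ?_
    rintro w ⟨hw1, hw2⟩
    exact ⟨Subgroup.mul_mem _ (Subgroup.mul_mem _ hu hw1) (Subgroup.inv_mem _ hu), hLn.conj_mem w hw2 u⟩
  obtain ⟨g, hg⟩ := isConj_iff.mp hxy
  obtain ⟨d, hd, m, hm, rfl⟩ := frattini P g
  set x₁ := m * x * m⁻¹ with hx₁
  have hx₁N : x₁ ∈ Subgroup.normalizer (H : Set G) :=
    Subgroup.mul_mem _ (Subgroup.mul_mem _ hm (hPN hx)) (Subgroup.inv_mem _ hm)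
  have hx₁p : ∃ k : ℕ, orderOf x₁ = p ^ k := by
    rw [hx₁, Invol.orderOf_conj']
    obtain ⟨k, hk⟩ := (IsPGroup.iff_orderOf.mp P.isPGroup') ⟨x, hx⟩
    rw [Subgroup.orderOf_mk] at hk
    exact ⟨k, hk⟩
  have hdy : (d⁻¹)⁻¹ * x₁ * d⁻¹ ∈ Subgroup.normalizer (H : Set G) := by
    have e : (d⁻¹)⁻¹ * x₁ * d⁻¹ = y := by rw [← hg, hx₁]; group
    rw [e]
    exact hPN hy
  obtain ⟨d₁, ⟨hd₁, hd₁c⟩, d₂, ⟨hd₂, hd₂c⟩, hde⟩ := part_a P x₁ hx₁N hx₁p d⁻¹ (Subgroup.inv_mem _ hd) hdy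
  have hd₂N : d₂ ∈ Subgroup.normalizer (H : Set G) := by
    refine Subgroup.mem_normalizer_fintype ?_
    intro w hw
    have := Subgroup.mem_centralizer_iff.mp hd₂c w hw
    rw [← this]
    have e : w * d₂ * d₂⁻¹ = w := by group
    rw [e]; exact hw
  refine ⟨d₂⁻¹ * m, Subgroup.mul_mem _ (Subgroup.inv_mem _ hd₂N) hm, ?_⟩
  have hcomm : d₁⁻¹ * x₁ * d₁ = x₁ := by
    have := Subgroup.mem_centralizer_iff.mp hd₁c x₁ (Set.mem_singleton x₁)
    rw [mul_assoc, this]; group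
  have hde' : d = d₂⁻¹ * d₁⁻¹ := by
    have : d = (d⁻¹)⁻¹ := by group
    rw [this, hde]; group
  rw [← hg]
  calc d₂⁻¹ * m * x * (d₂⁻¹ * m)⁻¹ = d₂⁻¹ * x₁ * d₂ := by rw [hx₁]; group
    _ = d₂⁻¹ * (d₁⁻¹ * x₁ * d₁) * d₂ := by rw [hcomm]
    _ = (d₂⁻¹ * d₁⁻¹) * x₁ * (d₂⁻¹ * d₁⁻¹)⁻¹ := by group
    _ = d * m * x * (d * m)⁻¹ := by rw [← hde', hx₁]; group

end Cfsg.Agent.S1907
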