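import Cfsg.Statements.S1910
import Mathlib
import Cfsg.Agent.Lib.H9CF
import Cfsg.Agent.Lib.FusGroup
import Cfsg.Agent.Lib.H1Cop
import Cfsg.Agent.Lib.H9Hyp

set_option autoImplicit false
open Cfsg

namespace Cfsg.Agent.S1910

open Cfsg Subgroup Cfsg.Agent.Lib.PNilp Cfsg.Agent.Lib.H9CF Cfsg.Agent.Lib.FusGroup Cfsg.Agent.Lib.H1Cop

variable {G : Type*} [Group G] [Finite G]

theorem odd_two {K : Subgroup G} (hK : Odd (Nat.card K)) {x : G} (hx : x ∈ K) (hx2 : ∃ k : ℕ, x ^ (2 ^ k) = 1) : x = 1 := by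
  obtain ⟨k, hk⟩ := hx2
  have h1 : orderOf x ∣ 2 ^ k := orderOf_dvd_of_pow_eq_one hk
  obtain ⟨j, -, hj⟩ := (Nat.dvd_prime_pow Nat.prime_two).1 h1
  have h2 : orderOf x ∣ Nat.card K := by
    rw [← Subgroup.orderOf_mk x hx]
    exact orderOf_dvd_natCard _
  cases j with
  | zero => simpa [orderOf_eq_one_iff] using hj
  | succ j =>
    exfalso
    rw [hj] at h2
    have h3 : 2 ∣ Nat.card K := (dvd_pow_self 2 (Nat.succ_ne_zero j)).trans h2
    exact (Nat.not_even_iff_odd.2 hK) (even_iff_two_dvd.2 h3)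

theorem tight_comm {K : Subgroup G} (hK : ∀ h : G, h ∉ NN K → Odd (Nat.card ↥(K ⊓ cg h K))) {u h : G} (hu : u ∈ K) (hu1 : u ≠ 1)
    (hu2 : ∃ k : ℕ, u ^ (2 ^ k) = 1) (hc : h * u = u * h) : h ∈ NN K := by
  by_contra hn
  apply hu1
  refine odd_two (hK h hn) (Subgroup.mem_inf.2 ⟨hu, ?_⟩) hu2
  rw [mem_cg]
  have : h⁻¹ * u * h = u := by
    rw [mul_assoc, ← hc]; group
  rw [this]; exact hu

theorem two_elt {P : Subgroup G} (hP : IsPGroup 2 P) {x : G} (hx : x ∈ P) : ∃ k : ℕ, x ^ (2 ^ k) = 1 := by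
  obtain ⟨k, hk⟩ := hP ⟨x, hx⟩
  exact ⟨k, by simpa using congrArg Subtype.val hk⟩

theorem sylow_inf_of_normalizes {U K N₀ : Subgroup G} (hU : U ≤ N₀) (hK : K ≤ N₀) (hN : N₀ ≤ NN K)
    (h : ¬ 2 ∣ U.relIndex N₀) : ¬ 2 ∣ (U ⊓ K).relIndex K := by
  have h1 := card_sup_mul_inf_of_normalizes (A := U) (K := K) (hU.trans hN)
  have h2 : U.relIndex (U ⊔ K) ∣ U.relIndex N₀ := by
    have hle : U ⊔ K ≤ N₀ := sup_le hU hK
    rw [← Subgroup.relIndex_mul_relIndex U (U ⊔ K) N₀ le_sup_left hle]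
    exact Nat.dvd_mul_right _ _
  have h3 : (U ⊓ K).relIndex K = U.relIndex (U ⊔ K) := by
    have a1 := Cfsg.Agent.Lib.H9Hyp.rel_card (show U ⊓ K ≤ K from inf_le_right)
    have a2 := Cfsg.Agent.Lib.H9Hyp.rel_card (show U ≤ U ⊔ K from le_sup_left)
    have hpos : 0 < Nat.card ↥(U ⊓ K) := Nat.card_pos
    have hpos2 : 0 < Nat.card U := Nat.card_pos
    apply Nat.eq_of_mul_eq_mul_right (Nat.mul_pos hpos hpos2)
    calc (U ⊓ K).relIndex K * (Nat.card ↥(U ⊓ K) * Nat.card U) = ((U ⊓ K).relIndex K * Nat.card ↥(U ⊓ K)) * Nat.card U := by ring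
      _ = Nat.card K * Nat.card U := by rw [a1]
      _ = Nat.card U * Nat.card K := by ring
      _ = Nat.card ↥(U ⊔ K) * Nat.card ↥(U ⊓ K) := h1.symm
      _ = (U.relIndex (U ⊔ K) * Nat.card U) * Nat.card ↥(U ⊓ K) := by rw [a2]
      _ = U.relIndex (U ⊔ K) * (Nat.card ↥(U ⊓ K) * Nat.card U) := by ring
  rw [h3]
  exact fun hd => h (hd.trans h2)

theorem anti_inj {P T R : Subgroup G} (hP : IsPGroup 2 P) (hT : IsPGroup 2 T) (hTP : T ≤ NN P) (hRP : R ≤ P)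
    (hRT : ∀ r ∈ R, ∀ t ∈ T, r * t = t * r) (hdisj : T ⊓ P = ⊥) (hlt : R < P)
    (hfree : ∀ p ∈ P, ∀ t ∈ T, t ≠ 1 → p * t = t * p → p ∈ R) :
    ∃ f : T →* R, Function.Injective f := by
  haveI : Fact (Nat.Prime 2) := ⟨Nat.prime_two⟩
  have hS₁ : IsPGroup 2 ↥(T ⊔ P) := IsPGroup.to_sup_of_normal_right' hT hP hTP
  have hTR : T ≤ NN R := by
    intro t ht
    rw [mem_normalizer_iff]
    intro y
    constructor
    · intro hy
      have : t * y * t⁻¹ = y := by rw [← hRT y hy t ht]; group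
      rwa [this]
    · intro hy
      have h1 := hRT _ hy t ht
      have : t * y * t⁻¹ = y := by
        have e : t * (t * y * t⁻¹) = t * y := by
          rw [← h1]; group
        exact mul_left_cancel e
      rwa [← this]
  -- a good element
  set D : Subgroup G := T ⊔ R with hD
  have hDP : ∀ x ∈ D, x ∈ P → x ∈ R := by
    intro x hx hxP
    obtain ⟨t, ht, r, hr, rfl⟩ := mem_sup_of_le_normalizer hTR hx
    have h1 : t ∈ T ⊓ P := ⟨ht, by
      have := P.mul_mem hxP (P.inv_mem (hRP hr))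
      simpa using this⟩
    rw [hdisj] at h1
    have h2 : t = 1 := Subgroup.mem_bot.1 h1
    simpa [h2] using hr
  obtain ⟨p₀, hp₀, hp₀R⟩ := SetLike.exists_of_lt hlt
  have hDlt : D < T ⊔ P := by
    refine lt_of_le_of_ne (sup_le_sup_left hRP T) ?_
    intro e
    apply hp₀R
    apply hDP p₀ ?_ hp₀
    rw [e]
    exact Subgroup.mem_sup_right hp₀
  have h3 := lt_inf_normalizer (p := 2) (T ⊔ P) D hS₁ hDlt
  obtain ⟨y₁, hy₁, hy₁D⟩ := SetLike.exists_of_lt h3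
  obtain ⟨hy₁S, hy₁N⟩ := Subgroup.mem_inf.1 hy₁
  obtain ⟨t', ht', p, hp, rfl⟩ := mem_sup_of_le_normalizer hTP hy₁S
  have hTD : T ≤ D := le_sup_left
  have hDN : D ≤ NN D := Subgroup.le_normalizer
  have hpN : p ∈ NN D := by
    have := (NN D).mul_mem (inv_mem (hDN (hTD ht'))) hy₁N
    simpa using this
  have hpD : p ∉ D := by
    intro h
    exact hy₁D (D.mul_mem (hTD ht') h)
  have hpR : p ∉ R := fun h => hpD (Subgroup.mem_sup_right h)
  -- the commutator map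
  have hc : ∀ t ∈ T, p⁻¹ * t⁻¹ * p * t ∈ R := by
    intro t ht
    apply hDP
    · refine D.mul_mem ?_ (hTD ht)
      have := (mem_normalizer_iff.1 (inv_mem hpN) t⁻¹).1 (D.inv_mem (hTD ht))
      simpa using this
    · have h1 : t⁻¹ * p * t ∈ P := by
        have := (mem_normalizer_iff.1 (inv_mem (hTP ht)) p).1 hp
        simpa using this
      have := P.mul_mem (P.inv_mem hp) h1
      simpa [mul_assoc] using this
  have hmul : ∀ a b : T, (⟨(p⁻¹ * (a * b : T)⁻¹ * p * (a * b : T)), hc _ (a * b).2⟩ : R)⁻¹ =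
      (⟨p⁻¹ * (a : G)⁻¹ * p * a, hc _ a.2⟩ : R)⁻¹ * (⟨p⁻¹ * (b : G)⁻¹ * p * b, hc _ b.2⟩ : R)⁻¹ := by
    intro a b
    rw [← mul_inv_rev]
    congr 1
    apply Subtype.ext
    show p⁻¹ * ((a : G) * b)⁻¹ * p * ((a : G) * b) = (p⁻¹ * (b : G)⁻¹ * p * b) * (p⁻¹ * (a : G)⁻¹ * p * a)
    have e := hRT _ (hc _ a.2) b b.2
    calc p⁻¹ * ((a : G) * b)⁻¹ * p * ((a : G) * b)
        = p⁻¹ * (b : G)⁻¹ * p * ((p⁻¹ * (a : G)⁻¹ * p * a) * b) := by group
      _ = p⁻¹ * (b : G)⁻¹ * p * ((b : G) * (p⁻¹ * (a : G)⁻¹ * p * a)) := by rw [e]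
      _ = _ := by group
  let f : T →* R := MonoidHom.mk' (fun t => (⟨p⁻¹ * (t : G)⁻¹ * p * t, hc _ t.2⟩ : R)⁻¹) hmul
  refine ⟨f, (injective_iff_map_eq_one f).2 ?_⟩
  intro t ht
  have h1 : (⟨p⁻¹ * (t : G)⁻¹ * p * t, hc _ t.2⟩ : R)⁻¹ = 1 := ht
  have h2 : p⁻¹ * (t : G)⁻¹ * p * t = 1 := by
    have := congrArg Subtype.val (inv_eq_one.1 h1)
    simpa using this
  by_contra hne
  have hne' : (t : G) ≠ 1 := fun e => hne (Subtype.ext e)
  apply hpR
  refine hfree p hp t t.2 hne' ?_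
  have h3 : (t : G)⁻¹ * p * t = p := by
    have e : p⁻¹ * ((t : G)⁻¹ * p * t) = 1 := by
      rw [← h2]; group
    have := mul_left_cancel (a := p⁻¹) (b := (t : G)⁻¹ * p * t) (c := p) (by rw [e]; simp)
    exact this
  calc p * t = (t : G) * ((t : G)⁻¹ * p * t) := by group
    _ = t * p := by rw [h3]

/-- Let Q be a tightly embedded subgroup of a finite group G, g an element outside N_G(Q), T a nontrivial Sylow 2-subgroup of Q^g ∩ N_G(Q), and S a Sylow 2-subgroup of QT containing T. Then T ∩ Q = 1, and N_S(T) is the direct product of T and N_S(T) ∩ Q, with N_S(T) ∩ Q isomorphic to T. -/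
theorem result {G : Type*} [Group G] [Finite G] (Q : Subgroup G) (hQ : Cfsg.IsTightlyEmbedded Q)
    (g : G) (hg : g ∉ Subgroup.normalizer (Q : Set G))
    (T : Subgroup G) (hT1 : T ≠ ⊥) (hT : T ≤ Q.map (MulAut.conj g).toMonoidHom ⊓ Subgroup.normalizer (Q : Set G))
    (hTsyl : IsPGroup 2 T ∧ ¬ 2 ∣ T.relIndex (Q.map (MulAut.conj g).toMonoidHom ⊓ Subgroup.normalizer (Q : Set G)))
    (S : Subgroup G) (hTS : T ≤ S) (hS : S ≤ Q ⊔ T) (hSsyl : IsPGroup 2 S ∧ ¬ 2 ∣ S.relIndex (Q ⊔ T)) :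
    T ⊓ Q = ⊥ ∧
      T ⊓ (S ⊓ Subgroup.normalizer (T : Set G) ⊓ Q) = ⊥ ∧
      ⁅T, S ⊓ Subgroup.normalizer (T : Set G) ⊓ Q⁆ = ⊥ ∧
      T ⊔ (S ⊓ Subgroup.normalizer (T : Set G) ⊓ Q) = S ⊓ Subgroup.normalizer (T : Set G) ∧
      Nonempty (↥(S ⊓ Subgroup.normalizer (T : Set G) ⊓ Q) ≃* T) := by
  have hgn : g ∉ NN Q := hg
  set Q' : Subgroup G := cg g Q with hQ'
  have hodd : Odd (Nat.card ↥(Q ⊓ Q')) := hQ.2 g hg
  have tQ : ∀ h : G, h ∉ NN Q → Odd (Nat.card ↥(Q ⊓ cg h Q)) := hQ.2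
  have tQ' : ∀ h : G, h ∉ NN Q' → Odd (Nat.card ↥(Q' ⊓ cg h Q')) := by
    intro h hh
    have h1 : g⁻¹ * h * g ∉ NN Q := by
      intro hc
      apply hh
      rw [hQ', NN_cg, mem_cg]
      exact hc
    have h2 := tQ _ h1
    have e : Q' ⊓ cg h Q' = cg g (Q ⊓ cg (g⁻¹ * h * g) Q) := by
      rw [cg_inf, ← cg_mul, hQ', ← cg_mul]
      congr 2
      group
    rw [e, card_cg]
    exact h2
  obtain ⟨hTQ', hTN⟩ := le_inf_iff.1 hT
  obtain ⟨hT2, hTi⟩ := hTsyl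
  obtain ⟨hS2, hSi⟩ := hSsyl
  have hQQ' : ∀ x ∈ Q, x ∈ Q' → (∃ k : ℕ, x ^ (2 ^ k) = 1) → x = 1 := fun x h1 h2 h3 =>
    odd_two hodd (Subgroup.mem_inf.2 ⟨h1, h2⟩) h3
  have h1 : T ⊓ Q = ⊥ := by
    rw [eq_bot_iff]
    intro x hx
    obtain ⟨hx1, hx2⟩ := Subgroup.mem_inf.1 hx
    exact Subgroup.mem_bot.2 (hQQ' x hx2 (hTQ' hx1) (two_elt hT2 hx1))
  set R : Subgroup G := S ⊓ Subgroup.normalizer (T : Set G) ⊓ Q with hR
  have hRS : R ≤ S := inf_le_left.trans inf_le_left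
  have hRN : R ≤ NN T := inf_le_left.trans inf_le_right
  have hRQ : R ≤ Q := inf_le_right
  have hcomm : ∀ r ∈ R, ∀ t ∈ T, r * t = t * r := by
    intro r hr t ht
    have a1 : t * r * t⁻¹ * r⁻¹ ∈ T := by
      have := (mem_normalizer_iff.1 (hRN hr) t⁻¹).1 (T.inv_mem ht)
      have h2 := T.mul_mem ht this
      simpa [mul_assoc] using h2
    have a2 : t * r * t⁻¹ * r⁻¹ ∈ Q := by
      have := (mem_normalizer_iff.1 (hTN ht) r).1 (hRQ hr)
      exact Q.mul_mem this (Q.inv_mem (hRQ hr))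
    have a3 : t * r * t⁻¹ * r⁻¹ ∈ T ⊓ Q := Subgroup.mem_inf.2 ⟨a1, a2⟩
    rw [h1] at a3
    have a4 : t * r * t⁻¹ * r⁻¹ = 1 := Subgroup.mem_bot.1 a3
    have a5 : t * r = r * t := by
      have e : t * r = (t * r * t⁻¹ * r⁻¹) * (r * t) := by group
      rw [e, a4, one_mul]
    exact a5.symm
  have hinf : T ⊓ R = ⊥ := by
    rw [eq_bot_iff]
    intro x hx
    obtain ⟨hx1, hx2⟩ := Subgroup.mem_inf.1 hx
    have : x ∈ T ⊓ Q := Subgroup.mem_inf.2 ⟨hx1, hRQ hx2⟩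
    rwa [h1] at this
  have hc0 : ⁅T, R⁆ = ⊥ := by
    rw [eq_bot_iff, Subgroup.commutator_le]
    intro t ht r hr
    rw [commutatorElement_def]
    have := hcomm r hr t ht
    have e : t * r * t⁻¹ * r⁻¹ = 1 := by
      rw [← this]; group
    rw [e]
    exact one_mem _
  have hdecomp : ∀ x ∈ S, ∃ t ∈ T, ∃ c ∈ S ⊓ Q, t * c = x := by
    intro x hx
    have hxs : x ∈ T ⊔ Q := by rw [sup_comm]; exact hS hx
    obtain ⟨t, ht, c, hc, rfl⟩ := mem_sup_of_le_normalizer hTN hxs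
    refine ⟨t, ht, c, Subgroup.mem_inf.2 ⟨?_, hc⟩, rfl⟩
    have := S.mul_mem (S.inv_mem (hTS ht)) hx
    simpa using this
  have hsup : T ⊔ R = S ⊓ Subgroup.normalizer (T : Set G) := by
    apply le_antisymm
    · exact sup_le (le_inf hTS Subgroup.le_normalizer) inf_le_left
    · intro x hx
      obtain ⟨hx1, hx2⟩ := Subgroup.mem_inf.1 hx
      obtain ⟨t, ht, c, hc, rfl⟩ := hdecomp x hx1
      have hcN : c ∈ NN T := by
        have := (NN T).mul_mem (inv_mem (Subgroup.le_normalizer ht)) hx2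
        simpa using this
      refine Subgroup.mul_mem_sup ht (Subgroup.mem_inf.2 ⟨Subgroup.mem_inf.2 ⟨(Subgroup.mem_inf.1 hc).1, hcN⟩, (Subgroup.mem_inf.1 hc).2⟩)
  refine ⟨h1, hinf, hc0, hsup, ?_⟩
  -- the isomorphism
  obtain ⟨t₀, ht₀, ht₀1⟩ : ∃ t ∈ T, t ≠ 1 := by
    by_contra hcon
    push Not at hcon
    exact hT1 (eq_bot_iff.2 fun x hx => Subgroup.mem_bot.2 (hcon x hx))
  have hRN' : R ≤ NN Q' := fun r hr =>
    tight_comm tQ' (hTQ' ht₀) ht₀1 (two_elt hT2 ht₀) (hcomm r hr t₀ ht₀)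
  have hR2 : IsPGroup 2 R := hS2.to_le hRS
  haveI : Fact (Nat.Prime 2) := ⟨Nat.prime_two⟩
  set P : Subgroup G := S ⊓ Q with hP
  have hP2 : IsPGroup 2 P := hS2.to_le inf_le_left
  have hPQ : P ≤ Q := inf_le_right
  have hTR : T ≤ NN R := by
    intro t ht
    rw [mem_normalizer_iff]
    intro y
    constructor
    · intro hy
      have : t * y * t⁻¹ = y := by rw [← hcomm y hy t ht]; group
      rwa [this]
    · intro hy
      have h1 := hcomm _ hy t ht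
      have : t * y * t⁻¹ = y := by
        have e : t * (t * y * t⁻¹) = t * y := by
          rw [← h1]; group
        exact mul_left_cancel e
      rwa [← this]
  have hTRp : IsPGroup 2 ↥(T ⊔ R) := IsPGroup.to_sup_of_normal_right' hT2 hR2 hTR
  set N₀ : Subgroup G := R ⊔ Q' with hN₀
  obtain ⟨R', hR'1, hR'2⟩ := exists_sylow_over (p := 2) (T ⊔ R) hTRp N₀
  set U : Subgroup G := (R' : Subgroup G) ⊓ N₀ with hU
  have hQ'N₀ : Q' ≤ N₀ := le_sup_right
  have hRN₀ : R ≤ N₀ := le_sup_left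
  have hN₀N : N₀ ≤ NN Q' := sup_le hRN' Subgroup.le_normalizer
  have hTU : T ≤ U := fun x hx => Subgroup.mem_inf.2 ⟨hR'1 (Subgroup.mem_inf.2 ⟨Subgroup.mem_sup_left hx, hQ'N₀ (hTQ' hx)⟩), hQ'N₀ (hTQ' hx)⟩
  have hRU : R ≤ U := fun x hx => Subgroup.mem_inf.2 ⟨hR'1 (Subgroup.mem_inf.2 ⟨Subgroup.mem_sup_right hx, hRN₀ hx⟩), hRN₀ hx⟩
  set P' : Subgroup G := U ⊓ Q' with hP'
  have hP'2 : IsPGroup 2 P' := R'.2.to_le (inf_le_left.trans inf_le_left)
  have hP'i : ¬ 2 ∣ P'.relIndex Q' := sylow_inf_of_normalizes inf_le_right hQ'N₀ hN₀N hR'2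
  have hPi : ¬ 2 ∣ P.relIndex Q := by
    refine sylow_inf_of_normalizes (N₀ := Q ⊔ T) hS le_sup_left ?_ hSi
    exact sup_le Subgroup.le_normalizer hTN
  have hTP' : T ≤ P' := le_inf hTU hTQ'
  have hRP : R ≤ P := le_inf hRS hRQ
  -- `P` and `P'` are conjugate
  obtain ⟨k, hkQ', hk⟩ := exists_conj_of_relIndex (p := 2) Q' (cg g P) P' (isPGroup_cg g hP2) hP'2 (cg_mono g hPQ) inf_le_right
    (by rw [hQ', relIndex_cg]; exact hPi) hP'i
  have hcard : Nat.card P' = Nat.card P := by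
    rw [← hk, card_cg, card_cg]
  have htop : T ≤ NN P := by
    intro t ht
    rw [mem_normalizer_iff]
    intro y
    have a1 := mem_normalizer_iff.1 (hTN ht) y
    have a2 : y ∈ S ↔ t * y * t⁻¹ ∈ S := by
      constructor
      · intro hy
        exact S.mul_mem (S.mul_mem (hTS ht) hy) (S.inv_mem (hTS ht))
      · intro hy
        have := S.mul_mem (S.mul_mem (S.inv_mem (hTS ht)) hy) (hTS ht)
        simpa [mul_assoc] using this
    simp only [hP, Subgroup.mem_inf]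
    rw [a2, a1]
  have hfree1 : ∀ p ∈ P, ∀ t ∈ T, t ≠ 1 → p * t = t * p → p ∈ R := by
    intro p hp t ht ht1 hpt
    have hpN : p ∈ NN Q' := tight_comm tQ' (hTQ' ht) ht1 (two_elt hT2 ht) hpt
    have hcm : ∀ t' ∈ T, p⁻¹ * t'⁻¹ * p * t' = 1 := by
      intro t' ht'
      apply hQQ'
      · have a1 : t'⁻¹ * p * t' ∈ P := by
          have := (mem_normalizer_iff.1 (inv_mem (htop ht')) p).1 hp
          simpa using this
        have := P.mul_mem (P.inv_mem hp) a1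
        have a2 : p⁻¹ * (t'⁻¹ * p * t') ∈ Q := hPQ this
        simpa [mul_assoc] using a2
      · refine Q'.mul_mem ?_ (hTQ' ht')
        have := (mem_normalizer_iff.1 (inv_mem hpN) t'⁻¹).1 (Q'.inv_mem (hTQ' ht'))
        simpa using this
      · -- a 2-element of `P`
        have a1 : t'⁻¹ * p * t' ∈ P := by
          have := (mem_normalizer_iff.1 (inv_mem (htop ht')) p).1 hp
          simpa using this
        have := P.mul_mem (P.inv_mem hp) a1
        have a2 : p⁻¹ * t'⁻¹ * p * t' ∈ P := by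
          simpa [mul_assoc] using this
        exact two_elt hP2 a2
    have hcm2 : ∀ t' ∈ T, p * t' = t' * p := by
      intro t' ht'
      have a := hcm t' ht'
      have e : t'⁻¹ * p * t' = p := by
        have e2 : p⁻¹ * (t'⁻¹ * p * t') = 1 := by rw [← a]; group
        exact (mul_left_cancel (a := p⁻¹) (b := t'⁻¹ * p * t') (c := p) (by rw [e2]; simp))
      calc p * t' = t' * (t'⁻¹ * p * t') := by group
        _ = t' * p := by rw [e]
    have hpT : p ∈ NN T := by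
      rw [mem_normalizer_iff]
      intro y
      constructor
      · intro hy
        have e : p * y * p⁻¹ = y := by rw [hcm2 y hy]; group
        rwa [e]
      · intro hy
        have h2 := hcm2 _ hy
        have e : p * y * p⁻¹ = y := by
          have e3 : p * (p * y * p⁻¹) = p * y := by
            rw [h2]; group
          exact mul_left_cancel e3
        rwa [← e]
    exact Subgroup.mem_inf.2 ⟨Subgroup.mem_inf.2 ⟨(Subgroup.mem_inf.1 hp).1, hpT⟩, hPQ hp⟩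
  have hfree2 : ∀ p ∈ P', ∀ r ∈ R, r ≠ 1 → p * r = r * p → p ∈ T := by
    intro p hp r hr hr1 hpr
    have hpN : p ∈ NN Q := tight_comm tQ (hRQ hr) hr1 (two_elt hR2 hr) hpr
    have hpB : p ∈ Q' ⊓ NN Q := Subgroup.mem_inf.2 ⟨(Subgroup.mem_inf.1 hp).2, hpN⟩
    have he := eq_of_sylow_le (p := 2) (Y := T) (Z := P' ⊓ (Q' ⊓ NN Q)) (L := Q' ⊓ NN Q) (le_inf hTP' hT) (hP'2.to_le inf_le_left) inf_le_right hTi
    rw [he]
    exact Subgroup.mem_inf.2 ⟨hp, hpB⟩
  have hRP' : R ≤ NN P' := by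
    intro r hr
    rw [mem_normalizer_iff]
    intro y
    have a1 := mem_normalizer_iff.1 (hRN' hr) y
    have a2 : y ∈ U ↔ r * y * r⁻¹ ∈ U := by
      constructor
      · intro hy
        exact U.mul_mem (U.mul_mem (hRU hr) hy) (U.inv_mem (hRU hr))
      · intro hy
        have := U.mul_mem (U.mul_mem (U.inv_mem (hRU hr)) hy) (hRU hr)
        simpa [mul_assoc] using this
    simp only [hP', Subgroup.mem_inf]
    rw [a2, a1]
  have hd1 : T ⊓ P = ⊥ := by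
    rw [eq_bot_iff]
    intro x hx
    have : x ∈ T ⊓ Q := Subgroup.mem_inf.2 ⟨(Subgroup.mem_inf.1 hx).1, hPQ (Subgroup.mem_inf.1 hx).2⟩
    rwa [h1] at this
  have hd2 : R ⊓ P' = ⊥ := by
    rw [eq_bot_iff]
    intro x hx
    obtain ⟨a1, a2⟩ := Subgroup.mem_inf.1 hx
    exact Subgroup.mem_bot.2 (hQQ' x (hRQ a1) (Subgroup.mem_inf.1 a2).2 (two_elt hR2 a1))
  have hcomm' : ∀ t ∈ T, ∀ r ∈ R, t * r = r * t := fun t ht r hr => (hcomm r hr t ht).symm
  by_cases hRlt : R = P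
  · by_cases hTlt : T = P'
    · -- both are Sylow
      have e1 : cg (k * g) P = T := by
        rw [cg_mul]
        exact hk.trans hTlt.symm
      refine ⟨(MulEquiv.subgroupCongr hRlt).trans ((P.equivMapOfInjective _ (MulAut.conj (k * g)).injective).trans (MulEquiv.subgroupCongr e1))⟩
    · exfalso
      have hlt : T < P' := lt_of_le_of_ne hTP' hTlt
      obtain ⟨f, hf⟩ := anti_inj hP'2 hR2 hRP' hTP' hcomm' hd2 hlt hfree2
      have h2 := Nat.card_le_card_of_injective f hf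
      have h3 := card_lt_of_lt' hlt
      rw [hRlt, ← hcard] at h2
      omega
  · have hlt : R < P := lt_of_le_of_ne hRP hRlt
    obtain ⟨f, hf⟩ := anti_inj hP2 hT2 htop hRP hcomm hd1 hlt hfree1
    by_cases hTlt : T = P'
    · exfalso
      have h2 := Nat.card_le_card_of_injective f hf
      have h3 := card_lt_of_lt' hlt
      rw [hTlt, hcard] at h2
      omega
    · have hlt' : T < P' := lt_of_le_of_ne hTP' hTlt
      obtain ⟨f', hf'⟩ := anti_inj hP'2 hR2 hRP' hTP' hcomm' hd2 hlt' hfree2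
      have h2 := Nat.card_le_card_of_injective f hf
      have h3 := Nat.card_le_card_of_injective f' hf'
      have hb : Function.Bijective f :=
        (Nat.bijective_iff_injective_and_card f).2 ⟨hf, le_antisymm h2 h3⟩
      exact ⟨(MulEquiv.ofBijective f hb).symm⟩

end Cfsg.Agent.S1910
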