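import Cfsg.Statements.S1921
import Mathlib
import Cfsg.Agent.Lib.Comp

set_option autoImplicit false
open Cfsg

namespace Cfsg.Agent.S1921

open Cfsg Cfsg.Agent.Lib.Comp

/-- Let a be an involution of a finite group H and L a component of H with a L a⁻¹ ≠ L; put M = ⟨L, aLa⁻¹⟩ and let J be the subgroup generated by the elements x · a x a⁻¹ with x ∈ L (the diagonal). Then every element of M outside J·Z(M) generates M together with J. -/
theorem result {H : Type*} [Group H] [Finite H] (a : H) (ha : orderOf a = 2) (L : Subgroup H) (hL : Cfsg.IsComponent L)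
    (hLa : L.map (MulAut.conj a).toMonoidHom ≠ L) (x : H) (hxM : x ∈ L ⊔ L.map (MulAut.conj a).toMonoidHom)
    (hxJ : x ∉ Subgroup.closure {y : H | ∃ l ∈ L, y = l * (a * l * a⁻¹)} ⊔
      ((L ⊔ L.map (MulAut.conj a).toMonoidHom) ⊓ Subgroup.centralizer ((L ⊔ L.map (MulAut.conj a).toMonoidHom : Subgroup H) : Set H))) :
    Subgroup.closure {y : H | ∃ l ∈ L, y = l * (a * l * a⁻¹)} ⊔ Subgroup.zpowers x = L ⊔ L.map (MulAut.conj a).toMonoidHom := by
  set La := L.map (MulAut.conj a).toMonoidHom with hLa'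
  have hLaC : IsComponent La := isComponent_map_equiv hL (MulAut.conj a)
  have hcomm : ∀ l ∈ L, ∀ m ∈ La, l * m = m * l := comm_iff.mp (comp_comm_comp hL hLaC hLa.symm)
  have hconj : ∀ l ∈ L, a * l * a⁻¹ ∈ La := fun l hl => ⟨l, hl, rfl⟩
  set J := Subgroup.closure {y : H | ∃ l ∈ L, y = l * (a * l * a⁻¹)} with hJ
  have hφ : ∀ l ∈ L, l * (a * l * a⁻¹) ∈ J := fun l hl => Subgroup.subset_closure ⟨l, hl, rfl⟩
  have hLM : L ≤ L ⊔ La := le_sup_left
  have hLaM : La ≤ L ⊔ La := le_sup_right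
  have hJM : J ≤ L ⊔ La := by
    refine (Subgroup.closure_le _).mpr ?_
    rintro _ ⟨l, hl, rfl⟩
    exact Subgroup.mul_mem _ (hLM hl) (hLaM (hconj l hl))
  obtain ⟨l₁, hl₁, m₂, hm₂, hxe⟩ := mem_sup_of_comm hcomm hxM
  obtain ⟨l₂, hl₂, rfl⟩ := hm₂
  have hm2' : (MulAut.conj a).toMonoidHom l₂ = a * l₂ * a⁻¹ := rfl
  rw [hm2'] at hxe
  set y := l₁ * l₂⁻¹ with hy
  have hyL : y ∈ L := L.mul_mem hl₁ (L.inv_mem hl₂)
  have hxy : x = y * (l₂ * (a * l₂ * a⁻¹)) := by rw [← hxe, hy]; group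
  set T := J ⊔ Subgroup.zpowers x with hT
  have hJT : J ≤ T := le_sup_left
  have hxT : x ∈ T := (le_sup_right : Subgroup.zpowers x ≤ T) (Subgroup.mem_zpowers x)
  have hyT : y ∈ T := by
    have e : y = x * (l₂ * (a * l₂ * a⁻¹))⁻¹ := by rw [hxy]; group
    rw [e]
    exact T.mul_mem hxT (T.inv_mem (hJT (hφ l₂ hl₂)))
  have hTM : T ≤ L ⊔ La := by
    refine sup_le hJM ?_
    rw [Subgroup.zpowers_le]
    exact hxM
  apply le_antisymm hTM
  haveI hNn : (T.subgroupOf L).Normal := by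
    constructor
    rintro ⟨t, htL⟩ ht ⟨l, hl⟩
    rw [Subgroup.mem_subgroupOf] at ht ⊢
    show l * t * l⁻¹ ∈ T
    have h1 := hcomm t htL _ (hconj l hl)
    have e : l * t * l⁻¹ = (l * (a * l * a⁻¹)) * t * (l * (a * l * a⁻¹))⁻¹ := by
      have h2 : (a * l * a⁻¹) * t * (a * l * a⁻¹)⁻¹ = t := by
        rw [← h1]; group
      calc l * t * l⁻¹ = l * ((a * l * a⁻¹) * t * (a * l * a⁻¹)⁻¹) * l⁻¹ := by rw [h2]
        _ = _ := by group
    rw [e]
    exact T.mul_mem (T.mul_mem (hJT (hφ l hl)) ht) (T.inv_mem (hJT (hφ l hl)))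
  rcases qs_normal hL.2 (T.subgroupOf L) with h | h
  · have hLT : L ≤ T := by
      rw [Subgroup.subgroupOf_eq_top] at h
      exact h
    refine sup_le hLT ?_
    rintro _ ⟨l, hl, rfl⟩
    have e : (MulAut.conj a).toMonoidHom l = l⁻¹ * (l * (a * l * a⁻¹)) := by
      show a * l * a⁻¹ = _
      group
    rw [e]
    exact T.mul_mem (T.inv_mem (hLT hl)) (hJT (hφ l hl))
  · exfalso
    apply hxJ
    have hyc : (⟨y, hyL⟩ : L) ∈ Subgroup.center L := h (by exact hyT)
    have hyc' : ∀ l ∈ L, l * y = y * l := by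
      intro l hl
      have := Subgroup.mem_center_iff.mp hyc ⟨l, hl⟩
      exact congrArg Subtype.val this
    have hyZ : y ∈ (L ⊔ La) ⊓ Subgroup.centralizer ((L ⊔ La : Subgroup H) : Set H) := by
      refine ⟨hLM hyL, Subgroup.mem_centralizer_iff.mpr ?_⟩
      intro g hg
      obtain ⟨l, hl, m, hm, rfl⟩ := mem_sup_of_comm hcomm hg
      have h1 := hcomm y hyL m hm
      calc l * m * y = l * (m * y) := by group
        _ = l * (y * m) := by rw [h1]
        _ = (l * y) * m := by group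
        _ = (y * l) * m := by rw [hyc' l hl]
        _ = y * (l * m) := by group
    rw [hxy]
    have h3 := Subgroup.mem_centralizer_iff.mp hyZ.2 _ (hJM (hφ l₂ hl₂))
    rw [← h3]
    exact Subgroup.mul_mem_sup (hφ l₂ hl₂) hyZ

end Cfsg.Agent.S1921
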