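import Cfsg.Statements.S1922
import Mathlib
import Cfsg.Agent.Lib.StrongEmb
import Cfsg.Agent.Lib.H9CF
import Cfsg.Agent.Lib.IrrBasic

set_option autoImplicit false
open Cfsg

namespace Cfsg.Agent.S1922

open Cfsg.Agent.Lib.Invol Cfsg.Agent.Lib.StrongEmb Cfsg.Agent.Lib.H9CF

section A
variable {G : Type*} [Group G]

lemma conj_even {x y : G} (hx : orderOf x = 2) (hy : orderOf y = 2) (j : ℤ) :
    x * (x * y) ^ (2 * j) = (x * y) ^ (-j) * x * ((x * y) ^ (-j))⁻¹ := by
  rw [zpow_conj hx hy, mul_zpow_comm hx hy]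
  congr 2; ring

lemma isConj_of_eq {a b g : G} (h : b = g * a * g⁻¹) : IsConj a b := isConj_iff.2 ⟨g, h.symm⟩

lemma class_mem {z x y : G} (hx : IsConj z x) (hy : IsConj z y) (hx2 : orderOf x = 2) (hy2 : orderOf y = 2) (k : ℤ) :
    IsConj z (x * (x * y) ^ k) := by
  rcases Int.even_or_odd' k with ⟨j, rfl | rfl⟩
  · exact hx.trans (isConj_of_eq (conj_even hx2 hy2 j))
  · have e : x * (x * y) ^ (2 * j + 1) = y * (y * x) ^ (2 * (-j)) := by
      have e1 : y * x = (x * y)⁻¹ := by rw [mul_inv_rev, inv_eq_self hx2, inv_eq_self hy2]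
      have e2 : ((x * y)⁻¹) ^ (2 * (-j)) = (x * y) ^ (2 * j) := by
        rw [inv_zpow', show -(2 * -j) = 2 * j by ring]
      rw [e1, e2, add_comm, zpow_one_add, ← mul_assoc, left_cancel_pair hx2]
    rw [e]
    exact hy.trans (isConj_of_eq (conj_even hy2 hx2 (-j)))

lemma ord_of_conj {z a : G} (hz : orderOf z = 2) (h : IsConj z a) : orderOf a = 2 := by
  obtain ⟨c, rfl⟩ := isConj_iff.1 h
  rw [orderOf_conj']; exact hz

lemma exists_class_conj [Finite G] {z x y : G} (hx0 : IsConj z x) (hy0 : IsConj z y) (hx : orderOf x = 2)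
    (hy : orderOf y = 2) (hodd : Odd (orderOf (x * y))) :
    ∃ i : G, IsConj z i ∧ orderOf i = 2 ∧ i * x * i⁻¹ = y := by
  obtain ⟨m, hm⟩ := hodd
  have hconj : ∀ k : ℤ, x * (x * y) ^ k * x⁻¹ = ((x * y) ^ k)⁻¹ := fun k => by
    rw [conj_zpow_inv hx hy, zpow_neg]
  have hd : (x * y) ^ (m : ℤ) * x * ((x * y) ^ (m : ℤ))⁻¹ = y := by
    rw [zpow_conj hx hy]
    conv_rhs => rw [y_eq_zpow_x hx hy]
    congr 1
    rw [zpow_eq_zpow_iff_modEq, hm]
    rw [Int.modEq_iff_dvd]
    push_cast
    exact ⟨-1, by ring⟩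
  have hcl : IsConj z ((x * y) ^ (m : ℤ) * x) := by
    rw [zpow_mul_comm hx hy]
    exact class_mem hx0 hy0 hx hy _
  refine ⟨(x * y) ^ (m : ℤ) * x, hcl, ord_of_conj (z := z) ?_ hcl, ?_⟩
  · by_contra hzn
    exact hzn (by
      have := (ord_of_conj (z := x) hx hx0.symm)
      exact this)
  · rw [mul_inv_rev, inv_eq_self hx]
    calc (x * y) ^ (m : ℤ) * x * x * (x * ((x * y) ^ (m : ℤ))⁻¹)
        = (x * y) ^ (m : ℤ) * (x * x) * x * ((x * y) ^ (m : ℤ))⁻¹ := by group
      _ = (x * y) ^ (m : ℤ) * x * ((x * y) ^ (m : ℤ))⁻¹ := by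
          rw [mul_self_eq_one hx, mul_one]
      _ = y := hd

lemma odd_card_of_invol {α : Type*} [DecidableEq α] (s : Finset α) (f : α → α) (hf : ∀ x ∈ s, f x ∈ s)
    (hff : ∀ x ∈ s, f (f x) = x) (x₀ : α) (hx₀ : x₀ ∈ s) (hfx₀ : f x₀ = x₀) (huniq : ∀ x ∈ s, f x = x → x = x₀) :
    Odd s.card := by
  have h1 : ∑ x ∈ s.erase x₀, (1 : ZMod 2) = 0 := by
    apply Finset.sum_involution (fun x _ => f x)
    · intro a _
      rfl
    · intro a ha _ hc
      exact (Finset.mem_erase.1 ha).1 (huniq a (Finset.mem_erase.1 ha).2 hc)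
    · intro a ha
      rw [Finset.mem_erase] at ha ⊢
      refine ⟨?_, hf a ha.2⟩
      intro hc
      apply ha.1
      have := hff a ha.2
      rw [hc, hfx₀] at this
      exact this.symm
    · intro a ha
      exact hff a (Finset.mem_erase.1 ha).2
  simp only [Finset.sum_const, nsmul_eq_mul, mul_one] at h1
  rw [ZMod.natCast_eq_zero_iff] at h1
  rw [← Finset.card_erase_add_one hx₀]
  exact Even.add_one (even_iff_two_dvd.2 h1)

end A

section B
variable {G Ω : Type*} [Group G] [MulAction G Ω]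

structure Hyp (z : G) (Ω : Type*) [MulAction G Ω] : Prop where
  ord : orderOf z = 2
  uniq : ∀ a, IsConj z a → ∀ ω ω' : Ω, a • ω = ω → a • ω' = ω' → ω = ω'
  ex : ∃ ω : Ω, z • ω = ω
  comm : ∀ a t, IsConj z a → IsConj z t → a ≠ t → t * a = a * t → ∀ ω : Ω, (a * t) • ω = ω ↔ a • ω = ω

variable {z : G}

lemma Hyp.odd_mul [Finite G] (h : Hyp z Ω) {a b : G} {α β : Ω} (ha : IsConj z a) (hb : IsConj z b)
    (haα : a • α = α) (hbβ : b • β = β) (hne : α ≠ β) : Odd (orderOf (a * b)) := by
  have ha2 := ord_of_conj h.ord ha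
  have hb2 := ord_of_conj h.ord hb
  by_contra hodd
  have heven := Nat.not_odd_iff_even.mp hodd
  set k := orderOf (a * b) / 2 with hk
  set c := (a * b) ^ k with hc
  have hc2 : orderOf c = 2 := orderOf_half' heven
  have hca : Commute c a := half_commute_left ha2 hb2 heven
  have hcb : Commute c b := half_commute_right ha2 hb2 heven
  have hc1 : c ≠ 1 := ne_one_of_two hc2
  have ht1 : IsConj z (a * c) := by
    have := class_mem ha hb ha2 hb2 (k : ℤ)
    rwa [zpow_natCast] at this
  have ht2 : IsConj z (b * c) := by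
    have := class_mem ha hb ha2 hb2 ((k : ℤ) + 1)
    have e : a * (a * b) ^ ((k : ℤ) + 1) = b * c := by
      rw [add_comm, zpow_one_add, ← mul_assoc, left_cancel_pair ha2, zpow_natCast]
    rwa [e] at this
  have h1 := h.comm a (a * c) ha ht1 (fun e => hc1 (by simpa using e.symm)) (by
    rw [mul_assoc, hca.eq]) α
  rw [left_cancel_pair ha2] at h1
  have h2 := h.comm b (b * c) hb ht2 (fun e => hc1 (by simpa using e.symm)) (by
    rw [mul_assoc, hcb.eq]) α
  rw [left_cancel_pair hb2] at h2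
  exact hne (h.uniq b hb α β (h2.1 (h1.2 haα)) hbβ)

lemma Hyp.exists_swap [Finite G] (h : Hyp z Ω) {a b : G} {α β : Ω} (ha : IsConj z a) (hb : IsConj z b)
    (haα : a • α = α) (hbβ : b • β = β) (hne : α ≠ β) :
    ∃ i : G, IsConj z i ∧ i * a * i⁻¹ = b ∧ i • α = β := by
  have ha2 := ord_of_conj h.ord ha
  have hb2 := ord_of_conj h.ord hb
  obtain ⟨i, hi, hi2, hc⟩ := exists_class_conj ha hb ha2 hb2 (h.odd_mul ha hb haα hbβ hne)
  refine ⟨i, hi, hc, h.uniq b hb _ _ ?_ hbβ⟩
  rw [← hc, ← mul_smul]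
  simp [mul_smul, haα]

open Classical in
theorem Hyp.class_odd [Finite G] [Finite Ω] [MulAction.IsPretransitive G Ω] [Fintype G] (h : Hyp z Ω)
    (hne : ∃ α β : Ω, α ≠ β) : Odd (Finset.univ.filter fun x : G => IsConj z x).card := by
  haveI := Fintype.ofFinite Ω
  set S : Finset G := Finset.univ.filter fun x : G => IsConj z x with hS
  have hmemS : ∀ a, a ∈ S ↔ IsConj z a := by intro a; simp [hS]
  have hfp : ∀ t : G, ∃ ω : Ω, IsConj z t → t • ω = ω := by
    intro t
    by_cases ht : IsConj z t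
    · obtain ⟨c, rfl⟩ := isConj_iff.1 ht
      obtain ⟨ω, hω⟩ := h.ex
      exact ⟨c • ω, fun _ => by simp [mul_smul, hω]⟩
    · obtain ⟨ω, _⟩ := h.ex
      exact ⟨ω, fun h' => absurd h' ht⟩
  choose fp hfpp using hfp
  let CC : Ω → Finset G := fun β => S.filter (fun t => t • β = β)
  let WW : Ω → Ω → Finset G := fun α β => S.filter (fun t => t • α = β)
  have hCCfp : ∀ β, S.filter (fun t => fp t = β) = CC β := by
    intro β
    ext t
    simp only [CC, Finset.mem_filter]
    constructor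
    · rintro ⟨h1, rfl⟩
      exact ⟨h1, hfpp t ((hmemS t).1 h1)⟩
    · rintro ⟨h1, h2⟩
      exact ⟨h1, h.uniq t ((hmemS t).1 h1) _ _ (hfpp t ((hmemS t).1 h1)) h2⟩
  have hsum1 : S.card = ∑ β, (CC β).card := by
    rw [Finset.card_eq_sum_card_fiberwise (f := fp) (t := Finset.univ) (fun x _ => Finset.mem_coe.2 (Finset.mem_univ _))]
    exact Finset.sum_congr rfl (fun β _ => by rw [hCCfp])
  have hsum2 : ∀ α, S.card = ∑ β, (WW α β).card := by
    intro α
    exact Finset.card_eq_sum_card_fiberwise (f := fun t => t • α) (t := Finset.univ) (fun x _ => Finset.mem_coe.2 (Finset.mem_univ _))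
  have hCCg : ∀ (g : G) (α : Ω), (CC (g • α)).card = (CC α).card := by
    intro g α
    apply Finset.card_bij (fun t _ => g⁻¹ * t * g)
    · intro t ht
      simp only [CC, Finset.mem_filter] at ht ⊢
      refine ⟨(hmemS _).2 (((hmemS t).1 ht.1).trans (isConj_of_eq (g := g⁻¹) (by simp))), ?_⟩
      have := ht.2
      rw [mul_smul, mul_smul, this]
      simp
    · intro a _ b _ e
      simpa using e
    · intro b hb
      simp only [CC, Finset.mem_filter] at hb
      refine ⟨g * b * g⁻¹, ?_, by group⟩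
      simp only [CC, Finset.mem_filter]
      refine ⟨(hmemS _).2 (((hmemS b).1 hb.1).trans (isConj_of_eq rfl)), ?_⟩
      simp [mul_smul, hb.2]
  have hCCeq : ∀ α β : Ω, (CC α).card = (CC β).card := by
    intro α β
    obtain ⟨g, rfl⟩ := MulAction.exists_smul_eq G α β
    exact (hCCg g α).symm
  have hCCne : ∀ α : Ω, ∃ u, u ∈ CC α := by
    intro α
    obtain ⟨ω, hω⟩ := h.ex
    obtain ⟨g, rfl⟩ := MulAction.exists_smul_eq G ω α
    refine ⟨g * z * g⁻¹, ?_⟩
    simp only [CC, Finset.mem_filter]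
    exact ⟨(hmemS _).2 (isConj_of_eq rfl), by simp [mul_smul, hω]⟩
  have hle : ∀ α β : Ω, (CC β).card ≤ (WW α β).card := by
    intro α β
    by_cases hαβ : α = β
    · subst hαβ
      exact le_rfl
    obtain ⟨u, hu⟩ := hCCne α
    simp only [CC, Finset.mem_filter] at hu
    have huc := (hmemS u).1 hu.1
    have hu2 := ord_of_conj h.ord huc
    apply Finset.card_le_card_of_surjOn (fun i => i * u * i⁻¹)
    intro v hv
    simp only [CC, Finset.coe_filter, Set.mem_ofPred_eq] at hv
    obtain ⟨i, hi, hc, hix⟩ := h.exists_swap huc ((hmemS v).1 hv.1) hu.2 hv.2 hαβ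
    refine ⟨i, ?_, hc⟩
    simp only [WW, Finset.coe_filter, Set.mem_ofPred_eq]
    exact ⟨(hmemS i).2 hi, hix⟩
  have hWWeq : ∀ α β : Ω, (CC β).card = (WW α β).card := by
    intro α
    have := (Finset.sum_eq_sum_iff_of_le (s := Finset.univ) (f := fun β => (CC β).card) (g := fun β => (WW α β).card) (fun β _ => hle α β)).1
      (by rw [← hsum1, ← hsum2])
    exact fun β => this β (Finset.mem_univ _)
  obtain ⟨α, β, hαβ⟩ := hne
  -- parity of the number of points
  have hΩ : Odd (Finset.univ : Finset Ω).card := by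
    obtain ⟨ω, hω⟩ := h.ex
    apply odd_card_of_invol Finset.univ (fun x => z • x) (fun _ _ => Finset.mem_univ _) ?_ ω (Finset.mem_univ _) hω
    · intro x _ hx
      exact h.uniq z (IsConj.refl z) _ _ hx hω
    · intro x _
      show z • z • x = x
      rw [← mul_smul, mul_self_eq_one h.ord, one_smul]
  have hW : Odd (WW α β).card := by
    have hcard : (WW α β).Nonempty := by
      rw [← Finset.card_pos, ← hWWeq]
      obtain ⟨u, hu⟩ := hCCne β
      exact Finset.card_pos.2 ⟨u, hu⟩
    obtain ⟨u, hu⟩ := hcard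
    simp only [WW, Finset.mem_filter] at hu
    have huc := (hmemS u).1 hu.1
    have hu2 := ord_of_conj h.ord huc
    have hu3 : u • β = α := swap_of hu2 hu.2
    have huinv : u⁻¹ = u := inv_eq_self hu2
    apply odd_card_of_invol (WW α β) (fun w => u * w * u⁻¹) ?_ ?_ u ?_ (by simp) ?_
    · intro w hw
      simp only [WW, Finset.mem_filter] at hw ⊢
      have hwc := (hmemS w).1 hw.1
      have hw2 := ord_of_conj h.ord hwc
      have hw3 : w • β = α := swap_of hw2 hw.2
      refine ⟨(hmemS _).2 (hwc.trans (isConj_of_eq rfl)), ?_⟩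
      rw [huinv, mul_smul, mul_smul, hu.2, hw3, hu.2]
    · intro w _
      rw [huinv]
      have := mul_self_eq_one hu2
      calc u * (u * w * u) * u = (u * u) * w * (u * u) := by group
        _ = w := by rw [this]; group
    · simp only [WW, Finset.mem_filter]
      exact hu
    · intro w hw hc
      simp only [WW, Finset.mem_filter] at hw
      have hwc := (hmemS w).1 hw.1
      have hw2 := ord_of_conj h.ord hwc
      have hw3 : w • β = α := swap_of hw2 hw.2
      by_contra hwu
      have hcm : w * u = u * w := by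
        have : u * w * u⁻¹ * u = w * u := by rw [hc]
        rw [← this]; group
      have h3 := h.comm u w huc hwc (Ne.symm hwu) hcm α
      have h4 : (u * w) • α = α := by rw [mul_smul, hw.2, hu3]
      have h5 := h3.1 h4
      rw [hu.2] at h5
      exact hαβ h5.symm
  rw [hsum1]
  have hconst : ∑ γ, (CC γ).card = (Finset.univ : Finset Ω).card * (WW α β).card := by
    rw [Finset.card_eq_sum_ones, Finset.sum_mul]
    apply Finset.sum_congr rfl
    intro γ _
    rw [one_mul, ← hWWeq α β]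
    exact hCCeq γ β
  rw [hconst]
  exact hΩ.mul hW

end B

section C
variable {G : Type*} [Group G] [Finite G] {z : G} {H : Subgroup G}

lemma fix_iff (h0 : ∀ g : G, z ∈ H.map (MulAut.conj g).toMonoidHom ↔ g ∈ H) (c g : G) :
    (c * z * c⁻¹) • (QuotientGroup.mk g : G ⧸ H) = QuotientGroup.mk g ↔ c⁻¹ * g ∈ H := by
  rw [smul_mk_eq_iff, ← h0 (c⁻¹ * g), mem_map_conj_iff]
  have : g⁻¹ * (c * z * c⁻¹) * g = (c⁻¹ * g)⁻¹ * z * (c⁻¹ * g) := by group
  rw [this]

lemma mk_eq_iff' (c g : G) : (QuotientGroup.mk g : G ⧸ H) = QuotientGroup.mk c ↔ c⁻¹ * g ∈ H := by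
  rw [eq_comm, QuotientGroup.eq]

theorem hyp_of (hz : orderOf z = 2) (h0 : ∀ g : G, z ∈ H.map (MulAut.conj g).toMonoidHom ↔ g ∈ H)
    (h1 : ∀ t : G, IsConj z t → t ≠ z → t * z = z * t → ∀ g : G, z * t ∈ H.map (MulAut.conj g).toMonoidHom ↔ g ∈ H) :
    Hyp z (G ⧸ H) := by
  refine ⟨hz, ?_, ⟨QuotientGroup.mk 1, ?_⟩, ?_⟩
  · intro a ha ω ω' h2 h3
    obtain ⟨c, rfl⟩ := isConj_iff.1 ha
    induction ω using QuotientGroup.induction_on with
    | H g =>
      induction ω' using QuotientGroup.induction_on with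
      | H g' =>
        rw [fix_iff h0] at h2 h3
        rw [(mk_eq_iff' c g).2 h2, (mk_eq_iff' c g').2 h3]
  · have := (fix_iff h0 1 1).2 (by simp)
    simpa using this
  · intro a t ha ht hne hcm ω
    obtain ⟨c, rfl⟩ := isConj_iff.1 ha
    induction ω using QuotientGroup.induction_on with
    | H g =>
      rw [fix_iff h0, smul_mk_eq_iff]
      set t₀ := c⁻¹ * t * c with ht₀
      have ht₀c : IsConj z t₀ := ht.trans (isConj_of_eq (g := c⁻¹) (by simp [ht₀]))
      have ht₀ne : t₀ ≠ z := by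
        intro e
        apply hne
        rw [← e, ht₀]
        group
      have ht₀m : t₀ * z = z * t₀ := by
        have e1 : t₀ * z = c⁻¹ * (t * (c * z * c⁻¹)) * c := by rw [ht₀]; group
        have e2 : z * t₀ = c⁻¹ * ((c * z * c⁻¹) * t) * c := by rw [ht₀]; group
        rw [e1, e2, hcm]
      have h2 := h1 t₀ ht₀c ht₀ne ht₀m (c⁻¹ * g)
      rw [mem_map_conj_iff] at h2
      rw [← h2]
      have e3 : g⁻¹ * (c * z * c⁻¹ * t) * g = (c⁻¹ * g)⁻¹ * (z * t₀) * (c⁻¹ * g) := by
        rw [ht₀]; group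
      rw [e3]

theorem exists_sylow_center (hz : orderOf z = 2) (hodd : Odd (Subgroup.centralizer ({z} : Set G)).index) :
    ∃ P : Sylow 2 G, z ∈ (Subgroup.center ↥(P : Subgroup G)).map (P : Subgroup G).subtype := by
  haveI : Fact (Nat.Prime 2) := ⟨Nat.prime_two⟩
  set C : Subgroup G := Subgroup.centralizer ({z} : Set G) with hC
  have hzC : z ∈ C := Subgroup.mem_centralizer_singleton_iff.2 rfl
  have hY : IsPGroup 2 (Subgroup.zpowers (⟨z, hzC⟩ : C)) := by
    rw [IsPGroup.iff_card, Nat.card_zpowers, Subgroup.orderOf_mk, hz]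
    exact ⟨1, rfl⟩
  obtain ⟨Q, hQ⟩ := hY.exists_le_sylow
  have hP₀ : IsPGroup 2 ((Q : Subgroup C).map C.subtype) := Q.2.map _
  have hnd : ¬ 2 ∣ ((Q : Subgroup C).map C.subtype).index := by
    rw [Subgroup.index_map_subtype]
    intro hd
    rcases (Nat.Prime.dvd_mul Nat.prime_two).1 hd with h | h
    · exact Q.not_dvd_index h
    · exact (Nat.not_even_iff_odd.2 hodd) (even_iff_two_dvd.2 h)
  refine ⟨hP₀.toSylow hnd, ?_⟩
  have hzQ : (⟨z, hzC⟩ : C) ∈ (Q : Subgroup C) := hQ (Subgroup.mem_zpowers _)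
  have hzP : z ∈ ((hP₀.toSylow hnd : Sylow 2 G) : Subgroup G) := by
    change z ∈ (Q : Subgroup C).map C.subtype
    exact ⟨⟨z, hzC⟩, hzQ, rfl⟩
  refine ⟨⟨z, hzP⟩, Subgroup.mem_center_iff.2 ?_, rfl⟩
  rintro ⟨x, ⟨y, _, rfl⟩⟩
  apply Subtype.ext
  exact Subgroup.mem_centralizer_singleton_iff.1 y.2

end C

/-- Let z be an involution of a finite group G and H a proper subgroup such that z lies in gHg⁻¹ exactly when g ∈ H. Then the following are equivalent: (1) for every conjugate t ≠ z of z commuting with z, the product zt lies in gHg⁻¹ exactly when g ∈ H; (2) z lies in the centre of some Sylow 2-subgroup of G, and for every conjugate t ≠ z of z commuting with z, the centralizer of zt is contained in H. -/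
theorem result {G : Type*} [Group G] [Finite G] (z : G) (hz : orderOf z = 2) (H : Subgroup G) (hH : H ≠ ⊤)
    (h0 : ∀ g : G, z ∈ H.map (MulAut.conj g).toMonoidHom ↔ g ∈ H) :
    (∀ t : G, IsConj z t → t ≠ z → t * z = z * t → ∀ g : G, z * t ∈ H.map (MulAut.conj g).toMonoidHom ↔ g ∈ H) ↔
      ((∃ P : Sylow 2 G, z ∈ (Subgroup.center ↥(P : Subgroup G)).map (P : Subgroup G).subtype) ∧
        ∀ t : G, IsConj z t → t ≠ z → t * z = z * t → Subgroup.centralizer ({z * t} : Set G) ≤ H) := by
  constructor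
  · intro h1
    have hy := hyp_of hz h0 h1
    refine ⟨?_, ?_⟩
    · apply exists_sylow_center hz
      classical
      haveI := Fintype.ofFinite G
      have hne : ∃ α β : G ⧸ H, α ≠ β := by
        obtain ⟨g, hg⟩ : ∃ g, g ∉ H := by
          by_contra hcon
          push Not at hcon
          exact hH (eq_top_iff.2 fun y _ => hcon y)
        refine ⟨QuotientGroup.mk 1, QuotientGroup.mk g, ?_⟩
        intro e
        apply hg
        have := QuotientGroup.eq.1 e
        simpa using this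
      have h2 := hy.class_odd hne
      have h3 := Cfsg.Agent.Lib.IrrBasic.card_class_eq_index z
      rw [← h3]
      convert h2
    · intro t ht hne hcm c hc
      have h2 := (h1 t ht hne hcm 1).2 (one_mem _)
      rw [mem_map_conj_iff] at h2
      simp only [inv_one, one_mul, mul_one] at h2
      rw [← h1 t ht hne hcm c, mem_map_conj_iff]
      have h4 : c⁻¹ * (z * t) * c = z * t := by
        have := Subgroup.mem_centralizer_singleton_iff.1 hc
        calc c⁻¹ * (z * t) * c = c⁻¹ * ((z * t) * c) := by group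
          _ = c⁻¹ * (c * (z * t)) := by rw [this]
          _ = z * t := by group
      rw [h4]; exact h2
  · rintro ⟨⟨P, hzP⟩, hC⟩ t ht htz hcm g
    obtain ⟨⟨w, hwP⟩, hw, hwz⟩ := hzP
    have hzPm : z ∈ (P : Subgroup G) := by
      have : w = z := hwz
      rw [← this]; exact hwP
    have hzcen : ∀ x ∈ (P : Subgroup G), x * z = z * x := by
      intro x hx
      have := (Subgroup.mem_center_iff.1 hw) ⟨x, hx⟩
      have e := congrArg Subtype.val this
      have e' : w = z := hwz
      simpa [e'] using e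
    have hzH : z ∈ H := by
      have := (h0 1).2 (one_mem _)
      rw [mem_map_conj_iff] at this
      simpa using this
    have hCH : ∀ c, c * z = z * c → c ∈ H := by
      intro c hc
      rw [← h0 c, mem_map_conj_iff]
      have : c⁻¹ * z * c = z := by
        calc c⁻¹ * z * c = c⁻¹ * (z * c) := by group
          _ = c⁻¹ * (c * z) := by rw [hc]
          _ = z := by group
      rw [this]; exact hzH
    have hPH : (P : Subgroup G) ≤ H := fun x hx => hCH x (hzcen x hx)
    have ht2 : t ^ 2 = 1 := sq_eq_one (ord_of_conj hz ht)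
    have hz2 : z ^ 2 = 1 := sq_eq_one hz
    have hy2 : (z * t) ^ 2 = 1 := by
      have hc : Commute z t := hcm.symm
      rw [hc.mul_pow, ht2, hz2, one_mul]
    constructor
    · intro hy
      -- the main direction
      haveI : Fact (Nat.Prime 2) := ⟨Nat.prime_two⟩
      set K : Subgroup G := H.map (MulAut.conj g).toMonoidHom with hK
      have hYp : IsPGroup 2 (Subgroup.zpowers (z * t)) := by
        rw [IsPGroup.iff_card, Nat.card_zpowers]
        obtain ⟨j, -, hj⟩ := (Nat.dvd_prime_pow Nat.prime_two).1 (show orderOf (z * t) ∣ 2 ^ 1 from orderOf_dvd_of_pow_eq_one (by simpa using hy2))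
        exact ⟨j, hj⟩
      obtain ⟨R', hR'1, hR'2⟩ := Cfsg.Agent.Lib.PNilp.exists_sylow_over (p := 2) (Subgroup.zpowers (z * t)) hYp K
      have hBK : cg g (P : Subgroup G) ≤ K := cg_mono g hPH
      have hB : ¬ 2 ∣ (cg g (P : Subgroup G)).relIndex K := by
        intro hd
        have h1 := Subgroup.relIndex_mul_index hBK
        have h2 : ¬ 2 ∣ (cg g (P : Subgroup G)).index := (g • P : Sylow 2 G).not_dvd_index
        apply h2
        rw [← h1]
        exact hd.trans (Nat.dvd_mul_right _ _)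
      obtain ⟨h', hh'K, hconj⟩ := Cfsg.Agent.Lib.PNilp.exists_conj_of_relIndex (p := 2) K ((R' : Subgroup G) ⊓ K) (cg g (P : Subgroup G))
        (R'.2.to_le inf_le_left) (isPGroup_cg g P.2) inf_le_right hBK hR'2 hB
      have hyA : z * t ∈ (R' : Subgroup G) ⊓ K := ⟨hR'1 ⟨Subgroup.mem_zpowers _, hy⟩, hy⟩
      have hy' : h' * (z * t) * h'⁻¹ ∈ cg g (P : Subgroup G) := by
        rw [← hconj]
        exact ⟨_, hyA, rfl⟩
      rw [mem_cg] at hy'
      have hcen := hzcen _ hy'
      -- `g₁ z g₁⁻¹` commutes with `z t`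
      set g₁ := h'⁻¹ * g with hg₁
      have hz₂ : g₁ * z * g₁⁻¹ ∈ Subgroup.centralizer ({z * t} : Set G) := by
        rw [Subgroup.mem_centralizer_singleton_iff]
        have e1 : g₁ * z * g₁⁻¹ * (z * t) = h'⁻¹ * g * (z * (g⁻¹ * (h' * (z * t) * h'⁻¹) * g)) * g⁻¹ * h' := by
          rw [hg₁]; group
        have e2 : z * t * (g₁ * z * g₁⁻¹) = h'⁻¹ * g * ((g⁻¹ * (h' * (z * t) * h'⁻¹) * g) * z) * g⁻¹ * h' := by
          rw [hg₁]; group
        rw [e1, e2, hcen]
      have hz₃ := hC t ht htz hcm hz₂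
      have hg₁H : g₁⁻¹ ∈ H := by
        rw [← h0 g₁⁻¹, mem_map_conj_iff]
        simpa using hz₃
      have hg₁' : g₁ ∈ H := by simpa using H.inv_mem hg₁H
      have hh : g⁻¹ * h' * g ∈ H := by
        have := (mem_cg (g := g) (x := h') (H := H)).1 hh'K
        exact this
      have : g = g₁ * (g⁻¹ * h' * g) := by rw [hg₁]; group
      rw [this]
      exact H.mul_mem hg₁' hh
    · intro hg
      rw [mem_map_conj_iff]
      exact H.mul_mem (H.mul_mem (H.inv_mem hg) (H.mul_mem hzH (hCH t hcm))) hg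

end Cfsg.Agent.S1922
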