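import Cfsg.Statements.S1944
import Mathlib
import Cfsg.Agent.S1907

set_option autoImplicit false
open Cfsg

namespace Cfsg.Agent.S1944

open Cfsg Cfsg.Agent.Lib.H1Core Cfsg.Agent.Lib.Comp2 Cfsg.Agent.Lib.PConstr

lemma norm_split {G : Type*} [Group G] [Finite G] {p : ℕ} [Fact p.Prime]
    (N A S Z W : Subgroup G) (hAN : ∀ n ∈ N, ∀ a ∈ A, n * a * n⁻¹ ∈ A)
    (hcomm : ∀ a ∈ A, ∀ b ∈ A, a * b = b * a) (hSN : S ≤ N) (hidx : ¬ p ∣ S.relIndex N)
    (hZA : Z ≤ A) (hZS : ∀ s ∈ S, ∀ a ∈ Z, s * a * s⁻¹ = a) (hZp : IsPGroup p Z) (hWZ : W ≤ Z)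
    (hWc : ∀ a ∈ W, ∀ n ∈ N, n * a * n⁻¹ = a)
    (hνW : ∀ a ∈ A, (∀ n ∈ N, n * a * n⁻¹ = a) → a ∈ W) :
    ∃ K : Subgroup G, K ≤ Z ∧ W ⊓ K = ⊥ ∧ W ⊔ K = Z := by
  classical
  set T := S.subgroupOf N with hT
  haveI := Fintype.ofFinite (N ⧸ T)
  letI inst : CommGroup A := { (inferInstance : Group A) with
    mul_comm := fun a b => Subtype.ext (hcomm a a.2 b b.2) }
  let fA : Z → N → A := fun a x => ⟨(x : G) * a * (x : G)⁻¹, hAN x x.2 a (hZA a.2)⟩
  let F : Z → (N ⧸ T) → A := fun a q => fA a (Quotient.out q)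
  have hF : ∀ (a : Z) (x : N), F a (QuotientGroup.mk x) = fA a x := by
    intro a x
    apply Subtype.ext
    show ((Quotient.out (QuotientGroup.mk x : N ⧸ T) : N) : G) * a * ((Quotient.out (QuotientGroup.mk x : N ⧸ T) : N) : G)⁻¹ = (x : G) * a * (x : G)⁻¹
    have h1 : x⁻¹ * Quotient.out (QuotientGroup.mk x : N ⧸ T) ∈ T := by
      apply QuotientGroup.eq.mp
      exact (Quotient.out_eq _).symm
    set y := Quotient.out (QuotientGroup.mk x : N ⧸ T) with hy
    have h2 : (x : G)⁻¹ * (y : G) ∈ S := h1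
    have h3 := hZS _ h2 a a.2
    have e : (y : G) = (x : G) * ((x : G)⁻¹ * (y : G)) := by group
    calc (y : G) * a * (y : G)⁻¹ = (x : G) * (((x : G)⁻¹ * (y : G)) * a * ((x : G)⁻¹ * (y : G))⁻¹) * (x : G)⁻¹ := by group
      _ = (x : G) * a * (x : G)⁻¹ := by rw [h3]
  let ν : Z →* A :=
    { toFun := fun a => ∏ q : N ⧸ T, F a q
      map_one' := by
        apply Finset.prod_eq_one
        intro q _
        apply Subtype.ext
        show ((Quotient.out q : N) : G) * ((1 : Z) : G) * ((Quotient.out q : N) : G)⁻¹ = 1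
        simp
      map_mul' := by
        intro a b
        rw [← Finset.prod_mul_distrib]
        apply Finset.prod_congr rfl
        intro q _
        apply Subtype.ext
        show ((Quotient.out q : N) : G) * ((a * b : Z) : G) * ((Quotient.out q : N) : G)⁻¹ =
          (((Quotient.out q : N) : G) * a * ((Quotient.out q : N) : G)⁻¹) * (((Quotient.out q : N) : G) * b * ((Quotient.out q : N) : G)⁻¹)
        show ((Quotient.out q : N) : G) * ((a : G) * (b : G)) * ((Quotient.out q : N) : G)⁻¹ = _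
        group }
  have hν : ∀ a, ν a = ∏ q : N ⧸ T, F a q := fun a => rfl
  -- image is centralized by `N`
  have hcent : ∀ (a : Z), ∀ n ∈ N, n * (ν a : G) * n⁻¹ = (ν a : G) := by
    intro a n hn
    let cn : A →* A :=
      { toFun := fun b => ⟨n * b * n⁻¹, hAN n hn b b.2⟩
        map_one' := by apply Subtype.ext; show n * ((1 : A) : G) * n⁻¹ = 1; simp
        map_mul' := by
          intro b c
          apply Subtype.ext
          show n * ((b : G) * (c : G)) * n⁻¹ = (n * b * n⁻¹) * (n * c * n⁻¹)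
          group }
    have h1 : cn (ν a) = ν a := by
      rw [hν, map_prod]
      have h2 : ∀ q : N ⧸ T, cn (F a q) = F a ((⟨n, hn⟩ : N) • q) := by
        intro q
        induction q using QuotientGroup.induction_on with
        | H x =>
          have e : (⟨n, hn⟩ : N) • (QuotientGroup.mk x : N ⧸ T) = QuotientGroup.mk (⟨n, hn⟩ * x) := rfl
          rw [e, hF, hF]
          apply Subtype.ext
          show n * ((x : G) * a * (x : G)⁻¹) * n⁻¹ = (n * (x : G)) * a * (n * (x : G))⁻¹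
          group
      rw [Finset.prod_congr rfl (fun q _ => h2 q)]
      exact Equiv.prod_comp (MulAction.toPerm (⟨n, hn⟩ : N) : Equiv.Perm (N ⧸ T)) (F a)
    exact congrArg Subtype.val h1
  have hνmem : ∀ a : Z, (ν a : G) ∈ W := fun a => hνW _ (ν a).2 (hcent a)
  set m := Fintype.card (N ⧸ T) with hm
  have hmrel : m = S.relIndex N := by
    rw [hm, ← Nat.card_eq_fintype_card]
    rfl
  have hmW : ∀ (a : Z), (a : G) ∈ W → (ν a : G) = (a : G) ^ m := by
    intro a ha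
    have h1 : ∀ q : N ⧸ T, F a q = ⟨a, hZA a.2⟩ := by
      intro q
      apply Subtype.ext
      exact hWc a ha _ (Quotient.out q).2
    rw [hν, Finset.prod_congr rfl (fun q _ => h1 q), Finset.prod_const, Finset.card_univ]
    rfl
  have hWp : IsPGroup p W := hZp.to_le hWZ
  have hcop : (Nat.card W).Coprime m := by
    obtain ⟨k, hk⟩ := IsPGroup.iff_card.mp hWp
    rw [hk]
    apply Nat.Coprime.pow_left
    rw [Nat.Prime.coprime_iff_not_dvd Fact.out, hmrel]
    exact hidx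
  refine ⟨ν.ker.map Z.subtype, ?_, ?_, ?_⟩
  · rintro _ ⟨a, _, rfl⟩
    exact a.2
  · rw [eq_bot_iff]
    rintro x ⟨hxW, a, ha, rfl⟩
    have h1 : ν a = 1 := ha
    have h2 := hmW a hxW
    rw [h1] at h2
    have h3 : (a : G) ^ m = 1 := h2.symm
    obtain ⟨k, hk⟩ := hWp ⟨a, hxW⟩
    have h4 : (a : G) ^ p ^ k = 1 := congrArg Subtype.val hk
    have h5 : (a : G) = 1 := by
      apply eq_one_of_pow_of_coprime h4 h3
      rw [Nat.coprime_comm, Nat.Prime.coprime_iff_not_dvd Fact.out, hmrel]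
      exact hidx
    exact h5
  · apply le_antisymm
    · refine sup_le hWZ ?_
      rintro _ ⟨a, _, rfl⟩
      exact a.2
    · intro a ha
      -- take `b ∈ W` with `b ^ m = ν a`
      let e := powCoprime hcop
      set b : W := e.symm ⟨ν ⟨a, ha⟩, hνmem _⟩ with hb
      have hbm : (b : G) ^ m = (ν ⟨a, ha⟩ : G) := by
        have : b ^ m = ⟨ν ⟨a, ha⟩, hνmem _⟩ := e.apply_symm_apply _
        exact congrArg Subtype.val this
      have hbZ : (b : G) ∈ Z := hWZ b.2
      have hk : (⟨b, hbZ⟩ : Z)⁻¹ * ⟨a, ha⟩ ∈ ν.ker := by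
        rw [MonoidHom.mem_ker, map_mul, map_inv]
        apply Subtype.ext
        have h1 : (ν ⟨b, hbZ⟩ : G) = (b : G) ^ m := hmW ⟨b, hbZ⟩ b.2
        show ((ν ⟨b, hbZ⟩ : A) : G)⁻¹ * ((ν ⟨a, ha⟩ : A) : G) = 1
        rw [h1, hbm]
        group
      have e2 : a = (b : G) * ((⟨b, hbZ⟩ : Z)⁻¹ * ⟨a, ha⟩ : Z) := by
        show a = (b : G) * ((b : G)⁻¹ * a)
        group
      rw [e2]
      exact Subgroup.mul_mem_sup b.2 ⟨_, hk, rfl⟩

/-- Let S be a Sylow p-subgroup of the finite group G and suppose that the centre Z(S) lies in O_{p',p}(G). The elements of S each of which is its only G-conjugate in S form a subgroup W of Z(S); W is then a direct factor of Z(S): there is a subgroup K of Z(S) with W ∩ K = 1 and WK = Z(S). -/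
theorem result {G : Type*} [Group G] [Finite G] {p : ℕ} [Fact p.Prime] (S : Sylow p G)
    (hZ : ((S : Subgroup G) ⊓ Subgroup.centralizer ((S : Subgroup G) : Set G)) ≤ Cfsg.pPrimePCore p G) :
    ∃ W K : Subgroup G, (∀ x : G, x ∈ W ↔ (x ∈ (S : Subgroup G) ∧ ∀ g : G, g * x * g⁻¹ ∈ (S : Subgroup G) → g * x * g⁻¹ = x)) ∧
      K ≤ ((S : Subgroup G) ⊓ Subgroup.centralizer ((S : Subgroup G) : Set G)) ∧ W ⊓ K = ⊥ ∧ W ⊔ K = ((S : Subgroup G) ⊓ Subgroup.centralizer ((S : Subgroup G) : Set G)) := by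
  set L := pPrimePCore p G with hL
  set H := (S : Subgroup G) ⊓ L with hH
  haveI hLn : L.Normal := by
    rw [hL, pPrimePCore]
    exact Subgroup.Normal.comap (pCore_normal p _) _
  set N := Subgroup.normalizer (H : Set G) with hN
  have hSN : (S : Subgroup G) ≤ N := by
    intro u hu
    refine Subgroup.mem_normalizer_fintype ?_
    rintro w ⟨hw1, hw2⟩
    exact ⟨Subgroup.mul_mem _ (Subgroup.mul_mem _ hu hw1) (Subgroup.inv_mem _ hu), hLn.conj_mem w hw2 u⟩
  set A := H ⊓ Subgroup.centralizer (H : Set G) with hA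
  set Z := (S : Subgroup G) ⊓ Subgroup.centralizer ((S : Subgroup G) : Set G) with hZdef
  have hZA : Z ≤ A := by
    rintro a ⟨ha1, ha2⟩
    refine ⟨⟨ha1, hZ ⟨ha1, ha2⟩⟩, Subgroup.mem_centralizer_iff.mpr ?_⟩
    intro h hh
    exact Subgroup.mem_centralizer_iff.mp ha2 h hh.1
  have hAN : ∀ n ∈ N, ∀ a ∈ A, n * a * n⁻¹ ∈ A := by
    rintro n hn a ⟨ha1, ha2⟩
    refine ⟨(Subgroup.mem_normalizer_iff.mp hn a).mp ha1, Subgroup.mem_centralizer_iff.mpr ?_⟩
    intro h hh
    have h1 : n⁻¹ * h * n⁻¹⁻¹ ∈ H := (Subgroup.mem_normalizer_iff.mp (N.inv_mem hn) h).mp hh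
    rw [inv_inv] at h1
    have h2 := Subgroup.mem_centralizer_iff.mp ha2 _ h1
    calc h * (n * a * n⁻¹) = n * ((n⁻¹ * h * n) * a) * n⁻¹ := by group
      _ = n * (a * (n⁻¹ * h * n)) * n⁻¹ := by rw [h2]
      _ = n * a * n⁻¹ * h := by group
  have hcomm : ∀ a ∈ A, ∀ b ∈ A, a * b = b * a := by
    rintro a ha b ⟨hb1, hb2⟩
    exact Subgroup.mem_centralizer_iff.mp hb2 a ha.1
  have hidx : ¬ p ∣ (S : Subgroup G).relIndex N := by
    intro h
    have h1 := Subgroup.relIndex_mul_index hSN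
    exact S.not_dvd_index (h.trans (Dvd.intro _ h1))
  have hZS : ∀ s ∈ (S : Subgroup G), ∀ a ∈ Z, s * a * s⁻¹ = a := by
    rintro s hs a ⟨_, ha2⟩
    rw [Subgroup.mem_centralizer_iff.mp ha2 s hs]
    group
  have hZp : IsPGroup p Z := S.isPGroup'.to_le inf_le_left
  set W := Z ⊓ Subgroup.centralizer (N : Set G) with hW
  have hWZ : W ≤ Z := inf_le_left
  have hWc : ∀ a ∈ W, ∀ n ∈ N, n * a * n⁻¹ = a := by
    rintro a ⟨_, ha2⟩ n hn
    rw [Subgroup.mem_centralizer_iff.mp ha2 n hn]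
    group
  have hνW : ∀ a ∈ A, (∀ n ∈ N, n * a * n⁻¹ = a) → a ∈ W := by
    intro a ha hc
    have hcN : a ∈ Subgroup.centralizer (N : Set G) := by
      refine Subgroup.mem_centralizer_iff.mpr ?_
      intro n hn
      exact mul_inv_eq_iff_eq_mul.mp (hc n hn)
    refine ⟨⟨ha.1.1, ?_⟩, hcN⟩
    refine Subgroup.mem_centralizer_iff.mpr ?_
    intro s hs
    exact Subgroup.mem_centralizer_iff.mp hcN s (hSN hs)
  obtain ⟨K, hK1, hK2, hK3⟩ := norm_split N A (S : Subgroup G) Z W hAN hcomm hSN hidx hZA hZS hZp hWZ hWc hνW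
  refine ⟨W, K, ?_, hK1, hK2, hK3⟩
  intro x
  constructor
  · rintro ⟨⟨hxS, hxZ⟩, hxN⟩
    refine ⟨hxS, fun g hg => ?_⟩
    obtain ⟨n, hn, hne⟩ := (Cfsg.Agent.S1907.result S).2 x (g * x * g⁻¹) hxS hg (isConj_iff.mpr ⟨g, rfl⟩)
    rw [← hne]
    have := Subgroup.mem_centralizer_iff.mp hxN n hn
    rw [this]
    group
  · rintro ⟨hxS, hx⟩
    have hxZ : x ∈ Z := by
      refine ⟨hxS, Subgroup.mem_centralizer_iff.mpr ?_⟩
      intro s hs
      have := hx s (Subgroup.mul_mem _ (Subgroup.mul_mem _ hs hxS) (Subgroup.inv_mem _ hs))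
      rw [mul_inv_eq_iff_eq_mul] at this
      exact this
    refine ⟨hxZ, Subgroup.mem_centralizer_iff.mpr ?_⟩
    intro n hn
    have h1 := hAN n hn x (hZA hxZ)
    have := hx n h1.1.1
    rw [mul_inv_eq_iff_eq_mul] at this
    exact this

end Cfsg.Agent.S1944
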