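import Cfsg.Statements.S3014
import Mathlib

set_option autoImplicit false
open Cfsg

namespace Cfsg.Agent.S3014

theorem norm_of_comap {G : Type*} [Group G] [Finite G] (D : Subgroup G) (x : G)
    (h : D ≤ D.comap (MulAut.conj x).toMonoidHom) : x ∈ Subgroup.normalizer (D : Set G) := by
  have hle : D.map (MulAut.conj x).toMonoidHom ≤ D := Subgroup.map_le_iff_le_comap.mpr h
  have hcard : Nat.card (D.map (MulAut.conj x).toMonoidHom) = Nat.card D :=
    Subgroup.card_map_of_injective (MulAut.conj x).injective
  have heq : D.map (MulAut.conj x).toMonoidHom = D :=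
    Subgroup.eq_of_le_of_card_ge hle (by rw [hcard])
  rw [Subgroup.mem_normalizer_iff]
  intro a
  constructor
  · intro ha
    exact h ha
  · intro ha
    have ha' : x * a * x⁻¹ ∈ D.map (MulAut.conj x).toMonoidHom := by rwa [heq]
    obtain ⟨b, hb, hba⟩ := ha'
    have hab : b = a := by
      have : x * b * x⁻¹ = x * a * x⁻¹ := hba
      simpa using this
    rwa [← hab]

/-- Let G be a finite group and H ≤ M ≤ G subgroups such that for every g ∈ G the subgroup generated by H and g H g⁻¹ meets M exactly in H. If H is a maximal subgroup of M and M is a maximal subgroup of G, then the normal closure of H in G meets M exactly in H. -/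
theorem result {G : Type*} [Group G] [Finite G] (H M : Subgroup G) (hHM : H ≤ M) (hcl : ∀ g : G, (H ⊔ H.map (MulAut.conj g).toMonoidHom) ⊓ M = H) (hmaxH : IsCoatom (H.subgroupOf M)) (hmaxM : IsCoatom M) : Subgroup.normalClosure (H : Set G) ⊓ M = H := by

  classical
  -- H is normalized by M
  have hNorm : ∀ m ∈ M, ∀ h ∈ H, m * h * m⁻¹ ∈ H := by
    intro m hm h hh
    have h1 : m * h * m⁻¹ ∈ (H ⊔ H.map (MulAut.conj m).toMonoidHom) ⊓ M := by
      refine Subgroup.mem_inf.mpr ⟨Subgroup.mem_sup_right ⟨h, hh, rfl⟩, ?_⟩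
      exact M.mul_mem (M.mul_mem hm (hHM hh)) (M.inv_mem hm)
    rwa [hcl m] at h1
  have hmax : ∀ x ∈ M, x ∉ H → ∀ K : Subgroup G, H ≤ K → x ∈ K → M ≤ K := by
    intro x hx hxH K hK hxK
    have h1 : H.subgroupOf M < K.subgroupOf M := by
      refine lt_of_le_of_ne (fun a ha => Subgroup.mem_subgroupOf.mpr (hK (Subgroup.mem_subgroupOf.mp ha))) ?_
      intro h
      have : (⟨x, hx⟩ : M) ∈ K.subgroupOf M := Subgroup.mem_subgroupOf.mpr hxK
      rw [← h] at this
      exact hxH (Subgroup.mem_subgroupOf.mp this)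
    have h2 := hmaxH.2 _ h1
    exact Subgroup.subgroupOf_eq_top.mp h2
  by_cases hcase : ∃ g x : G, g ∉ M ∧ x ∈ M ∧ x ∉ H ∧ g⁻¹ * x * g ∈ M
  · obtain ⟨g, x, hg, hxM, hxH, hgx⟩ := hcase
    set D := H ⊔ H.map (MulAut.conj g).toMonoidHom with hD
    have hHD : H ≤ D := le_sup_left
    have hxN : x ∈ Subgroup.normalizer (D : Set G) := by
      apply norm_of_comap
      rw [hD]
      refine sup_le ?_ ?_
      · intro a ha
        exact Subgroup.mem_sup_left (hNorm x hxM a ha)
      · rintro _ ⟨a, ha, rfl⟩
        refine Subgroup.mem_sup_right ⟨(g⁻¹ * x * g) * a * (g⁻¹ * x * g)⁻¹, hNorm _ hgx a ha, ?_⟩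
        simp [mul_assoc]
    have hME : M ≤ Subgroup.normalizer (D : Set G) :=
      hmax x hxM hxH _ (hHD.trans Subgroup.le_normalizer) hxN
    refine le_antisymm ?_ (le_inf (Subgroup.le_normalClosure) hHM)
    rcases hmaxM.le_iff.mp hME with h | h
    · -- D normal
      have hDn : D.Normal := Subgroup.normalizer_eq_top_iff.mp h
      have h1 : Subgroup.normalClosure (H : Set G) ≤ D :=
        Subgroup.normalClosure_le_normal hHD
      calc Subgroup.normalClosure (H : Set G) ⊓ M ≤ D ⊓ M := inf_le_inf_right _ h1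
        _ = H := hcl g
    · -- normalizer = M
      have hDM : D ≤ M := by
        rw [← h]; exact Subgroup.le_normalizer
      have hDH : D = H := by
        have := hcl g
        rw [← hD, inf_eq_left.mpr hDM] at this
        exact this
      have hgH : g ∈ Subgroup.normalizer (H : Set G) := by
        apply norm_of_comap
        intro a ha
        rw [← hDH]
        exact Subgroup.mem_sup_right ⟨a, ha, rfl⟩
      have hMN : M ≤ Subgroup.normalizer (H : Set G) := by
        intro m hm
        apply norm_of_comap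
        intro a ha
        exact hNorm m hm a ha
      have htop : Subgroup.normalizer (H : Set G) = ⊤ := by
        rcases hmaxM.le_iff.mp hMN with h' | h'
        · exact h'
        · rw [h'] at hgH
          exact absurd hgH hg
      have hHn : H.Normal := Subgroup.normalizer_eq_top_iff.mp htop
      have h1 : Subgroup.normalClosure (H : Set G) ≤ H :=
        Subgroup.normalClosure_le_normal le_rfl
      exact inf_le_left.trans h1
  · push_neg at hcase
    -- H' normal in M, cyclic quotient
    let H' : Subgroup M := H.subgroupOf M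
    haveI hH'n : H'.Normal := by
      refine ⟨fun a ha b => ?_⟩
      exact Subgroup.mem_subgroupOf.mpr (hNorm b b.2 a (Subgroup.mem_subgroupOf.mp ha))
    obtain ⟨y, hyM, hyH⟩ : ∃ y ∈ M, y ∉ H := by
      by_contra hcon
      push_neg at hcon
      exact hmaxH.1 (Subgroup.subgroupOf_eq_top.mpr hcon)
    have hcyc : IsCyclic (M ⧸ H') := by
      rw [isCyclic_iff_exists_zpowers_eq_top]
      refine ⟨QuotientGroup.mk' H' ⟨y, hyM⟩, ?_⟩
      let K : Subgroup G :=
        ((Subgroup.zpowers (QuotientGroup.mk' H' ⟨y, hyM⟩)).comap (QuotientGroup.mk' H')).map M.subtype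
      have hHK : H ≤ K := by
        intro h hh
        refine ⟨⟨h, hHM hh⟩, ?_, rfl⟩
        have h1 : QuotientGroup.mk' H' (⟨h, hHM hh⟩ : M) = 1 :=
          (QuotientGroup.eq_one_iff _).mpr (Subgroup.mem_subgroupOf.mpr hh)
        refine Subgroup.mem_comap.mpr ?_
        rw [h1]
        exact one_mem _
      have hK : M ≤ K := by
        apply hmax y hyM hyH K hHK
        exact ⟨⟨y, hyM⟩, Subgroup.mem_zpowers _, rfl⟩
      rw [eq_top_iff]
      intro z _
      obtain ⟨m, rfl⟩ := QuotientGroup.mk'_surjective H' z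
      obtain ⟨c, hc, hca⟩ := hK m.2
      have hm : m = c := Subtype.ext hca.symm
      rw [hm]
      exact hc
    letI : CommGroup (M ⧸ H') := hcyc.commGroup
    let ϕ : M →* (M ⧸ H') := QuotientGroup.mk' H'
    have hϕ : ∀ u : M, (u : G) ∈ H → ϕ u = 1 := fun u hu =>
      (QuotientGroup.eq_one_iff _).mpr (Subgroup.mem_subgroupOf.mpr hu)
    have hϕ' : ∀ u : M, ϕ u = 1 → (u : G) ∈ H := fun u hu =>
      Subgroup.mem_subgroupOf.mp ((QuotientGroup.eq_one_iff _).mp hu)
    have hconjmem : ∀ (t a : G), a ∈ H → t⁻¹ * a * t ∈ M → t⁻¹ * a * t ∈ H := by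
      intro t a ha hM
      have h1 : t⁻¹ * a * t ∈ (H ⊔ H.map (MulAut.conj t⁻¹).toMonoidHom) ⊓ M := by
        refine Subgroup.mem_inf.mpr ⟨Subgroup.mem_sup_right ⟨a, ha, ?_⟩, hM⟩
        simp
      rwa [hcl t⁻¹] at h1
    -- transfer kills H
    have hV : ∀ g ∈ H, ϕ.transfer g = 1 := by
      intro g hg
      haveI : Fintype (Quotient (MulAction.orbitRel (Subgroup.zpowers g) (G ⧸ M))) := Fintype.ofFinite _
      rw [MonoidHom.transfer_eq_prod_quotient_orbitRel_zpowers_quot]
      apply Finset.prod_eq_one
      intro q _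
      apply hϕ
      exact hconjmem _ _ (H.pow_mem hg _) (QuotientGroup.out_conj_pow_minimalPeriod_mem M g q.out)
    have hNc : Subgroup.normalClosure (H : Set G) ≤ ϕ.transfer.ker :=
      Subgroup.normalClosure_le_normal (fun g hg => hV g hg)
    -- transfer is ϕ on M
    have hVM : ∀ x : M, ϕ.transfer (x : G) = ϕ x := by
      intro x
      haveI : Fintype (Quotient (MulAction.orbitRel (Subgroup.zpowers (x : G)) (G ⧸ M))) := Fintype.ofFinite _
      rw [MonoidHom.transfer_eq_prod_quotient_orbitRel_zpowers_quot]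
      let α : G ⧸ M := ((1 : G) : G ⧸ M)
      have hxα : (x : G) • α = α := by
        show (((x : G) * 1 : G) : G ⧸ M) = ((1 : G) : G ⧸ M)
        rw [QuotientGroup.eq]
        simp
      let q₀ : Quotient (MulAction.orbitRel (Subgroup.zpowers (x : G)) (G ⧸ M)) := Quotient.mk'' α
      have horb : ∀ c : G ⧸ M, (Quotient.mk'' c : Quotient (MulAction.orbitRel (Subgroup.zpowers (x : G)) (G ⧸ M))) = q₀ → c = α := by
        intro c hc
        have h1 : MulAction.orbitRel (Subgroup.zpowers (x : G)) (G ⧸ M) |>.r c α := Quotient.exact' hc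
        obtain ⟨⟨z, hz⟩, hzc⟩ := h1
        obtain ⟨k, rfl⟩ := Subgroup.mem_zpowers_iff.mp hz
        rw [← hzc]
        show ((x : G) ^ k) • α = α
        exact (MulAction.fixedBy_subset_fixedBy_zpow (G ⧸ M) (x : G) k) hxα
      rw [Finset.prod_eq_single q₀]
      · have h0 : q₀.out = α := horb _ (Quotient.out_eq' q₀)
        have hk : Function.minimalPeriod ((x : G) • ·) q₀.out = 1 := by
          rw [Function.minimalPeriod_eq_one_iff_isFixedPt, h0]
          exact hxα
        have htM : q₀.out.out ∈ M := by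
          have : ((q₀.out.out : G) : G ⧸ M) = ((1 : G) : G ⧸ M) := by
            rw [QuotientGroup.out_eq']; exact h0
          have h2 := QuotientGroup.eq.mp this.symm
          simpa using h2
        have heq : (⟨q₀.out.out⁻¹ * (x : G) ^ Function.minimalPeriod ((x : G) • ·) q₀.out * q₀.out.out,
            QuotientGroup.out_conj_pow_minimalPeriod_mem M x q₀.out⟩ : M)
            = (⟨q₀.out.out, htM⟩ : M)⁻¹ * x * ⟨q₀.out.out, htM⟩ := by
          apply Subtype.ext
          simp [hk]
        rw [heq, map_mul, map_mul, map_inv, mul_comm (ϕ _)⁻¹, mul_assoc, mul_comm, mul_assoc, mul_comm _ (ϕ x)]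
        simp
      · intro q _ hq
        apply hϕ
        have hcne : q.out ≠ α := by
          intro h
          apply hq
          rw [← Quotient.out_eq' q, h]
        have htM : q.out.out ∉ M := by
          intro ht
          apply hcne
          rw [← QuotientGroup.out_eq' q.out]
          exact QuotientGroup.eq.mpr (by simpa using ht)
        have hmem := QuotientGroup.out_conj_pow_minimalPeriod_mem M (x : G) q.out
        have hxk : (x : G) ^ Function.minimalPeriod ((x : G) • ·) q.out ∈ H := by
          by_contra hn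
          exact hn (by
            by_contra hn2
            exact (hcase q.out.out _ htM (M.pow_mem x.2 _) hn2) hmem)
        exact hconjmem _ _ hxk hmem
      · intro h
        exact absurd (Finset.mem_univ _) h
    refine le_antisymm ?_ (le_inf (Subgroup.le_normalClosure) hHM)
    intro a ha
    obtain ⟨ha1, ha2⟩ := Subgroup.mem_inf.mp ha
    have h1 : ϕ.transfer a = 1 := hNc ha1
    have h2 := hVM ⟨a, ha2⟩
    rw [show ((⟨a, ha2⟩ : M) : G) = a from rfl, h1] at h2
    exact hϕ' _ h2.symm

end Cfsg.Agent.S3014
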