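import Cfsg.Statements.S1946
import Cfsg.Agent.S0132
import Cfsg.Agent.S3736
import Cfsg.Agent.S3014
import Cfsg.Agent.Lib.PMin2
import Cfsg.Agent.Lib.H1Schmidt
import Cfsg.Agent.Lib.H1Frat
import Mathlib

set_option autoImplicit false
open Cfsg

namespace Cfsg.Agent.S1946

open Cfsg.Agent.Lib Cfsg.Agent.Lib.PNilp Cfsg.Agent.Lib.H1Schmidt Cfsg.Agent.Lib.H1Core
open scoped Pointwise commutatorElement

theorem exp_four_of_special {T : Type*} [Group T] [Finite T] (h2 : IsPGroup 2 T)
    (hs : Cfsg.IsSpecial 2 T) (a : T) : a ^ 4 = 1 := by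
  obtain ⟨-, hF, hC⟩ := hs
  haveI : Group.IsNilpotent T := h2.isNilpotent
  haveI : Fact (Nat.Prime 2) := ⟨Nat.prime_two⟩
  -- squares lie in the Frattini subgroup
  have hsq : ∀ x : T, x ^ 2 ∈ Subgroup.center T := by
    intro x
    rw [← hF, H1Frat.mem_frattini]
    intro M hM
    obtain ⟨hn, hprime, -⟩ := H1Frat.coatom_index_prime_of_nilpotent hM
    obtain ⟨k, hk⟩ := IsPGroup.iff_card.mp h2
    have hdvd : M.index ∣ 2 ^ k := by
      rw [← hk]
      exact Subgroup.index_dvd_card M
    obtain ⟨j, hj, hjk⟩ := (Nat.dvd_prime_pow Nat.prime_two).mp hdvd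
    have hj1 : j = 1 := by
      rcases j with _ | _ | j
      · rw [pow_zero] at hjk
        rw [hjk] at hprime
        exact absurd hprime Nat.not_prime_one
      · rfl
      · exfalso
        rw [hjk] at hprime
        exact (Nat.Prime.not_prime_pow (by omega)) hprime
    rw [hj1, pow_one] at hjk
    haveI := hn
    have h3 : (QuotientGroup.mk' M x) ^ 2 = 1 := by
      have h4 : Nat.card (T ⧸ M) = 2 := by
        rw [← Subgroup.index_eq_card]
        exact hjk
      rw [← h4]
      exact pow_card_eq_one'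
    rw [← map_pow] at h3
    exact (QuotientGroup.eq_one_iff _).mp h3
  -- commutators have order at most two
  have hcomm : ∀ x y : T, ⁅x, y⁆ ^ 2 = 1 := by
    intro x y
    have hc : ⁅x, y⁆ ∈ Subgroup.center T := by
      rw [← hC]
      exact Subgroup.commutator_mem_commutator (Subgroup.mem_top x) (Subgroup.mem_top y)
    have hcc := Subgroup.mem_center_iff.mp hc
    have h1 : x * y * x⁻¹ = ⁅x, y⁆ * y := by
      rw [commutatorElement_def]
      group
    have h2' : x ^ 2 * y * (x ^ 2)⁻¹ = ⁅x, y⁆ ^ 2 * y := by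
      calc x ^ 2 * y * (x ^ 2)⁻¹ = x * (x * y * x⁻¹) * x⁻¹ := by rw [pow_two]; group
        _ = x * (⁅x, y⁆ * y) * x⁻¹ := by rw [h1]
        _ = ⁅x, y⁆ * (x * y * x⁻¹) := by
            rw [← mul_assoc x, hcc x]
            group
        _ = ⁅x, y⁆ * (⁅x, y⁆ * y) := by rw [h1]
        _ = ⁅x, y⁆ ^ 2 * y := by rw [pow_two, mul_assoc]
    have h3 : x ^ 2 * y * (x ^ 2)⁻¹ = y := by
      have := Subgroup.mem_center_iff.mp (hsq x) y
      rw [← this]
      group
    rw [h3] at h2'
    exact (mul_eq_right.mp h2'.symm)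
  -- the commutator subgroup has exponent two
  have hall : ∀ z ∈ commutator T, z ^ 2 = 1 := by
    intro z hz
    rw [commutator_def] at hz
    have hzc : z ∈ Subgroup.center T := by
      rw [← hC, commutator_def]
      exact hz
    induction hz using Subgroup.closure_induction with
    | mem w hw =>
      obtain ⟨x, -, y, -, rfl⟩ := hw
      exact hcomm x y
    | one => simp
    | mul u v hu hv ihu ihv =>
      have hcu : u ∈ Subgroup.center T := by
        rw [← hC, commutator_def]
        exact hu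
      have hcv : v ∈ Subgroup.center T := by
        rw [← hC, commutator_def]
        exact hv
      have hcomm' : Commute u v := (Subgroup.mem_center_iff.mp hcu v).symm
      rw [hcomm'.mul_pow, ihu hcu, ihv hcv, one_mul]
    | inv u hu ihu =>
      have hcu : u ∈ Subgroup.center T := by
        rw [← hC, commutator_def]
        exact hu
      rw [inv_pow, ihu hcu, inv_one]
  have h5 : a ^ 2 ∈ commutator T := by
    rw [hC]
    exact hsq a
  have h6 := hall _ h5
  calc a ^ 4 = (a ^ 2) ^ 2 := by rw [← pow_mul]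
    _ = 1 := h6

theorem control_conj {G : Type*} [Group G] [Finite G] {p : ℕ} [Fact p.Prime] (P : Sylow p G)
    (hc : ∀ a ∈ (P : Subgroup G), (a ^ p = 1 ∨ (p = 2 ∧ a ^ 4 = 1)) → ∀ g : G,
      g * a * g⁻¹ ∈ (P : Subgroup G) → ∃ x ∈ (P : Subgroup G), g * a * g⁻¹ = x * a * x⁻¹)
    (P' : Sylow p G) :
    ∀ a ∈ (P' : Subgroup G), (a ^ p = 1 ∨ (p = 2 ∧ a ^ 4 = 1)) → ∀ g : G,
      g * a * g⁻¹ ∈ (P' : Subgroup G) → ∃ x ∈ (P' : Subgroup G), g * a * g⁻¹ = x * a * x⁻¹ := by
  obtain ⟨g₀, rfl⟩ := MulAction.exists_smul_eq G P P'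
  have hmem : ∀ y : G, y ∈ ((g₀ • P : Sylow p G) : Subgroup G) ↔ g₀⁻¹ * y * g₀ ∈ (P : Subgroup G) := by
    intro y
    have hco : ((g₀ • P : Sylow p G) : Subgroup G) = MulAut.conj g₀ • (P : Subgroup G) :=
      Sylow.coe_subgroup_smul
    rw [hco, Subgroup.mem_smul_pointwise_iff_exists]
    constructor
    · rintro ⟨s, hs, rfl⟩
      simpa [MulAut.smul_def, mul_assoc] using hs
    · intro h
      exact ⟨_, h, by simp [MulAut.smul_def, mul_assoc]⟩
  intro a ha hord g hg
  rw [hmem] at ha hg
  have hord' : (g₀⁻¹ * a * g₀) ^ p = 1 ∨ (p = 2 ∧ (g₀⁻¹ * a * g₀) ^ 4 = 1) := by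
    have hpow : ∀ n : ℕ, (g₀⁻¹ * a * g₀) ^ n = g₀⁻¹ * a ^ n * g₀ := by
      intro n
      have := map_pow (MulAut.conj g₀⁻¹) a n
      simpa [MulAut.conj_apply] using this.symm
    rcases hord with h | ⟨h1, h2⟩
    · left; rw [hpow, h]; group
    · right; exact ⟨h1, by rw [hpow, h2]; group⟩
  obtain ⟨x, hx, hxe⟩ := hc _ ha hord' (g₀⁻¹ * g * g₀) (by
    have : g₀⁻¹ * g * g₀ * (g₀⁻¹ * a * g₀) * (g₀⁻¹ * g * g₀)⁻¹ = g₀⁻¹ * (g * a * g⁻¹) * g₀ := by group
    rw [this]
    exact hg)
  refine ⟨g₀ * x * g₀⁻¹, (hmem _).mpr (by simpa [mul_assoc] using hx), ?_⟩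
  have h1 : g * a * g⁻¹ = g₀ * (g₀⁻¹ * g * g₀ * (g₀⁻¹ * a * g₀) * (g₀⁻¹ * g * g₀)⁻¹) * g₀⁻¹ := by group
  rw [h1, hxe]
  group

/-- Let P be a Sylow p-subgroup of the finite group G. Then G has a normal p-complement if and only if P controls the fusion of its elements of order dividing p (dividing 4 when p = 2): whenever such an element a of P has a G-conjugate g a g⁻¹ in P, that conjugate is already x a x⁻¹ for some x in P. -/
theorem result {G : Type*} [Group G] [Finite G] {p : ℕ} [Fact p.Prime] (P : Sylow p G) :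
    Cfsg.HasNormalPComplement p G ↔
      ∀ a ∈ (P : Subgroup G), (a ^ p = 1 ∨ (p = 2 ∧ a ^ 4 = 1)) → ∀ g : G, g * a * g⁻¹ ∈ (P : Subgroup G) →
        ∃ x ∈ (P : Subgroup G), g * a * g⁻¹ = x * a * x⁻¹ := by

  classical
  constructor
  · intro h a ha _ g hg
    obtain ⟨N, hNn, hN⟩ := exists_isComplement_of_hasNormalPComplement h P
    have hg' : g ∈ N ⊔ (P : Subgroup G) := by
      rw [hN.sup_eq_top]
      exact Subgroup.mem_top g
    rw [← SetLike.mem_coe, Subgroup.normal_mul] at hg'
    obtain ⟨n, hn, x, hx, rfl⟩ := Set.mem_mul.mp hg'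
    refine ⟨x, hx, ?_⟩
    set c := x * a * x⁻¹ with hc
    have hcP : c ∈ (P : Subgroup G) :=
      (P : Subgroup G).mul_mem ((P : Subgroup G).mul_mem hx ha) ((P : Subgroup G).inv_mem hx)
    have hb : n * x * a * (n * x)⁻¹ = n * c * n⁻¹ := by
      rw [hc]; group
    rw [hb] at hg ⊢
    have h1 : n * c * n⁻¹ * c⁻¹ ∈ N := by
      have h2 := hNn.conj_mem _ (N.inv_mem hn) c
      have h3 : n * c * n⁻¹ * c⁻¹ = n * (c * n⁻¹ * c⁻¹) := by group
      rw [h3]
      exact N.mul_mem hn h2
    have h2 : n * c * n⁻¹ * c⁻¹ ∈ (P : Subgroup G) :=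
      (P : Subgroup G).mul_mem hg ((P : Subgroup G).inv_mem hcP)
    have h3 : n * c * n⁻¹ * c⁻¹ = 1 := by
      have := hN.disjoint
      exact Subgroup.disjoint_def.mp this h1 h2
    exact mul_inv_eq_one.mp h3
  · intro hc
    by_contra hnot
    -- a minimal subgroup without a normal complement
    have hfin : ({M : Subgroup G | ¬ Cfsg.HasNormalPComplement p M}).Finite := Set.toFinite _
    obtain ⟨M, hM⟩ := hfin.exists_minimal ⟨⊤, by
      intro h
      apply hnot
      exact Cfsg.Agent.Lib.PZJ.npc_of_injective (⟨⟨fun g => ⟨g, Subgroup.mem_top g⟩, rfl⟩, fun _ _ => rfl⟩ : G →* (⊤ : Subgroup G))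
        (fun a b h => congrArg Subtype.val h) h⟩
    have hM1 : ¬ Cfsg.HasNormalPComplement p M := hM.prop
    have hM2 : ∀ H : Subgroup M, H ≠ ⊤ → Cfsg.HasNormalPComplement p H := by
      intro H hH
      have hlt : H.map M.subtype < M := by
        refine lt_of_le_of_ne (Subgroup.map_subtype_le H) ?_
        intro h
        apply hH
        rw [eq_top_iff]
        intro x _
        have hx : (x : G) ∈ H.map M.subtype := by
          rw [h]
          exact x.2
        obtain ⟨y, hy, hyx⟩ := hx
        have : y = x := Subtype.ext hyx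
        rwa [← this]
      have h1 : Cfsg.HasNormalPComplement p (H.map M.subtype) := by
        by_contra h2
        exact hlt.not_ge (hM.le_of_le h2 hlt.le)
      refine Cfsg.Agent.Lib.PZJ.npc_of_injective (M.subtype.subgroupMap H) ?_ h1
      intro a b h
      have h' := congrArg (fun z : (H.map M.subtype) => (z : G)) h
      exact Subtype.ext (Subtype.ext h')
    obtain ⟨hall, hnn, hsyl⟩ := Cfsg.Agent.S0132.result hM1 hM2
    have hmin : Cfsg.IsMinimalNonNilpotent M := ⟨hnn, hall⟩
    obtain ⟨r, q, hr, hq, hrq, R, Q, hRcyc, hQn, hRQ⟩ := schmidt hmin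
    haveI hrf : Fact r.Prime := ⟨hr⟩
    haveI hqf : Fact q.Prime := ⟨hq⟩
    have hpp : p.Prime := Fact.out
    -- identify p
    have hpq : p = q := by
      by_contra hne
      by_cases hpr : p = r
      · subst hpr
        -- R normal, Q normal: nilpotent
        have hRn : (R : Subgroup M).Normal := hsyl R
        haveI := hRn
        haveI := hQn
        have hcomm : ∀ a ∈ (R : Subgroup M), ∀ b ∈ (Q : Subgroup M), a * b = b * a := by
          intro a ha b hb
          have hdis := IsPGroup.disjoint_of_ne p q hne _ _ R.isPGroup' Q.isPGroup'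
          have h1 : a * b * a⁻¹ * b⁻¹ = 1 := by
            apply Subgroup.disjoint_def.mp hdis
            · have := hRn.conj_mem _ ((R : Subgroup M).inv_mem ha) b
              have h2 : a * b * a⁻¹ * b⁻¹ = a * (b * a⁻¹ * b⁻¹) := by group
              rw [h2]
              exact (R : Subgroup M).mul_mem ha this
            · have := hQn.conj_mem _ hb a
              exact (Q : Subgroup M).mul_mem this ((Q : Subgroup M).inv_mem hb)
          have h2 : a * b * a⁻¹ = b := mul_inv_eq_one.mp h1
          calc a * b = a * b * a⁻¹ * a := by group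
            _ = b * a := by rw [h2]
        -- the product is a nilpotent quotient of R × Q
        apply hnn
        let f : ↥(R : Subgroup M) × ↥(Q : Subgroup M) →* M :=
          MonoidHom.noncommCoprod (R : Subgroup M).subtype (Q : Subgroup M).subtype
            (fun a b => hcomm a a.2 b b.2)
        have hfs : Function.Surjective f := by
          intro m
          have hm : m ∈ (R : Subgroup M) ⊔ (Q : Subgroup M) := by
            rw [hRQ]; exact Subgroup.mem_top m
          rw [← SetLike.mem_coe, Subgroup.mul_normal] at hm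
          obtain ⟨a, ha, b, hb, rfl⟩ := Set.mem_mul.mp hm
          exact ⟨(⟨a, ha⟩, ⟨b, hb⟩), rfl⟩
        haveI : Group.IsNilpotent (R : Subgroup M) := R.isPGroup'.isNilpotent
        haveI : Group.IsNilpotent (Q : Subgroup M) := Q.isPGroup'.isNilpotent
        exact nilpotent_of_surjective f hfs
      · -- p does not divide the order of M
        apply hM1
        obtain ⟨P₀⟩ : Nonempty (Sylow p M) := inferInstance
        have hdvd : Nat.card M ∣ Nat.card (R : Subgroup M) * Nat.card (Q : Subgroup M) := by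
          haveI := hQn
          have := card_sup_dvd_mul (R : Subgroup M) (Q : Subgroup M)
          rwa [hRQ, Subgroup.card_top] at this
        obtain ⟨a, ha⟩ := IsPGroup.iff_card.mp R.isPGroup'
        obtain ⟨b, hb⟩ := IsPGroup.iff_card.mp Q.isPGroup'
        have hnd : ¬ p ∣ Nat.card M := by
          intro hd
          have h1 := hd.trans hdvd
          rw [ha, hb] at h1
          rcases (Nat.Prime.dvd_mul hpp).mp h1 with h | h
          · exact hpr ((Nat.prime_dvd_prime_iff_eq hpp hr).mp (hpp.dvd_of_dvd_pow h))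
          · exact hne ((Nat.prime_dvd_prime_iff_eq hpp hq).mp (hpp.dvd_of_dvd_pow h))
        have hbot : (P₀ : Subgroup M) = ⊥ := by
          rw [← Subgroup.card_eq_one]
          obtain ⟨c, hc'⟩ := IsPGroup.iff_card.mp P₀.isPGroup'
          rcases c with _ | c
          · simpa using hc'
          · exfalso
            apply hnd
            have h2 := Subgroup.card_subgroup_dvd_card (P₀ : Subgroup M)
            rw [hc'] at h2
            exact (dvd_pow_self p (by omega)).trans h2
        refine ⟨P₀, ⊤, inferInstance, ?_⟩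
        rw [hbot]
        exact Subgroup.isComplement'_top_bot
    subst hpq
    -- the subgroups in G
    let T : Subgroup G := (Q : Subgroup M).map M.subtype
    let Z : Subgroup G := (R : Subgroup M).map M.subtype
    have hTp : IsPGroup p T := Q.isPGroup'.map M.subtype
    have hZr : IsPGroup r Z := R.isPGroup'.map M.subtype
    have hZnorm : ∀ z ∈ Z, ∀ t ∈ T, z * t * z⁻¹ ∈ T := by
      rintro _ ⟨z, -, rfl⟩ _ ⟨t, ht, rfl⟩
      exact ⟨z * t * z⁻¹, hQn.conj_mem t ht z, by simp⟩
    have hZN : Z ≤ Subgroup.normalizer (T : Set G) := fun z hz =>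
      Cfsg.Agent.S3014.norm_of_comap T z (fun t ht => hZnorm z hz t ht)
    have hZcop : (Nat.card Z).Coprime p := by
      obtain ⟨a, ha⟩ := IsPGroup.iff_card.mp hZr
      rw [ha]
      exact Nat.Coprime.pow_left a ((Nat.coprime_primes hr hpp).mpr hrq)
    have hdisj : Disjoint (R : Subgroup M) (Q : Subgroup M) :=
      IsPGroup.disjoint_of_ne r p hrq _ _ R.isPGroup' Q.isPGroup'
    have hnt : ⁅T, Z⁆ ≠ ⊥ := by
      intro hbot
      apply hM1
      refine ⟨Q, (R : Subgroup M), ?_, ?_⟩
      · -- R is normal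
        have hcomm : ∀ a ∈ (R : Subgroup M), ∀ b ∈ (Q : Subgroup M), a * b = b * a := by
          intro a ha b hb
          have h1 : ⁅(b : G), (a : G)⁆ ∈ ⁅T, Z⁆ :=
            Subgroup.commutator_mem_commutator ⟨b, hb, rfl⟩ ⟨a, ha, rfl⟩
          rw [hbot, Subgroup.mem_bot, commutatorElement_eq_one_iff_mul_comm] at h1
          apply Subtype.ext
          exact h1.symm
        refine ⟨fun a ha m => ?_⟩
        have hm : m ∈ (R : Subgroup M) ⊔ (Q : Subgroup M) := by
          rw [hRQ]; exact Subgroup.mem_top m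
        haveI := hQn
        rw [← SetLike.mem_coe, Subgroup.mul_normal] at hm
        obtain ⟨u, hu, v, hv, rfl⟩ := Set.mem_mul.mp hm
        have h2 : u * v * a * (u * v)⁻¹ = u * a * u⁻¹ := by
          have : v * a = a * v := (hcomm a ha v hv).symm
          calc u * v * a * (u * v)⁻¹ = u * (v * a) * v⁻¹ * u⁻¹ := by group
            _ = u * (a * v) * v⁻¹ * u⁻¹ := by rw [this]
            _ = u * a * u⁻¹ := by group
        rw [h2]
        exact (R : Subgroup M).mul_mem ((R : Subgroup M).mul_mem hu ha) ((R : Subgroup M).inv_mem hu)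
      · have h1 : (R : Subgroup M) ⊔ (Q : Subgroup M) = ⊤ := hRQ
        apply Subgroup.isComplement'_of_disjoint_and_mul_eq_univ hdisj
        haveI := hQn
        rw [← Subgroup.mul_normal, h1]
        rfl
    have hmin2 : ∀ U : Subgroup G, U < T → Z ≤ Subgroup.normalizer (U : Set G) → ⁅U, Z⁆ = ⊥ := by
      intro U hU hZU
      -- U' in M
      have hUM : U ≤ M := hU.le.trans (Subgroup.map_subtype_le _)
      let U' : Subgroup M := U.subgroupOf M
      have hU'Q : U' ≤ (Q : Subgroup M) := by
        intro x hx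
        obtain ⟨y, hy, hyx⟩ := hU.le (Subgroup.mem_subgroupOf.mp hx)
        have : y = x := Subtype.ext hyx
        rwa [← this]
      have hRN : (R : Subgroup M) ≤ Subgroup.normalizer (U' : Set M) := by
        intro a ha
        rw [Subgroup.mem_normalizer_iff]
        intro b
        have h1 := Subgroup.mem_normalizer_iff.mp (hZU ⟨a, ha, rfl⟩) (b : G)
        simpa [U', Subgroup.mem_subgroupOf] using h1
      -- L = U' R proper
      let L : Subgroup M := U' ⊔ (R : Subgroup M)
      have hLne : L ≠ ⊤ := by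
        intro hL
        apply hU.not_ge
        rintro _ ⟨x, hx, rfl⟩
        have hxL : x ∈ L := by rw [hL]; exact Subgroup.mem_top x
        -- write x = u ρ
        let W : Subgroup M :=
          { carrier := {m | ∃ u ∈ U', ∃ ρ ∈ (R : Subgroup M), m = u * ρ}
            mul_mem' := by
              rintro _ _ ⟨u, hu, ρ, hρ, rfl⟩ ⟨u', hu', ρ', hρ', rfl⟩
              refine ⟨u * (ρ * u' * ρ⁻¹), U'.mul_mem hu ((Subgroup.mem_normalizer_iff.mp (hRN hρ) u').mp hu'),
                ρ * ρ', (R : Subgroup M).mul_mem hρ hρ', by group⟩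
            one_mem' := ⟨1, U'.one_mem, 1, (R : Subgroup M).one_mem, by simp⟩
            inv_mem' := by
              rintro _ ⟨u, hu, ρ, hρ, rfl⟩
              refine ⟨ρ⁻¹ * u⁻¹ * ρ⁻¹⁻¹, (Subgroup.mem_normalizer_iff.mp (hRN ((R : Subgroup M).inv_mem hρ)) u⁻¹).mp (U'.inv_mem hu),
                ρ⁻¹, (R : Subgroup M).inv_mem hρ, by group⟩ }
        have hLW : L ≤ W := sup_le (fun u hu => ⟨u, hu, 1, (R : Subgroup M).one_mem, by simp⟩)
          (fun ρ hρ => ⟨1, U'.one_mem, ρ, hρ, by simp⟩)
        obtain ⟨u, hu, ρ, hρ, hxe⟩ := hLW hxL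
        have hρQ : ρ ∈ (Q : Subgroup M) := by
          have : ρ = u⁻¹ * x := by rw [hxe]; group
          rw [this]
          exact (Q : Subgroup M).mul_mem ((Q : Subgroup M).inv_mem (hU'Q hu)) hx
        have hρ1 : ρ = 1 := Subgroup.disjoint_def.mp hdisj hρ hρQ
        rw [hρ1, mul_one] at hxe
        rw [hxe]
        exact Subgroup.mem_subgroupOf.mp hu
      have hLnil := hall L hLne
      rw [eq_bot_iff, Subgroup.commutator_le]
      intro u hu z hz
      obtain ⟨ρ, hρ, rfl⟩ := hz
      have huM : u ∈ M := hUM hu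
      have hu' : (⟨u, huM⟩ : M) ∈ U' := Subgroup.mem_subgroupOf.mpr hu
      have hcomm := commute_in hLnil hrq.symm (x := (⟨u, huM⟩ : M)) (y := ρ)
        (Subgroup.mem_sup_left hu') (Subgroup.mem_sup_right hρ)
        (by
          obtain ⟨k, hk⟩ := Q.isPGroup' ⟨_, hU'Q hu'⟩
          exact ⟨k, by simpa using congrArg Subtype.val hk⟩)
        (by
          obtain ⟨k, hk⟩ := R.isPGroup' ⟨_, hρ⟩
          exact ⟨k, by simpa using congrArg Subtype.val hk⟩)
      rw [Subgroup.mem_bot, commutatorElement_eq_one_iff_mul_comm]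
      exact congrArg Subtype.val hcomm
    obtain ⟨h1, h2, -, h4⟩ := Cfsg.Agent.S3736.result Z Z T hTp hZN le_rfl Subgroup.le_normalizer hZcop hnt hmin2
    -- exponent
    have hexp : ∀ t ∈ T, t ^ p = 1 ∨ (p = 2 ∧ t ^ 4 = 1) := by
      intro t ht
      by_cases hp2 : p = 2
      · subst hp2
        right
        refine ⟨rfl, ?_⟩
        rcases h2 with h2 | h2
        · have := h2.2 t ht
          calc t ^ 4 = (t ^ 2) ^ 2 := by rw [← pow_mul]
            _ = 1 := by rw [this, one_pow]
        · have := exp_four_of_special hTp h2 ⟨t, ht⟩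
          simpa using congrArg Subtype.val this
      · left
        exact h4 hp2 t ht
    -- the contradiction
    obtain ⟨P', hP'⟩ := hTp.exists_le_sylow
    have hc' := control_conj P hc P'
    let PP : Subgroup G := (P' : Subgroup G)
    let U : Subgroup G := Subgroup.closure {y | ∃ x ∈ PP, ∃ t ∈ T, y = x * t * x⁻¹}
    have hUP : U ≤ PP := by
      refine (Subgroup.closure_le _).mpr ?_
      rintro _ ⟨x, hx, t, ht, rfl⟩
      exact PP.mul_mem (PP.mul_mem hx (hP' ht)) (PP.inv_mem hx)
    have hTU : T ≤ U := fun t ht => Subgroup.subset_closure ⟨1, PP.one_mem, t, ht, by simp⟩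
    have hUconj : ∀ x ∈ PP, ∀ u ∈ U, x * u * x⁻¹ ∈ U := by
      intro x hx u hu
      have h5 : U ≤ U.comap (MulAut.conj x).toMonoidHom := by
        refine (Subgroup.closure_le _).mpr ?_
        rintro _ ⟨y, hy, t, ht, rfl⟩
        apply Subgroup.subset_closure
        refine ⟨x * y, PP.mul_mem hx hy, t, ht, ?_⟩
        simp [mul_assoc]
      exact h5 hu
    let Λ : Subgroup G := ⁅U, PP⁆
    have hTΛ : T ≤ Λ := by
      rw [← h1, Subgroup.commutator_le]
      intro t ht z hz
      have h5 := hc' t (hP' ht) (hexp t ht) z (hP' (hZnorm z hz t ht))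
      obtain ⟨x, hx, hxe⟩ := h5
      have h6 : ⁅t, z⁆ = ⁅t, x⁆ := by
        rw [commutatorElement_def, commutatorElement_def]
        have h7 : z * t⁻¹ * z⁻¹ = x * t⁻¹ * x⁻¹ := by
          have h8 := congrArg (·⁻¹) hxe
          simpa [mul_assoc] using h8
        calc t * z * t⁻¹ * z⁻¹ = t * (z * t⁻¹ * z⁻¹) := by group
          _ = t * (x * t⁻¹ * x⁻¹) := by rw [h7]
          _ = t * x * t⁻¹ * x⁻¹ := by group
      rw [h6]
      exact Subgroup.commutator_mem_commutator (hTU ht) hx
    have hUΛ : U ≤ Λ := by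
      refine (Subgroup.closure_le _).mpr ?_
      rintro _ ⟨x, hx, t, ht, rfl⟩
      have h5 : Λ ≤ Λ.comap (MulAut.conj x).toMonoidHom := by
        rw [Subgroup.commutator_le]
        intro u hu w hw
        show x * ⁅u, w⁆ * x⁻¹ ∈ Λ
        have h6 : x * ⁅u, w⁆ * x⁻¹ = ⁅x * u * x⁻¹, x * w * x⁻¹⁆ := by
          rw [commutatorElement_def, commutatorElement_def]
          group
        rw [h6]
        exact Subgroup.commutator_mem_commutator (hUconj x hx u hu)
          (PP.mul_mem (PP.mul_mem hx hw) (PP.inv_mem hx))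
      exact h5 (hTΛ ht)
    -- nilpotency kills U
    haveI hPnil : Group.IsNilpotent PP := P'.isPGroup'.isNilpotent
    let U' : Subgroup PP := U.subgroupOf PP
    have hser : ∀ n, U' ≤ (⊤ : Subgroup PP).lowerCentralSeries n := by
      intro n
      induction n with
      | zero =>
        exact le_top
      | succ n ih =>
        intro x hx
        have h5 : (x : G) ∈ Λ := hUΛ (Subgroup.mem_subgroupOf.mp hx)
        have h6 : ⁅U', (⊤ : Subgroup PP)⁆.map PP.subtype = Λ := by
          rw [Subgroup.map_commutator, Subgroup.map_subgroupOf_eq_of_le hUP, ← MonoidHom.range_eq_map,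
            Subgroup.range_subtype]
        rw [← h6] at h5
        obtain ⟨y, hy, hyx⟩ := h5
        have hyx' : y = x := Subtype.ext hyx
        rw [← hyx']
        exact Subgroup.commutator_mono ih le_rfl hy
    obtain ⟨n, hn⟩ := nilpotent_iff_lowerCentralSeries.mp hPnil
    have hU'bot : U' = ⊥ := by
      rw [eq_bot_iff, ← hn]
      exact hser n
    apply hnt
    rw [eq_bot_iff, Subgroup.commutator_le]
    intro t ht z _
    have h5 : (⟨t, hUP (hTU ht)⟩ : PP) ∈ U' := Subgroup.mem_subgroupOf.mpr (hTU ht)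
    rw [hU'bot, Subgroup.mem_bot] at h5
    have h6 : t = 1 := congrArg Subtype.val h5
    rw [h6]
    simp

end Cfsg.Agent.S1946
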