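import Cfsg.Statements.S1971
import Cfsg.Agent.Lib.LK5
-- import your own Cfsg.Agent.* helpers here

set_option autoImplicit false
universe u
open Cfsg

namespace Cfsg.Agent.S1971

/-- Let p be a prime, G a finite group with nontrivial Sylow p-subgroup S, and W an isomorphism-invariant p-group functor (W assigns to every group Q a subgroup W(Q), nontrivial whenever Q is a nontrivial finite p-group, and every isomorphism from a finite p-group Q onto a group R carries W(Q) onto W(R)) that controls transfer in every section of G. If N_G(S)/C_G(S) is a p-group (every element of N_G(S) of order prime to p centralizes S), then G has a normal subgroup of index p. -/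
theorem result {G : Type u} [Group G] [Finite G] {p : ℕ} [Fact p.Prime] (W : ∀ (Q : Type u) [Group Q], Subgroup Q) (hW : Cfsg.IsCharPFunctor.{u} p W) (hctl : ∀ (K R : Subgroup G) [hR : (R.subgroupOf K).Normal], Cfsg.ControlsTransferIn p (Cfsg.inducedFunctor (G := (↥K ⧸ R.subgroupOf K)) W) ⊤) (S : Sylow p G) (hS : (S : Subgroup G) ≠ ⊥) (hN : ∀ g ∈ Subgroup.normalizer (((S : Subgroup G) : Subgroup G) : Set G), (orderOf g).Coprime p → g ∈ Subgroup.centralizer ((S : Subgroup G) : Set G)) : ∃ N : Subgroup G, N.Normal ∧ N.index = p := by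
  classical
  have h𝓦 : ∀ W' ∈ ({W} : Set Cfsg.Agent.Lib.LCT.Fn.{u}), Cfsg.IsCharPFunctor.{u} p W' := by
    intro W' hW'
    rw [Set.mem_singleton_iff.1 hW']
    exact hW
  refine Cfsg.Agent.Lib.LK.index_p_main (W := W)
    (fun X _ => ∃ (K R : Subgroup G) (hR : (R.subgroupOf K).Normal),
      Nonempty ((↥K ⧸ R.subgroupOf K) ≃* X)) ?_ ?_ hW ?_ _ G rfl ?_ S hS hN
  · rintro X _ Y ⟨K, R, hR, ⟨e⟩⟩
    exact Cfsg.Agent.Lib.LCT.exists_section_sub K
      (e.toMonoidHom.comp (QuotientGroup.mk' (R.subgroupOf K)))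
      (e.surjective.comp (QuotientGroup.mk'_surjective _)) Y
  · rintro X _ N _ ⟨K, R, hR, ⟨e⟩⟩
    exact ⟨K, Cfsg.Agent.Lib.LCT.exists_section_of_surj K
      ((QuotientGroup.mk' N).comp (e.toMonoidHom.comp (QuotientGroup.mk' (R.subgroupOf K))))
      ((QuotientGroup.mk'_surjective N).comp (e.surjective.comp (QuotientGroup.mk'_surjective _)))⟩
  · rintro X _ _ ⟨K, R, hR, ⟨e⟩⟩
    haveI := hR
    refine Cfsg.Agent.Lib.LCT.ctl_of_equiv h𝓦 e ?_
    obtain ⟨T, -, hT, hi, he⟩ := hctl K R
    rw [Subgroup.relIndex_top_right] at hi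
    refine Cfsg.Agent.Lib.LCT.ctl_of_sylow h𝓦 (hT.toSylow hi) ?_
    simp only [iSup_singleton]
    simp only [top_inf_eq] at he
    exact he.le
  · refine ⟨⊤, ⊥, ?_, ⟨?_⟩⟩
    · exact inferInstance
    · have e0 : (⊥ : Subgroup G).subgroupOf ⊤ = ⊥ := Subgroup.bot_subgroupOf _
      exact (QuotientGroup.quotientMulEquivOfEq e0).trans
        ((QuotientGroup.quotientBot).trans Subgroup.topEquiv)

end Cfsg.Agent.S1971
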