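import Cfsg.Statements.S1982
import Cfsg.Agent.Lib.LK7
-- import your own Cfsg.Agent.* helpers here

set_option autoImplicit false
universe u
open Cfsg

namespace Cfsg.Agent.S1982

/-- Let p be a prime, G a finite group with Sylow p-subgroup S, T = O_p(G), and A a characteristic subgroup of T with A/Z(A) elementary abelian, [T, A] ≤ Z(A), C_T(A) = Z(A), and such that every automorphism of T of order prime to p fixing A elementwise is trivial (a critical subgroup of T). Suppose that the lower or the upper K-infinity subgroup of S is not normal in G. Then there is an element g of S outside T with [A, g, g, g] ≤ Z(A) and [Z(A), g, g] = 1, and such that if moreover C_G(T) ≤ T then some chief factor X/Y of G with X ≤ A satisfies [X, g, g] ≤ Y but [X, g] ≰ Y. -/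
theorem result {G : Type u} [Group G] [Finite G] {p : ℕ} [Fact p.Prime] (S : Sylow p G) (A : Subgroup G) (hAT : A ≤ (Cfsg.pCore p G)) (hAchar : (A.subgroupOf (Cfsg.pCore p G)).Characteristic) (hA1 : ∀ a ∈ A, a ^ p ∈ A ⊓ Subgroup.centralizer ((A : Subgroup G) : Set G)) (hA2 : ⁅A, A⁆ ≤ Subgroup.centralizer ((A : Subgroup G) : Set G)) (hA3 : ⁅(Cfsg.pCore p G), A⁆ ≤ A ⊓ Subgroup.centralizer ((A : Subgroup G) : Set G)) (hA4 : (Cfsg.pCore p G) ⊓ Subgroup.centralizer ((A : Subgroup G) : Set G) = A ⊓ Subgroup.centralizer ((A : Subgroup G) : Set G)) (hA5 : ∀ φ : MulAut ↥(Cfsg.pCore p G), (orderOf φ).Coprime p → (∀ a : ↥(Cfsg.pCore p G), (a : G) ∈ A → φ a = a) → φ = 1) (hK : ¬ (Cfsg.inducedFunctor Cfsg.kInfLower (S : Subgroup G)).Normal ∨ ¬ (Cfsg.inducedFunctor Cfsg.kInfUpper (S : Subgroup G)).Normal) : ∃ g : G, g ∈ (S : Subgroup G) ∧ g ∉ (Cfsg.pCore p G) ∧ Cfsg.iterCommutator A (Subgroup.zpowers g) 3 ≤ A ⊓ Subgroup.centralizer ((A : Subgroup G) : Set G) ∧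 ⁅⁅A ⊓ Subgroup.centralizer ((A : Subgroup G) : Set G), (Subgroup.zpowers g)⁆, (Subgroup.zpowers g)⁆ = ⊥ ∧ (Subgroup.centralizer (((Cfsg.pCore p G) : Subgroup G) : Set G) ≤ (Cfsg.pCore p G) → ∃ U V : Subgroup G, Cfsg.IsChiefFactor U V ∧ U ≤ A ∧ ⁅⁅U, (Subgroup.zpowers g)⁆, (Subgroup.zpowers g)⁆ ≤ V ∧ ¬ ⁅U, (Subgroup.zpowers g)⁆ ≤ V) := by
  classical
  set T : Subgroup G := Cfsg.pCore p G with hTdef
  haveI hTn : T.Normal := Cfsg.Agent.Lib.H1Core.pCore_normal p G
  have hTp : IsPGroup p ↥T := Cfsg.Agent.Lib.H1Core.pCore_isPGroup (G := G) p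
  have hTS : T ≤ (S : Subgroup G) := Cfsg.Agent.Lib.H1Core.pCore_le_sylow p S
  have hAn : A.Normal := by
    have h := Cfsg.Agent.Lib.H1Core.normal_map_of_characteristic T (A.subgroupOf T)
    rwa [Subgroup.subgroupOf_map_subtype, inf_eq_left.2 hAT] at h
  haveI := hAn
  by_cases hCT : Subgroup.centralizer ((T : Subgroup G) : Set G) ≤ T
  · have hstab : ∀ h : G, (orderOf h).Coprime p → h ∈ Subgroup.centralizer (A : Set G) →
        h ∈ Subgroup.centralizer ((T : Subgroup G) : Set G) := by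
      intro h hh hhA
      have h1 : orderOf (MulAut.conjNormal (H := T) h) ∣ orderOf h := orderOf_map_dvd _ _
      have h2 : (orderOf (MulAut.conjNormal (H := T) h)).Coprime p :=
        Nat.Coprime.coprime_dvd_left h1 hh
      have h3 := hA5 (MulAut.conjNormal (H := T) h) h2 (by
        intro a ha
        apply Subtype.ext
        rw [MulAut.conjNormal_apply]
        have := (Subgroup.mem_centralizer_iff.1 hhA) a ha
        rw [← this]
        group)
      rw [Subgroup.mem_centralizer_iff]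
      intro t ht
      have h4 : (MulAut.conjNormal (H := T) h) ⟨t, ht⟩ = ⟨t, ht⟩ := by
        rw [h3]
        rfl
      have h5 := congrArg Subtype.val h4
      rw [MulAut.conjNormal_apply] at h5
      have h6 : h * t * h⁻¹ = t := h5
      calc t * h = (h * t * h⁻¹) * h := by rw [h6]
        _ = h * t := by group
    have hPf := Cfsg.Agent.Lib.LK.Pf_le_pCore hAT hCT hstab
    obtain ⟨g, hgS, hgT, h3, h2, U, V, hc, hU, hq, hn⟩ :=
      Cfsg.Agent.Lib.LK.exists_g3 (p := p) hTS hTp hAT hA2 hA3 hPf hK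
    exact ⟨g, hgS, hgT, h3, h2, fun _ => ⟨U, V, hc, hU, hq, hn⟩⟩
  · obtain ⟨g, hgS, hgT, h3, h2⟩ := Cfsg.Agent.Lib.LK.exists_g hTS hAT hA2 hA3 hK
    exact ⟨g, hgS, hgT, h3, h2, fun h => absurd h hCT⟩

end Cfsg.Agent.S1982
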