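import Cfsg.Statements.S1996
import Cfsg.Agent.Lib.LK21
-- import your own Cfsg.Agent.* helpers here

set_option autoImplicit false
universe u
open Cfsg

namespace Cfsg.Agent.S1996

/-- Let p be a prime, G a finite group and W₁, W₂ two isomorphism-invariant p-group functors (W assigns to every group Q a subgroup W(Q), nontrivial whenever Q is a nontrivial finite p-group, and every isomorphism from a finite p-group Q onto a group R carries W(Q) onto W(R)). Suppose that G* = N_{G*}(W₁(S*)) N_{G*}(W₂(S*)) whenever G* = K/R is a section of G with C_{G*}(O_p(G*)) ≤ O_p(G*) and S* is a Sylow p-subgroup of G*. Then the pair {W₁, W₂} controls strong fusion in G. -/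
theorem result {G : Type u} [Group G] [Finite G] {p : ℕ} [Fact p.Prime] (W₁ W₂ : ∀ (Q : Type u) [Group Q], Subgroup Q) (hW₁ : Cfsg.IsCharPFunctor.{u} p W₁) (hW₂ : Cfsg.IsCharPFunctor.{u} p W₂) (hfac : ∀ (K R : Subgroup G) [hR : (R.subgroupOf K).Normal], Subgroup.centralizer ((Cfsg.pCore p (↥K ⧸ R.subgroupOf K) : Subgroup (↥K ⧸ R.subgroupOf K)) : Set (↥K ⧸ R.subgroupOf K)) ≤ Cfsg.pCore p (↥K ⧸ R.subgroupOf K) → ∀ T : Sylow p (↥K ⧸ R.subgroupOf K), ∀ x : (↥K ⧸ R.subgroupOf K), ∃ a ∈ Subgroup.normalizer ((Cfsg.inducedFunctor (G := (↥K ⧸ R.subgroupOf K)) W₁ (T : Subgroup (↥K ⧸ R.subgroupOf K)) : Subgroup (↥K ⧸ R.subgroupOf K)) : Set (↥K ⧸ R.subgroupOf K)), ∃ b ∈ Subgroup.normalizer ((Cfsg.inducedFunctor (G := (↥K ⧸ R.subgroupOf K)) W₂ (T : Subgroup (↥K ⧸ R.subgroupOf K)) : Subgroup (↥K ⧸ R.subgroupOf K)) : Set (↥K ⧸ R.subgroupOf K)), x = a * b) : Cfsg.FamilyControlsStrongFusionIn p {Cfsg.inducedFunctor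 (G := G) W₁, Cfsg.inducedFunctor (G := G) W₂} ⊤ := by
  classical
  have h𝓦 : ∀ W ∈ ({W₁, W₂} : Set (∀ (Q : Type u) [Group Q], Subgroup Q)), Cfsg.IsCharPFunctor.{u} p W := by
    rintro W (rfl | rfl)
    · exact hW₁
    · exact hW₂
  have key := @Cfsg.Agent.Lib.LK.family_section p _ G _ _ {W₁, W₂} h𝓦 ?_
  · rwa [Set.image_pair] at key
  intro K R hR hc
  haveI := hR
  rw [Set.image_pair]
  obtain ⟨T⟩ : Nonempty (Sylow p (↥K ⧸ R.subgroupOf K)) := inferInstance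
  have hle₁ : (T : Subgroup (↥K ⧸ R.subgroupOf K)) ≤ Subgroup.normalizer ((Cfsg.inducedFunctor (G := (↥K ⧸ R.subgroupOf K)) W₁ (T : Subgroup (↥K ⧸ R.subgroupOf K)) : Subgroup (↥K ⧸ R.subgroupOf K)) : Set (↥K ⧸ R.subgroupOf K)) := by
    intro t ht
    rw [← Cfsg.Agent.Lib.LK.Qf_pos T.2]
    exact (Cfsg.Agent.Lib.LK.daxioms_Qf (p := p) hW₁).normalizer_le _ (Subgroup.le_normalizer ht)
  have hle₂ : (T : Subgroup (↥K ⧸ R.subgroupOf K)) ≤ Subgroup.normalizer ((Cfsg.inducedFunctor (G := (↥K ⧸ R.subgroupOf K)) W₂ (T : Subgroup (↥K ⧸ R.subgroupOf K)) : Subgroup (↥K ⧸ R.subgroupOf K)) : Set (↥K ⧸ R.subgroupOf K)) := by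
    intro t ht
    rw [← Cfsg.Agent.Lib.LK.Qf_pos T.2]
    exact (Cfsg.Agent.Lib.LK.daxioms_Qf (p := p) hW₂).normalizer_le _ (Subgroup.le_normalizer ht)
  refine ⟨T, le_top, T.2, by rw [Subgroup.relIndex_top_right]; exact T.not_dvd_index, fun A h _ hA hAh => ?_⟩
  obtain ⟨a, ha, b, hb, rfl⟩ := hfac K R hc T h
  set N₁ := Subgroup.normalizer ((Cfsg.inducedFunctor (G := (↥K ⧸ R.subgroupOf K)) W₁ (T : Subgroup (↥K ⧸ R.subgroupOf K)) : Subgroup (↥K ⧸ R.subgroupOf K)) : Set (↥K ⧸ R.subgroupOf K)) with hN₁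
  set N₂ := Subgroup.normalizer ((Cfsg.inducedFunctor (G := (↥K ⧸ R.subgroupOf K)) W₂ (T : Subgroup (↥K ⧸ R.subgroupOf K)) : Subgroup (↥K ⧸ R.subgroupOf K)) : Set (↥K ⧸ R.subgroupOf K)) with hN₂
  have hcl : Subgroup.closure A ≤ (T : Subgroup (↥K ⧸ R.subgroupOf K)) := (Subgroup.closure_le _).2 hA
  have hgcl : ∀ c ∈ Subgroup.closure A, (a * b) * c * (a * b)⁻¹ ∈ (T : Subgroup (↥K ⧸ R.subgroupOf K)) := by
    have : Subgroup.closure A ≤ (T : Subgroup (↥K ⧸ R.subgroupOf K)).comap (MulAut.conj (a * b)).toMonoidHom := by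
      rw [Subgroup.closure_le]
      intro x hx
      exact hAh ⟨x, hx, rfl⟩
    intro c hc
    have h9 := this hc
    rw [Subgroup.mem_comap] at h9
    have e9 : (MulAut.conj (a * b)).toMonoidHom c = (a * b) * c * (a * b)⁻¹ := rfl
    rwa [e9] at h9
  set L := N₁ ⊓ N₂ with hL
  have hTL : (T : Subgroup (↥K ⧸ R.subgroupOf K)) ≤ L := le_inf hle₁ hle₂
  set X : Subgroup (↥K ⧸ R.subgroupOf K) := (Subgroup.closure A).map (MulAut.conj b).toMonoidHom with hX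
  have hXL : X ≤ L := by
    rintro _ ⟨c, hc, rfl⟩
    refine Subgroup.mem_inf.2 ⟨?_, ?_⟩
    · have e : (MulAut.conj b).toMonoidHom c = a⁻¹ * ((a * b) * c * (a * b)⁻¹) * a := by
        simp only [MulEquiv.coe_toMonoidHom, MulAut.conj_apply]
        group
      rw [e]
      exact mul_mem (mul_mem (inv_mem ha) (hle₁ (hgcl c hc))) ha
    · have e : (MulAut.conj b).toMonoidHom c = b * c * b⁻¹ := by simp
      rw [e]
      exact mul_mem (mul_mem hb (hle₂ (hcl hc))) (inv_mem hb)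
  have hXp : IsPGroup p (X.comap L.subtype) :=
    IsPGroup.comap_subtype ((T.2.to_le hcl).map _)
  obtain ⟨k, -, hk⟩ := Cfsg.Agent.Lib.PZJ.exists_conj_le_sylow (T.subtype hTL) ⊤ _ hXp le_top
  have hu : ∀ c ∈ Subgroup.closure A, (k : ↥K ⧸ R.subgroupOf K)⁻¹ * (b * c * b⁻¹) * (k : ↥K ⧸ R.subgroupOf K) ∈ (T : Subgroup (↥K ⧸ R.subgroupOf K)) := by
    intro c hc
    have hxX : (MulAut.conj b).toMonoidHom c ∈ X := ⟨c, hc, rfl⟩
    have h1 := hk ⟨_, hXL hxX⟩ hxX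
    rw [T.coe_subtype hTL] at h1
    have h2 := Subgroup.mem_subgroupOf.1 h1
    simpa using h2
  set u : ↥K ⧸ R.subgroupOf K := (k : ↥K ⧸ R.subgroupOf K)⁻¹ with hudef
  have huL : u ∈ L := inv_mem k.2
  refine ⟨2, ![1, u * b, a * b], rfl, ?_, ?_, fun _ _ => rfl⟩
  · intro i
    fin_cases i
    · refine ⟨_, Or.inr rfl, Subgroup.mem_inf.2 ⟨trivial, ?_⟩⟩
      show u * b * (1 : ↥K ⧸ R.subgroupOf K)⁻¹ ∈ N₂
      rw [inv_one, mul_one]
      exact mul_mem (Subgroup.mem_inf.1 huL).2 hb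
    · refine ⟨_, Or.inl rfl, Subgroup.mem_inf.2 ⟨trivial, ?_⟩⟩
      show a * b * (u * b)⁻¹ ∈ N₁
      have e : a * b * (u * b)⁻¹ = a * u⁻¹ := by group
      rw [e]
      exact mul_mem ha (inv_mem (Subgroup.mem_inf.1 huL).1)
  · intro i
    fin_cases i
    · rintro _ ⟨x, hx, rfl⟩
      show (1 : ↥K ⧸ R.subgroupOf K) * x * (1 : ↥K ⧸ R.subgroupOf K)⁻¹ ∈ _
      simpa using hA hx
    · rintro _ ⟨x, hx, rfl⟩
      show (u * b) * x * (u * b)⁻¹ ∈ _
      have e : (u * b) * x * (u * b)⁻¹ = (k : ↥K ⧸ R.subgroupOf K)⁻¹ * (b * x * b⁻¹) * (k : ↥K ⧸ R.subgroupOf K) := by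
        rw [hudef]
        group
      rw [e]
      exact hu x (Subgroup.subset_closure hx)
    · rintro _ ⟨x, hx, rfl⟩
      exact hgcl x (Subgroup.subset_closure hx)

end Cfsg.Agent.S1996
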