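import Cfsg.Statements.S1998
import Cfsg.Agent.Lib.LCT5
-- import your own Cfsg.Agent.* helpers here

set_option autoImplicit false
universe u
open Cfsg

namespace Cfsg.Agent.S1998

/-- Let p be a prime, G a finite group with Sylow p-subgroup S, and 𝓦 a nonempty set of isomorphism-invariant p-group functors (W assigns to every group Q a subgroup W(Q), nontrivial whenever Q is a nontrivial finite p-group, and every isomorphism from a finite p-group Q onto a group R carries W(Q) onto W(R)). Suppose the induced conjugacy functors control transfer in every section of G other than G itself, but not in G. Let T be the subgroup generated by the S ∩ (N_G(W(S)))', W ∈ 𝓦, and M = N_G(T ∩ O_p(G)). Then: C_G(O_p(G)) ≤ O_p(G); M is a proper subgroup of G containing every proper subgroup of G that contains S (the unique maximal subgroup over S); [O_p(G), M] ≤ O_p(G) ∩ M' ≤ O_p(G) ∩ T; and every element u of S outside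 O_p(G) satisfies [X, u, …, u] ≰ Y with p − 1 entries u, for some chief factor X/Y of G with X ≤ O_p(G). -/
theorem result {G : Type u} [Group G] [Finite G] {p : ℕ} [Fact p.Prime] (S : Sylow p G) (𝓦 : Set (∀ (Q : Type u) [Group Q], Subgroup Q)) (h𝓦 : ∀ W ∈ 𝓦, Cfsg.IsCharPFunctor.{u} p W) (hne : 𝓦.Nonempty) (hsec : ∀ (K R : Subgroup G) [hR : (R.subgroupOf K).Normal], (K = ⊤ → R ≠ ⊥) → Cfsg.FamilyControlsTransferIn p ((fun W => Cfsg.inducedFunctor (G := (↥K ⧸ R.subgroupOf K)) W) '' 𝓦) ⊤) (hG : ¬ Cfsg.FamilyControlsTransferIn p ((fun W => Cfsg.inducedFunctor (G := G) W) '' 𝓦) ⊤) (T M : Subgroup G) (hT : T = (⨆ W ∈ 𝓦, (S : Subgroup G) ⊓ ⁅Subgroup.normalizer ((Cfsg.inducedFunctor (G := G) W (S : Subgroup G) : Subgroup G) : Set G), Subgroup.normalizer ((Cfsg.inducedFunctor (G := G) W (S : Subgroup G) : Subgroup G) : Set G)⁆)) (hM : M = Subgroup.normalizer ((T ⊓ Cfsg.pCore p G : Subgroup G) : Set G)) : Subgroup.centralizer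 ((Cfsg.pCore p G : Subgroup G) : Set G) ≤ Cfsg.pCore p G ∧ (M ≠ ⊤ ∧ ∀ H : Subgroup G, (S : Subgroup G) ≤ H → H ≠ ⊤ → H ≤ M) ∧ (⁅Cfsg.pCore p G, M⁆ ≤ Cfsg.pCore p G ⊓ ⁅M, M⁆ ∧ Cfsg.pCore p G ⊓ ⁅M, M⁆ ≤ Cfsg.pCore p G ⊓ T) ∧ ∀ u : G, u ∈ (S : Subgroup G) → u ∉ Cfsg.pCore p G → ∃ U V : Subgroup G, Cfsg.IsChiefFactor U V ∧ U ≤ Cfsg.pCore p G ∧ ¬ Cfsg.iterCommutator U (Subgroup.zpowers u) (p - 1) ≤ V := by
  classical
  subst hT hM
  have hsub : ∀ H : Subgroup G, H ≠ ⊤ → Cfsg.Agent.Lib.LCT.Ctl p 𝓦 ↥H := by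
    intro H hH
    haveI hn : ((⊥ : Subgroup G).subgroupOf H).Normal := inferInstance
    have e : (↥H ⧸ (⊥ : Subgroup G).subgroupOf H) ≃* ↥H :=
      (QuotientGroup.quotientMulEquivOfEq (Subgroup.bot_subgroupOf H)).trans QuotientGroup.quotientBot
    exact Cfsg.Agent.Lib.LCT.ctl_section h𝓦 H ⊥ e (hsec H ⊥ (fun e1 => absurd e1 hH))
  have hquo : ∀ (R : Subgroup G) [R.Normal], R ≠ ⊥ → Cfsg.Agent.Lib.LCT.Ctl p 𝓦 (G ⧸ R) := by
    intro R hR hne
    have e : (↥(⊤ : Subgroup G) ⧸ R.subgroupOf ⊤) ≃* G ⧸ R :=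
      QuotientGroup.congr (R.subgroupOf ⊤) R Subgroup.topEquiv (by
        ext x
        constructor
        · rintro ⟨y, hy, rfl⟩
          exact Subgroup.mem_subgroupOf.1 hy
        · intro hx
          exact ⟨⟨x, Subgroup.mem_top x⟩, Subgroup.mem_subgroupOf.2 hx, rfl⟩)
    exact Cfsg.Agent.Lib.LCT.ctl_section h𝓦 ⊤ R e (hsec ⊤ R (fun _ => hne))
  have hcore : Cfsg.Agent.Lib.LCT.Core p 𝓦 S :=
    ⟨h𝓦, hne, hsub, hquo, fun hc => hG (Cfsg.Agent.Lib.LCT.family_of_ctl hc)⟩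
  have hQS : Cfsg.pCore p G ≤ (S : Subgroup G) := Cfsg.Agent.Lib.H1Core.pCore_le_sylow p S
  have hSM := hcore.le_M _ hcore.S_ne_top le_rfl
  refine ⟨hcore.centralizer_le, ⟨hcore.M_ne_top, fun H hS hH => hcore.le_M H hH hS⟩, ⟨?_, ?_⟩,
    fun u hu huQ => hcore.part_d u hu huQ⟩
  · refine le_inf (Subgroup.commutator_le_left _ _) (Subgroup.commutator_mono (hQS.trans hSM) le_rfl)
  · rintro x ⟨hxQ, hxc⟩
    exact ⟨hxQ, hcore.step1 _ hcore.M_ne_top hSM ⟨hQS hxQ, hxc⟩⟩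

end Cfsg.Agent.S1998
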