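import Cfsg.Statements.S2015
import Cfsg.Agent.Lib.LK4
-- import your own Cfsg.Agent.* helpers here

set_option autoImplicit false
universe u
open Cfsg

namespace Cfsg.Agent.S2015

/-- For p ≥ 5, every finite p-group P has a characteristic subgroup K containing Z(P), depending only on P, whose normalizer controls transfer wherever P is a Sylow subgroup: for every finite group G and every embedding ι of P onto a Sylow p-subgroup of G, the intersection of ι(P) with the derived subgroup of G equals its intersection with the derived subgroup of N_G(ι(K)). -/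
theorem result (p : ℕ) [Fact p.Prime] (hp : 5 ≤ p) (P : Type u) [Group P] [Finite P] (hP : IsPGroup p P) : ∃ K : Subgroup P, K.Characteristic ∧ Subgroup.center P ≤ K ∧ ∀ (G : Type u) [Group G] [Finite G] (ι : P →* G), Function.Injective ι → (∃ T : Sylow p G, (T : Subgroup G) = ι.range) → ι.range ⊓ commutator G = ι.range ⊓ (commutator ↥(Subgroup.normalizer ((K.map ι : Subgroup G) : Set G))).map (Subgroup.normalizer ((K.map ι : Subgroup G) : Set G)).subtype := by
  classical
  refine ⟨Cfsg.kInfLower P, Cfsg.Agent.Lib.LK.kInfLower_char P, Cfsg.Agent.Lib.LK.center_le_kInfLower, ?_⟩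
  intro G _ _ ι hι hT
  obtain ⟨T, hT⟩ := hT
  have hctl := Cfsg.Agent.Lib.LK.ctl_lower hp G
  have hpg : IsPGroup p ↥ι.range := hT ▸ T.isPGroup'
  have hidx : ¬ p ∣ ι.range.index := hT ▸ T.not_dvd_index
  have h1 := hctl ι.range hpg hidx
  simp only [iSup_singleton] at h1
  have hhat : Cfsg.Agent.Lib.LCT.hat Cfsg.kInfLower ι.range = (Cfsg.kInfLower P).map ι := by
    have e1 := Cfsg.Agent.Lib.LK.kInfLower_equiv (MonoidHom.ofInjective hι)
    show (Cfsg.kInfLower ↥ι.range).map ι.range.subtype = _
    rw [← e1, Subgroup.map_map]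
    rfl
  have hN : Cfsg.Agent.Lib.LCT.Nh Cfsg.kInfLower ι.range =
      Subgroup.normalizer (((Cfsg.kInfLower P).map ι : Subgroup G) : Set G) := by
    show Subgroup.normalizer ((Cfsg.Agent.Lib.LCT.hat Cfsg.kInfLower ι.range : Subgroup G) : Set G) = _
    rw [hhat]
  rw [hN] at h1
  have e2 : (commutator ↥(Subgroup.normalizer (((Cfsg.kInfLower P).map ι : Subgroup G) : Set G))).map
      (Subgroup.normalizer (((Cfsg.kInfLower P).map ι : Subgroup G) : Set G)).subtype =
      ⁅Subgroup.normalizer (((Cfsg.kInfLower P).map ι : Subgroup G) : Set G),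
        Subgroup.normalizer (((Cfsg.kInfLower P).map ι : Subgroup G) : Set G)⁆ :=
    Subgroup.map_subtype_commutator _
  rw [e2]
  apply le_antisymm
  · exact h1
  · exact inf_le_inf_left _ (Subgroup.commutator_mono le_top le_top)

end Cfsg.Agent.S2015
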