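import Cfsg.Statements.S2060
import Cfsg.Agent.Lib.GolayOut

set_option autoImplicit false
set_option linter.unusedSimpArgs false
set_option linter.unusedVariables false
set_option maxRecDepth 100000
open Cfsg
open scoped Pointwise

namespace Cfsg.Agent.S2060
open Cfsg.Agent.Lib
open Cfsg.Agent.Lib.OutCrit Cfsg.Agent.Lib.GolayOut
open Cfsg.Agent.Lib.GolayBasic Cfsg.Agent.Lib.GolayCode Cfsg.Agent.Lib.GolayPerm Cfsg.Agent.Lib.GolayOrder
open Cfsg.Agent.Lib.GolayFacts Cfsg.Agent.Lib.GolayTools Cfsg.Agent.Lib.GolayM23 Cfsg.Agent.Lib.GolayChain Cfsg.Agent.Lib.GolayM12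

/-- element -/
def cAC : ℕ := 837555373334140711292331417625824640
/-- element -/
def cACp : ℕ := 837555373334140711292331417625824640
/-- moving the base -/
def cAW : ℕ := 944474687063653512974805835014805889
/-- moving the base -/
def cAWi : ℕ := 943956855624579068834778783164272658
/-- table of the elements moving the base -/
def cAUR : ℕ := 263366687149650614021647664404435193196710124671542811546799574068523220099225968834518267045877168230423344185373809483913051731621217912577369115422509052796483656175933760722500608863996518896419642337454241949695204884389809793441809559468218349467040732636275612098682354418955952604368729312529099033269404346100474365313568455918272544243500532457278548615328184377348159584335598387967545286794013398686262577824370077366352064664123551797658166605198774645093711073487496606425934575732117462054521274784831787291095781833705578794948974613243705284559987118920015746159272207635529798056627928805400530033025338912462503699066680021869945944855497235182927922832299113275968725515123456533759687427330722278623646012340242876554180416131879014032117827209660824864324678403396988824170814425720590255978251589306172887661586260076873337719448199314553176064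
/-- mask -/
def cAY : ℕ := 16646142

/-- element -/
def cBC : ℕ := 446057660382890204031682917926472736
/-- element -/
def cBCp : ℕ := 446057660382890204031682917926472736
/-- moving the base -/
def cBW : ℕ := 173060414707781293155674114444829794
/-- moving the base -/
def cBWi : ℕ := 396535808763535581501014146341175882
/-- table of the elements moving the base -/
def cBUR : ℕ := 611982368778271237763494657472350611204188050375053766225468338120748467480438225955631243924985457708468400911350891581245461801812709473402357645886805116464708481736792950082419808715483170943845316764475247481639434212516180807982986747956719045498828494794667505948350116617153194202767145413066257086521094163665967355434862320217113601415175256741545690084628723425553834369222727018451831804282324408152950802752598861690498033423001586068470425694939374068419727956512103708953659389424588430838926927566734462344886346179594254567774774348785087019796579002023532663670105296880810222050476111491227173733185639762375900956716399410378107953974945308755915640299729719900590670866258506693831856879960173149517541111049972889084488590404264378479839337772353576506839871878699570402701745257019855182282632761660193630089114209502718314784095355083901894656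
/-- mask -/
def cBY : ℕ := 16613372
/-- the listed centraliser -/
def AlR : ℕ := 2883014405206845950097166250120899517980142322104761342996771304707091816634916431463969900802042384859534261439373490083646809926362052054510435507347295171948574389943169632536608
/-- the listed centraliser -/
def Al (k : ℕ) : ℕ := rom AlR 120 k
/-- the rejecting words -/
def wt : List (List ℕ) := [[0, 0, 2, 0, 1, 2, 1, 0, 0, 0, 2, 0, 1, 2, 1, 0, 0, 0, 2, 0, 1, 2, 1, 0], [], [2, 1, 0, 0, 0, 1, 1, 0, 2, 2, 2, 1, 0, 0, 0, 1, 1, 0, 2, 2, 2, 1, 0, 0, 0, 1, 1, 0, 2, 2, 2, 1, 0, 0, 0, 1, 1, 0, 2, 2, 2, 1, 0, 0, 0, 1, 1, 0, 2, 2, 2, 1, 0, 0, 0, 1, 1, 0, 2, 2, 2, 1, 0, 0, 0, 1, 1, 0, 2, 2, 2, 1, 0, 0, 0, 1, 1, 0, 2, 2, 2, 1, 0, 0, 0, 1, 1, 0, 2, 2, 2, 1, 0, 0, 0, 1, 1, 0, 2, 2, 2, 1, 0, 0, 0, 1, 1, 0, 2, 2], [2, 1, 0, 2, 1, 1, 2, 1, 1, 2, 1, 0, 2, 1, 1, 2, 1, 1, 2, 1, 0, 2, 1, 1, 2, 1, 1, 2, 1, 0, 2, 1, 1, 2, 1, 1, 2, 1, 0, 2, 1, 1, 2, 1, 1, 2, 1, 0, 2, 1, 1, 2, 1, 1], [0, 2, 2, 2, 2, 2, 2, 2, 0, 2, 2, 2, 2, 2, 2, 2, 0, 2, 2, 2, 2, 2, 2, 2, 0, 2, 2, 2, 2, 2, 2, 2, 0, 2, 2, 2, 2, 2, 2, 2, 0, 2, 2, 2, 2, 2, 2, 2], [1, 0, 2, 1, 1,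 0, 2, 1, 1, 0, 2, 1, 1, 0, 2, 1, 1, 0, 2, 1, 1, 0, 2, 1, 1, 0, 2, 1, 1, 0, 2, 1, 1, 0, 2, 1, 1, 0, 2, 1, 1, 0, 2, 1], [0, 2, 0, 2, 0, 2, 0, 2, 0, 2, 0, 2, 0, 2, 0, 2], [2, 0, 2, 0, 2, 0, 2, 0, 2, 0, 2, 0, 2, 0, 2, 0], [1, 1, 0, 2, 0, 0, 2, 2, 0, 2, 1, 1, 0, 2, 0, 0, 2, 2, 0, 2, 1, 1, 0, 2, 0, 0, 2, 2, 0, 2, 1, 1, 0, 2, 0, 0, 2, 2, 0, 2, 1, 1, 0, 2, 0, 0, 2, 2, 0, 2], [0, 1, 0, 2, 0, 1, 0, 2, 0, 1, 0, 2]]
/-- element -/
def pD : ℕ := 849414919297944031155053626894092320
/-- element -/
def pAi : ℕ := 482183199368382929462733037659834784
/-- element -/
def pCi : ℕ := 923525504613438217231349507977981984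
/-- element -/
def pDi : ℕ := 607974513007959930786473204517505056
/-- program -/
def stepR : ℕ := 26547454333493253891386620510076652939910231567759827359282038101377840450662393396626359624123469192519962578787755229155993674902764890915370688325768186891272068394330324519826991769313969583925129324135559922497259284889791668285793611158736103052366802292408998258931375211077375820898782647409269053853529954995100899097140351604202261066680752223994021325726465407163149167832722202474839213487105886192949735002919793320526968663726022379542828365314853306299848373204470220459811647918977069756887025940056580684201391370809323600005038601916824598574596859623660176397925432251509972491169959504082093507550981788781792378428233252862654876409507022909435054217476442687067155431175105673312250736420322321277636534023353923528391984060719215155225996055425137768820825439884114104168068881237532055181859993553040463360560977059069139839016368529654573881773923974606577591443923848218670578557652365163239509209028842561130422168784939089862406118535775815487493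
/-- the data -/
def dA : ConjData := ⟨cAC, cACp, 1, cAW, cAWi, fun y => rom cAUR 120 y, cAY, 11, fun k => powP cAC k⟩
/-- the data -/
def dB : ConjData := ⟨cBC, cBCp, 2, cBW, cBWi, fun y => rom cBUR 120 y, cBY, 5, Al⟩
/-- the packed data -/
def P : Pk := ⟨cAC, pAi, cBC, pD, 5, 11, 4, 2, Al, fun k => wt.getD k []⟩

theorem dA_ok : dA.ok (fun _ => true) = true := by decide +kernel
theorem dB_ok : dB.ok (fun pp => Nat.beq (img pp D0) D0 && Nat.beq (ap pp 0) 0) = true := by decide +kernel

theorem hKM : FixC H12 ch12.b 1 ≤ M24 := fun _ hg => (mem_FixC.1 hg).1.1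

theorem good : P.Good (FixC H12 ch12.b 1) where
  ha := mem_F_of_check (k := 1) (by norm_num) (by decide +kernel)
  hc := mem_F_of_check (k := 1) (by norm_num) (by decide +kernel)
  hd := mem_F_of_check (k := 1) (by norm_num) (by decide +kernel)
  hAi := by decide +kernel
  hAl := fun k hk => mem_F_of_check (k := 1) (by norm_num) (allBelow_spec (by decide +kernel : allBelow (fun k => validB (Al k) && inH12 (Al k) && allBelow (fun j => Nat.beq (ap (Al k) (ch12.b j)) (ch12.b j)) 1) 5 = true) k hk)
  hp := by
    show Nat.Prime 11
    norm_num
  hcard := ⟨720, by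
    show Nat.card ↥(FixC H12 ch12.b 1) = 11 * 720
    exact card_F1, by
    show ¬ 11 ∣ 720
    norm_num⟩
  hord := by decide +kernel
  hmv := ⟨1, by norm_num, by decide +kernel⟩
  hs := by decide +kernel
  hsolve := by decide +kernel
  hcover := by decide +kernel
  hCa := fun g a hg ra hc => hCa_of_data dA dA_ok rfl (fun _ => rfl) g a (hKM hg) ra hc
  hdc := by decide +kernel
  hL := fun g c hg rc hgc => dB.spec _ dB_ok rc rc (hKM hg) hgc (fun pp r => by
      have h1 := inH_D0 (mem_FixC.1 hg).1 r
      have h2 := (mem_F1.1 hg).2
      have h3 := r.apply_ptOf (by norm_num : 0 < 24)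
      rw [h2] at h3
      have h4 := congrArg idx h3
      rw [idx_ptOf (by norm_num), idx_ptOf (rep_lt r (by norm_num))] at h4
      simp only [Bool.and_eq_true]
      refine ⟨h1, ?_⟩
      rw [← h4]
      rfl)
  hgen := fun H ha hc hd => ChainData.FixC_le_of_slp (k₀ := 1) hH12 ch12_ok (by decide +kernel) F5_bot himg12 (init := [pDi, pCi, pAi, pD, cBC, cAC]) (stepR := stepR) (n := 135) (init6 ha hc hd (by decide +kernel) (by decide +kernel) (by decide +kernel)) (by decide +kernel)

/-- The outer automorphism group of the Mathieu group M₁₁ (the stabiliser of a dodecad and one of its points in the automorphism group of the length-24 binary code) is trivial: every automorphism is inner. -/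
theorem result : Nat.card (Cfsg.Out ↥Cfsg.Spor.M11) = 1 := by
  rw [M11_eq]
  exact good.out_one (by decide +kernel) (by decide +kernel) (by decide +kernel)

end Cfsg.Agent.S2060
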