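import Cfsg.Statements.S2477
import Cfsg.Agent.Lib.H1AltOrd

set_option autoImplicit false
open Cfsg

namespace Cfsg.Agent.S2477

open Cfsg.Agent.Lib.H1AltOrd

/-- Enumeration of partitions with parts at least two. -/
def parts : ℕ → ℕ → ℕ → List (List ℕ)
  | 0, _, _ => [[]]
  | fuel + 1, n, k => [] :: (List.range (k + 1)).flatMap (fun a =>
      if 2 ≤ a ∧ a ≤ n then (parts fuel (n - a) a).map (a :: ·) else [])

theorem mem_parts : ∀ (fuel n k : ℕ) (l : List ℕ), n ≤ fuel → l.Pairwise (· ≥ ·) → (∀ x ∈ l, 2 ≤ x) →
    l.sum ≤ n → (∀ x ∈ l, x ≤ k) → l ∈ parts fuel n k := by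
  intro fuel
  induction fuel with
  | zero =>
    intro n k l hn _ h2 hs _
    cases l with
    | nil => simp [parts]
    | cons a t =>
      exfalso
      have := h2 a (by simp)
      simp only [List.sum_cons] at hs
      omega
  | succ fuel ih =>
    intro n k l hn hp h2 hs hk
    cases l with
    | nil => simp [parts]
    | cons a t =>
      simp only [parts, List.mem_cons, List.mem_flatMap, List.mem_range]
      right
      have ha2 := h2 a (by simp)
      have hak := hk a (by simp)
      simp only [List.sum_cons] at hs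
      refine ⟨a, by omega, ?_⟩
      rw [if_pos ⟨ha2, by omega⟩, List.mem_map]
      refine ⟨t, ?_, rfl⟩
      rw [List.pairwise_cons] at hp
      exact ih _ _ _ (by omega) hp.2 (fun x hx => h2 x (by simp [hx])) (by omega) hp.1

theorem check_parts : ∀ l ∈ parts 10 10 10, (l.sum + l.length) % 2 = 0 →
    l.foldr Nat.lcm 1 ∈ [1, 2, 3, 4, 5, 6, 7, 8, 9, 10, 12, 15, 21] := by
  decide +kernel

theorem lcm_coe (l : List ℕ) : Multiset.lcm (l : Multiset ℕ) = l.foldr Nat.lcm 1 := by
  induction l with
  | nil => simp
  | cons a t ih =>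
    rw [← Multiset.cons_coe, Multiset.lcm_cons, ih]
    rfl

/-- A witness. -/
theorem wit (l : List ℕ) (k : ℕ) (h : l.foldr Nat.lcm 1 = k) (hs : l.sum ≤ 10) (h2 : ∀ a ∈ l, 2 ≤ a)
    (hev : (l.sum + l.length) % 2 = 0) :
    k ∈ Set.range (orderOf : alternatingGroup (Fin 10) → ℕ) := by
  have := exists_alt_of_cycleType (n := 10) (l : Multiset ℕ) (by simpa using hs)
    (by simpa using h2) (by simpa using Nat.even_iff.mpr hev)
  rwa [lcm_coe, h] at this

/-- The set of element orders of the alternating group of degree 10 is {1, 2, 3, 4, 5, 6, 7, 8, 9, 10, 12, 15, 21}. -/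
theorem result : Set.range (orderOf : alternatingGroup (Fin 10) → ℕ) = {1, 2, 3, 4, 5, 6, 7, 8, 9, 10, 12, 15, 21} := by

  ext k
  constructor
  · rintro ⟨g, rfl⟩
    obtain ⟨h1, h2, h3, h4⟩ := cycleType_of_mem g
    rw [← h1]
    generalize (g : Equiv.Perm (Fin 10)).cycleType = c at h2 h3 h4
    set l := c.sort (· ≥ ·) with hl
    have hlc : (l : Multiset ℕ) = c := Multiset.sort_eq c _
    have hp : l.Pairwise (· ≥ ·) := Multiset.pairwise_sort c _
    have hmem : ∀ x, x ∈ l ↔ x ∈ c := fun x => by rw [← hlc]; simp
    have hsum : l.sum = c.sum := by rw [← hlc]; simp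
    have hcard : l.length = Multiset.card c := by rw [← hlc]; simp
    have h5 : l ∈ parts 10 10 10 := mem_parts 10 10 10 l le_rfl hp
      (fun x hx => h3 x ((hmem x).mp hx)) (by rw [hsum]; exact h2) (fun x hx => by
        have := Cfsg.Agent.Lib.H1AltOrd.mem_le_sum ((hmem x).mp hx)
        omega)
    have h6 := check_parts l h5 (by rw [hsum, hcard]; exact Nat.even_iff.mp h4)
    rw [← lcm_coe, hlc] at h6
    simpa using h6
  · intro hk
    simp only [Set.mem_insert_iff, Set.mem_singleton_iff] at hk
    rcases hk with rfl | rfl | rfl | rfl | rfl | rfl | rfl | rfl | rfl | rfl | rfl | rfl | rfl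
    · exact wit [] _ (by decide) (by decide) (by decide) (by decide)
    · exact wit [2, 2] _ (by decide) (by decide) (by decide) (by decide)
    · exact wit [3] _ (by decide) (by decide) (by decide) (by decide)
    · exact wit [4, 2] _ (by decide) (by decide) (by decide) (by decide)
    · exact wit [5] _ (by decide) (by decide) (by decide) (by decide)
    · exact wit [3, 2, 2] _ (by decide) (by decide) (by decide) (by decide)
    · exact wit [7] _ (by decide) (by decide) (by decide) (by decide)
    · exact wit [8, 2] _ (by decide) (by decide) (by decide) (by decide)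
    · exact wit [9] _ (by decide) (by decide) (by decide) (by decide)
    · exact wit [5, 2, 2] _ (by decide) (by decide) (by decide) (by decide)
    · exact wit [4, 3, 2] _ (by decide) (by decide) (by decide) (by decide)
    · exact wit [5, 3] _ (by decide) (by decide) (by decide) (by decide)
    · exact wit [7, 3] _ (by decide) (by decide) (by decide) (by decide)

end Cfsg.Agent.S2477
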