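import Cfsg.Statements.S2530


set_option autoImplicit false
open Cfsg

namespace Cfsg.Agent.S2530


section
variable {G : Type*} [Group G]

/-- The product `t n * t (n-1) * ⋯ * t (n-j+1)`. -/
def cc (n : ℕ) (t : ℕ → G) : ℕ → G
  | 0 => 1
  | j + 1 => cc n t j * t (n - j)

variable {n : ℕ} {t : ℕ → G}

theorem cc_comm (hc : ∀ a b, a + 2 ≤ b → b ≤ n → t a * t b = t b * t a) (a j : ℕ)
    (hj : j ≤ n + 1) (ha : a + 2 ≤ n + 1 - j) : Commute (t a) (cc n t j) := by
  induction j with
  | zero => exact Commute.one_right _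
  | succ j ih =>
    rw [cc]
    exact (ih (by omega) (by omega)).mul_right (hc a (n - j) (by omega) (by omega))

theorem cc_shift (hc : ∀ a b, a + 2 ≤ b → b ≤ n → t a * t b = t b * t a)
    (hb : ∀ a, a + 1 ≤ n → t a * t (a + 1) * t a = t (a + 1) * t a * t (a + 1))
    (j i : ℕ) (hj : j ≤ n + 1) (hi : i ≤ n) (hk : n + 1 - j < i) :
    cc n t j * t i = t (i - 1) * cc n t j := by
  induction j with
  | zero => omega
  | succ j ih =>
    rw [cc]
    by_cases hij : i = n - j + 1
    · obtain ⟨j', rfl⟩ : ∃ j', j = j' + 1 := ⟨j - 1, by omega⟩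
      have e1 : n - j' = i := by omega
      have e2 : n - (j' + 1) = i - 1 := by omega
      obtain ⟨a, rfl⟩ : ∃ a, i = a + 1 := ⟨i - 1, by omega⟩
      simp only [Nat.add_sub_cancel] at e2 ⊢
      rw [e2, cc, e1]
      have hcm := (cc_comm hc a j' (by omega) (by omega)).eq
      calc cc n t j' * t (a + 1) * t a * t (a + 1)
          = cc n t j' * (t (a + 1) * t a * t (a + 1)) := by group
        _ = cc n t j' * (t a * t (a + 1) * t a) := by rw [hb a (by omega)]
        _ = (cc n t j' * t a) * t (a + 1) * t a := by group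
        _ = (t a * cc n t j') * t (a + 1) * t a := by rw [hcm]
        _ = t a * (cc n t j' * t (a + 1) * t a) := by group
    · have h1 : t (n - j) * t i = t i * t (n - j) := hc _ _ (by omega) hi
      rw [mul_assoc, h1, ← mul_assoc, ih (by omega) (by omega), mul_assoc]

theorem cc_step (hc : ∀ a b, a + 2 ≤ b → b ≤ n → t a * t b = t b * t a)
    (hb : ∀ a, a + 1 ≤ n → t a * t (a + 1) * t a = t (a + 1) * t a * t (a + 1))
    (hsq : ∀ i, i ≤ n → t i * t i = 1) (H : Subgroup G) (hH : ∀ i, i < n → t i ∈ H)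
    (j i : ℕ) (hj : j ≤ n + 1) (hi : i ≤ n) :
    ∃ h ∈ H, ∃ j', j' ≤ n + 1 ∧ cc n t j * t i = h * cc n t j' := by
  by_cases c1 : i + j = n
  · refine ⟨1, H.one_mem, j + 1, by omega, ?_⟩
    rw [one_mul, cc]
    have : n - j = i := by omega
    rw [this]
  by_cases c2 : i + j = n + 1
  · obtain ⟨j', rfl⟩ : ∃ j', j = j' + 1 := ⟨j - 1, by omega⟩
    refine ⟨1, H.one_mem, j', by omega, ?_⟩
    rw [one_mul, cc]
    have : n - j' = i := by omega
    rw [this, mul_assoc, hsq i hi, mul_one]
  by_cases c3 : i + j + 2 ≤ n + 1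
  · exact ⟨t i, hH i (by omega), j, hj, (cc_comm hc i j hj (by omega)).eq.symm⟩
  · exact ⟨t (i - 1), hH _ (by omega), j, hj, cc_shift hc hb j i hj hi (by omega)⟩
end

theorem A_apply (n : ℕ) (i j : Fin n) : (CoxeterMatrix.A n) i j =
    if i = j then 1 else (if (j : ℕ) + 1 = i ∨ (i : ℕ) + 1 = j then 3 else 2) := rfl

theorem card_A_le (n : ℕ) : Finite (CoxeterMatrix.A n).Group ∧
    Nat.card (CoxeterMatrix.A n).Group ≤ (n + 1).factorial := by
  induction n with
  | zero =>
    have h1 : ∀ w : (CoxeterMatrix.A 0).Group, w = 1 := by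
      intro w
      refine (CoxeterMatrix.A 0).toCoxeterSystem.simple_induction_right (p := fun w => w = 1) w rfl ?_
      intro w i
      exact i.elim0
    haveI : Subsingleton (CoxeterMatrix.A 0).Group := ⟨fun a b => by rw [h1 a, h1 b]⟩
    exact ⟨inferInstance, by simp⟩
  | succ n ih =>
    classical
    obtain ⟨hf, hcard⟩ := ih
    let cs := (CoxeterMatrix.A (n + 1)).toCoxeterSystem
    have hlift : (CoxeterMatrix.A n).IsLiftable (fun i : Fin n => cs.simple i.castSucc) := by
      intro i i'
      have h0 := cs.simple_mul_simple_pow i.castSucc i'.castSucc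
      have h1 : (CoxeterMatrix.A (n + 1)) i.castSucc i'.castSucc = (CoxeterMatrix.A n) i i' := by
        simp only [A_apply, Fin.castSucc_inj, Fin.val_castSucc]
      rwa [h1] at h0
    let ι : (CoxeterMatrix.A n).Group →* (CoxeterMatrix.A (n + 1)).Group :=
      (CoxeterMatrix.A n).toCoxeterSystem.lift ⟨_, hlift⟩
    have hι : ∀ i : Fin n, ι ((CoxeterMatrix.A n).toCoxeterSystem.simple i) = cs.simple i.castSucc := fun i =>
      (CoxeterMatrix.A n).toCoxeterSystem.lift_apply_simple hlift i
    let H := ι.range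
    let t : ℕ → (CoxeterMatrix.A (n + 1)).Group := fun i => if h : i < n + 1 then cs.simple ⟨i, h⟩ else 1
    have ht : ∀ i (h : i < n + 1), t i = cs.simple ⟨i, h⟩ := fun i h => dif_pos h
    have hsq : ∀ i, i ≤ n → t i * t i = 1 := fun i hi => by
      rw [ht i (by omega)]
      exact cs.simple_mul_simple_self _
    have hc : ∀ a b, a + 2 ≤ b → b ≤ n → t a * t b = t b * t a := by
      intro a b h1 h2
      rw [ht a (by omega), ht b (by omega)]
      have h0 := cs.simple_mul_simple_pow (⟨a, by omega⟩ : Fin (n + 1)) ⟨b, by omega⟩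
      have h3 : (CoxeterMatrix.A (n + 1)) ⟨a, by omega⟩ ⟨b, by omega⟩ = 2 := by
        rw [A_apply, if_neg (by simp; omega), if_neg (by simp; omega)]
      rw [h3] at h0
      have h4 : cs.simple ⟨a, by omega⟩ * cs.simple ⟨b, by omega⟩ * (cs.simple ⟨a, by omega⟩ * cs.simple ⟨b, by omega⟩) = 1 := by
        rw [← pow_two]; exact h0
      have h5 := mul_eq_one_iff_eq_inv.1 h4
      rw [h5, mul_inv_rev, cs.inv_simple, cs.inv_simple]
    have hb : ∀ a, a + 1 ≤ n → t a * t (a + 1) * t a = t (a + 1) * t a * t (a + 1) := by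
      intro a h1
      rw [ht a (by omega), ht (a + 1) (by omega)]
      have h0 := cs.simple_mul_simple_pow (⟨a, by omega⟩ : Fin (n + 1)) ⟨a + 1, by omega⟩
      have h3 : (CoxeterMatrix.A (n + 1)) ⟨a, by omega⟩ ⟨a + 1, by omega⟩ = 3 := by
        rw [A_apply, if_neg (by simp), if_pos (by simp)]
      rw [h3] at h0
      set x := cs.simple (⟨a, by omega⟩ : Fin (n + 1))
      set y := cs.simple (⟨a + 1, by omega⟩ : Fin (n + 1))
      have hx : x⁻¹ = x := cs.inv_simple _
      have hy : y⁻¹ = y := cs.inv_simple _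
      have h5 : x * y * x * (y * x * y) = 1 := by
        have : (x * y) ^ 3 = 1 := h0
        rw [← this]
        simp only [pow_succ, pow_zero, one_mul, mul_assoc]
      have h6 : x * y * x = (y * x * y)⁻¹ := eq_inv_of_mul_eq_one_left h5
      rw [h6, mul_inv_rev, mul_inv_rev, hx, hy, ← mul_assoc] 
    have hH : ∀ i, i < n → t i ∈ H := by
      intro i hi
      rw [ht i (by omega)]
      exact ⟨(CoxeterMatrix.A n).toCoxeterSystem.simple ⟨i, hi⟩, hι ⟨i, hi⟩⟩
    have hall : ∀ w : (CoxeterMatrix.A (n + 1)).Group, ∃ h ∈ H, ∃ j', j' ≤ n + 1 ∧ w = h * cc n t j' := by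
      intro w
      refine cs.simple_induction_right (p := fun w => ∃ h ∈ H, ∃ j', j' ≤ n + 1 ∧ w = h * cc n t j') w ⟨1, H.one_mem, 0, by omega, by simp [cc]⟩ ?_
      rintro w i ⟨h, hh, j, hj, rfl⟩
      have hi : t i.val = cs.simple i := ht i.val i.2
      obtain ⟨h', hh', j', hj', e⟩ := cc_step hc hb hsq H hH j i.val hj (by omega)
      refine ⟨h * h', H.mul_mem hh hh', j', hj', ?_⟩
      rw [← hi, mul_assoc, e, mul_assoc]
    let Φ : (CoxeterMatrix.A n).Group × Fin (n + 2) → (CoxeterMatrix.A (n + 1)).Group := fun p => ι p.1 * cc n t p.2.val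
    have hΦ : Function.Surjective Φ := by
      intro w
      obtain ⟨h, ⟨x, rfl⟩, j', hj', rfl⟩ := hall w
      exact ⟨(x, ⟨j', by omega⟩), rfl⟩
    have hfin : Finite (CoxeterMatrix.A (n + 1)).Group := Finite.of_surjective Φ hΦ
    refine ⟨hfin, ?_⟩
    calc Nat.card (CoxeterMatrix.A (n + 1)).Group ≤ Nat.card ((CoxeterMatrix.A n).Group × Fin (n + 2)) :=
          Nat.card_le_card_of_surjective Φ hΦ
      _ = Nat.card (CoxeterMatrix.A n).Group * (n + 2) := by simp
      _ ≤ (n + 1).factorial * (n + 2) := Nat.mul_le_mul_right _ hcard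
      _ = (n + 1 + 1).factorial := by rw [Nat.factorial_succ (n + 1)]; ring

theorem swap_disjoint_aux {α : Type*} [DecidableEq α] {a b c d : α} (h1 : a ≠ c) (h2 : a ≠ d) (h3 : b ≠ c) (h4 : b ≠ d) :
    Equiv.Perm.Disjoint (Equiv.swap a b) (Equiv.swap c d) := by
  intro x
  by_cases hx : x = a ∨ x = b
  · right
    rcases hx with rfl | rfl
    · exact Equiv.swap_apply_of_ne_of_ne h1 h2
    · exact Equiv.swap_apply_of_ne_of_ne h3 h4
  · left
    push Not at hx
    exact Equiv.swap_apply_of_ne_of_ne hx.1 hx.2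


/-- The Coxeter presentation of the symmetric group: for every n, the symmetric group on n+1 letters is the Coxeter group of type A_n with the adjacent transpositions (i, i+1) as simple reflections; that is, it is presented by generators r_1, …, r_n subject to r_i² = 1, (r_i r_j)² = 1 for |i − j| > 1 and (r_i r_{i+1})³ = 1, with r_i mapping to (i, i+1). -/
theorem result (n : ℕ) :
    ∃ cs : CoxeterSystem (CoxeterMatrix.A n) (Equiv.Perm (Fin (n + 1))), ∀ i : Fin n, cs.simple i = Equiv.swap i.castSucc i.succ := by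
  classical
  have hlift : (CoxeterMatrix.A n).IsLiftable (fun i : Fin n => Equiv.swap i.castSucc i.succ) := by
    intro i j
    beta_reduce
    rw [A_apply]
    by_cases h1 : i = j
    · subst h1
      simp
    rw [if_neg h1]
    have hne : (i : ℕ) ≠ j := fun h => h1 (Fin.ext h)
    by_cases h2 : (j : ℕ) + 1 = i ∨ (i : ℕ) + 1 = j
    · rw [if_pos h2]
      rcases h2 with h2 | h2
      · have e1 : i.castSucc = j.succ := Fin.ext (by simp; omega)
        have h3 := Equiv.Perm.isThreeCycle_swap_mul_swap_same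
          (a := i.castSucc) (b := i.succ) (c := j.castSucc)
          (by simp [Fin.ext_iff]) (by simp [Fin.ext_iff]; omega) (by simp [Fin.ext_iff]; omega)
        have h4 : Equiv.swap j.castSucc j.succ = Equiv.swap i.castSucc j.castSucc := by
          rw [e1, Equiv.swap_comm]
        rw [h4]
        have := pow_orderOf_eq_one (Equiv.swap i.castSucc i.succ * Equiv.swap i.castSucc j.castSucc)
        rwa [h3.orderOf] at this
      · have e1 : j.castSucc = i.succ := Fin.ext (by simp; omega)
        have h3 := Equiv.Perm.isThreeCycle_swap_mul_swap_same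
          (a := i.succ) (b := i.castSucc) (c := j.succ)
          (by simp [Fin.ext_iff]) (by simp [Fin.ext_iff]; omega) (by simp [Fin.ext_iff]; omega)
        have h4 : Equiv.swap i.castSucc i.succ = Equiv.swap i.succ i.castSucc := Equiv.swap_comm _ _
        rw [e1, h4]
        have := pow_orderOf_eq_one (Equiv.swap i.succ i.castSucc * Equiv.swap i.succ j.succ)
        rwa [h3.orderOf] at this
    · rw [if_neg h2]
      push Not at h2
      have hd := swap_disjoint_aux (a := i.castSucc) (b := i.succ) (c := j.castSucc) (d := j.succ)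
        (by simp [Fin.ext_iff]; omega) (by simp [Fin.ext_iff]; omega) (by simp [Fin.ext_iff]; omega) (by simp [Fin.ext_iff]; omega)
      rw [hd.commute.mul_pow]
      simp [pow_two]
  let φ : (CoxeterMatrix.A n).Group →* Equiv.Perm (Fin (n + 1)) :=
    (CoxeterMatrix.A n).toCoxeterSystem.lift ⟨_, hlift⟩
  have hφ : ∀ i : Fin n, φ ((CoxeterMatrix.A n).toCoxeterSystem.simple i) = Equiv.swap i.castSucc i.succ := fun i =>
    (CoxeterMatrix.A n).toCoxeterSystem.lift_apply_simple hlift i
  have hsurj : Function.Surjective φ := by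
    rw [← MonoidHom.mrange_eq_top]
    apply top_unique
    rw [← Equiv.Perm.mclosure_swap_castSucc_succ n, Submonoid.closure_le]
    rintro _ ⟨i, rfl⟩
    exact ⟨_, hφ i⟩
  obtain ⟨hfin, hcard⟩ := card_A_le n
  have hbij : Function.Bijective φ := by
    refine (Function.Surjective.bijective_of_nat_card_le hsurj ?_)
    rw [Nat.card_eq_fintype_card (α := Equiv.Perm (Fin (n + 1))), Fintype.card_perm, Fintype.card_fin]
    exact hcard
  let e : (CoxeterMatrix.A n).Group ≃* Equiv.Perm (Fin (n + 1)) := MulEquiv.ofBijective φ hbij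
  refine ⟨⟨e.symm⟩, fun i => ?_⟩
  exact hφ i

end Cfsg.Agent.S2530
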