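import Cfsg.Statements.S2794
import Cfsg.Agent.Lib.LZJF3
import Cfsg.Agent.Lib.LQd6
-- import your own Cfsg.Agent.* helpers here

set_option autoImplicit false
open Cfsg

namespace Cfsg.Agent.S2794

/-- For an odd prime p and a finite group G, the group Qd(p) is not involved in G if and only if in every section K/R of G, for every Sylow p-subgroup S* of K/R, the centre of J(S*) (J generated by the abelian subgroups of largest order) controls strong fusion in K/R. -/
theorem result {G : Type*} [Group G] [Finite G] {p : ℕ} [Fact p.Prime] (hp : p ≠ 2) : ¬ Cfsg.Involves ↥(Cfsg.qd p) G ↔ ∀ (K R : Subgroup G) [hR : (R.subgroupOf K).Normal], ∀ T : Sylow p (K ⧸ R.subgroupOf K), Cfsg.ControlsStrongFusion p (Cfsg.centerThompsonAOf (T : Subgroup (K ⧸ R.subgroupOf K))) := by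
  classical
  constructor
  · intro hqd K R hR T
    have hqd' : ¬ Cfsg.Involves ↥(Cfsg.qd p) (↥K ⧸ R.subgroupOf K) := fun h =>
      hqd (Cfsg.Agent.Lib.LQd.involves_of_surj K (QuotientGroup.mk' _) (QuotientGroup.mk'_surjective _) h)
    have hL : Cfsg.Agent.Lib.LZJD.DAxioms p (fun G _ T => Cfsg.centerThompsonAOf T) := by
      refine ⟨fun G _ T => inf_le_left.trans (Cfsg.Agent.Lib.PZJ.thompsonAOf_le T),
        fun G H _ _ f T h => Cfsg.Agent.Lib.PZJ.centerThompsonAOf_map f T h,
        fun G _ _ T hT hne => Cfsg.Agent.Lib.PZJ.centerThompsonAOf_ne_bot hT hne⟩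
    have hmain := Cfsg.Agent.Lib.LZJF.control_free hp hL (by
      intro G _ _ P D hD hc hst
      exact Cfsg.Agent.Lib.LZJD.centerThompsonA_normal_D hp hc hst P D hD) _ (↥K ⧸ R.subgroupOf K) rfl hqd' T
      (T : Subgroup (↥K ⧸ R.subgroupOf K)) ⟨le_rfl, fun x hx g hg => hg⟩
    refine ⟨T, inf_le_left.trans (Cfsg.Agent.Lib.PZJ.thompsonAOf_le _), fun A hA => ⟨hA, fun g hg => ?_⟩⟩
    have hcl : Subgroup.closure A ≤ (T : Subgroup (↥K ⧸ R.subgroupOf K)) := (Subgroup.closure_le _).2 hA
    have hgcl : ∀ b ∈ Subgroup.closure A, g * b * g⁻¹ ∈ (T : Subgroup (↥K ⧸ R.subgroupOf K)) := by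
      have : Subgroup.closure A ≤ (T : Subgroup (↥K ⧸ R.subgroupOf K)).comap (MulAut.conj g).toMonoidHom := by
        rw [Subgroup.closure_le]
        intro a ha
        exact hg ⟨a, ha, rfl⟩
      intro b hb
      simpa using this hb
    obtain ⟨z, hz, hze⟩ := hmain (Subgroup.closure A) hcl g hgcl
    exact ⟨z, hz, fun a ha => hze a (Subgroup.subset_closure ha)⟩
  · rintro h ⟨K, R, hR, ⟨e⟩⟩
    haveI := hR
    exact Cfsg.Agent.Lib.LQd.not_controls_of_iso e (h K R)

end Cfsg.Agent.S2794
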