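import Cfsg.Statements.S2873
import Cfsg.Agent.Lib.H1Core

set_option autoImplicit false
open Cfsg

namespace Cfsg.Agent.S2873

open Subgroup

theorem norm_of {G : Type*} [Group G] (c y : G) (hc : c * c = 1) (hcy : c * y * c⁻¹ = y⁻¹) (h : G) :
    h ∈ zpowers y ↔ c * h * c⁻¹ ∈ zpowers y := by
  have hci : c⁻¹ = c := inv_eq_of_mul_eq_one_left hc
  have key : ∀ h ∈ zpowers y, c * h * c⁻¹ ∈ zpowers y := by
    intro h hh
    obtain ⟨i, rfl⟩ := mem_zpowers_iff.1 hh
    rw [← conj_zpow, hcy]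
    exact zpow_mem (inv_mem (mem_zpowers y)) i
  refine ⟨key h, fun h1 => ?_⟩
  have h2 := key _ h1
  have h3 : c * (c * h * c⁻¹) * c⁻¹ = h := by
    rw [hci]
    calc c * (c * h * c) * c = (c * c) * h * (c * c) := by group
      _ = h := by rw [hc]; group
  rwa [h3] at h2

section core

variable {G : Type*} [Group G] [Finite G] {r : ℕ} [Fact r.Prime]

theorem key_lemma (π : G →* DihedralGroup r) (ν : DihedralGroup r →* G)
    (hπν : ∀ d, π (ν d) = d) (Q : Subgroup G) (hQ : ∀ g, g ∈ Q ↔ π g = 1) (h2 : IsPGroup 2 Q)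
    (R : Subgroup G)
    (hRsyl : ∀ P : Subgroup G, IsPGroup r P → Nat.card P = r → ∃ g : G, ∀ h, h ∈ R ↔ g * h * g⁻¹ ∈ P)
    (hN : ∀ g, g ∈ normalizer (R : Set G) ↔ ν (π g) = g) (hr2 : r ≠ 2)
    (b b' : G) (j k : ZMod r) (hb : b * b = 1) (hb' : b' * b' = 1)
    (hj : π b = DihedralGroup.sr j) (hk : π b' = DihedralGroup.sr k) (hjk : j ≠ k) :
    ∃ q ∈ Q, q⁻¹ * b * q = ν (DihedralGroup.sr j) ∧ q⁻¹ * b' * q = ν (DihedralGroup.sr k) := by
  classical
  have hrp : r.Prime := Fact.out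
  set y := b * b' with hy
  have hπy : π y = DihedralGroup.r (k - j) := by
    rw [hy, map_mul, hj, hk, DihedralGroup.sr_mul_sr]
  have hbi : b⁻¹ = b := inv_eq_of_mul_eq_one_left hb
  have hbi' : b'⁻¹ = b' := inv_eq_of_mul_eq_one_left hb'
  have hy1 : b * y * b⁻¹ = y⁻¹ := by
    rw [hy, mul_inv_rev, hbi, hbi']
    calc b * (b * b') * b = (b * b) * b' * b := by group
      _ = b' * b := by rw [hb, one_mul]
  have hy2 : b' * y * b'⁻¹ = y⁻¹ := by
    rw [hy, mul_inv_rev, hbi, hbi']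
    calc b' * (b * b') * b' = b' * b * (b' * b') := by group
      _ = b' * b := by rw [hb', mul_one]
  obtain ⟨s, m, hm, hord⟩ := Nat.exists_eq_two_pow_mul_odd (orderOf_pos y).ne'
  set y₁ := y ^ (2 ^ s) with hy₁
  have hm1 : y₁ ^ m = 1 := by rw [hy₁, ← pow_mul, ← hord, pow_orderOf_eq_one]
  have hrpow : ∀ (t : ZMod r) (n : ℕ), (DihedralGroup.r t : DihedralGroup r) ^ n = DihedralGroup.r ((n : ZMod r) * t) := by
    intro t n
    induction n with
    | zero =>
      rw [pow_zero, DihedralGroup.one_def, Nat.cast_zero, zero_mul]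
    | succ n ih =>
      rw [pow_succ, ih, DihedralGroup.r_mul_r]
      congr 1
      push_cast
      ring
  have hπy1 : π y₁ = DihedralGroup.r (((2 ^ s : ℕ) : ZMod r) * (k - j)) := by
    rw [hy₁, map_pow, hπy, hrpow]
  have h2ne : ((2 ^ s : ℕ) : ZMod r) ≠ 0 := by
    rw [Ne, ZMod.natCast_eq_zero_iff]
    intro h
    have h3 := hrp.dvd_of_dvd_pow h
    exact hr2 ((Nat.prime_dvd_prime_iff_eq hrp Nat.prime_two).1 h3)
  have hkj : k - j ≠ 0 := sub_ne_zero.2 (Ne.symm hjk)
  have hne : π y₁ ≠ 1 := by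
    rw [hπy1, DihedralGroup.one_def]
    intro h
    have := DihedralGroup.r.inj h
    exact (mul_ne_zero h2ne hkj) this
  have hy1ne : y₁ ≠ 1 := by
    intro h
    rw [h, map_one] at hne
    exact hne rfl
  have hyr : y₁ ^ r = 1 := by
    have h1 : y₁ ^ r ∈ Q := by
      rw [hQ, map_pow, hπy1, hrpow]
      rw [ZMod.natCast_self, zero_mul]
      rfl
    obtain ⟨t, ht⟩ := h2 ⟨_, h1⟩
    have h3 : (y₁ ^ r) ^ (2 ^ t) = 1 := by
      have := congrArg Subtype.val ht
      simpa using this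
    have h4 : (y₁ ^ r) ^ m = 1 := by
      rw [← pow_mul, mul_comm, pow_mul, hm1, one_pow]
    have h5 : orderOf (y₁ ^ r) ∣ Nat.gcd (2 ^ t) m :=
      Nat.dvd_gcd (orderOf_dvd_of_pow_eq_one h3) (orderOf_dvd_of_pow_eq_one h4)
    have h6 : Nat.Coprime (2 ^ t) m := Nat.Coprime.pow_left _ (Nat.coprime_two_left.2 hm)
    rw [h6] at h5
    exact orderOf_eq_one_iff.1 (Nat.dvd_one.1 h5)
  have hord1 : orderOf y₁ = r := orderOf_eq_prime hyr hy1ne
  set S := zpowers y₁ with hS
  have hScard : Nat.card S = r := by rw [hS, Nat.card_zpowers, hord1]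
  have hSp : IsPGroup r S := IsPGroup.of_card (n := 1) (by rw [hScard, pow_one])
  obtain ⟨g, hg⟩ := hRsyl S hSp hScard
  set n := ν (π g) with hn
  have hnN : n ∈ normalizer (R : Set G) := by
    rw [hN, hn, hπν]
  set q := g * n⁻¹ with hq
  have hqQ : q ∈ Q := by
    rw [hQ, hq, map_mul, map_inv, hn, hπν, mul_inv_cancel]
  have hS' : ∀ h, h ∈ R ↔ q * h * q⁻¹ ∈ S := by
    intro h
    have h1 : n⁻¹ ∈ normalizer (R : Set G) := inv_mem hnN
    have h3 := mem_normalizer_iff.1 h1 h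
    have h4 : n⁻¹ * h * n⁻¹⁻¹ = n⁻¹ * h * n := by rw [inv_inv]
    have h5 := hg (n⁻¹ * h * n)
    have h6 : g * (n⁻¹ * h * n) * g⁻¹ = q * h * q⁻¹ := by
      rw [hq]
      group
    rw [h6] at h5
    rw [h4] at h3
    exact h3.trans h5
  have hconj : ∀ w : G, (∀ h, h ∈ S ↔ w * h * w⁻¹ ∈ S) → q⁻¹ * w * q = ν (π w) := by
    intro w hw
    have h1 : q⁻¹ * w * q ∈ normalizer (R : Set G) := by
      rw [mem_normalizer_iff]
      intro h
      have h3 : q * (q⁻¹ * w * q * h * (q⁻¹ * w * q)⁻¹) * q⁻¹ = w * (q * h * q⁻¹) * w⁻¹ := by group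
      have h4 := hS' (q⁻¹ * w * q * h * (q⁻¹ * w * q)⁻¹)
      rw [h3] at h4
      show h ∈ R ↔ q⁻¹ * w * q * h * (q⁻¹ * w * q)⁻¹ ∈ R
      rw [h4, ← hw, hS']
    have h2' := (hN _).1 h1
    have h3 : π (q⁻¹ * w * q) = π w := by
      have := (hQ q).1 hqQ
      rw [map_mul, map_mul, map_inv, this]
      simp
    rw [h3] at h2'
    exact h2'.symm
  have hyS : ∀ c : G, c * c = 1 → c * y * c⁻¹ = y⁻¹ → ∀ h, h ∈ S ↔ c * h * c⁻¹ ∈ S := by
    intro c hc hcy
    apply norm_of c y₁ hc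
    rw [hy₁, ← conj_pow, hcy, inv_pow]
  refine ⟨q, hqQ, ?_, ?_⟩
  · rw [hconj b (hyS b hb hy1), hj]
  · rw [hconj b' (hyS b' hb' hy2), hk]

theorem sr_conj (hr2 : r ≠ 2) (i j : ZMod r) :
    ∃ t : ZMod r, (DihedralGroup.r t : DihedralGroup r) * DihedralGroup.sr i * (DihedralGroup.r t)⁻¹ = DihedralGroup.sr j := by
  have hrp : r.Prime := Fact.out
  have h2 : (2 : ZMod r) ≠ 0 := by
    have : ((2 : ℕ) : ZMod r) ≠ 0 := by
      rw [Ne, ZMod.natCast_eq_zero_iff]
      intro h
      exact hr2 ((Nat.prime_dvd_prime_iff_eq hrp Nat.prime_two).1 h)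
    simpa using this
  refine ⟨(i - j) * 2⁻¹, ?_⟩
  rw [DihedralGroup.inv_r, DihedralGroup.r_mul_sr, DihedralGroup.sr_mul_r]
  congr 1
  field_simp
  ring

theorem core (π : G →* DihedralGroup r) (ν : DihedralGroup r →* G)
    (hπν : ∀ d, π (ν d) = d) (Q : Subgroup G) (hQ : ∀ g, g ∈ Q ↔ π g = 1) (h2 : IsPGroup 2 Q)
    (R : Subgroup G)
    (hRsyl : ∀ P : Subgroup G, IsPGroup r P → Nat.card P = r → ∃ g : G, ∀ h, h ∈ R ↔ g * h * g⁻¹ ∈ P)
    (hN : ∀ g, g ∈ normalizer (R : Set G) ↔ ν (π g) = g) (hr2 : r ≠ 2)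
    (hfree : ∀ q ∈ Q, q * ν (DihedralGroup.r 1) = ν (DihedralGroup.r 1) * q → q = 1)
    (a : G) (ha : a ∈ normalizer (R : Set G)) (hoa : orderOf a = 2) :
    (∀ b : G, orderOf b = 2 → b ∉ Q → ∃ g : G, g * a * g⁻¹ = b) ∧
      Nat.card ↥(Q ⊓ centralizer ({a} : Set G)) ^ 2 = Nat.card Q := by
  classical
  have hrp : r.Prime := Fact.out
  haveI : Fact (1 < r) := ⟨hrp.one_lt⟩
  have hsq : ∀ w : G, orderOf w = 2 → w * w = 1 := by
    intro w hw
    rw [← sq, ← hw, pow_orderOf_eq_one]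
  have h2ne : (2 : ZMod r) ≠ 0 := by
    have : ((2 : ℕ) : ZMod r) ≠ 0 := by
      rw [Ne, ZMod.natCast_eq_zero_iff]
      intro h
      exact hr2 ((Nat.prime_dvd_prime_iff_eq hrp Nat.prime_two).1 h)
    simpa using this
  -- an involution outside Q maps to a reflection
  have hrefl : ∀ w : G, w * w = 1 → w ∉ Q → ∃ i, π w = DihedralGroup.sr i := by
    intro w hw hwQ
    rcases h1 : π w with i | i
    · exfalso
      apply hwQ
      rw [hQ, h1]
      have h3 : π (w * w) = 1 := by rw [hw, map_one]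
      rw [map_mul, h1, DihedralGroup.r_mul_r, DihedralGroup.one_def] at h3
      have h4 : i + i = 0 := DihedralGroup.r.inj h3
      have h5 : 2 * i = 0 := by rw [two_mul]; exact h4
      have h6 := (mul_eq_zero.1 h5).resolve_left h2ne
      rw [h6]
      rfl
    · exact ⟨i, rfl⟩
  have ha' : a * a = 1 := hsq a hoa
  have haQ : a ∉ Q := by
    intro h
    have h1 := (hN a).2 ?_
    · have h3 : a = 1 := by
        have h4 := (hN a).1 ha
        rw [(hQ a).1 h, map_one] at h4
        exact h4.symm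
      rw [h3, orderOf_one] at hoa
      omega
    · exact (hN a).1 ha
  obtain ⟨i₀, hi₀⟩ := hrefl a ha' haQ
  have haν : ν (DihedralGroup.sr i₀) = a := by
    rw [← hi₀]
    exact (hN a).1 ha
  have hν2 : ∀ i : ZMod r, ν (DihedralGroup.sr i) * ν (DihedralGroup.sr i) = 1 := by
    intro i
    rw [← map_mul, DihedralGroup.sr_mul_sr, sub_self, ← DihedralGroup.one_def, map_one]
  have hone_ne : (1 : ZMod r) ≠ 0 := one_ne_zero
  have hsucc : ∀ i : ZMod r, i ≠ i + 1 := by
    intro i h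
    apply hone_ne
    linear_combination -h
  constructor
  · intro b hob hbQ
    have hb := hsq b hob
    obtain ⟨j, hj⟩ := hrefl b hb hbQ
    obtain ⟨q, hqQ, h1, -⟩ := key_lemma π ν hπν Q hQ h2 R hRsyl hN hr2 b (ν (DihedralGroup.sr (j + 1))) j (j + 1)
      hb (hν2 _) hj (hπν _) (hsucc j)
    obtain ⟨t, ht⟩ := sr_conj hr2 i₀ j
    refine ⟨q * ν (DihedralGroup.r t), ?_⟩
    have h3 : ν (DihedralGroup.r t) * a * (ν (DihedralGroup.r t))⁻¹ = q⁻¹ * b * q := by
      rw [h1, ← ht, ← haν, map_mul, map_mul, map_inv]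
    calc q * ν (DihedralGroup.r t) * a * (q * ν (DihedralGroup.r t))⁻¹
        = q * (ν (DihedralGroup.r t) * a * (ν (DihedralGroup.r t))⁻¹) * q⁻¹ := by group
      _ = b := by rw [h3]; group
  · set a' := ν (DihedralGroup.sr (i₀ + 1)) with ha'def
    have ha'2 : a' * a' = 1 := hν2 _
    have hπa' : π a' = DihedralGroup.sr (i₀ + 1) := hπν _
    have hc : ∀ w q : G, q ∈ centralizer ({w} : Set G) ↔ q * w = w * q := by
      intro w q
      exact mem_centralizer_singleton_iff
    -- factorisation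
    have hfac : ∀ q ∈ Q, ∃ p ∈ Q, p * a' = a' * p ∧ (p⁻¹ * q) * a = a * (p⁻¹ * q) := by
      intro q hq
      have hb : (q * a * q⁻¹) * (q * a * q⁻¹) = 1 := by
        calc (q * a * q⁻¹) * (q * a * q⁻¹) = q * (a * a) * q⁻¹ := by group
          _ = 1 := by rw [ha']; group
      have hπb : π (q * a * q⁻¹) = DihedralGroup.sr i₀ := by
        rw [map_mul, map_mul, map_inv, (hQ q).1 hq, hi₀]
        simp
      obtain ⟨p, hp, h3, h4⟩ := key_lemma π ν hπν Q hQ h2 R hRsyl hN hr2 (q * a * q⁻¹) a' i₀ (i₀ + 1)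
        hb ha'2 hπb hπa' (hsucc i₀)
      rw [haν] at h3
      rw [← ha'def] at h4
      refine ⟨p, hp, ?_, ?_⟩
      · calc p * a' = p * (p⁻¹ * a' * p) := by rw [h4]
          _ = a' * p := by group
      · calc (p⁻¹ * q) * a = (p⁻¹ * (q * a * q⁻¹) * p) * (p⁻¹ * q) := by group
          _ = a * (p⁻¹ * q) := by rw [h3]
    -- trivial intersection
    have hint : ∀ q ∈ Q, q * a = a * q → q * a' = a' * q → q = 1 := by
      intro q hq h3 h4
      apply hfree q hq
      have h5 : a * a' = ν (DihedralGroup.r 1) := by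
        rw [← haν, ha'def, ← map_mul, DihedralGroup.sr_mul_sr]
        congr 2
        ring
      rw [← h5]
      calc q * (a * a') = (q * a) * a' := by group
        _ = a * (q * a') := by rw [h3]; group
        _ = a * (a' * q) := by rw [h4]
        _ = a * a' * q := by group
    -- bijection
    let f : ↥(Q ⊓ centralizer ({a'} : Set G)) × ↥(Q ⊓ centralizer ({a} : Set G)) → ↥Q :=
      fun u => ⟨u.1.1 * u.2.1, Q.mul_mem (mem_inf.1 u.1.2).1 (mem_inf.1 u.2.2).1⟩
    have hfb : Function.Bijective f := by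
      constructor
      · rintro ⟨⟨u, hu⟩, ⟨v, hv⟩⟩ ⟨⟨u', hu'⟩, ⟨v', hv'⟩⟩ h
        have h1 : u * v = u' * v' := congrArg Subtype.val h
        have huQ := (mem_inf.1 hu).1
        have hu'Q := (mem_inf.1 hu').1
        have hvQ := (mem_inf.1 hv).1
        have hv'Q := (mem_inf.1 hv').1
        have huc := (hc a' u).1 (mem_inf.1 hu).2
        have hu'c := (hc a' u').1 (mem_inf.1 hu').2
        have hvc := (hc a v).1 (mem_inf.1 hv).2
        have hv'c := (hc a v').1 (mem_inf.1 hv').2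
        have h3 : u'⁻¹ * u = v' * v⁻¹ := by
          calc u'⁻¹ * u = u'⁻¹ * (u * v) * v⁻¹ := by group
            _ = u'⁻¹ * (u' * v') * v⁻¹ := by rw [h1]
            _ = v' * v⁻¹ := by group
        have h4 : u'⁻¹ * u = 1 := by
          apply hint _ (Q.mul_mem (Q.inv_mem hu'Q) huQ)
          · rw [h3]
            calc v' * v⁻¹ * a = v' * (v⁻¹ * a) := by group
              _ = v' * (a * v⁻¹) := by
                  congr 1
                  calc v⁻¹ * a = v⁻¹ * (a * v) * v⁻¹ := by group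
                    _ = v⁻¹ * (v * a) * v⁻¹ := by rw [hvc]
                    _ = a * v⁻¹ := by group
              _ = (v' * a) * v⁻¹ := by group
              _ = a * (v' * v⁻¹) := by rw [hv'c]; group
          · calc u'⁻¹ * u * a' = u'⁻¹ * (u * a') := by group
              _ = u'⁻¹ * (a' * u) := by rw [huc]
              _ = (u'⁻¹ * (a' * u')) * (u'⁻¹ * u) := by group
              _ = (u'⁻¹ * (u' * a')) * (u'⁻¹ * u) := by rw [hu'c]
              _ = a' * (u'⁻¹ * u) := by group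
        have h5 : u = u' := by
          calc u = u' * (u'⁻¹ * u) := by group
            _ = u' := by rw [h4, mul_one]
        have h6 : v = v' := by
          rw [h5] at h1
          exact mul_left_cancel h1
        subst h5
        subst h6
        rfl
      · rintro ⟨q, hq⟩
        obtain ⟨p, hp, h3, h4⟩ := hfac q hq
        refine ⟨⟨⟨p, mem_inf.2 ⟨hp, (hc a' p).2 h3⟩⟩, ⟨p⁻¹ * q, mem_inf.2 ⟨Q.mul_mem (Q.inv_mem hp) hq, (hc a _).2 h4⟩⟩⟩, ?_⟩
        apply Subtype.ext
        show p * (p⁻¹ * q) = q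
        group
    have hcard : Nat.card Q = Nat.card ↥(Q ⊓ centralizer ({a'} : Set G)) * Nat.card ↥(Q ⊓ centralizer ({a} : Set G)) := by
      rw [← Nat.card_prod]
      exact (Nat.card_congr (Equiv.ofBijective f hfb)).symm
    -- equal sizes
    obtain ⟨t, ht⟩ := sr_conj hr2 i₀ (i₀ + 1)
    set g := ν (DihedralGroup.r t) with hg
    have hga : g * a * g⁻¹ = a' := by
      rw [ha'def, ← ht, ← haν, map_mul, map_mul, map_inv]
    have hcong : Nat.card ↥(Q ⊓ centralizer ({a} : Set G)) = Nat.card ↥(Q ⊓ centralizer ({a'} : Set G)) := by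
      apply Nat.card_congr
      refine Equiv.subtypeEquiv (MulAut.conj g).toEquiv ?_
      intro u
      show u ∈ Q ⊓ centralizer ({a} : Set G) ↔ g * u * g⁻¹ ∈ Q ⊓ centralizer ({a'} : Set G)
      rw [mem_inf, mem_inf, hc, hc, ← hga]
      have h5 : g * u * g⁻¹ ∈ Q ↔ u ∈ Q := by
        rw [hQ, hQ, map_mul, map_mul, map_inv]
        constructor
        · intro h
          have : π u = (π g)⁻¹ * (π g * π u * (π g)⁻¹) * π g := by group
          rw [this, h]
          group
        · intro h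
          rw [h]
          group
      rw [h5]
      constructor
      · rintro ⟨h6, h7⟩
        refine ⟨h6, ?_⟩
        calc g * u * g⁻¹ * (g * a * g⁻¹) = g * (u * a) * g⁻¹ := by group
          _ = g * (a * u) * g⁻¹ := by rw [h7]
          _ = g * a * g⁻¹ * (g * u * g⁻¹) := by group
      · rintro ⟨h6, h7⟩
        refine ⟨h6, ?_⟩
        have h8 : g * (u * a) * g⁻¹ = g * (a * u) * g⁻¹ := by
          calc g * (u * a) * g⁻¹ = g * u * g⁻¹ * (g * a * g⁻¹) := by group
            _ = g * a * g⁻¹ * (g * u * g⁻¹) := h7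
            _ = g * (a * u) * g⁻¹ := by group
        exact mul_left_cancel (mul_right_cancel h8)
    rw [hcard, ← hcong, sq]

end core

/-- the rotations -/
def rotS (r : ℕ) : Subgroup (DihedralGroup r) where
  carrier := {d | ∃ i, d = DihedralGroup.r i}
  mul_mem' := by
    rintro _ _ ⟨i, rfl⟩ ⟨j, rfl⟩
    exact ⟨i + j, DihedralGroup.r_mul_r i j⟩
  one_mem' := ⟨0, rfl⟩
  inv_mem' := by
    rintro _ ⟨i, rfl⟩
    exact ⟨-i, DihedralGroup.inv_r i⟩

theorem rotS_normal (r : ℕ) : (rotS r).Normal := by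
  constructor
  rintro _ ⟨i, rfl⟩ g
  rcases g with j | j
  · refine ⟨i, ?_⟩
    rw [DihedralGroup.inv_r, DihedralGroup.r_mul_r, DihedralGroup.r_mul_r]
    congr 1
    ring
  · refine ⟨-i, ?_⟩
    rw [DihedralGroup.inv_sr, DihedralGroup.sr_mul_r, DihedralGroup.sr_mul_sr]
    congr 1
    ring

/-- Let G be a finite group and r an odd prime such that G ⧸ O₂(G) is dihedral of order 2r, and let R be a Sylow r-subgroup of G with C_{O₂(G)}(R) = 1. Then N_G(R) is dihedral of order 2r; for any involution a of N_G(R), every involution of G outside O₂(G) is conjugate to a; and |C_{O₂(G)}(a)|² = |O₂(G)|. -/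
theorem result {G : Type*} [Group G] [Finite G] {r : ℕ} [Fact r.Prime] (hr : r ≠ 2) [hN : (Cfsg.pCore 2 G).Normal] (hquot : Nonempty (G ⧸ Cfsg.pCore 2 G ≃* DihedralGroup r)) (R : Sylow r G) (hC : Cfsg.pCore 2 G ⊓ Subgroup.centralizer ((R : Subgroup G) : Set G) = ⊥) : Nonempty (↥(Subgroup.normalizer ((R : Subgroup G) : Set G)) ≃* DihedralGroup r) ∧ ∀ a : G, a ∈ Subgroup.normalizer ((R : Subgroup G) : Set G) → orderOf a = 2 → (∀ b : G, orderOf b = 2 → b ∉ Cfsg.pCore 2 G → ∃ g : G, g * a * g⁻¹ = b) ∧ Nat.card ↥(Cfsg.pCore 2 G ⊓ Subgroup.centralizer ({a} : Set G)) ^ 2 = Nat.card ↥(Cfsg.pCore 2 G) := by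
  classical
  have hrp : r.Prime := Fact.out
  haveI : Fact (1 < r) := ⟨hrp.one_lt⟩
  obtain ⟨e⟩ := hquot
  set Q := Cfsg.pCore 2 G with hQdef
  haveI h2f : Fact (Nat.Prime 2) := ⟨Nat.prime_two⟩
  have h2 : IsPGroup 2 Q := Cfsg.Agent.Lib.H1Core.pCore_isPGroup 2
  let π : G →* DihedralGroup r := e.toMonoidHom.comp (QuotientGroup.mk' Q)
  have hπs : Function.Surjective π :=
    e.surjective.comp (QuotientGroup.mk'_surjective Q)
  have hQ : ∀ g, g ∈ Q ↔ π g = 1 := by
    intro g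
    show g ∈ Q ↔ e (g : G ⧸ Q) = 1
    rw [map_eq_one_iff _ e.injective, QuotientGroup.eq_one_iff]
  have hodd : ¬ 2 ∣ r := fun h => hr ((Nat.prime_dvd_prime_iff_eq Nat.prime_two hrp).1 h).symm
  -- R meets Q trivially
  have hRQ : ∀ y ∈ (R : Subgroup G), y ∈ Q → y = 1 := by
    intro y hy hyQ
    have h3 := IsPGroup.disjoint_of_ne 2 r (Ne.symm hr) _ _ h2 R.isPGroup'
    exact Subgroup.disjoint_def.1 h3 hyQ hy
  have hπinj : Function.Injective (π.comp (R : Subgroup G).subtype) := by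
    rw [injective_iff_map_eq_one]
    rintro ⟨y, hy⟩ h
    apply Subtype.ext
    exact hRQ y hy ((hQ y).2 h)
  have hdvd : Nat.card R ∣ 2 * r := by
    have := Subgroup.card_dvd_of_injective _ hπinj
    rwa [DihedralGroup.nat_card] at this
  -- |R| = r
  have hRcard : Nat.card (R : Subgroup G) = r := by
    obtain ⟨f, hf⟩ := IsPGroup.iff_card.1 R.isPGroup'
    have hf1 : f ≠ 0 := by
      rintro rfl
      rw [pow_zero] at hf
      obtain ⟨g, hg⟩ := hπs (DihedralGroup.r 1)
      have h3 : r ∣ Nat.card G := by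
        have h4 : orderOf (DihedralGroup.r (1 : ZMod r)) = r := DihedralGroup.orderOf_r_one
        have h5 : r ∣ orderOf g := by
          rw [← h4, ← hg]
          exact orderOf_map_dvd _ _
        exact h5.trans (orderOf_dvd_natCard g)
      obtain ⟨x, hx⟩ := exists_prime_orderOf_dvd_card' r h3
      obtain ⟨P', hP'⟩ := (IsPGroup.of_card (n := 1) (G := zpowers x) (by rw [Nat.card_zpowers, hx, pow_one])).exists_le_sylow
      have h6 : Nat.card P' = 1 := by
        rw [P'.card_eq_multiplicity, ← R.card_eq_multiplicity, hf]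
      have h7 : (P' : Subgroup G) = ⊥ := Subgroup.eq_bot_of_card_eq _ h6
      rw [h7] at hP'
      have h8 : x = 1 := by
        have := hP' (mem_zpowers x)
        simpa using this
      rw [h8, orderOf_one] at hx
      exact hrp.one_lt.ne hx
    have hf2 : f < 2 := by
      by_contra hcon
      push Not at hcon
      have h3 : r ^ 2 ∣ 2 * r := (pow_dvd_pow r hcon).trans (hf ▸ hdvd)
      rw [sq, mul_comm] at h3
      have h4 : r ∣ 2 := Nat.dvd_of_mul_dvd_mul_right hrp.pos h3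
      exact hodd (by
        have := (Nat.prime_dvd_prime_iff_eq hrp Nat.prime_two).1 h4
        omega)
    have hf3 : f = 1 := by omega
    rw [hf, hf3, pow_one]
  have hR_rot : ∀ y ∈ (R : Subgroup G), ∃ i, π y = DihedralGroup.r i := by
    intro y hy
    rcases h1 : π y with i | i
    · exact ⟨i, rfl⟩
    · exfalso
      obtain ⟨t, ht⟩ := R.isPGroup' ⟨y, hy⟩
      have h3 : y ^ (r ^ t) = 1 := by simpa using congrArg Subtype.val ht
      have h4 : (DihedralGroup.sr i : DihedralGroup r) ^ (r ^ t) = 1 := by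
        rw [← h1, ← map_pow, h3, map_one]
      have h5 : 2 ∣ r ^ t := by
        rw [← DihedralGroup.orderOf_sr i]
        exact orderOf_dvd_of_pow_eq_one h4
      exact hodd (Nat.prime_two.dvd_of_dvd_pow h5)
  obtain ⟨y₀, hy₀, hy₀1⟩ : ∃ y ∈ (R : Subgroup G), y ≠ 1 := by
    by_contra hcon
    push Not at hcon
    have h3 : (R : Subgroup G) = ⊥ := (Subgroup.eq_bot_iff_forall _).2 hcon
    rw [h3, Subgroup.card_bot] at hRcard
    exact hrp.one_lt.ne hRcard
  obtain ⟨i₀, hi₀⟩ := hR_rot y₀ hy₀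
  have hi₀0 : i₀ ≠ 0 := by
    rintro rfl
    apply hy₀1
    exact hRQ y₀ hy₀ ((hQ _).2 (by rw [hi₀]; rfl))
  have hrpow : ∀ (t : ZMod r) (n : ℕ), (DihedralGroup.r t : DihedralGroup r) ^ n = DihedralGroup.r ((n : ZMod r) * t) := by
    intro t n
    induction n with
    | zero =>
      rw [pow_zero, DihedralGroup.one_def, Nat.cast_zero, zero_mul]
    | succ n ih =>
      rw [pow_succ, ih, DihedralGroup.r_mul_r]
      congr 1
      push_cast
      ring
  have hrot : ∀ t : ZMod r, ∃ y ∈ (R : Subgroup G), π y = DihedralGroup.r t := by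
    intro t
    refine ⟨y₀ ^ (t * i₀⁻¹).val, pow_mem hy₀ _, ?_⟩
    rw [map_pow, hi₀, hrpow, ZMod.natCast_zmod_val]
    congr 1
    field_simp
  haveI hrotn : (rotS r).Normal := rotS_normal r
  let H := (rotS r).comap π
  haveI hHn : H.Normal := Subgroup.Normal.comap hrotn π
  have hRH : (R : Subgroup G) ≤ H := by
    intro y hy
    obtain ⟨i, hi⟩ := hR_rot y hy
    exact ⟨i, hi⟩
  set N := normalizer ((R : Subgroup G) : Set G) with hNdef
  have hfr : N ⊔ H = ⊤ := Sylow.normalizer_sup_eq_top' R hRH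
  have hNsurj : Function.Surjective (π.comp N.subtype) := by
    intro d
    obtain ⟨g, rfl⟩ := hπs d
    have hg : g ∈ N ⊔ H := by
      rw [hfr]
      trivial
    rw [Subgroup.mem_sup_of_normal_right] at hg
    obtain ⟨n, hn, h, hh, rfl⟩ := hg
    obtain ⟨t, ht⟩ := hh
    obtain ⟨y, hy, hyt⟩ := hrot t
    refine ⟨⟨n * y, N.mul_mem hn (le_normalizer hy)⟩, ?_⟩
    show π (n * y) = π (n * h)
    rw [map_mul, map_mul, hyt, ht]
  have hNker : ∀ n ∈ N, π n = 1 → n = 1 := by
    intro n hn h1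
    have hnQ : n ∈ Q := (hQ n).2 h1
    have h3 : n ∈ Q ⊓ centralizer ((R : Subgroup G) : Set G) := by
      refine mem_inf.2 ⟨hnQ, ?_⟩
      rw [mem_centralizer_iff]
      intro y hy
      have h4 : n * y * n⁻¹ * y⁻¹ ∈ (R : Subgroup G) :=
        mul_mem ((mem_normalizer_iff.1 hn y).1 hy) (inv_mem hy)
      have h5 : n * y * n⁻¹ * y⁻¹ ∈ Q := by
        rw [hQ]
        simp [h1]
      have h6 := hRQ _ h4 h5
      have h7 : n * y = y * n := by
        calc n * y = (n * y * n⁻¹ * y⁻¹) * (y * n) := by group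
          _ = y * n := by rw [h6, one_mul]
      exact h7.symm
    rw [hC] at h3
    simpa using h3
  have hNinj : Function.Injective (π.comp N.subtype) := by
    rw [injective_iff_map_eq_one]
    rintro ⟨n, hn⟩ h
    exact Subtype.ext (hNker n hn h)
  let e' : N ≃* DihedralGroup r := MulEquiv.ofBijective (π.comp N.subtype) ⟨hNinj, hNsurj⟩
  let ν : DihedralGroup r →* G := N.subtype.comp e'.symm.toMonoidHom
  have hπν : ∀ d, π (ν d) = d := fun d => e'.apply_symm_apply d
  have hνN : ∀ d, ν d ∈ N := fun d => (e'.symm d).2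
  have hNiff : ∀ g, g ∈ N ↔ ν (π g) = g := by
    intro g
    constructor
    · intro hg
      have h3 := hNker (ν (π g) * g⁻¹) (N.mul_mem (hνN _) (N.inv_mem hg))
        (by rw [map_mul, hπν, map_inv, mul_inv_cancel])
      exact mul_inv_eq_one.1 h3
    · intro h
      rw [← h]
      exact hνN _
  have hRsyl : ∀ P : Subgroup G, IsPGroup r P → Nat.card P = r →
      ∃ g : G, ∀ h, h ∈ (R : Subgroup G) ↔ g * h * g⁻¹ ∈ P := by
    intro P hP hPc
    obtain ⟨P', hP'⟩ := hP.exists_le_sylow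
    have h3 : P = P' := Subgroup.eq_of_le_of_card_ge hP'
      (by rw [hPc, P'.card_eq_multiplicity, ← R.card_eq_multiplicity, hRcard])
    obtain ⟨g, hg⟩ := MulAction.exists_smul_eq G R P'
    refine ⟨g, fun h => ?_⟩
    rw [h3, ← hg, Sylow.coe_subgroup_smul]
    exact (Subgroup.smul_mem_pointwise_smul_iff (a := MulAut.conj g) (S := (R : Subgroup G)) (x := h)).symm
  have hfree : ∀ q ∈ Q, q * ν (DihedralGroup.r 1) = ν (DihedralGroup.r 1) * q → q = 1 := by
    intro q hq hc
    have h3 : q ∈ Q ⊓ centralizer ((R : Subgroup G) : Set G) := by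
      refine mem_inf.2 ⟨hq, ?_⟩
      rw [mem_centralizer_iff]
      intro y hy
      obtain ⟨i, hi⟩ := hR_rot y hy
      have h4 : y = ν (DihedralGroup.r 1) ^ i.val := by
        have h5 := (hNiff y).1 (le_normalizer hy)
        rw [hi] at h5
        rw [← h5, ← map_pow, DihedralGroup.r_one_pow, ZMod.natCast_zmod_val]
      rw [h4]
      exact ((Commute.pow_right (show Commute q _ from hc) _).eq).symm
    rw [hC] at h3
    simpa using h3
  exact ⟨⟨e'⟩, fun a ha hoa => core π ν hπν Q hQ h2 R hRsyl hNiff hr hfree a ha hoa⟩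

end Cfsg.Agent.S2873
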