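import Cfsg.Statements.S2879
import Cfsg.Agent.S0106
import Cfsg.Agent.Lib.QD
import Cfsg.Agent.Lib.QD2
import Cfsg.Agent.Lib.PSolv
import Cfsg.Agent.Lib.BlockE13
import Cfsg.Agent.Lib.H1Core
import Cfsg.Agent.Lib.H1Cop

set_option autoImplicit false
open Cfsg

namespace Cfsg.Agent.S2879

open Subgroup QuaternionGroup Cfsg.Agent.Lib.LdQuat Cfsg.Agent.S0106

variable {G : Type*} [Group G]

theorem quat_sub2 [Finite G] (T : Subgroup G) (hT2 : IsPGroup 2 T) {N : ℕ} [NeZero N] (x : G)
    (hord : orderOf x = 2 * N)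
    (hout : ∀ s ∈ T, s ∉ zpowers x → s ^ 2 = 1 ∨ s ^ 2 = x ^ N)
    (hinv : ∀ s ∈ T, s ∉ zpowers x → ∀ d ∈ zpowers x, d ^ 4 = 1 → s * d * s⁻¹ = d⁻¹)
    (hdiff : ∀ s ∈ T, s ∉ zpowers x → ∀ s' ∈ T, s' ∉ zpowers x → s⁻¹ * s' ∈ zpowers x)
    (Q : Subgroup G) (hQ : Q ≤ T) (g : G) (hg : g ∈ normalizer (Q : Set G))
    (hco : Nat.Coprime (orderOf g) 2) (hgc : g ∉ centralizer (Q : Set G))
    (hzQ : x ^ N ∈ Q) (hgz : g * x ^ N * g⁻¹ = x ^ N) : Nonempty (Q ≃* Q8) := by
  classical
  have hQconj : ∀ q ∈ Q, g * q * g⁻¹ ∈ Q := fun q hq => (mem_normalizer_iff.1 hg q).1 hq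
  set z := x ^ N with hz
  have hz1 : z ≠ 1 := pow_ne_one_of_lt_orderOf (NeZero.ne N) (by rw [hord]; have := NeZero.pos N; omega)
  have hz2 : z ^ 2 = 1 := by
    rw [hz, ← pow_mul, mul_comm N 2, ← hord, pow_orderOf_eq_one]
  have hzu : z ∈ zpowers x := pow_mem (mem_zpowers x) N
  have hinvol : ∀ d ∈ zpowers x, d ^ 2 = 1 → d ≠ 1 → d = z := by
    intro d hd h1 h2
    obtain ⟨k, rfl⟩ := mem_zpowers_iff.1 hd
    have h3 : x ^ (2 * k) = 1 := by
      rw [mul_comm, zpow_mul]
      exact_mod_cast h1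
    have h5 : ((orderOf x : ℕ) : ℤ) ∣ 2 * k := orderOf_dvd_iff_zpow_eq_one.2 h3
    rw [hord] at h5
    obtain ⟨t, ht⟩ := h5
    have h6 : k = N * t := by
      push_cast at ht
      linarith
    have h7 : x ^ k = z ^ t := by
      rw [h6, hz, ← zpow_natCast x N, ← zpow_mul]
    rw [h7] at h2 ⊢
    have hz2' : z ^ (2 : ℤ) = 1 := by exact_mod_cast hz2
    rcases Int.even_or_odd' t with ⟨m, rfl | rfl⟩
    · exfalso
      apply h2
      rw [zpow_mul, hz2', one_zpow]
    · rw [zpow_add, zpow_mul, hz2', one_zpow, one_mul, zpow_one]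
  have hcyc : ∀ c : G, zpowers c = Q → False := by
    intro c hc
    have hcQ : c ∈ Q := hc ▸ mem_zpowers c
    obtain ⟨k, hk⟩ := two_pow_of_mem T hT2 (hQ hcQ)
    have h3 : g * c * g⁻¹ ∈ zpowers c := by
      rw [hc]
      exact hQconj c hcQ
    have h4 := comm_of_cyc hco hk h3
    apply hgc
    rw [mem_centralizer_iff]
    intro q hq
    rw [← hc] at hq
    obtain ⟨m, rfl⟩ := mem_zpowers_iff.1 (show q ∈ zpowers c from hq)
    exact (comm_zp h4 m).symm
  have hcycle : ∀ C : Subgroup G, C ≤ zpowers x → IsCyclic C := by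
    intro C hC
    haveI : IsCyclic (C.subgroupOf (zpowers x)) := inferInstance
    have e := Subgroup.subgroupOfEquivOfLe hC
    exact isCyclic_of_surjective e.toMonoidHom e.surjective
  by_cases hQA : Q ≤ zpowers x
  · exfalso
    obtain ⟨c, hc⟩ := (Subgroup.isCyclic_iff_exists_zpowers_eq_top Q).1 (hcycle Q hQA)
    exact hcyc c hc
  obtain ⟨y, hyQ, hyu⟩ := SetLike.not_le_iff_exists.1 hQA
  obtain ⟨c, hc⟩ := (Subgroup.isCyclic_iff_exists_zpowers_eq_top (Q ⊓ zpowers x)).1
    (hcycle _ inf_le_right)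
  have hmemC : ∀ q, q ∈ zpowers c ↔ q ∈ Q ∧ q ∈ zpowers x := by
    intro q
    rw [hc]
    exact Subgroup.mem_inf
  have hcQ : c ∈ Q := ((hmemC c).1 (mem_zpowers c)).1
  have hcu : c ∈ zpowers x := ((hmemC c).1 (mem_zpowers c)).2
  have hyT := hQ hyQ
  have hdec : ∀ q ∈ Q, q ∈ zpowers c ∨ y⁻¹ * q ∈ zpowers c := by
    intro q hq
    by_cases hqu : q ∈ zpowers x
    · left
      exact (hmemC q).2 ⟨hq, hqu⟩
    · right
      exact (hmemC _).2 ⟨mul_mem (inv_mem hyQ) hq, hdiff y hyT hyu q (hQ hq) hqu⟩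
  have hzC : z ∈ zpowers c := (hmemC z).2 ⟨hzQ, hzu⟩
  -- the common final step
  have hfinal : g * c = c * g → g * y * g⁻¹ ∉ zpowers x → False := by
    intro hcomm hyy
    apply hgc
    have hd : y⁻¹ * (g * y * g⁻¹) ∈ zpowers c :=
      (hmemC _).2 ⟨mul_mem (inv_mem hyQ) (hQconj y hyQ), hdiff y hyT hyu _ (hQ (hQconj y hyQ)) hyy⟩
    obtain ⟨m, hm⟩ := mem_zpowers_iff.1 hd
    have hgd : g * (y⁻¹ * (g * y * g⁻¹)) = (y⁻¹ * (g * y * g⁻¹)) * g := by
      rw [← hm]
      exact comm_zp hcomm m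
    set d := y⁻¹ * (g * y * g⁻¹) with hddef
    have hgyd : g * y * g⁻¹ = y * d := by
      rw [hddef]
      group
    have hpow : ∀ n : ℕ, g ^ n * y * (g ^ n)⁻¹ = y * d ^ n := by
      intro n
      induction n with
      | zero => simp
      | succ n ih =>
        have h5 : g ^ (n + 1) * y * (g ^ (n + 1))⁻¹ = g * (g ^ n * y * (g ^ n)⁻¹) * g⁻¹ := by
          rw [pow_succ']
          group
        rw [h5, ih]
        have h6 : g * d ^ n = d ^ n * g := (Commute.pow_right hgd n)
        calc g * (y * d ^ n) * g⁻¹ = g * y * (g⁻¹ * g) * d ^ n * g⁻¹ := by group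
          _ = (g * y * g⁻¹) * (g * d ^ n) * g⁻¹ := by group
          _ = y * d * (d ^ n * g) * g⁻¹ := by rw [hgyd, h6]
          _ = y * d ^ (n + 1) := by
            rw [pow_succ']
            group
    have hdr : d ^ orderOf g = 1 := by
      have h5 := hpow (orderOf g)
      rw [pow_orderOf_eq_one] at h5
      simp only [one_mul, inv_one, mul_one] at h5
      exact (mul_eq_left.1 h5.symm)
    have hd1 : d = 1 := eq_one_of_odd_pow T hT2
      (hQ ((hmemC d).1 hd).1) hco hdr
    have hgy : g * y = y * g := by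
      have h5 : g * y * g⁻¹ = y := by
        rw [hgyd, hd1, mul_one]
      calc g * y = g * y * g⁻¹ * g := by group
        _ = y * g := by rw [h5]
    rw [mem_centralizer_iff]
    intro q hq
    rcases hdec q hq with h | h
    · obtain ⟨k', rfl⟩ := mem_zpowers_iff.1 h
      exact (comm_zp hcomm k').symm
    · obtain ⟨k', hk'⟩ := mem_zpowers_iff.1 h
      have h5 : q = y * c ^ k' := by
        rw [hk']
        group
      rw [h5]
      have h6 := comm_zp hcomm k'
      calc y * c ^ k' * g = y * (c ^ k' * g) := by group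
        _ = y * (g * c ^ k') := by rw [h6]
        _ = (y * g) * c ^ k' := by group
        _ = (g * y) * c ^ k' := by rw [hgy]
        _ = g * (y * c ^ k') := by group
  -- the involution case
  have hyinv : y ^ 2 = 1 → g * y * g⁻¹ ∉ zpowers x := by
    intro hy2 hin
    have h1 : (g * y * g⁻¹) ^ 2 = 1 := by
      rw [conj_pow, hy2]
      group
    have h0 : y ≠ 1 := by
      rintro rfl
      exact hyu (one_mem _)
    have h2 : g * y * g⁻¹ ≠ 1 := by
      intro h
      apply h0
      have h3 : y = g⁻¹ * (g * y * g⁻¹) * g := by group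
      rw [h3, h]
      group
    have h3 := hinvol _ hin h1 h2
    have h4 : y = z := by
      have h5 : g * y * g⁻¹ = g * z * g⁻¹ := by rw [h3, hgz]
      exact mul_left_cancel (mul_right_cancel h5)
    exact hyu (h4 ▸ hzu)
  by_cases hc4 : c ^ 4 = 1
  · by_cases hc2 : c ^ 2 = 1
    · exfalso
      obtain ⟨k, hk⟩ := mem_zpowers_iff.1 hzC
      have hzc : c = z := by
        have hc2' : c ^ (2 : ℤ) = 1 := by exact_mod_cast hc2
        rcases Int.even_or_odd' k with ⟨m, rfl | rfl⟩
        · exfalso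
          apply hz1
          rw [← hk, zpow_mul, hc2', one_zpow]
        · rw [← hk, zpow_add, zpow_mul, hc2', one_zpow, one_mul, zpow_one]
      rcases hout y hyT hyu with hy2 | hy2
      · apply hfinal _ (hyinv hy2)
        rw [hzc]
        calc g * z = g * z * g⁻¹ * g := by group
          _ = z * g := by rw [hgz]
      · have hcy : c ∈ zpowers y := by
          rw [hzc, ← hy2]
          exact pow_mem (mem_zpowers y) 2
        have hzy : zpowers c ≤ zpowers y := by
          rw [zpowers_le]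
          exact hcy
        apply hcyc y
        apply le_antisymm
        · rw [zpowers_le]
          exact hyQ
        · intro q hq
          rcases hdec q hq with h | h
          · exact hzy h
          · have h3 := hzy h
            have h4 : q = y * (y⁻¹ * q) := by group
            rw [h4]
            exact mul_mem (mem_zpowers y) h3
    · have hcz : c ^ 2 = z := by
        apply hinvol _ (pow_mem hcu 2) _ hc2
        rw [← pow_mul]
        exact hc4
      have hoc : orderOf c = 4 := by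
        haveI : Fact (Nat.Prime 2) := ⟨Nat.prime_two⟩
        have := orderOf_eq_prime_pow (p := 2) (n := 1) (x := c)
          (by simpa using hc2) (by simpa using hc4)
        simpa using this
      rcases hout y hyT hyu with hy2 | hy2
      · exfalso
        have hinvs : ∀ s ∈ Q, s ∉ zpowers x → s ^ 2 = 1 := by
          intro s hs hsu
          have h1 := (hdec s hs).resolve_left (fun h => hsu ((hmemC s).1 h).2)
          obtain ⟨m, hm⟩ := mem_zpowers_iff.1 h1
          have h2 : s = y * c ^ m := by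
            rw [hm]
            group
          have h3 : (c ^ m) ^ 4 = 1 := by
            rw [← zpow_natCast, ← zpow_mul, mul_comm, zpow_mul, zpow_natCast, hc4, one_zpow]
          have h4 := hinv y hyT hyu (c ^ m) (zpow_mem hcu m) h3
          have h5 : y * c ^ m = (c ^ m)⁻¹ * y := by
            rw [← h4]
            group
          rw [h2, pow_two]
          calc y * c ^ m * (y * c ^ m) = (c ^ m)⁻¹ * y * (y * c ^ m) := by rw [h5]
            _ = (c ^ m)⁻¹ * y ^ 2 * c ^ m := by rw [pow_two]; group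
            _ = 1 := by rw [hy2]; group
        have hgcc : g * c * g⁻¹ ∈ zpowers c := by
          refine (hmemC _).2 ⟨hQconj c hcQ, ?_⟩
          by_contra hout'
          have h1 := hinvs _ (hQconj c hcQ) hout'
          rw [conj_pow] at h1
          apply hc2
          have h2 : c ^ 2 = g⁻¹ * (g * c ^ 2 * g⁻¹) * g := by group
          rw [h2, h1]
          group
        obtain ⟨k, hk⟩ := two_pow_of_mem T hT2 (hQ hcQ)
        exact hfinal (comm_of_cyc hco hk hgcc) (hyinv hy2)
      · apply Cfsg.Agent.Lib.H1Quat.quat_iso (n := 2) (⟨c, hcQ⟩ : Q) (⟨y, hyQ⟩ : Q)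
        · rw [Subgroup.orderOf_mk, hoc]
        · exact Subtype.ext (hinv y hyT hyu c hcu hc4)
        · apply Subtype.ext
          show y ^ 2 = c ^ 2
          rw [hcz, hy2]
        · intro h
          obtain ⟨k, hk⟩ := mem_zpowers_iff.1 h
          have h3 : c ^ k = y := by
            have := congrArg Subtype.val hk
            simpa using this
          apply hyu
          rw [← h3]
          exact zpow_mem hcu k
        · rintro ⟨q, hq⟩
          rcases hdec q hq with h | h
          · left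
            obtain ⟨k, hk⟩ := mem_zpowers_iff.1 h
            exact mem_zpowers_iff.2 ⟨k, Subtype.ext (by simpa using hk)⟩
          · right
            obtain ⟨k, hk⟩ := mem_zpowers_iff.1 h
            exact mem_zpowers_iff.2 ⟨k, Subtype.ext (by simpa using hk)⟩
  · exfalso
    have h4 : g * c * g⁻¹ ∈ zpowers c := by
      refine (hmemC _).2 ⟨hQconj c hcQ, ?_⟩
      by_contra hout'
      have h6 : (g * c * g⁻¹) ^ 4 = 1 := by
        have h7 : (g * c * g⁻¹) ^ 4 = ((g * c * g⁻¹) ^ 2) ^ 2 := by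
          rw [← pow_mul]
        rw [h7]
        rcases hout _ (hQ (hQconj c hcQ)) hout' with h5 | h5 <;> rw [h5]
        · simp
        · exact hz2
      apply hc4
      rw [conj_pow] at h6
      have h7 : c ^ 4 = g⁻¹ * (g * c ^ 4 * g⁻¹) * g := by group
      rw [h7, h6]
      group
    obtain ⟨k, hk⟩ := two_pow_of_mem T hT2 (hQ hcQ)
    have hcomm := comm_of_cyc hco hk h4
    apply hfinal hcomm
    intro hin
    have h5 := (hmemC _).2 ⟨hQconj y hyQ, hin⟩
    obtain ⟨m, hm⟩ := mem_zpowers_iff.1 h5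
    have h6 : y = c ^ m := by
      have h7 : y = g⁻¹ * (g * y * g⁻¹) * g := by group
      rw [h7, ← hm]
      have h8 := comm_zp hcomm m
      calc g⁻¹ * c ^ m * g = g⁻¹ * (c ^ m * g) := by group
        _ = g⁻¹ * (g * c ^ m) := by rw [h8]
        _ = c ^ m := by group
    apply hyu
    rw [h6]
    exact zpow_mem hcu m

/-- Data extracted from the structure of `T`. -/
def TData (T : Subgroup G) (N : ℕ) (x : G) : Prop :=
  orderOf x = 2 * N ∧
  (∀ s ∈ T, s ∉ zpowers x → s ^ 2 = 1 ∨ s ^ 2 = x ^ N) ∧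
  (∀ s ∈ T, s ∉ zpowers x → ∀ d ∈ zpowers x, d ^ 4 = 1 → s * d * s⁻¹ = d⁻¹) ∧
  (∀ s ∈ T, s ∉ zpowers x → ∀ s' ∈ T, s' ∉ zpowers x → s⁻¹ * s' ∈ zpowers x) ∧
  (x ^ N ∈ T ⊓ centralizer (T : Set G)) ∧
  (∀ w ∈ T ⊓ centralizer (T : Set G), w = 1 ∨ w = x ^ N)

theorem D3 : ((Finset.univ : Finset (Q8 × Q8)).filter (fun xy =>
    (∀ p q, hm xy.1 xy.2 (p * q) = hm xy.1 xy.2 p * hm xy.1 xy.2 q) ∧
    ∀ p q, hm xy.1 xy.2 p = hm xy.1 xy.2 q → p = q)).card = 24 := by decide +kernel

theorem D4 : ∀ q : Q8, (∀ p, q * p = p * q) → q = 1 ∨ q = a 2 := by decide +kernel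

theorem card_aut : Nat.card (MulAut Q8) ≤ 24 := by
  classical
  rw [← D3]
  set P := (Finset.univ : Finset (Q8 × Q8)).filter (fun xy =>
    (∀ p q, hm xy.1 xy.2 (p * q) = hm xy.1 xy.2 p * hm xy.1 xy.2 q) ∧
    ∀ p q, hm xy.1 xy.2 p = hm xy.1 xy.2 q → p = q) with hP
  have hform : ∀ (f : MulAut Q8) (p : Q8), f p = hm (f (a 1)) (f (xa 0)) p :=
    fun f p => hom_eq_hm f.toMonoidHom p
  have hmemP : ∀ f : MulAut Q8, (f (a 1), f (xa 0)) ∈ P := by
    intro f
    rw [hP, Finset.mem_filter]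
    refine ⟨Finset.mem_univ _, ?_, ?_⟩
    · intro p q
      show hm (f (a 1)) (f (xa 0)) (p * q) = hm (f (a 1)) (f (xa 0)) p * hm (f (a 1)) (f (xa 0)) q
      rw [← hform f, ← hform f, ← hform f, map_mul]
    · intro p q h
      have h1 : hm (f (a 1)) (f (xa 0)) p = hm (f (a 1)) (f (xa 0)) q := h
      rw [← hform f, ← hform f] at h1
      exact f.injective h1
  have hinj : Function.Injective (fun f : MulAut Q8 => (⟨(f (a 1), f (xa 0)), hmemP f⟩ : P)) := by
    intro f f' h
    have h1 : (f (a 1), f (xa 0)) = (f' (a 1), f' (xa 0)) := congrArg Subtype.val h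
    have h2 : f (a 1) = f' (a 1) := congrArg Prod.fst h1
    have h3 : f (xa 0) = f' (xa 0) := congrArg Prod.snd h1
    ext p
    rw [hform f p, hform f' p, h2, h3]
  have h9 := Nat.card_le_card_of_injective _ hinj
  have h10 : Nat.card P = P.card := by simp
  rwa [h10] at h9

theorem main_of_data [Finite G] (hsol : Group.IsSolvable G) (hO : Cfsg.oddCore G = ⊥) (T : Sylow 2 G)
    (hne : (T : Subgroup G) ≠ ⊤) (hZ : ((T : Subgroup G) ⊓ centralizer ((T : Subgroup G) : Set G)).Normal)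
    {N : ℕ} [NeZero N] {x : G} (hd : TData (T : Subgroup G) N x) :
    ∃ U : Subgroup G, U.Normal ∧ Nonempty (U ≃* SL23) := by
  classical
  haveI : Fact (Nat.Prime 2) := ⟨Nat.prime_two⟩
  obtain ⟨hord, hout, hinv, hdiff, hzZ, hZ2⟩ := hd
  set Q := Cfsg.pCore 2 G with hQdef
  have hQn : Q.Normal := Cfsg.Agent.Lib.H1Core.pCore_normal 2 G
  have hQ2 : IsPGroup 2 Q := Cfsg.Agent.Lib.H1Core.pCore_isPGroup 2
  have hQT : Q ≤ T := Cfsg.Agent.Lib.H1Core.pCore_le_sylow 2 T
  have hCQ : centralizer (Q : Set G) ≤ Q :=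
    Cfsg.Agent.Lib.PSolv.centralizer_le_of_isPSolvable hO
      (Cfsg.Agent.Lib.PSolv.isPSolvable_subgroup (Cfsg.Agent.Lib.BlockPair.isPSolvable_of_isSolvable _ G rfl hsol) _)
  have hz1 : x ^ N ≠ 1 :=
    pow_ne_one_of_lt_orderOf (NeZero.ne N) (by rw [hord]; have := NeZero.pos N; omega)
  have hZQ : (T : Subgroup G) ⊓ centralizer ((T : Subgroup G) : Set G) ≤ Q :=
    Cfsg.Agent.Lib.H1Core.le_pCore hZ ((T.2).to_le inf_le_left)
  have hzQ : x ^ N ∈ Q := hZQ hzZ
  obtain ⟨g, hg1, hgodd⟩ : ∃ g : G, g ≠ 1 ∧ Nat.Coprime (orderOf g) 2 := by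
    by_contra hcon
    push Not at hcon
    apply hne
    have h2 : IsPGroup 2 G := by
      rw [IsPGroup.iff_card]
      refine ⟨(Nat.card G).primeFactorsList.length,
        Nat.eq_prime_pow_of_unique_prime_dvd Nat.card_pos.ne' ?_⟩
      intro r hr hrd
      haveI := Fact.mk hr
      obtain ⟨g, hg⟩ := exists_prime_orderOf_dvd_card' r hrd
      by_contra hne2
      have h3 : g ≠ 1 := by
        rintro rfl
        rw [orderOf_one] at hg
        exact hr.one_lt.ne hg
      apply hcon g h3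
      rw [hg]
      exact (Nat.coprime_primes hr Nat.prime_two).2 hne2
    exact (T.is_maximal' (h2.to_subgroup ⊤) le_top).symm
  have hgN : g ∈ normalizer (Q : Set G) := by
    refine mem_normalizer_iff.2 fun h => ⟨fun hh => hQn.conj_mem h hh g, fun hh => ?_⟩
    have := hQn.conj_mem _ hh g⁻¹
    simpa [mul_assoc] using this
  have hgC : g ∉ centralizer (Q : Set G) := by
    intro h
    exact hg1 (eq_one_of_odd_pow Q hQ2 (hCQ h) hgodd (pow_orderOf_eq_one g))
  have hgz : g * x ^ N * g⁻¹ = x ^ N := by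
    have h1 := hZ.conj_mem _ hzZ g
    rcases hZ2 _ h1 with h | h
    · exfalso
      apply hz1
      have h2 : x ^ N = g⁻¹ * (g * x ^ N * g⁻¹) * g := by group
      rw [h2, h]
      group
    · exact h
  obtain ⟨E⟩ := quat_sub2 (T : Subgroup G) T.2 x hord hout hinv hdiff Q hQT g hgN hgodd hgC hzQ hgz
  obtain ⟨i, hi, hrel, hr⟩ := iota_of_q8 Q E g hgN hgodd hgC
  have hcardrange : Nat.card i.range = 8 := by
    rw [Nat.card_congr (MonoidHom.ofInjective hi).toEquiv.symm, Nat.card_eq_fintype_card, QuaternionGroup.card]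
  have hcardQ : Nat.card Q = 8 := by
    rw [Nat.card_congr E.toEquiv, Nat.card_eq_fintype_card, QuaternionGroup.card]
  have hQr : i.range = Q := Subgroup.eq_of_le_of_card_ge hr (by rw [hcardrange, hcardQ])
  have hg3 : g ^ 3 = 1 := by
    have h1 : g ^ 3 ∈ centralizer (Q : Set G) := by
      rw [mem_centralizer_iff]
      intro q hq
      rw [← hQr] at hq
      obtain ⟨p, rfl⟩ := hq
      have h2 : g ^ 3 * i p * (g ^ 3)⁻¹ = i p := by
        have e1 := hrel p
        have e2 := hrel (tauM p)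
        have e3 := hrel (tauM (tauM p))
        have e4 : tauM (tauM (tauM p)) = p := Cfsg.Agent.Lib.LdQuat.tau3 p
        rw [e4] at e3
        calc g ^ 3 * i p * (g ^ 3)⁻¹ = g * (g * (g * i p * g⁻¹) * g⁻¹) * g⁻¹ := by
              rw [pow_succ', pow_two]
              group
          _ = i p := by rw [e1, e2, e3]
      calc i p * g ^ 3 = g ^ 3 * i p * (g ^ 3)⁻¹ * g ^ 3 := by rw [h2]
        _ = g ^ 3 * i p := by group
    have h2 : g ^ 3 ∈ Q := hCQ h1
    exact eq_one_of_odd_pow Q hQ2 h2 hgodd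
      (by rw [← pow_mul, mul_comm, pow_mul, pow_orderOf_eq_one, one_pow])
  haveI : Fact (Nat.Prime 3) := ⟨Nat.prime_three⟩
  have hog : orderOf g = 3 := orderOf_eq_prime hg3 hg1
  have hcop : Nat.Coprime (Nat.card (zpowers g)) (Nat.card Q) := by
    rw [Nat.card_zpowers, hog, hcardQ]
    norm_num
  have h24 : Nat.card (Q ⊔ zpowers g : Subgroup G) = 24 := by
    have h1 := Cfsg.Agent.Lib.H1Cop.card_sup_mul_inf_of_normalizes
      (A := zpowers g) (K := Q) ((zpowers_le).2 hgN)
    rw [Subgroup.inf_eq_bot_of_coprime hcop, Subgroup.card_bot, mul_one, sup_comm, Nat.card_zpowers, hog, hcardQ] at h1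
    exact h1
  obtain ⟨e⟩ := iso_of_q8 Q E g hgN hgodd hgC h24
  refine ⟨Q ⊔ zpowers g, ?_, ⟨e⟩⟩
  -- the order of `G`
  let φ : G →* MulAut Q := MulAut.conjNormal
  have hK : φ.ker ≤ Q := by
    intro w hw
    apply hCQ
    rw [mem_centralizer_iff]
    intro q hq
    have h1 : φ w ⟨q, hq⟩ = ⟨q, hq⟩ := by
      rw [MonoidHom.mem_ker.1 hw]
      rfl
    have h2 : w * q * w⁻¹ = q := congrArg Subtype.val h1
    calc q * w = w * q * w⁻¹ * w := by rw [h2]
      _ = w * q := by group
  have hKcard : Nat.card φ.ker ≤ 2 := by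
    have hsub : (φ.ker : Set G) ⊆ {1, ((E.symm (a 2) : Q) : G)} := by
      intro w hw
      have hwQ : w ∈ Q := hK hw
      have hc : ∀ p : Q8, E ⟨w, hwQ⟩ * p = p * E ⟨w, hwQ⟩ := by
        intro p
        obtain ⟨q, rfl⟩ := E.surjective p
        rw [← map_mul, ← map_mul]
        congr 1
        apply Subtype.ext
        have h1 : φ w q = q := by
          rw [MonoidHom.mem_ker.1 hw]
          rfl
        have h2 : w * (q : G) * w⁻¹ = q := congrArg Subtype.val h1
        show w * (q : G) = q * w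
        calc w * (q : G) = w * q * w⁻¹ * w := by group
          _ = q * w := by rw [h2]
      rcases D4 _ hc with h | h
      · left
        have h1 : (⟨w, hwQ⟩ : Q) = 1 := by
          rw [← map_one E] at h
          exact E.injective h
        exact congrArg Subtype.val h1
      · right
        have h1 : (⟨w, hwQ⟩ : Q) = E.symm (a 2) := by
          rw [← h, MulEquiv.symm_apply_apply]
        exact congrArg Subtype.val h1
    have h1 := Set.ncard_le_ncard hsub (Set.toFinite _)
    have h2 : ({1, ((E.symm (a 2) : Q) : G)} : Set G).ncard ≤ 2 :=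
      (Set.ncard_insert_le _ _).trans (by simp)
    have h3 : (φ.ker : Set G).ncard = Nat.card φ.ker := (Nat.card_coe_set_eq _).symm
    omega
  have hG : Nat.card G ≤ 48 := by
    rw [← Subgroup.card_mul_index φ.ker, Subgroup.index_ker]
    have h1 : Nat.card φ.range ≤ Nat.card (MulAut Q) := Subgroup.card_le_card_group _
    have h2 : Nat.card (MulAut Q) = Nat.card (MulAut Q8) := Nat.card_congr (MulAut.congr E).toEquiv
    have h3 := card_aut
    calc Nat.card φ.ker * Nat.card φ.range ≤ 2 * 24 := Nat.mul_le_mul hKcard (by omega)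
      _ = 48 := by norm_num
  have hidx := Subgroup.card_mul_index (Q ⊔ zpowers g : Subgroup G)
  rw [h24] at hidx
  have h0 : (Q ⊔ zpowers g : Subgroup G).index ≠ 0 := Subgroup.index_ne_zero_of_finite
  have hcases : (Q ⊔ zpowers g : Subgroup G).index = 1 ∨ (Q ⊔ zpowers g : Subgroup G).index = 2 := by
    omega
  rcases hcases with h | h
  · rw [Subgroup.index_eq_one.1 h]
    infer_instance
  · exact Subgroup.normal_of_index_eq_two h

open DihedralGroup in
theorem data_dihedral [Finite G] (T : Subgroup G) (hT2 : IsPGroup 2 T) (n : ℕ) (hn : 4 ≤ n)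
    (eT : T ≃* DihedralGroup n) : ∃ N : ℕ, 0 < N ∧ ∃ x : G, TData T N x := by
  classical
  haveI : NeZero n := ⟨by omega⟩
  let ι : DihedralGroup n →* G := T.subtype.comp eT.symm.toMonoidHom
  have hι : Function.Injective ι := fun x y h => eT.symm.injective (Subtype.ext h)
  have hmem : ∀ q, ι q ∈ T := fun q => (eT.symm q).2
  have hs' : ∀ s (hs : s ∈ T), s = ι (eT ⟨s, hs⟩) := by
    intro s hs
    simp [ι]
  set x := ι (r 1) with hx
  have hox : orderOf x = n := by
    rw [hx, orderOf_injective ι hι, orderOf_r_one]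
  obtain ⟨k, hk⟩ := two_pow_of_mem T hT2 (hmem (r 1))
  have hn2 : 2 ∣ n := by
    have h1 : n ∣ 2 ^ k := by
      rw [← hox]
      exact orderOf_dvd_of_pow_eq_one hk
    obtain ⟨a, -, rfl⟩ := (Nat.dvd_prime_pow Nat.prime_two).1 h1
    rcases a with _ | a
    · simp at hn
    · exact dvd_pow_self 2 (by omega)
  obtain ⟨N, hN⟩ := hn2
  have hr : ∀ m : ℕ, x ^ m = ι (r m) := by
    intro m
    rw [hx, ← map_pow, r_one_pow]
  have hrmem : ∀ i : ZMod n, ι (r i) ∈ zpowers x := by
    intro i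
    have h1 := hr i.val
    rw [ZMod.natCast_zmod_val] at h1
    rw [← h1]
    exact pow_mem (mem_zpowers x) _
  have hform : ∀ s ∈ T, s ∉ zpowers x → ∃ i, s = ι (sr i) := by
    intro s hs hsu
    have h := hs' s hs
    cases h1 : eT ⟨s, hs⟩ with
    | r i =>
      exfalso
      apply hsu
      rw [h, h1]
      exact hrmem i
    | sr i => exact ⟨i, by rw [h, h1]⟩
  have hpows : ∀ d ∈ zpowers x, ∃ m : ℕ, d = ι (r m) := by
    intro d hd
    have h1 := mem_powers_iff_mem_zpowers.mpr hd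
    obtain ⟨m, rfl⟩ := Submonoid.mem_powers_iff _ _ |>.1 h1
    exact ⟨m, hr m⟩
  have h2N : (N : ZMod n) + (N : ZMod n) = 0 := by
    have h1 : ((n : ℕ) : ZMod n) = 0 := ZMod.natCast_self n
    have h2 : ((2 * N : ℕ) : ZMod n) = 0 := by rw [← hN]; exact h1
    push_cast at h2
    linear_combination h2
  refine ⟨N, by omega, x, ?_, ?_, ?_, ?_, ?_, ?_⟩
  · rw [hox, hN]
  · intro s hs hsu
    obtain ⟨i, rfl⟩ := hform s hs hsu
    left
    rw [← map_pow, sq, sr_mul_self, map_one]
  · intro s hs hsu d hd _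
    obtain ⟨i, rfl⟩ := hform s hs hsu
    obtain ⟨m, rfl⟩ := hpows d hd
    rw [← map_inv, ← map_mul, ← map_mul, ← map_inv]
    congr 1
    rw [inv_sr, sr_mul_r, sr_mul_sr, inv_r]
    congr 1
    ring
  · intro s hs hsu s' hs2 hsu'
    obtain ⟨i, rfl⟩ := hform s hs hsu
    obtain ⟨j, rfl⟩ := hform s' hs2 hsu'
    rw [← map_inv, ← map_mul, inv_sr, sr_mul_sr]
    exact hrmem _
  · rw [hr N]
    refine mem_inf.2 ⟨hmem _, ?_⟩
    rw [mem_centralizer_iff]
    intro t ht
    have h := hs' t ht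
    rw [h]
    cases h1 : eT ⟨t, ht⟩ with
    | r i =>
      rw [← map_mul, ← map_mul, r_mul_r, r_mul_r, add_comm]
    | sr i =>
      rw [← map_mul, ← map_mul, sr_mul_r, r_mul_sr]
      congr 2
      linear_combination h2N
  · intro w hw
    obtain ⟨hwT, hwC⟩ := mem_inf.1 hw
    rw [mem_centralizer_iff] at hwC
    have h := hs' w hwT
    cases h1 : eT ⟨w, hwT⟩ with
    | r i =>
      have h2 := hwC (ι (sr 0)) (hmem _)
      rw [h, h1, ← map_mul, ← map_mul, sr_mul_r, r_mul_sr] at h2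
      have h3 := hι h2
      have h4 : (0 : ZMod n) + i = 0 - i := sr.inj h3
      have h5 : ((2 * i.val : ℕ) : ZMod n) = 0 := by
        push_cast
        rw [ZMod.natCast_zmod_val]
        linear_combination h4
      have h6 : n ∣ 2 * i.val := (ZMod.natCast_eq_zero_iff _ _).1 h5
      have h6' : 2 * N ∣ 2 * i.val := dvd_trans (dvd_of_eq hN.symm) h6
      have h7 : N ∣ i.val := Nat.dvd_of_mul_dvd_mul_left (by norm_num) h6'
      have h8 : i.val < 2 * N := lt_of_lt_of_eq (ZMod.val_lt i) hN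
      obtain ⟨t, ht⟩ := h7
      have h9 : t = 0 ∨ t = 1 := by
        rw [ht] at h8
        have : t < 2 := by
          by_contra hcon
          push Not at hcon
          have : N * 2 ≤ N * t := Nat.mul_le_mul_left N hcon
          omega
        omega
      have hi : i = ((N * t : ℕ) : ZMod n) := by
        rw [← ht]
        exact (ZMod.natCast_zmod_val i).symm
      rcases h9 with rfl | rfl
      · left
        rw [h, h1, hi]
        simp
      · right
        rw [hr N, h, h1, hi, mul_one]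
    | sr i =>
      exfalso
      have h2 := hwC (ι (r 1)) (hmem _)
      rw [h, h1, ← map_mul, ← map_mul, r_mul_sr, sr_mul_r] at h2
      have h3 := hι h2
      have h4 : i - 1 = i + 1 := sr.inj h3
      have h5 : ((2 : ℕ) : ZMod n) = 0 := by
        push_cast
        linear_combination -h4
      have h6 : n ∣ 2 := (ZMod.natCast_eq_zero_iff _ _).1 h5
      have := Nat.le_of_dvd (by norm_num) h6
      omega

theorem data_quasi [Finite G] (T : Subgroup G) (h : Cfsg.IsQuasiDihedral T) :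
    ∃ N : ℕ, 0 < N ∧ ∃ x : G, TData T N x := by
  classical
  obtain ⟨k, x, y, d⟩ := Cfsg.Agent.Lib.QD.exists_qdata h
  obtain ⟨r, hr⟩ := d.hk2
  have hk0 : 0 < k := d.hk
  have hN4 : ((4 * 2 ^ r : ℕ) : ℤ) = 4 * k := by
    rw [hr]
    push_cast
    ring
  have hz : ((x : G) ^ (4 * 2 ^ r : ℕ)) = ((x ^ (4 * k) : T) : G) := by
    rw [← hN4, zpow_natCast]
    simp
  have hcoe : ∀ i : ℤ, (((x ^ i : T)) : G) = (x : G) ^ i := fun i => by simp
  have hform : ∀ s (hs : s ∈ T), s ∉ zpowers (x : G) → ∃ i : ℤ, (⟨s, hs⟩ : T) = x ^ i * y := by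
    intro s hs hsu
    rcases d.hform ⟨s, hs⟩ with ⟨i, hi⟩ | ⟨i, hi⟩
    · exfalso
      apply hsu
      have h1 : s = (x : G) ^ i := by
        have := congrArg Subtype.val hi
        simpa using this
      rw [h1]
      exact zpow_mem (mem_zpowers _) i
    · exact ⟨i, hi⟩
  refine ⟨4 * 2 ^ r, by positivity, (x : G), ?_, ?_, ?_, ?_, ?_, ?_⟩
  · rw [Subgroup.orderOf_coe]
    apply Cfsg.Agent.Lib.QD2.orderOf_of_forall
    intro i
    rw [d.hx, hr]
    push_cast
    have : (8 : ℤ) * 2 ^ r = 2 * (4 * 2 ^ r) := by ring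
    rw [this]
  · intro s hs hsu
    obtain ⟨i, hi⟩ := hform s hs hsu
    have h1 : (⟨s, hs⟩ : T) ^ 2 = x ^ (i * (4 * k)) := by
      rw [hi, d.sq_form]
    rcases Int.even_or_odd' i with ⟨m, rfl | rfl⟩
    · left
      have h2 : (⟨s, hs⟩ : T) ^ 2 = 1 := by
        rw [h1, d.hx]
        exact ⟨m, by ring⟩
      simpa using congrArg Subtype.val h2
    · right
      have h2 : (⟨s, hs⟩ : T) ^ 2 = x ^ (4 * k) := by
        rw [h1, d.zpow_eq_iff]
        exact ⟨m, by ring⟩
      rw [hz]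
      simpa using congrArg Subtype.val h2
  · intro s hs hsu d₀ hd₀ h4
    obtain ⟨i, hi⟩ := hform s hs hsu
    obtain ⟨j, rfl⟩ := mem_zpowers_iff.1 hd₀
    have h5 : x ^ (4 * j) = 1 := by
      apply Subtype.ext
      have h6 : (((x ^ (4 * j) : T)) : G) = ((x : G) ^ j) ^ 4 := by
        rw [hcoe, ← zpow_natCast, ← zpow_mul]
        congr 1
        push_cast
        ring
      rw [h6, h4]
      rfl
    obtain ⟨t, ht⟩ := (d.hx _).1 h5
    have h6 : j = 2 * k * t := by
      have : 4 * (j - 2 * k * t) = 0 := by linarith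
      omega
    have h7 : (⟨s, hs⟩ : T) * x ^ j * (⟨s, hs⟩ : T)⁻¹ = (x ^ j)⁻¹ := by
      rw [hi, d.conj2, ← zpow_neg, d.zpow_eq_iff]
      refine ⟨k * t, ?_⟩
      rw [h6]
      ring
    simpa using congrArg Subtype.val h7
  · intro s hs hsu s' hs2 hsu'
    obtain ⟨i, hi⟩ := hform s hs hsu
    obtain ⟨j, hj⟩ := hform s' hs2 hsu'
    have h1 : ((⟨s, hs⟩ : T)⁻¹ * (⟨s', hs2⟩ : T)) =
        x ^ (-i * (4 * k - 1) + j * (4 * k - 1)) := by
      rw [hi, hj, d.inv_form, d.mul1]
    have h2 : s⁻¹ * s' = (x : G) ^ (-i * (4 * k - 1) + j * (4 * k - 1)) := by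
      have := congrArg Subtype.val h1
      simpa using this
    rw [h2]
    exact zpow_mem (mem_zpowers _) _
  · rw [hz]
    refine mem_inf.2 ⟨(x ^ (4 * k) : T).2, ?_⟩
    rw [mem_centralizer_iff]
    intro t ht
    have h1 : (⟨t, ht⟩ : T) * x ^ (4 * k) = x ^ (4 * k) * (⟨t, ht⟩ : T) := by
      rcases d.hform ⟨t, ht⟩ with ⟨i, hi⟩ | ⟨i, hi⟩
      · rw [hi]
        exact (Commute.refl x).zpow_zpow _ _
      · rw [hi]
        have h2 := d.conj2 i (4 * k)
        have h3 : x ^ (4 * k * (4 * k - 1)) = x ^ (4 * k) := by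
          rw [d.zpow_eq_iff]
          exact ⟨2 * k - 1, by ring⟩
        rw [h3] at h2
        calc x ^ i * y * x ^ (4 * k) = x ^ i * y * x ^ (4 * k) * (x ^ i * y)⁻¹ * (x ^ i * y) := by group
          _ = x ^ (4 * k) * (x ^ i * y) := by rw [h2]
    exact congrArg Subtype.val h1
  · intro w hw
    obtain ⟨hwT, hwC⟩ := mem_inf.1 hw
    rw [mem_centralizer_iff] at hwC
    have hc : ∀ t : T, t * (⟨w, hwT⟩ : T) = (⟨w, hwT⟩ : T) * t :=
      fun t => Subtype.ext (hwC t t.2)
    rcases d.hform ⟨w, hwT⟩ with ⟨i, hi⟩ | ⟨i, hi⟩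
    · have h1 := hc y
      rw [hi] at h1
      have h2 := d.y_conj i
      have h3 : y * x ^ i * y = x ^ i := by
        rw [h1, mul_assoc]
        have hyy := d.hyy
        rw [hyy, mul_one]
      rw [h3] at h2
      have h4 := (d.zpow_eq_iff).1 h2
      obtain ⟨t, ht⟩ := h4
      have h5 : 4 * k ∣ i * (2 * k - 1) := ⟨-t, by
        have : 2 * (i * (2 * k - 1)) = 2 * (4 * k * (-t)) := by linear_combination -ht
        linarith⟩
      have hcop : IsCoprime (4 * k) (2 * k - 1) := ⟨k, -(2 * k + 1), by ring⟩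
      have h6 : 4 * k ∣ i := hcop.dvd_of_dvd_mul_right h5
      obtain ⟨u, hu⟩ := h6
      have h7 : (⟨w, hwT⟩ : T) = (x ^ (4 * k)) ^ u := by
        rw [hi, hu, zpow_mul]
      have h8 : (x ^ (4 * k)) ^ (2 : ℤ) = 1 := by
        rw [← zpow_mul, d.hx]
        exact ⟨1, by ring⟩
      rcases Int.even_or_odd' u with ⟨m, rfl | rfl⟩
      · left
        have h9 : (⟨w, hwT⟩ : T) = 1 := by
          rw [h7, zpow_mul, h8, one_zpow]
        exact congrArg Subtype.val h9
      · right
        have h9 : (⟨w, hwT⟩ : T) = x ^ (4 * k) := by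
          rw [h7, zpow_add, zpow_mul, h8, one_zpow, one_mul, zpow_one]
        rw [hz]
        exact congrArg Subtype.val h9
    · exfalso
      have h1 := hc x
      rw [hi] at h1
      have h2 := d.conj2 i 1
      have h3 : x ^ (1 : ℤ) = x := zpow_one x
      rw [h3] at h2
      have h4 : x ^ i * y * x * (x ^ i * y)⁻¹ = x := by
        rw [← h1]
        group
      rw [h4] at h2
      have h5 : x ^ (1 * (4 * k - 1)) = x ^ (1 : ℤ) := by
        rw [← h2, zpow_one]
      have h6 := (d.zpow_eq_iff).1 h5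
      have h7 : 0 < 1 * (4 * k - 1) - 1 := by linarith
      have h8 := Int.le_of_dvd h7 h6
      linarith

theorem result {G : Type*} [Group G] [Finite G] (hsol : IsSolvable G) (hO : Cfsg.oddCore G = ⊥) (T : Sylow 2 G) (hT : (∃ n : ℕ, 4 ≤ n ∧ Nonempty (↥(T : Subgroup G) ≃* DihedralGroup n)) ∨ Cfsg.IsQuasiDihedral ↥(T : Subgroup G)) (hne : (T : Subgroup G) ≠ ⊤) (hZ : ((T : Subgroup G) ⊓ Subgroup.centralizer ((T : Subgroup G) : Set G)).Normal) : ∃ U : Subgroup G, U.Normal ∧ Nonempty (↥U ≃* Matrix.SpecialLinearGroup (Fin 2) (ZMod 3)) := by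
  have h : ∃ N : ℕ, 0 < N ∧ ∃ x : G, TData (T : Subgroup G) N x := by
    rcases hT with ⟨n, hn, ⟨e⟩⟩ | h
    · exact data_dihedral _ T.2 n hn e
    · exact data_quasi _ h
  obtain ⟨N, hN, x, hd⟩ := h
  haveI : NeZero N := ⟨hN.ne'⟩
  exact main_of_data hsol hO T hne hZ hd

end Cfsg.Agent.S2879
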