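import Cfsg.Statements.S2911
import Mathlib
import Cfsg.Agent.Lib.ThompsonTransfer
import Cfsg.Agent.Lib.CentralSylow
import Cfsg.Agent.Lib.FGSBasic

set_option autoImplicit false
open Cfsg

namespace Cfsg.Agent.S2911

open Subgroup
open Cfsg.Agent.Lib.FGSBasic (mem_smul_sylow_iff)

abbrev Y := Multiplicative (ZMod 2) × DihedralGroup 4

def z₀ : Y := (Multiplicative.ofAdd 1, 1)
def c₀ : Y := (1, DihedralGroup.r 2)
def a₀ : Y := (1, DihedralGroup.r 1)
def b₀ : Y := (1, DihedralGroup.sr 0)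
def d₀ : Y := (1, DihedralGroup.sr 1)

def isZ (y : Y) : Prop := y = 1 ∨ y = z₀ ∨ y = c₀ ∨ y = z₀ * c₀

instance : DecidablePred isZ := fun y => by unfold isZ; infer_instance

def zb (s : Bool) : Y := if s then z₀ else 1

def L (s t : Bool) : List Y :=
  [1, c₀, zb s * b₀, zb s * b₀ * c₀, zb t * d₀, zb t * d₀ * c₀, zb s * b₀ * (zb t * d₀), zb s * b₀ * (zb t * d₀) * c₀]

def L₁ : List Y := [1, z₀, c₀, z₀ * c₀, a₀, z₀ * a₀, c₀ * a₀, z₀ * c₀ * a₀]

theorem isZ_central : ∀ y x : Y, isZ y → x * y = y * x := by decide +kernel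

theorem central_isZ : ∀ y : Y, (∀ x : Y, x * y = y * x) → isZ y := by decide +kernel

theorem t1 : ∀ u y : Y, (y * u = u * y ∧ u * u = 1 ∧ ¬ isZ u ∧ ¬ isZ y) →
    (y = u ∨ y = u * c₀ ∨ y = u * z₀ ∨ y = u * z₀ * c₀) := by decide +kernel

theorem t2 : ∀ u : Y, (u * u = 1 ∧ ¬ isZ u) → (Finset.univ.filter (fun y : Y => y * u = u * y)).card = 8 := by
  decide +kernel

theorem t3 : ∀ u : Y, (u * u = 1 ∧ ¬ isZ u) → ∃ t : Y, t * u * t⁻¹ = u * c₀ := by decide +kernel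

theorem t3' : ∀ u : Y, (u * u = 1 ∧ ¬ isZ u) → (u * z₀ * (u * z₀) = 1 ∧ ¬ isZ (u * z₀)) := by decide +kernel

theorem t4 : ∀ s u : Y, s * u * s⁻¹ = u ∨ s * u * s⁻¹ = u * c₀ := by decide +kernel

theorem t5 : ∀ x y : Y, x * y * x⁻¹ * y⁻¹ = 1 ∨ x * y * x⁻¹ * y⁻¹ = c₀ := by decide +kernel

theorem t6 : c₀ = a₀ * b₀ * a₀⁻¹ * b₀⁻¹ := by decide +kernel

theorem t7 : (Nat.card Y) = 16 := by
  rw [Nat.card_eq_fintype_card]
  decide +kernel

theorem t8 : c₀ ≠ 1 := by decide +kernel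

theorem t9 : c₀ * c₀ = 1 := by decide +kernel

theorem t10 : z₀ ≠ c₀ := by decide +kernel

theorem t11 : z₀ ≠ 1 := by decide +kernel

theorem t12 : z₀ * z₀ = 1 := by decide +kernel

theorem t13 : (b₀ * b₀ = 1 ∧ ¬ isZ b₀) ∧ (d₀ * d₀ = 1 ∧ ¬ isZ d₀) ∧ b₀ * z₀ = zb true * b₀ ∧ d₀ * z₀ = zb true * d₀ ∧
    b₀ = zb false * b₀ ∧ d₀ = zb false * d₀ := by decide +kernel

theorem L_one : ∀ s t, (1 : Y) ∈ L s t := by decide +kernel

theorem L_mul : ∀ s t, ∀ x y : Y, (x ∈ L s t ∧ y ∈ L s t) → x * y ∈ L s t := by decide +kernel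

theorem L_inv : ∀ s t, ∀ x : Y, x ∈ L s t → x⁻¹ ∈ L s t := by decide +kernel

theorem L_nodup : ∀ s t, (L s t).Nodup := by decide +kernel

theorem L_inv_el : ∀ s t, ∀ y : Y, (y ∈ L s t ∧ y * y = 1 ∧ y ≠ 1) →
    (y = c₀ ∨ y = zb s * b₀ ∨ y = zb s * b₀ * c₀ ∨ y = zb t * d₀ ∨ y = zb t * d₀ * c₀) := by decide +kernel

theorem t14 : ∀ s t, (zb s * b₀ * (zb s * b₀) = 1 ∧ ¬ isZ (zb s * b₀)) ∧ (zb t * d₀ * (zb t * d₀) = 1 ∧ ¬ isZ (zb t * d₀)) := by
  decide +kernel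

theorem L₁_one : (1 : Y) ∈ L₁ := by decide +kernel

theorem L₁_mul : ∀ x y : Y, (x ∈ L₁ ∧ y ∈ L₁) → x * y ∈ L₁ := by decide +kernel

theorem L₁_inv : ∀ x : Y, x ∈ L₁ → x⁻¹ ∈ L₁ := by decide +kernel

theorem L₁_nodup : L₁.Nodup := by decide +kernel

theorem L₁_inv_el : ∀ y : Y, (y ∈ L₁ ∧ y * y = 1) → isZ y := by decide +kernel

/-- a subgroup of `Y` from a list -/
def subOf (l : List Y) (h1 : (1 : Y) ∈ l) (hm : ∀ x y : Y, (x ∈ l ∧ y ∈ l) → x * y ∈ l) (hi : ∀ x : Y, x ∈ l → x⁻¹ ∈ l) :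
    Subgroup Y where
  carrier := {x | x ∈ l}
  mul_mem' := fun {a b} ha hb => hm a b ⟨ha, hb⟩
  one_mem' := h1
  inv_mem' := fun {a} ha => hi a ha

theorem card_subOf (l : List Y) (h1 : (1 : Y) ∈ l) (hm : ∀ x y : Y, (x ∈ l ∧ y ∈ l) → x * y ∈ l) (hi : ∀ x : Y, x ∈ l → x⁻¹ ∈ l)
    (hnd : l.Nodup) : Nat.card (subOf l h1 hm hi) = l.length := by
  classical
  have h : ((subOf l h1 hm hi : Subgroup Y) : Set Y) = (l.toFinset : Set Y) := by
    ext x
    simp [subOf]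
  change Nat.card ((subOf l h1 hm hi : Subgroup Y) : Set Y) = _
  rw [h, Nat.card_coe_set_eq, Set.ncard_coe_finset, List.toFinset_card_of_nodup hnd]

/-- A subgroup of order `8` of `Y` contains `c₀`. -/
theorem c_mem (W : Subgroup Y) (hW : Nat.card W = 8) : c₀ ∈ W := by
  have hi : W.index = 2 := by
    have h1 := W.index_mul_card
    rw [hW, t7] at h1
    omega
  rw [t6]
  have e : ∀ x y : Y, (x * y ∈ W ↔ (x ∈ W ↔ y ∈ W)) := fun x y => Subgroup.mul_mem_iff_of_index_two hi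
  have ei : ∀ x : Y, x⁻¹ ∈ W ↔ x ∈ W := fun x => inv_mem_iff
  rw [e, e, e, ei, ei]
  tauto

variable {G : Type*} [Group G] [Finite G]

/-- conjugate central elements are conjugate in the normalizer -/
theorem burn (S : Sylow 2 G) (w w' f : G) (hw : ∀ s ∈ (S : Subgroup G), s * w = w * s)
    (hw' : ∀ s ∈ (S : Subgroup G), s * w' = w' * s) (hf : f * w * f⁻¹ = w') :
    ∃ n : G, (∀ y, y ∈ (S : Subgroup G) ↔ n⁻¹ * y * n ∈ (S : Subgroup G)) ∧ n * w * n⁻¹ = w' := by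
  let C := centralizer ({w'} : Set G)
  have hS : (S : Subgroup G) ≤ C := fun s hs => mem_centralizer_singleton_iff.2 (hw' s hs)
  have hfS : ((f • S : Sylow 2 G) : Subgroup G) ≤ C := by
    intro y hy
    rw [mem_smul_sylow_iff] at hy
    apply mem_centralizer_singleton_iff.2
    have h1 := hw _ hy
    calc y * w' = y * (f * w * f⁻¹) := by rw [hf]
      _ = f * ((f⁻¹ * y * f) * w) * f⁻¹ := by group
      _ = f * (w * (f⁻¹ * y * f)) * f⁻¹ := by rw [h1]
      _ = (f * w * f⁻¹) * y := by group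
      _ = w' * y := by rw [hf]
  obtain ⟨k, hkC, hk⟩ := Cfsg.Agent.Lib.CentralSylow.exists_conj 2 C (f • S) S hfS hS
  refine ⟨k * f, ?_, ?_⟩
  · intro y
    rw [hk, mem_smul_sylow_iff]
    have : f⁻¹ * (k⁻¹ * y * k) * f = (k * f)⁻¹ * y * (k * f) := by group
    rw [this]
  · have h1 : k * w' = w' * k := mem_centralizer_singleton_iff.1 hkC
    calc k * f * w * (k * f)⁻¹ = k * (f * w * f⁻¹) * k⁻¹ := by group
      _ = k * w' * k⁻¹ := by rw [hf]
      _ = w' := by rw [h1]; group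

/-- the Sylow move -/
theorem sylow_move (S : Sylow 2 G) (u w f : G) (M : Subgroup G) (hM : M ≤ S) (hu : ∀ m ∈ M, m * u = u * m)
    (hw : ∀ s ∈ (S : Subgroup G), s * w = w * s) (hf : f * u * f⁻¹ = w) :
    ∃ f' : G, f' * u * f'⁻¹ = w ∧ ∀ m ∈ M, f' * m * f'⁻¹ ∈ (S : Subgroup G) := by
  haveI : Fact (Nat.Prime 2) := ⟨Nat.prime_two⟩
  let C := centralizer ({w} : Set G)
  have hSC : (S : Subgroup G) ≤ C := fun s hs => mem_centralizer_singleton_iff.2 (hw s hs)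
  have hmC : ∀ m ∈ M, f * m * f⁻¹ ∈ C := by
    intro m hm
    apply mem_centralizer_singleton_iff.2
    calc f * m * f⁻¹ * w = f * m * f⁻¹ * (f * u * f⁻¹) := by rw [hf]
      _ = f * (m * u) * f⁻¹ := by group
      _ = f * (u * m) * f⁻¹ := by rw [hu m hm]
      _ = (f * u * f⁻¹) * (f * m * f⁻¹) := by group
      _ = w * (f * m * f⁻¹) := by rw [hf]
  let K : Subgroup C := (M.map (MulAut.conj f).toMonoidHom).subgroupOf C
  have hK : IsPGroup 2 K := by
    have h1 : IsPGroup 2 M := S.isPGroup'.to_le hM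
    have h2 := h1.map (MulAut.conj f).toMonoidHom
    exact h2.comap_of_injective C.subtype Subtype.val_injective
  obtain ⟨Q₀, hQ₀⟩ := hK.exists_le_sylow
  obtain ⟨k, hk⟩ := MulAction.exists_smul_eq C Q₀ (S.subtype hSC)
  refine ⟨(k : G) * f, ?_, ?_⟩
  · have h1 : (k : G) * w = w * k := mem_centralizer_singleton_iff.1 k.2
    calc (k : G) * f * u * ((k : G) * f)⁻¹ = (k : G) * (f * u * f⁻¹) * (k : G)⁻¹ := by group
      _ = (k : G) * w * (k : G)⁻¹ := by rw [hf]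
      _ = w := by rw [h1]; group
  · intro m hm
    have h1 : (⟨f * m * f⁻¹, hmC m hm⟩ : C) ∈ (Q₀ : Subgroup C) := by
      apply hQ₀
      rw [Subgroup.mem_subgroupOf]
      exact ⟨m, hm, rfl⟩
    have h2 : k * ⟨f * m * f⁻¹, hmC m hm⟩ * k⁻¹ ∈ ((k • Q₀ : Sylow 2 C) : Subgroup C) := by
      rw [mem_smul_sylow_iff]
      have : k⁻¹ * (k * ⟨f * m * f⁻¹, hmC m hm⟩ * k⁻¹) * k = ⟨f * m * f⁻¹, hmC m hm⟩ := by group
      rw [this]
      exact h1
    rw [hk, Sylow.coe_subtype, Subgroup.mem_subgroupOf] at h2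
    have h3 : (k : G) * f * m * ((k : G) * f)⁻¹ = (k : G) * (f * m * f⁻¹) * (k : G)⁻¹ := by group
    rw [h3]
    exact h2

/-- the case where the conjugating element centralizes `c` -/
theorem lemma_A (S : Sylow 2 G) (u w c f : G) (hc2 : c * c = 1) (hcS : ∀ s ∈ (S : Subgroup G), s * c = c * s)
    (hwS : ∀ s ∈ (S : Subgroup G), s * w = w * s) (huS : ∀ s ∈ (S : Subgroup G), s * u * s⁻¹ = u ∨ s * u * s⁻¹ = u * c)
    (hfu : f * u * f⁻¹ = w) (hfc : f * c * f⁻¹ = c) :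
    ∃ n : G, (∀ y, y ∈ (S : Subgroup G) ↔ n⁻¹ * y * n ∈ (S : Subgroup G)) ∧ (n * u * n⁻¹ = w ∨ n * u * n⁻¹ = w * c) := by
  have hcinv : c⁻¹ = c := inv_eq_of_mul_eq_one_left hc2
  let D : Subgroup G :=
    { carrier := {x | x * c = c * x ∧ (x * w * x⁻¹ = w ∨ x * w * x⁻¹ = w * c)}
      mul_mem' := by
        rintro a b ⟨ha1, ha2⟩ ⟨hb1, hb2⟩
        have hac : a * c * a⁻¹ = c := by rw [ha1]; group
        refine ⟨by rw [mul_assoc, hb1, ← mul_assoc, ha1, mul_assoc], ?_⟩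
        have e : ∀ x, a * b * x * (a * b)⁻¹ = a * (b * x * b⁻¹) * a⁻¹ := fun x => by group
        rw [e]
        rcases hb2 with hb2 | hb2 <;> rw [hb2]
        · exact ha2
        · have e2 : a * (w * c) * a⁻¹ = (a * w * a⁻¹) * (a * c * a⁻¹) := by group
          rw [e2, hac]
          rcases ha2 with ha2 | ha2 <;> rw [ha2]
          · exact Or.inr rfl
          · left
            rw [mul_assoc, hc2, mul_one]
      one_mem' := ⟨by simp, Or.inl (by simp)⟩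
      inv_mem' := by
        rintro a ⟨ha1, ha2⟩
        have hac : a⁻¹ * c * a = c := by
          calc a⁻¹ * c * a = a⁻¹ * (c * a) := by group
            _ = a⁻¹ * (a * c) := by rw [ha1]
            _ = c := by group
        refine ⟨?_, ?_⟩
        · calc a⁻¹ * c = a⁻¹ * c * a * a⁻¹ := by group
            _ = c * a⁻¹ := by rw [hac]
        · rcases ha2 with ha2 | ha2
          · left
            calc a⁻¹ * w * a⁻¹⁻¹ = a⁻¹ * w * a := by rw [inv_inv]
              _ = a⁻¹ * (a * w * a⁻¹) * a := by rw [ha2]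
              _ = w := by group
          · right
            have h1 : w = a⁻¹ * (a * w * a⁻¹) * a := by group
            have h2 : a⁻¹ * w * a = w * c := by
              calc a⁻¹ * w * a = a⁻¹ * (w * c * c) * a := by rw [mul_assoc w, hc2, mul_one]
                _ = a⁻¹ * (a * w * a⁻¹) * a * (a⁻¹ * c * a) := by rw [ha2]; group
                _ = w * c := by rw [hac]; group
            simpa using h2 }
  have hSD : (S : Subgroup G) ≤ D := by
    intro s hs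
    refine ⟨hcS s hs, Or.inl ?_⟩
    rw [hwS s hs]
    group
  have hfD : ((f • S : Sylow 2 G) : Subgroup G) ≤ D := by
    intro y hy
    rw [mem_smul_sylow_iff] at hy
    set s := f⁻¹ * y * f with hs
    have hy' : y = f * s * f⁻¹ := by rw [hs]; group
    have hcf : f⁻¹ * c * f = c := by
      calc f⁻¹ * c * f = f⁻¹ * (f * c * f⁻¹) * f := by rw [hfc]
        _ = c := by group
    refine ⟨?_, ?_⟩
    · rw [hy']
      have h1 := hcS s hy
      calc f * s * f⁻¹ * c = f * s * (f⁻¹ * c * f) * f⁻¹ := by group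
        _ = f * (s * c) * f⁻¹ := by rw [hcf]; group
        _ = f * (c * s) * f⁻¹ := by rw [h1]
        _ = (f * c * f⁻¹) * (f * s * f⁻¹) := by group
        _ = c * (f * s * f⁻¹) := by rw [hfc]
    · have e : y * w * y⁻¹ = f * (s * u * s⁻¹) * f⁻¹ := by
        rw [hy', ← hfu]
        group
      rw [e]
      rcases huS s hy with h1 | h1 <;> rw [h1]
      · left
        exact hfu
      · right
        calc f * (u * c) * f⁻¹ = (f * u * f⁻¹) * (f * c * f⁻¹) := by group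
          _ = w * c := by rw [hfu, hfc]
  obtain ⟨k, hkD, hk⟩ := Cfsg.Agent.Lib.CentralSylow.exists_conj 2 D (f • S) S hfD hSD
  refine ⟨k * f, ?_, ?_⟩
  · intro y
    rw [hk, mem_smul_sylow_iff]
    have : f⁻¹ * (k⁻¹ * y * k) * f = (k * f)⁻¹ * y * (k * f) := by group
    rw [this]
  · have e : k * f * u * (k * f)⁻¹ = k * (f * u * f⁻¹) * k⁻¹ := by group
    rw [e, hfu]
    exact hkD.2

section main

variable (S : Sylow 2 G) (φ : Y →* G) (hφ : Function.Injective φ)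
  (hφS : ∀ x, x ∈ (S : Subgroup G) ↔ ∃ y, φ y = x)

include hφS in
theorem phi_mem (y : Y) : φ y ∈ (S : Subgroup G) := (hφS _).2 ⟨y, rfl⟩

include hφ hφS in
/-- conjugation by a normalizing element fixes `c` -/
theorem norm_c (n : G) (hn : ∀ y, y ∈ (S : Subgroup G) ↔ n⁻¹ * y * n ∈ (S : Subgroup G)) :
    n * φ c₀ * n⁻¹ = φ c₀ := by
  have hm : ∀ y : Y, ∃ y' : Y, φ y' = n * φ y * n⁻¹ := by
    intro y
    apply (hφS _).1
    rw [hn]
    have : n⁻¹ * (n * φ y * n⁻¹) * n = φ y := by group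
    rw [this]
    exact phi_mem S φ hφS y
  obtain ⟨a', ha'⟩ := hm a₀
  obtain ⟨b', hb'⟩ := hm b₀
  have e : n * φ c₀ * n⁻¹ = φ (a' * b' * a'⁻¹ * b'⁻¹) := by
    rw [map_mul, map_mul, map_mul, map_inv, map_inv, ha', hb', t6, map_mul, map_mul, map_mul, map_inv, map_inv]
    group
  rcases t5 a' b' with h | h
  · rw [h, map_one] at e
    exfalso
    apply t8
    apply hφ
    rw [map_one]
    have h2 : φ c₀ = n⁻¹ * (n * φ c₀ * n⁻¹) * n := by group
    rw [h2, e]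
    group
  · rw [h] at e
    exact e

include hφ in
theorem inv_of_conj (f : G) {x y : Y} (h : f * φ x * f⁻¹ = φ y) (hx : x * x = 1) : y * y = 1 := by
  apply hφ
  rw [map_mul, map_one, ← h]
  have : f * φ x * f⁻¹ * (f * φ x * f⁻¹) = f * (φ x * φ x) * f⁻¹ := by group
  rw [this, ← map_mul, hx, map_one]
  group

include hφS in
theorem central_of_isZ (y : Y) (hy : isZ y) : ∀ s ∈ (S : Subgroup G), s * φ y = φ y * s := by
  intro s hs
  obtain ⟨x, rfl⟩ := (hφS s).1 hs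
  rw [← map_mul, ← map_mul, isZ_central y x hy]

include hφ hφS in
/-- Step A. -/
theorem step_A (hno : ∀ H : Subgroup G, H.index ≠ 2) (hcard : Nat.card (S : Subgroup G) = 16)
    (u₀ : Y) (hu₀ : u₀ * u₀ = 1) (hu₀Z : ¬ isZ u₀) :
    IsConj (φ u₀) (φ c₀) ∨ IsConj (φ (u₀ * z₀)) (φ c₀) := by
  classical
  -- Thompson transfer
  let T₁ : Subgroup Y := subOf L₁ L₁_one L₁_mul L₁_inv
  have hT₁ : Nat.card T₁ = 8 := card_subOf L₁ L₁_one L₁_mul L₁_inv L₁_nodup
  obtain ⟨g, hg⟩ : ∃ g : G, g * φ u₀ * g⁻¹ ∈ T₁.map φ := by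
    by_contra hcon
    push Not at hcon
    refine Cfsg.Agent.Lib.ThompsonTransfer.thompson_transfer hno S (T₁.map φ) ?_ ?_ (φ u₀) ?_ hcon
    · rintro _ ⟨y, -, rfl⟩
      exact phi_mem S φ hφS y
    · rw [Subgroup.card_map_of_injective hφ, hT₁, hcard]
    · rw [← map_mul, hu₀, map_one]
  obtain ⟨x₀, hx₀, hxg⟩ := hg
  have hxg' : g * φ u₀ * g⁻¹ = φ x₀ := hxg.symm
  have hx₀2 : x₀ * x₀ = 1 := inv_of_conj φ hφ g hxg' hu₀
  have hx₀Z : isZ x₀ := L₁_inv_el x₀ ⟨hx₀, hx₀2⟩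
  have hwS := central_of_isZ S φ hφS x₀ hx₀Z
  -- the centralizer of `u₀`
  let C₀ : Subgroup Y := centralizer ({u₀} : Set Y)
  have hC₀card : Nat.card C₀ = 8 := by
    have h1 := t2 u₀ ⟨hu₀, hu₀Z⟩
    rw [← h1, Nat.card_eq_fintype_card, Fintype.card_subtype]
    congr 1
    ext y
    simp [C₀, mem_centralizer_singleton_iff]
  let M : Subgroup G := C₀.map φ
  have hM : M ≤ (S : Subgroup G) := by
    rintro _ ⟨y, -, rfl⟩
    exact phi_mem S φ hφS y
  have hMu : ∀ m ∈ M, m * φ u₀ = φ u₀ * m := by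
    rintro _ ⟨y, hy, rfl⟩
    have h1 : y * u₀ = u₀ * y := mem_centralizer_singleton_iff.1 hy
    rw [← map_mul, ← map_mul, h1]
  obtain ⟨f, hf, hfm⟩ := sylow_move S (φ u₀) (φ x₀) g M hM hMu hwS hxg'
  -- `c` lies in the image of `M`
  let W₀ : Subgroup Y := (M.map (MulAut.conj f).toMonoidHom).comap φ
  have hWle : M.map (MulAut.conj f).toMonoidHom ≤ φ.range := by
    rintro _ ⟨m, hm, rfl⟩
    exact (hφS _).1 (hfm m hm)
  have hW₀ : Nat.card W₀ = 8 := by
    have h1 : W₀.map φ = M.map (MulAut.conj f).toMonoidHom := Subgroup.map_comap_eq_self hWle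
    have h2 : Nat.card (W₀.map φ) = Nat.card W₀ := Subgroup.card_map_of_injective hφ
    rw [← h2, h1, Subgroup.card_map_of_injective (MulAut.conj f).injective, Subgroup.card_map_of_injective hφ, hC₀card]
  obtain ⟨m, ⟨y₀, hy₀, rfl⟩, hm⟩ := c_mem W₀ hW₀
  have hfy : f * φ y₀ * f⁻¹ = φ c₀ := hm
  have hy₀u : y₀ * u₀ = u₀ * y₀ := mem_centralizer_singleton_iff.1 hy₀
  have hcS := central_of_isZ S φ hφS c₀ (Or.inr (Or.inr (Or.inl rfl)))
  by_cases hyZ : isZ y₀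
  · -- the central case
    exfalso
    have hyS := central_of_isZ S φ hφS y₀ hyZ
    obtain ⟨n, hn, hn2⟩ := burn S (φ y₀) (φ c₀) f hyS hcS hfy
    have h1 := norm_c S φ hφ hφS n hn
    have h2 : φ y₀ = φ c₀ := by
      have h3 : n * φ y₀ * n⁻¹ = n * φ c₀ * n⁻¹ := by rw [hn2, h1]
      have h4 := mul_right_cancel h3
      exact mul_left_cancel h4
    have hfc : f * φ c₀ * f⁻¹ = φ c₀ := by
      have h3 := hfy
      rwa [h2] at h3
    have huS : ∀ s ∈ (S : Subgroup G), s * φ u₀ * s⁻¹ = φ u₀ ∨ s * φ u₀ * s⁻¹ = φ u₀ * φ c₀ := by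
      intro s hs
      obtain ⟨x, rfl⟩ := (hφS s).1 hs
      rcases t4 x u₀ with h | h
      · left
        rw [← map_mul, ← map_inv, ← map_mul, h]
      · right
        rw [← map_mul, ← map_inv, ← map_mul, h, map_mul]
    have hcc : φ c₀ * φ c₀ = 1 := by rw [← map_mul, t9, map_one]
    obtain ⟨n', hn', hn'2⟩ := lemma_A S (φ u₀) (φ x₀) (φ c₀) f hcc hcS hwS huS hf hfc
    apply hu₀Z
    apply central_isZ
    intro x
    -- `u₀` central
    have hx : φ x ∈ (S : Subgroup G) := phi_mem S φ hφS x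
    have hnx : n' * φ x * n'⁻¹ ∈ (S : Subgroup G) := by
      rw [hn']
      have : n'⁻¹ * (n' * φ x * n'⁻¹) * n' = φ x := by group
      rw [this]
      exact hx
    have hcomm : (n' * φ x * n'⁻¹) * (n' * φ u₀ * n'⁻¹) = (n' * φ u₀ * n'⁻¹) * (n' * φ x * n'⁻¹) := by
      have gen : ∀ x' w c : G, x' * w = w * x' → x' * c = c * x' → x' * (w * c) = (w * c) * x' := by
        intro x' w c h1 h2
        rw [← mul_assoc, h1, mul_assoc, h2, mul_assoc]
      rcases hn'2 with h | h <;> rw [h]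
      · exact hwS _ hnx
      · exact gen _ _ _ (hwS _ hnx) (hcS _ hnx)
    have h5 : φ x * φ u₀ = φ u₀ * φ x := by
      have h6 : n' * (φ x * φ u₀) * n'⁻¹ = n' * (φ u₀ * φ x) * n'⁻¹ := by
        calc n' * (φ x * φ u₀) * n'⁻¹ = (n' * φ x * n'⁻¹) * (n' * φ u₀ * n'⁻¹) := by group
          _ = (n' * φ u₀ * n'⁻¹) * (n' * φ x * n'⁻¹) := hcomm
          _ = n' * (φ u₀ * φ x) * n'⁻¹ := by group
      exact mul_left_cancel (mul_right_cancel h6)
    apply hφ
    rw [map_mul, map_mul, h5]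
  · -- the non-central case
    have hyc : IsConj (φ y₀) (φ c₀) := isConj_iff.2 ⟨f, hfy⟩
    have hS_conj : ∀ v : Y, (v * v = 1 ∧ ¬ isZ v) → IsConj (φ v) (φ (v * c₀)) := by
      intro v hv
      obtain ⟨t, ht⟩ := t3 v hv
      refine isConj_iff.2 ⟨φ t, ?_⟩
      rw [← map_inv, ← map_mul, ← map_mul, ht]
    have hv2 := t3' u₀ ⟨hu₀, hu₀Z⟩
    rcases t1 u₀ y₀ ⟨hy₀u, hu₀, hu₀Z, hyZ⟩ with h | h | h | h
    · left
      rw [h] at hyc
      exact hyc
    · left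
      rw [h] at hyc
      exact (hS_conj u₀ ⟨hu₀, hu₀Z⟩).trans hyc
    · right
      rw [h] at hyc
      exact hyc
    · right
      rw [h] at hyc
      exact (hS_conj (u₀ * z₀) hv2).trans hyc

end main

/-- A finite group whose Sylow 2-subgroups are isomorphic to the direct product of a group of order 2 and a dihedral group of order 8 has a subgroup of index two. -/
theorem result {G : Type*} [Group G] [Finite G] (S : Sylow 2 G) (hS : Nonempty (↥(S : Subgroup G) ≃* Multiplicative (ZMod 2) × DihedralGroup 4)) : ∃ H : Subgroup G, H.index = 2 := by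

  classical
  by_contra hnoex
  push Not at hnoex
  obtain ⟨e⟩ := hS
  let φ : Y →* G := (S : Subgroup G).subtype.comp e.symm.toMonoidHom
  have hφ : Function.Injective φ := fun x y h => e.symm.injective (Subtype.val_injective h)
  have hφS : ∀ x, x ∈ (S : Subgroup G) ↔ ∃ y, φ y = x := by
    intro x
    constructor
    · intro hx
      exact ⟨e ⟨x, hx⟩, by simp [φ]⟩
    · rintro ⟨y, rfl⟩
      exact (e.symm y).2
  have hcard : Nat.card (S : Subgroup G) = 16 := by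
    rw [Nat.card_congr e.toEquiv]
    exact t7
  obtain ⟨s, hs⟩ : ∃ s : Bool, IsConj (φ (zb s * b₀)) (φ c₀) := by
    rcases step_A S φ hφ hφS hnoex hcard b₀ t13.1.1 t13.1.2 with h | h
    · exact ⟨false, by rw [← t13.2.2.2.2.1]; exact h⟩
    · exact ⟨true, by rw [← t13.2.2.1]; exact h⟩
  obtain ⟨t, ht⟩ : ∃ t : Bool, IsConj (φ (zb t * d₀)) (φ c₀) := by
    rcases step_A S φ hφ hφS hnoex hcard d₀ t13.2.1.1 t13.2.1.2 with h | h
    · exact ⟨false, by rw [← t13.2.2.2.2.2]; exact h⟩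
    · exact ⟨true, by rw [← t13.2.2.2.1]; exact h⟩
  have hS_conj : ∀ v : Y, (v * v = 1 ∧ ¬ isZ v) → IsConj (φ v) (φ (v * c₀)) := by
    intro v hv
    obtain ⟨t, ht⟩ := t3 v hv
    refine isConj_iff.2 ⟨φ t, ?_⟩
    rw [← map_inv, ← map_mul, ← map_mul, ht]
  have hs' : IsConj (φ (zb s * b₀ * c₀)) (φ c₀) := (hS_conj _ (t14 s t).1).symm.trans hs
  have ht' : IsConj (φ (zb t * d₀ * c₀)) (φ c₀) := (hS_conj _ (t14 s t).2).symm.trans ht
  -- Thompson transfer for the complement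
  let T : Subgroup Y := subOf (L s t) (L_one s t) (L_mul s t) (L_inv s t)
  have hT : Nat.card T = 8 := card_subOf (L s t) (L_one s t) (L_mul s t) (L_inv s t) (L_nodup s t)
  obtain ⟨g, hg⟩ : ∃ g : G, g * φ z₀ * g⁻¹ ∈ T.map φ := by
    by_contra hcon
    push Not at hcon
    refine Cfsg.Agent.Lib.ThompsonTransfer.thompson_transfer hnoex S (T.map φ) ?_ ?_ (φ z₀) ?_ hcon
    · rintro _ ⟨y, -, rfl⟩
      exact phi_mem S φ hφS y
    · rw [Subgroup.card_map_of_injective hφ, hT, hcard]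
    · rw [← map_mul, t12, map_one]
  obtain ⟨y₀, hy₀, hyg⟩ := hg
  have hyg' : g * φ z₀ * g⁻¹ = φ y₀ := hyg.symm
  have hy₀2 : y₀ * y₀ = 1 := inv_of_conj φ hφ g hyg' t12
  have hy₀1 : y₀ ≠ 1 := by
    rintro rfl
    rw [map_one] at hyg'
    apply t11
    apply hφ
    rw [map_one]
    have h1 : g * φ z₀ = g := by rwa [mul_inv_eq_one] at hyg'
    simpa using h1
  have hzy : IsConj (φ z₀) (φ y₀) := isConj_iff.2 ⟨g, hyg'⟩
  have hzc : IsConj (φ z₀) (φ c₀) := by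
    rcases L_inv_el s t y₀ ⟨hy₀, hy₀2, hy₀1⟩ with h | h | h | h | h <;> rw [h] at hzy
    · exact hzy
    · exact hzy.trans hs
    · exact hzy.trans hs'
    · exact hzy.trans ht
    · exact hzy.trans ht'
  obtain ⟨f, hf⟩ := isConj_iff.1 hzc
  have hzS := central_of_isZ S φ hφS z₀ (Or.inr (Or.inl rfl))
  have hcS := central_of_isZ S φ hφS c₀ (Or.inr (Or.inr (Or.inl rfl)))
  obtain ⟨n, hn, hn2⟩ := burn S (φ z₀) (φ c₀) f hzS hcS hf
  have h1 := norm_c S φ hφ hφS n hn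
  have h2 : φ z₀ = φ c₀ := by
    have h3 : n * φ z₀ * n⁻¹ = n * φ c₀ * n⁻¹ := by rw [hn2, h1]
    exact mul_left_cancel (mul_right_cancel h3)
  exact t10 (hφ h2)

end Cfsg.Agent.S2911
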