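import Cfsg.Statements.S3081
import Cfsg.Agent.Lib.LZJF3
-- import your own Cfsg.Agent.* helpers here

set_option autoImplicit false
open Cfsg

namespace Cfsg.Agent.S3081

/-- Let p be an odd prime, G a finite group in which Qd(p) (the natural semidirect product of an elementary abelian group of order p² by SL₂(p)) is not involved, P a Sylow p-subgroup and D a subgroup of P strongly closed in P with respect to G. Then N_G(Z(J(D))) controls strong G-fusion in P (for every subset A of P and every g ∈ G with gAg⁻¹ ⊆ P, some element of that normalizer acts on A exactly as g does; J(D) is generated by the abelian subgroups of D of largest order), and so does N_G(Ω₁(Z(J_e(D)))) (J_e(D) generated by the elementary abelian subgroups of largest order). -/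
theorem result {G : Type*} [Group G] [Finite G] {p : ℕ} [Fact p.Prime] (hp : p ≠ 2) (P : Sylow p G) (D : Subgroup G) (hD : Cfsg.IsStronglyClosed D (P : Subgroup G)) (hqd : ¬ Cfsg.Involves ↥(Cfsg.qd p) G) : (∀ A : Set G, A ⊆ (P : Subgroup G) → Cfsg.ControlsStrongFusionOf (Subgroup.normalizer ((Cfsg.centerThompsonAOf D) : Set G)) (P : Subgroup G) A) ∧ (∀ A : Set G, A ⊆ (P : Subgroup G) → Cfsg.ControlsStrongFusionOf (Subgroup.normalizer ((Cfsg.omegaOne p (Cfsg.centerThompsonOf p D)) : Set G)) (P : Subgroup G) A) := by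
  constructor
  · intro A hA
    have hL : Cfsg.Agent.Lib.LZJD.DAxioms p (fun G _ T => Cfsg.centerThompsonAOf T) := by
      refine ⟨fun G _ T => inf_le_left.trans (Cfsg.Agent.Lib.PZJ.thompsonAOf_le T),
        fun G H _ _ f T h => Cfsg.Agent.Lib.PZJ.centerThompsonAOf_map f T h,
        fun G _ _ T hT hne => Cfsg.Agent.Lib.PZJ.centerThompsonAOf_ne_bot hT hne⟩
    have hmain := Cfsg.Agent.Lib.LZJF.control_free hp hL (by
      intro G _ _ P D hD hc hst
      exact Cfsg.Agent.Lib.LZJD.centerThompsonA_normal_D hp hc hst P D hD) _ G rfl hqd P D hD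
    refine ⟨hA, fun g hg => ?_⟩
    have hcl : Subgroup.closure A ≤ (P : Subgroup G) := (Subgroup.closure_le _).2 hA
    have hgcl : ∀ b ∈ Subgroup.closure A, g * b * g⁻¹ ∈ (P : Subgroup G) := by
      have : Subgroup.closure A ≤ (P : Subgroup G).comap (MulAut.conj g).toMonoidHom := by
        rw [Subgroup.closure_le]
        intro a ha
        exact hg ⟨a, ha, rfl⟩
      intro b hb
      simpa using this hb
    obtain ⟨z, hz, hze⟩ := hmain (Subgroup.closure A) hcl g hgcl
    exact ⟨z, hz, fun a ha => hze a (Subgroup.subset_closure ha)⟩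
  · intro A hA
    have hL : Cfsg.Agent.Lib.LZJD.DAxioms p (fun G _ T => Cfsg.omegaOne p (Cfsg.centerThompsonOf p T)) := by
      refine ⟨fun G _ T => (Cfsg.Agent.Lib.LZJD.omegaOne_le' _).trans (Cfsg.Agent.Lib.PZJ.centerThompsonOf_le T), ?_, ?_⟩
      · intro G H _ _ f T h
        change Cfsg.omegaOne p (Cfsg.centerThompsonOf p (T.map f)) = (Cfsg.omegaOne p (Cfsg.centerThompsonOf p T)).map f
        rw [Cfsg.Agent.Lib.PZJ.centerThompsonOf_map f T h p]
        exact Cfsg.Agent.Lib.LZJD.omegaOne_map_of_inj f _ (fun x hx hx1 => h x (Cfsg.Agent.Lib.PZJ.centerThompsonOf_le T hx) hx1)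
      · intro G _ _ T hT hne
        exact Cfsg.Agent.Lib.LZJD.omegaOne_ne_bot (hT.to_le (Cfsg.Agent.Lib.PZJ.centerThompsonOf_le T)) (Cfsg.Agent.Lib.PZJ.centerThompsonOf_ne_bot hT hne)
    have hmain := Cfsg.Agent.Lib.LZJF.control_free hp hL (by
      intro G _ _ P D hD hc hst
      haveI := Cfsg.Agent.Lib.LZJD.centerThompson_normal_D hp hc hst P D hD
      exact Cfsg.Agent.Lib.PZJ.omegaOne_normal _) _ G rfl hqd P D hD
    refine ⟨hA, fun g hg => ?_⟩
    have hcl : Subgroup.closure A ≤ (P : Subgroup G) := (Subgroup.closure_le _).2 hA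
    have hgcl : ∀ b ∈ Subgroup.closure A, g * b * g⁻¹ ∈ (P : Subgroup G) := by
      have : Subgroup.closure A ≤ (P : Subgroup G).comap (MulAut.conj g).toMonoidHom := by
        rw [Subgroup.closure_le]
        intro a ha
        exact hg ⟨a, ha, rfl⟩
      intro b hb
      simpa using this hb
    obtain ⟨z, hz, hze⟩ := hmain (Subgroup.closure A) hcl g hgcl
    exact ⟨z, hz, fun a ha => hze a (Subgroup.subset_closure ha)⟩

end Cfsg.Agent.S3081
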