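import Cfsg.Statements.S3554

set_option autoImplicit false
open Cfsg

namespace Cfsg.Agent.S3554

/-- Let G act faithfully and transitively on a finite set and suppose G has a non-trivial cyclic normal subgroup. Then some element of G of prime order fixes no point. -/
theorem result {G Ω : Type*} [Group G] [Finite G] [MulAction G Ω] [FaithfulSMul G Ω] [Finite Ω]
    (htrans : MulAction.IsPretransitive G Ω) (C : Subgroup G) (hC : C.Normal) (hC1 : C ≠ ⊥) (hcyc : IsCyclic ↥C) :
    ∃ g : G, (orderOf g).Prime ∧ ∀ ω : Ω, g • ω ≠ ω := by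
  classical
  have hnt : Nontrivial C := by
    rw [Subgroup.nontrivial_iff_ne_bot]
    exact hC1
  -- an element of prime order in `C`
  obtain ⟨p, hp, hpd⟩ : ∃ p : ℕ, p.Prime ∧ p ∣ Nat.card C := by
    have : Nat.card C ≠ 1 := by
      rw [Ne, Subgroup.card_eq_one]
      exact hC1
    exact ⟨_, Nat.minFac_prime this, Nat.minFac_dvd _⟩
  have hpf : Fact p.Prime := ⟨hp⟩
  obtain ⟨x, hx⟩ := exists_prime_orderOf_dvd_card' (G := C) p hpd
  have hx' : orderOf x.1 = p := by rw [Subgroup.orderOf_coe, hx]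
  refine ⟨x.1, by rw [hx']; exact hp, ?_⟩
  intro ω hω
  -- every conjugate of `x` is a power of `x`
  obtain ⟨c, hc⟩ := IsCyclic.exists_generator (α := C)
  have hconj : ∀ g : G, ∃ k : ℤ, g * x.1 * g⁻¹ = x.1 ^ k := by
    intro g
    obtain ⟨a, ha⟩ := Subgroup.mem_zpowers_iff.1 (hc x)
    obtain ⟨e, he⟩ := Subgroup.mem_zpowers_iff.1 (hc ⟨g * c.1 * g⁻¹, hC.conj_mem _ c.2 g⟩)
    have he' : c.1 ^ e = g * c.1 * g⁻¹ := congrArg Subtype.val he
    have ha' : c.1 ^ a = x.1 := congrArg Subtype.val ha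
    refine ⟨e, ?_⟩
    rw [← ha', ← MulAut.conj_apply, map_zpow, MulAut.conj_apply, ← he', ← zpow_mul, ← zpow_mul, mul_comm]
  have hfix : ∀ y : Ω, x.1 • y = y := by
    intro y
    obtain ⟨g, rfl⟩ := MulAction.exists_smul_eq G ω y
    obtain ⟨k, hk⟩ := hconj g⁻¹
    have h1 : g⁻¹ * x.1 * g = x.1 ^ k := by simpa using hk
    have h2 : x.1 * g = g * x.1 ^ k := by rw [← h1]; group
    rw [← mul_smul, h2, mul_smul]
    have h3 : x.1 ^ k ∈ MulAction.stabilizer G ω := Subgroup.zpow_mem _ hω k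
    have h4 : x.1 ^ k • ω = ω := h3
    rw [h4]
  have h1 : x.1 = 1 := by
    apply FaithfulSMul.eq_of_smul_eq_smul (α := Ω)
    intro y
    simpa using hfix y
  have : orderOf x.1 = 1 := by rw [h1, orderOf_one]
  rw [hx'] at this
  exact hp.one_lt.ne' this

end Cfsg.Agent.S3554
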