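import Cfsg.Statements.S3555
import Mathlib

set_option autoImplicit false
open Cfsg

namespace Cfsg.Agent.S3555

open Cfsg Finset
open scoped Pointwise

section
variable {G Ω : Type*} [Group G] [Fintype G] [MulAction G Ω] [Fintype Ω] [DecidableEq Ω] [DecidableEq G]

/-- number of fixed points -/
noncomputable def fx (g : G) : ℕ := (univ.filter (fun x : Ω => g • x = x)).card

lemma fx_le (g : G) : fx (Ω := Ω) g ≤ Fintype.card Ω := Finset.card_le_univ _

lemma stab_card (htrans : MulAction.IsPretransitive G Ω) (x : Ω) :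
    (univ.filter (fun g : G => g • x = x)).card * Fintype.card Ω = Fintype.card G := by
  classical
  have h3 := Subgroup.card_mul_index (MulAction.stabilizer G x)
  rw [MulAction.index_stabilizer, MulAction.orbit_eq_univ G x, Set.ncard_univ, Nat.card_eq_fintype_card (α := Ω),
    Nat.card_eq_fintype_card (α := G)] at h3
  rw [← h3]
  congr 1
  rw [Nat.card_eq_fintype_card, Fintype.card_subtype]
  congr

lemma sum_fx [Nonempty Ω] (htrans : MulAction.IsPretransitive G Ω) :
    ∑ g : G, fx (Ω := Ω) g = Fintype.card G := by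
  classical
  have h1 : ∑ g : G, fx (Ω := Ω) g = ∑ x : Ω, (univ.filter (fun g : G => g • x = x)).card := by
    unfold fx
    simp only [Finset.card_filter]
    rw [Finset.sum_comm]
  rw [h1]
  have hn : 0 < Fintype.card Ω := Fintype.card_pos
  apply Nat.eq_of_mul_eq_mul_right hn
  rw [Finset.sum_mul]
  simp only [stab_card htrans]
  simp [mul_comm]

lemma sum_fx_sq :
    ∑ g : G, (fx (Ω := Ω) g) ^ 2 = ∑ x : Ω, ∑ y : Ω, (univ.filter (fun g : G => g • x = x ∧ g • y = y)).card := by
  classical
  have : ∀ g : G, (fx (Ω := Ω) g) ^ 2 = ∑ x : Ω, ∑ y : Ω, (if g • x = x ∧ g • y = y then 1 else 0) := by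
    intro g
    unfold fx
    rw [pow_two, Finset.card_filter, Finset.sum_mul_sum]
    refine Finset.sum_congr rfl fun x _ => Finset.sum_congr rfl fun y _ => ?_
    by_cases h1 : g • x = x <;> by_cases h2 : g • y = y <;> simp [h1, h2]
  simp only [this]
  rw [Finset.sum_comm]
  refine Finset.sum_congr rfl fun x _ => ?_
  rw [Finset.sum_comm]
  refine Finset.sum_congr rfl fun y _ => ?_
  rw [Finset.card_filter]

/-- derangements -/
noncomputable def der : Finset G := univ.filter (fun g : G => ∀ x : Ω, g • x ≠ x)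

lemma der_bound (hinv : ∀ g : G, (∀ ω : Ω, g • ω ≠ ω) → orderOf g = 2) (x : Ω) :
    (der (G := G) (Ω := Ω)).card + (univ.filter (fun g : G => g • x = x)).card
      ≤ ∑ y : Ω, (univ.filter (fun g : G => g • x = x ∧ g • y = y)).card := by
  classical
  -- fibre the derangements by the image of `x`
  have h1 : (der (G := G) (Ω := Ω)).card = ∑ y ∈ univ.erase x, ((der (G := G) (Ω := Ω)).filter (fun g => g • x = y)).card := by
    apply Finset.card_eq_sum_card_fiberwise
    intro g hg
    have hg' : ∀ x : Ω, g • x ≠ x := by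
      simpa [der] using hg
    simp [hg' x]
  have h2 : ∀ y ∈ univ.erase x, ((der (G := G) (Ω := Ω)).filter (fun g => g • x = y)).card ≤
      (univ.filter (fun g : G => g • x = x ∧ g • y = y)).card := by
    intro y hy
    by_cases hem : ((der (G := G) (Ω := Ω)).filter (fun g => g • x = y)) = ∅
    · rw [hem]; simp
    · obtain ⟨g₀, hg₀⟩ := Finset.nonempty_iff_ne_empty.mpr hem
      obtain ⟨hg₀1, hg₀2⟩ := Finset.mem_filter.mp hg₀
      have hg₀d : ∀ x : Ω, g₀ • x ≠ x := by simpa [der] using hg₀1
      have hinvol : ∀ g : G, (∀ ω : Ω, g • ω ≠ ω) → g * g = 1 := fun g hg => by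
        rw [← pow_two, ← hinv g hg, pow_orderOf_eq_one]
      refine Finset.card_le_card_of_injOn (fun g => g₀ * g) ?_ ?_
      · intro g hg
        obtain ⟨hg1, hg2⟩ := Finset.mem_filter.mp (Finset.mem_coe.mp hg)
        have hgd : ∀ x : Ω, g • x ≠ x := by simpa [der] using hg1
        have e1 : g₀ • y = x := by
          rw [← hg₀2, ← mul_smul, hinvol g₀ hg₀d, one_smul]
        have e2 : g • y = x := by
          rw [← hg2, ← mul_smul, hinvol g hgd, one_smul]
        simp only [Finset.coe_filter, Finset.mem_univ, true_and, Set.mem_ofPred_eq, mul_smul]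
        rw [hg2, e1, e2, hg₀2]
        exact ⟨rfl, rfl⟩
      · intro a _ b _ hab
        exact mul_left_cancel hab
  have h3 := Finset.sum_le_sum h2
  rw [← h1] at h3
  have h4 : ∑ y : Ω, (univ.filter (fun g : G => g • x = x ∧ g • y = y)).card =
      (univ.filter (fun g : G => g • x = x ∧ g • x = x)).card +
        ∑ y ∈ univ.erase x, (univ.filter (fun g : G => g • x = x ∧ g • y = y)).card := by
    exact (Finset.add_sum_erase univ (fun y => (univ.filter (fun g : G => g • x = x ∧ g • y = y)).card) (Finset.mem_univ x)).symm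
  rw [h4]
  simp only [and_self]
  omega

/-- Key consequence of the counting argument. -/
lemma fix_one_or_all [Nonempty Ω] (htrans : MulAction.IsPretransitive G Ω)
    (hinv : ∀ g : G, (∀ ω : Ω, g • ω ≠ ω) → orderOf g = 2) (g : G) (hg : ∃ x : Ω, g • x = x) :
    fx (Ω := Ω) g = 1 ∨ fx (Ω := Ω) g = Fintype.card Ω := by
  classical
  set n := Fintype.card Ω with hn
  obtain ⟨f, hf⟩ : ∃ f : G → ℤ, ∀ g, f g = (fx (Ω := Ω) g : ℤ) := ⟨_, fun _ => rfl⟩
  have hsum1 : ∑ g : G, f g = Fintype.card G := by
    have := sum_fx (G := G) (Ω := Ω) htrans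
    simp only [hf]
    exact_mod_cast this
  have hsum2 : ((n : ℤ) * ((der (G := G) (Ω := Ω)).card : ℤ)) + ∑ g : G, f g ≤ ∑ g : G, (f g) ^ 2 := by
    have h1 := sum_fx_sq (G := G) (Ω := Ω)
    have h2 : ∑ x : Ω, ((der (G := G) (Ω := Ω)).card + (univ.filter (fun g : G => g • x = x)).card)
        ≤ ∑ x : Ω, ∑ y : Ω, (univ.filter (fun g : G => g • x = x ∧ g • y = y)).card :=
      Finset.sum_le_sum fun x _ => der_bound hinv x
    rw [← h1, Finset.sum_add_distrib, Finset.sum_const, Finset.card_univ, smul_eq_mul] at h2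
    have h3 : ∑ x : Ω, (univ.filter (fun g : G => g • x = x)).card = ∑ g : G, fx (Ω := Ω) g := by
      unfold fx
      simp only [Finset.card_filter]
      rw [Finset.sum_comm]
    rw [h3] at h2
    simp only [hf]
    exact_mod_cast h2
  -- the pointwise estimate
  have hterm : ∀ g : G, ((f g - 1) * (f g - n) - (if g ∈ (der (G := G) (Ω := Ω)) then (n : ℤ) else 0)) ≤ 0 := by
    intro g
    have hle : f g ≤ n := by
      rw [hf]; exact_mod_cast fx_le g
    have hpos : 0 ≤ f g := by rw [hf g]; positivity
    by_cases hd : g ∈ (der (G := G) (Ω := Ω))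
    · have hz : f g = 0 := by
        rw [hf]
        have : fx (Ω := Ω) g = 0 := by
          unfold fx
          rw [Finset.card_eq_zero, Finset.filter_eq_empty_iff]
          intro x _
          have : ∀ x : Ω, g • x ≠ x := by simpa [der] using hd
          exact this x
        exact_mod_cast this
      rw [if_pos hd, hz]
      ring_nf
      simp
    · rw [if_neg hd, sub_zero]
      have h1 : 1 ≤ f g := by
        have : fx (Ω := Ω) g ≠ 0 := by
          intro h0
          unfold fx at h0
          rw [Finset.card_eq_zero, Finset.filter_eq_empty_iff] at h0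
          apply hd
          simpa [der] using fun x => h0 (Finset.mem_univ x)
        rw [hf]
        have : 1 ≤ fx (Ω := Ω) g := Nat.one_le_iff_ne_zero.mpr this
        exact_mod_cast this
      nlinarith
  have htotal : ∑ g : G, ((f g - 1) * (f g - n) - (if g ∈ (der (G := G) (Ω := Ω)) then (n : ℤ) else 0)) = 0 := by
    apply le_antisymm (Finset.sum_nonpos fun g _ => hterm g)
    have e1 : ∑ g : G, ((f g - 1) * (f g - n) - (if g ∈ (der (G := G) (Ω := Ω)) then (n : ℤ) else 0))
        = ∑ g : G, (f g) ^ 2 - (n + 1) * ∑ g : G, f g + n * (Fintype.card G : ℤ) - n * ((der (G := G) (Ω := Ω)).card : ℤ) := by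
      rw [Finset.sum_sub_distrib]
      have e2 : ∑ g : G, (if g ∈ (der (G := G) (Ω := Ω)) then (n : ℤ) else 0) = n * ((der (G := G) (Ω := Ω)).card : ℤ) := by
        rw [Finset.sum_ite_mem]
        simp
        ring
      rw [e2]
      have e3 : ∀ g : G, (f g - 1) * (f g - n) = (f g) ^ 2 - (n + 1) * f g + n := fun g => by ring
      simp only [e3]
      rw [Finset.sum_add_distrib, Finset.sum_sub_distrib, ← Finset.mul_sum]
      simp
      ring
    rw [e1, hsum1] at *
    nlinarith
  have hzero := (Finset.sum_eq_zero_iff_of_nonpos (fun g _ => hterm g)).mp htotal g (Finset.mem_univ g)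
  have hnd : g ∉ (der (G := G) (Ω := Ω)) := by
    obtain ⟨x, hx⟩ := hg
    intro hd
    have : ∀ x : Ω, g • x ≠ x := by simpa [der] using hd
    exact this x hx
  rw [if_neg hnd, sub_zero] at hzero
  rcases mul_eq_zero.mp hzero with h | h
  · left
    have : f g = 1 := by linarith
    rw [hf g] at this
    exact_mod_cast this
  · right
    have : f g = n := by linarith
    rw [hf g] at this
    exact_mod_cast this

lemma eq_one_of_two_fixed [FaithfulSMul G Ω] [Nonempty Ω] (htrans : MulAction.IsPretransitive G Ω)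
    (hinv : ∀ g : G, (∀ ω : Ω, g • ω ≠ ω) → orderOf g = 2) (g : G) {x y : Ω} (hxy : x ≠ y)
    (hx : g • x = x) (hy : g • y = y) : g = 1 := by
  classical
  rcases fix_one_or_all htrans hinv g ⟨x, hx⟩ with h | h
  · exfalso
    unfold fx at h
    obtain ⟨a, ha⟩ := Finset.card_eq_one.mp h
    have h1 : x ∈ univ.filter (fun x : Ω => g • x = x) := by simp [hx]
    have h2 : y ∈ univ.filter (fun x : Ω => g • x = x) := by simp [hy]
    rw [ha, Finset.mem_singleton] at h1 h2
    exact hxy (h1.trans h2.symm)
  · apply FaithfulSMul.eq_of_smul_eq_smul (α := Ω)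
    intro a
    unfold fx at h
    rw [one_smul]
    have h1 : univ.filter (fun x : Ω => g • x = x) = univ :=
      (Finset.card_eq_iff_eq_univ _).mp h
    have h2 : a ∈ univ.filter (fun x : Ω => g • x = x) := by rw [h1]; exact Finset.mem_univ a
    simpa using h2
end

/-- Let G act faithfully and transitively on a finite set and suppose every element of G fixing no point is an involution. Then either G is an elementary abelian 2-group, or G is a Frobenius group whose Frobenius kernel is an elementary abelian 2-group: G has a Frobenius complement H, and the elements lying in no conjugate of H, together with the identity, pairwise commute and square to the identity. -/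
theorem result {G Ω : Type*} [Group G] [Finite G] [MulAction G Ω] [FaithfulSMul G Ω] [Finite Ω]
    (htrans : MulAction.IsPretransitive G Ω) (hinv : ∀ g : G, (∀ ω : Ω, g • ω ≠ ω) → orderOf g = 2) :
    (IsMulCommutative G ∧ ∀ g : G, g ^ 2 = 1) ∨
    (∃ H : Subgroup G, Cfsg.IsFrobeniusComplement H ∧
      (∀ x ∈ Cfsg.frobeniusKernel H, x ^ 2 = 1) ∧
      ∀ x ∈ Cfsg.frobeniusKernel H, ∀ y ∈ Cfsg.frobeniusKernel H, x * y = y * x) := by
  classical
  haveI := Fintype.ofFinite G
  haveI := Fintype.ofFinite Ω
  -- empty set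
  by_cases hne : Nonempty Ω
  swap
  · left
    have hs : Subsingleton G := by
      refine ⟨fun a b => FaithfulSMul.eq_of_smul_eq_smul (α := Ω) fun x => ?_⟩
      exact absurd ⟨x⟩ hne
    exact ⟨⟨⟨fun a b => Subsingleton.elim _ _⟩⟩, fun g => Subsingleton.elim _ _⟩
  obtain ⟨a⟩ := hne
  haveI : Nonempty Ω := ⟨a⟩
  have hinvol : ∀ g : G, (∀ ω : Ω, g • ω ≠ ω) → g * g = 1 := fun g hg => by
    rw [← pow_two, ← hinv g hg, pow_orderOf_eq_one]
  have htwo := eq_one_of_two_fixed (G := G) (Ω := Ω) htrans hinv
  -- the product of two distinct derangements is a derangement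
  have hprod : ∀ x y : G, (∀ ω : Ω, x • ω ≠ ω) → (∀ ω : Ω, y • ω ≠ ω) → x * y = y * x := by
    intro x y hx hy
    by_cases hxy : x = y
    · rw [hxy]
    have hxyd : ∀ ω : Ω, (x * y) • ω ≠ ω := by
      intro ω hω
      rw [mul_smul] at hω
      have h1 : y • ω = x • ω := by
        calc y • ω = (x * x) • (y • ω) := by rw [hinvol x hx, one_smul]
          _ = x • (x • y • ω) := by rw [mul_smul]
          _ = x • ω := by rw [hω]
      -- `y⁻¹ x = y x` fixes `ω` and `x • ω`
      apply hxy
      have h2 : (y * x) • ω = ω := by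
        rw [mul_smul, ← h1, ← mul_smul, hinvol y hy, one_smul]
      have h3 : (y * x) • (x • ω) = x • ω := by
        rw [mul_smul, ← mul_smul x, hinvol x hx, one_smul, h1]
      have h4 : y * x = 1 := htwo (y * x) (Ne.symm (hx ω)) h2 h3
      have h5 : y⁻¹ = y := inv_eq_of_mul_eq_one_left (hinvol y hy)
      have h6 : x = y⁻¹ := eq_inv_of_mul_eq_one_right h4
      rw [h6, h5]
    have h1 := hinvol _ hxyd
    have h2 : (x * y)⁻¹ = x * y := inv_eq_of_mul_eq_one_left h1
    rw [mul_inv_rev, inv_eq_of_mul_eq_one_left (hinvol x hx), inv_eq_of_mul_eq_one_left (hinvol y hy)] at h2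
    exact h2.symm
  set H := MulAction.stabilizer G a with hH
  have hfixconj : ∀ (g : G) (ω : Ω), g • ω = ω → ∃ t : G, g ∈ MulAut.conj t • H := by
    intro g ω hg
    obtain ⟨t, ht⟩ := MulAction.exists_smul_eq G a ω
    refine ⟨t, ?_⟩
    rw [Subgroup.mem_pointwise_smul_iff_inv_smul_mem]
    show (MulAut.conj t)⁻¹ • g ∈ H
    rw [hH, MulAction.mem_stabilizer_iff]
    have : ((MulAut.conj t)⁻¹ • g : G) = t⁻¹ * g * t := by
      simp [MulAut.smul_def, MulAut.conj_symm_apply]
    rw [this, mul_smul, mul_smul, ht, hg, ← ht, ← mul_smul]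
    simp
  by_cases hHb : H = ⊥
  · left
    have hder : ∀ g : G, g ≠ 1 → ∀ ω : Ω, g • ω ≠ ω := by
      intro g hg ω hω
      obtain ⟨t, ht⟩ := hfixconj g ω hω
      rw [hHb] at ht
      rw [Subgroup.mem_pointwise_smul_iff_inv_smul_mem] at ht
      have h1 : (MulAut.conj t)⁻¹ • g = 1 := Subgroup.mem_bot.mp ht
      apply hg
      have h2 : MulAut.conj t • ((MulAut.conj t)⁻¹ • g) = g := smul_inv_smul _ _
      rw [← h2, h1]
      simp
    refine ⟨⟨⟨fun x y => ?_⟩⟩, fun g => ?_⟩
    · by_cases hx : x = 1
      · rw [hx]; simp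
      by_cases hy : y = 1
      · rw [hy]; simp
      exact hprod x y (hder x hx) (hder y hy)
    · by_cases hg : g = 1
      · rw [hg]; simp
      · rw [pow_two]; exact hinvol g (hder g hg)
  · right
    have hker : ∀ x ∈ Cfsg.frobeniusKernel H, x = 1 ∨ ∀ ω : Ω, x • ω ≠ ω := by
      intro x hx
      rcases hx with hx | hx
      · exact Or.inl hx
      · right
        intro ω hω
        obtain ⟨t, ht⟩ := hfixconj x ω hω
        exact hx t ht
    refine ⟨H, ⟨hHb, ?_, ?_⟩, ?_, ?_⟩
    · -- `H ≠ ⊤`
      intro htop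
      apply hHb
      rw [eq_bot_iff]
      intro g _
      rw [Subgroup.mem_bot]
      apply FaithfulSMul.eq_of_smul_eq_smul (α := Ω)
      intro ω
      obtain ⟨t, ht⟩ := MulAction.exists_smul_eq G a ω
      have hm : ∀ s : G, s • a = a := by
        intro s
        have : s ∈ H := by rw [htop]; trivial
        exact this
      rw [← ht, hm t, hm g, one_smul]
    · -- Frobenius condition
      intro g hg
      rw [eq_bot_iff]
      intro x hx
      obtain ⟨hx1, hx2⟩ := Subgroup.mem_inf.mp hx
      rw [Subgroup.mem_bot]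
      rw [Subgroup.mem_pointwise_smul_iff_inv_smul_mem] at hx2
      have h1 : (MulAut.conj g)⁻¹ • x = g⁻¹ * x * g := by
        simp [MulAut.smul_def, MulAut.conj_symm_apply]
      rw [h1] at hx2
      have h2 : (g⁻¹ * x * g) • a = a := hx2
      have h3 : x • (g • a) = g • a := by
        have := congrArg (fun z => g • z) h2
        simp only [mul_smul, smul_inv_smul] at this
        exact this
      have h4 : x • a = a := hx1
      refine htwo x ?_ h4 h3
      intro h5
      exact hg (MulAction.mem_stabilizer_iff.mpr h5.symm)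
    · intro x hx
      rcases hker x hx with h | h
      · rw [h]; simp
      · rw [pow_two]; exact hinvol x h
    · intro x hx y hy
      rcases hker x hx with h | h
      · rw [h]; simp
      rcases hker y hy with h' | h'
      · rw [h']; simp
      exact hprod x y h h'

end Cfsg.Agent.S3555
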