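import Cfsg.Statements.S3634
import Mathlib
import Cfsg.Agent.Lib.H1Core

set_option autoImplicit false
open Cfsg

namespace Cfsg.Agent.S3634

open Cfsg

/-- The operator identity for a Frobenius group acting on an abelian group. -/
theorem op_core {V F : Type*} [CommGroup V] [Group F] (ρ : F →* MulAut V) (Q : Subgroup F) [Fintype Q] (y : F)
    (r : ℕ) (hr : 0 < r) (hyQ : ∀ c ∈ Q, y * c * y⁻¹ ∈ Q)
    (hC : ∀ j, 0 < j → j < r → ∀ c ∈ Q, c * y ^ j = y ^ j * c → c = 1)
    (ha : ∀ v : V, ∏ c : Q, ρ (c : F) v = 1)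
    (hb : ∀ v : V, ∏ j ∈ Finset.range r, ρ (y ^ j) v = 1) (v : V) : v ^ Fintype.card Q = 1 := by
  classical
  have hyQ' : ∀ (j : ℕ), ∀ c ∈ Q, y ^ j * c * (y ^ j)⁻¹ ∈ Q := by
    intro j
    induction j with
    | zero => intro c hc; simpa using hc
    | succ j ih =>
      intro c hc
      have e : y ^ (j + 1) * c * (y ^ (j + 1))⁻¹ = y * (y ^ j * c * (y ^ j)⁻¹) * y⁻¹ := by
        rw [pow_succ']; group
      rw [e]
      exact hyQ _ (ih c hc)
  -- the double product
  set W : V := ∏ c : Q, ∏ j ∈ Finset.range r, ρ ((c : F) * y ^ j * (c : F)⁻¹) v with hW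
  have hW1 : W = 1 := by
    rw [hW]
    apply Finset.prod_eq_one
    intro c _
    have e : ∀ j, ρ ((c : F) * y ^ j * (c : F)⁻¹) v = ρ (c : F) (ρ (y ^ j) (ρ (c : F)⁻¹ v)) := by
      intro j
      simp [map_mul, MulAut.mul_apply]
    simp only [e]
    rw [← map_prod, hb, map_one]
  have hW2 : W = v ^ Fintype.card Q := by
    rw [hW, Finset.prod_comm]
    rw [Finset.prod_eq_single 0]
    · simp [Finset.prod_const, Finset.card_univ]
    · intro j hj hj0
      have hjpos : 0 < j := Nat.pos_of_ne_zero hj0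
      have hjlt : j < r := Finset.mem_range.mp hj
      -- reindex by `c ↦ c (y^j c⁻¹ y^-j)`
      let σ : Q → Q := fun c => ⟨(c : F) * (y ^ j * (c : F)⁻¹ * (y ^ j)⁻¹), Q.mul_mem c.2 (hyQ' j _ (Q.inv_mem c.2))⟩
      have hσinj : Function.Injective σ := by
        intro c d hcd
        have h1 : (c : F) * (y ^ j * (c : F)⁻¹ * (y ^ j)⁻¹) = (d : F) * (y ^ j * (d : F)⁻¹ * (y ^ j)⁻¹) :=
          congrArg Subtype.val hcd
        have h2 : (d : F)⁻¹ * c ∈ Q := Q.mul_mem (Q.inv_mem d.2) c.2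
        have h3 : ((d : F)⁻¹ * c) * y ^ j = y ^ j * ((d : F)⁻¹ * c) := by
          generalize y ^ j = Y at h1
          have e1 : (d : F)⁻¹ * ((c : F) * (Y * (c : F)⁻¹ * Y⁻¹)) = Y * (d : F)⁻¹ * Y⁻¹ := by
            rw [h1]; group
          have h4 : (d : F)⁻¹ * (c : F) = Y * ((d : F)⁻¹ * (c : F)) * Y⁻¹ := by
            calc (d : F)⁻¹ * (c : F) = ((d : F)⁻¹ * ((c : F) * (Y * (c : F)⁻¹ * Y⁻¹))) * (Y * (c : F) * Y⁻¹) := by group
              _ = (Y * (d : F)⁻¹ * Y⁻¹) * (Y * (c : F) * Y⁻¹) := by rw [e1]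
              _ = Y * ((d : F)⁻¹ * (c : F)) * Y⁻¹ := by group
          calc (d : F)⁻¹ * (c : F) * Y = (Y * ((d : F)⁻¹ * (c : F)) * Y⁻¹) * Y := by rw [← h4]
            _ = Y * ((d : F)⁻¹ * (c : F)) := by group
        have h5 := hC j hjpos hjlt _ h2 h3
        apply Subtype.ext
        exact (inv_mul_eq_one.mp h5).symm
      have hσbij : Function.Bijective σ := Finite.injective_iff_bijective.mp hσinj
      have e1 : ∀ c : Q, ρ ((c : F) * y ^ j * (c : F)⁻¹) v = ρ ((σ c : Q) : F) (ρ (y ^ j) v) := by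
        intro c
        have e2 : (c : F) * y ^ j * (c : F)⁻¹ = (c : F) * (y ^ j * (c : F)⁻¹ * (y ^ j)⁻¹) * y ^ j := by group
        rw [e2]
        simp [σ, map_mul, MulAut.mul_apply]
      simp only [e1]
      rw [hσbij.prod_comp (fun c : Q => ρ (c : F) (ρ (y ^ j) v)), ha]
    · intro h
      exact absurd (Finset.mem_range.mpr hr) h
  rw [← hW2, hW1]

/-- Two commuting elements of coprime prime-power-type orders give an element of the product order. -/
lemma comm_order {L : Type*} [Group L] [Finite L] {p ℓ : ℕ} (hp : p.Prime) (hℓ : ℓ.Prime) (hne : p ≠ ℓ)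
    {z g : L} (hz : ∃ k : ℕ, z ^ p ^ k = 1) (hz1 : z ≠ 1) (hg : orderOf g = ℓ) (hc : g * z = z * g) :
    ∃ w : L, orderOf w = p * ℓ := by
  haveI : Fact p.Prime := ⟨hp⟩
  obtain ⟨k, hk⟩ := hz
  have h1 : orderOf z ∣ p ^ k := orderOf_dvd_of_pow_eq_one hk
  obtain ⟨i, hi, hi2⟩ := (Nat.dvd_prime_pow hp).mp h1
  have hipos : i ≠ 0 := by
    intro h0
    rw [h0, pow_zero, orderOf_eq_one_iff] at hi2
    exact hz1 hi2
  obtain ⟨i', rfl⟩ := Nat.exists_eq_succ_of_ne_zero hipos
  set z' := z ^ p ^ i' with hz'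
  have h2 : orderOf z' = p := by
    rw [hz', orderOf_pow_of_dvd (pow_pos hp.pos _).ne' (by rw [hi2]; exact pow_dvd_pow _ (Nat.le_succ _)), hi2, Nat.pow_succ]
    exact Nat.mul_div_cancel_left _ (pow_pos hp.pos _)
  have h3 : Commute z' g := ((show Commute g z from hc).pow_right _).symm
  refine ⟨z' * g, ?_⟩
  rw [h3.orderOf_mul_eq_mul_orderOf_of_coprime, h2, hg]
  rw [h2, hg]
  exact (Nat.coprime_primes hp hℓ).mpr hne

/-- The core of the argument. -/
theorem core_contra {L : Type*} [Group L] [Finite L] {p q r : ℕ} (hp : p.Prime) (hq : q.Prime) (hr : r.Prime)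
    (hpq : p ≠ q) (hpr : p ≠ r) (hqr : q ≠ r)
    (Z : Subgroup L) [hZn : Z.Normal] (hZab : ∀ a ∈ Z, ∀ b ∈ Z, a * b = b * a) (hZp : IsPGroup p Z) (hZ1 : Z ≠ ⊥)
    (Q : Subgroup L) (hQq : IsPGroup q Q) (hQ1 : Q ≠ ⊥) (y : L) (hy : orderOf y = r) (hyQ : ∀ c ∈ Q, y * c * y⁻¹ ∈ Q)
    (h1 : ∀ x : L, orderOf x ≠ p * q) (h2 : ∀ x : L, orderOf x ≠ p * r) (h3 : ∀ x : L, orderOf x ≠ q * r) : False := by
  classical
  haveI : Fact p.Prime := ⟨hp⟩
  haveI : Fact q.Prime := ⟨hq⟩
  haveI : Fintype Q := Fintype.ofFinite _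
  letI cg : CommGroup Z := { (inferInstance : Group Z) with mul_comm := fun a b => Subtype.ext (hZab a a.2 b b.2) }
  let ρ : L →* MulAut Z := MulAut.conjNormal
  have hρ : ∀ (g : L) (v : Z), ((ρ g v : Z) : L) = g * v * g⁻¹ := fun g v => MulAut.conjNormal_apply g v
  -- no fixed points
  have hfix : ∀ (g : L) (ℓ : ℕ), ℓ.Prime → ℓ ≠ p → orderOf g = ℓ → (∀ x : L, orderOf x ≠ p * ℓ) → ∀ v : Z, ρ g v = v → v = 1 := by
    intro g ℓ hℓ hℓp hgo hno v hv
    by_contra hv1
    have hv1' : (v : L) ≠ 1 := fun e => hv1 (Subtype.ext e)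
    have hc : g * (v : L) = v * g := by
      have := congrArg Subtype.val hv
      rw [hρ] at this
      calc g * (v : L) = (g * v * g⁻¹) * g := by group
        _ = v * g := by rw [this]
    have hpow : ∃ k : ℕ, (v : L) ^ p ^ k = 1 := by
      obtain ⟨k, hk⟩ := hZp v
      exact ⟨k, by simpa using congrArg Subtype.val hk⟩
    obtain ⟨w, hw⟩ := comm_order hp hℓ hℓp.symm hpow hv1' hgo hc
    exact hno w hw
  obtain ⟨f, hf⟩ : ∃ f : Q, orderOf f = q := by
    have hcard : Nat.card Q ≠ 1 := fun e => hQ1 (Subgroup.card_eq_one.mp e)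
    obtain ⟨t, ht⟩ := IsPGroup.iff_card.mp hQq
    have hd : q ∣ Nat.card Q := by
      rw [ht]
      apply dvd_pow_self
      rintro rfl
      exact hcard (by rw [ht, pow_zero])
    exact exists_prime_orderOf_dvd_card' q hd
  have hC : ∀ j, 0 < j → j < r → ∀ c ∈ Q, c * y ^ j = y ^ j * c → c = 1 := by
    intro j hj0 hjr c hc hcomm
    by_contra hc1
    -- `y` is a power of `y^j`
    have hcop : Nat.Coprime j (orderOf y) := by
      rw [hy]
      exact ((Nat.Prime.coprime_iff_not_dvd hr).mpr (fun hd => by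
        have := Nat.le_of_dvd hj0 hd
        omega)).symm
    have hmem : y ∈ Subgroup.zpowers (y ^ j) := by
      obtain ⟨m, hm⟩ := exists_pow_eq_self_of_coprime hcop
      exact ⟨(m : ℤ), by
        show (y ^ j) ^ (m : ℤ) = y
        rw [zpow_natCast, hm]⟩
    have hcy : c * y = y * c := by
      obtain ⟨m, hm⟩ := hmem
      have : y = (y ^ j) ^ m := hm.symm
      rw [this]
      exact ((show Commute c (y ^ j) from hcomm).zpow_right m).eq
    have hpow : ∃ k : ℕ, c ^ q ^ k = 1 := by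
      obtain ⟨k, hk⟩ := hQq ⟨c, hc⟩
      exact ⟨k, by simpa using congrArg Subtype.val hk⟩
    obtain ⟨w, hw⟩ := comm_order hq hr hqr hpow hc1 hy hcy.symm
    exact h3 w hw
  have ha : ∀ v : Z, ∏ c : Q, ρ (c : L) v = 1 := by
    intro v
    apply hfix (f : L) q hq hpq.symm (by rw [Subgroup.orderOf_coe]; exact hf) h1
    rw [map_prod]
    have e : ∀ c : Q, ρ (f : L) (ρ (c : L) v) = ρ ((f * c : Q) : L) v := by
      intro c
      simp [map_mul, MulAut.mul_apply]
    simp only [e]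
    exact Equiv.prod_comp (Equiv.mulLeft f) (fun c : Q => ρ (c : L) v)
  have hb : ∀ v : Z, ∏ j ∈ Finset.range r, ρ (y ^ j) v = 1 := by
    intro v
    apply hfix y r hr hpr.symm hy h2
    rw [map_prod]
    have e : ∀ j, ρ y (ρ (y ^ j) v) = ρ (y ^ (j + 1)) v := by
      intro j
      rw [pow_succ']
      simp [map_mul, MulAut.mul_apply]
    simp only [e]
    have hyr : y ^ r = 1 := by rw [← hy, pow_orderOf_eq_one]
    obtain ⟨r', hr'⟩ := Nat.exists_eq_succ_of_ne_zero hr.ne_zero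
    rw [hr'] at hyr ⊢
    rw [Finset.prod_range_succ, Finset.prod_range_succ', hyr]
    simp [mul_comm]
  obtain ⟨v, hv, hv1⟩ := (Subgroup.bot_or_exists_ne_one Z).resolve_left hZ1
  have hfinal := op_core ρ Q y r hr.pos hyQ hC ha hb ⟨v, hv⟩
  have hfinal' : v ^ Fintype.card Q = 1 := by
    have := congrArg Subtype.val hfinal
    exact this
  obtain ⟨t, ht⟩ := IsPGroup.iff_card.mp hQq
  rw [← Nat.card_eq_fintype_card, ht] at hfinal'
  obtain ⟨k, hk⟩ := hZp ⟨v, hv⟩
  have hk' : v ^ p ^ k = 1 := by simpa using congrArg Subtype.val hk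
  have hcop : Nat.Coprime (q ^ t) (p ^ k) := Nat.Coprime.pow _ _ ((Nat.coprime_primes hq hp).mpr hpq.symm)
  have h4 : orderOf v ∣ 1 := by
    rw [← hcop.gcd_eq_one]
    exact Nat.dvd_gcd (orderOf_dvd_of_pow_eq_one hfinal') (orderOf_dvd_of_pow_eq_one hk')
  exact hv1 (orderOf_eq_one_iff.mp (Nat.dvd_one.mp h4))

/-- Let G be a finite group with normal subgroups K ≤ M, and let p, q, r be distinct primes with p dividing the order of K, q dividing the order of M/K and r dividing the order of G/M. Then p, q, r are not pairwise non-adjacent in the prime graph of G: G has an element of order pq, pr or qr. -/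
theorem result {G : Type*} [Group G] [Finite G] (K M : Subgroup G) [K.Normal] [M.Normal] (hKM : K ≤ M)
    (p q r : ℕ) (hp : p.Prime) (hq : q.Prime) (hr : r.Prime) (hpq : p ≠ q) (hpr : p ≠ r) (hqr : q ≠ r)
    (hpK : p ∣ Nat.card ↥K) (hqM : q ∣ Nat.card ↥M / Nat.card ↥K) (hrG : r ∣ Nat.card G / Nat.card ↥M) :
    (∃ x : G, orderOf x = p * q) ∨ (∃ x : G, orderOf x = p * r) ∨ (∃ x : G, orderOf x = q * r) := by
  classical
  by_contra hcon
  push Not at hcon
  obtain ⟨h1, h2, h3⟩ := hcon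
  haveI : Fact p.Prime := ⟨hp⟩
  haveI : Fact q.Prime := ⟨hq⟩
  haveI : Fact r.Prime := ⟨hr⟩
  -- a Sylow subgroup of `K`
  obtain ⟨c, hc⟩ := exists_prime_orderOf_dvd_card' p hpK
  have hzp : IsPGroup p (Subgroup.zpowers c) := IsPGroup.of_card (n := 1) (by rw [Nat.card_zpowers, hc, pow_one])
  obtain ⟨P, hPc⟩ := hzp.exists_le_sylow
  have hcP : c ∈ (P : Subgroup K) := hPc (Subgroup.mem_zpowers c)
  set P' : Subgroup G := (P : Subgroup K).map K.subtype with hP'
  set L : Subgroup G := Subgroup.normalizer (P' : Set G) with hL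
  have hLK : L ⊔ K = ⊤ := Sylow.normalizer_sup_eq_top P
  have hP'L : P' ≤ L := Subgroup.le_normalizer
  have hPp : ∀ x ∈ P', ∃ k : ℕ, x ^ p ^ k = 1 := by
    rintro _ ⟨x, hx, rfl⟩
    obtain ⟨k, hk⟩ := P.isPGroup' ⟨x, hx⟩
    refine ⟨k, ?_⟩
    have := congrArg (fun z : (P : Subgroup K) => ((z : K) : G)) hk
    simpa using this
  -- the normal `p`-subgroup of `L`
  set Pn : Subgroup L := P'.subgroupOf L with hPn
  haveI hPnn : Pn.Normal := Subgroup.normal_in_normalizer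
  haveI : (Subgroup.center Pn).Characteristic := inferInstance
  set Z : Subgroup L := (Subgroup.center Pn).map Pn.subtype with hZ
  haveI hZn : Z.Normal := Cfsg.Agent.Lib.H1Core.normal_map_of_characteristic Pn (Subgroup.center Pn)
  have hPnp : IsPGroup p Pn := by
    rintro ⟨x, hx⟩
    obtain ⟨k, hk⟩ := hPp _ hx
    refine ⟨k, ?_⟩
    apply Subtype.ext
    apply Subtype.ext
    simpa using hk
  have hZab : ∀ a ∈ Z, ∀ b ∈ Z, a * b = b * a := by
    rintro _ ⟨a, ha, rfl⟩ _ ⟨b, hb, rfl⟩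
    have := (Subgroup.mem_center_iff.mp ha) b
    exact (congrArg Subtype.val this).symm
  have hZp : IsPGroup p Z := by
    rintro ⟨_, ⟨a, ha, rfl⟩⟩
    obtain ⟨k, hk⟩ := hPnp a
    refine ⟨k, ?_⟩
    apply Subtype.ext
    simpa using congrArg Subtype.val hk
  have hPnne : Nontrivial Pn := by
    refine ⟨⟨⟨⟨(c : G), hP'L ⟨c, hcP, rfl⟩⟩, ⟨c, hcP, rfl⟩⟩, 1, ?_⟩⟩
    intro e
    have e1 : (c : G) = 1 := congrArg (fun z : Pn => ((z : L) : G)) e
    have e2 : c = 1 := Subtype.ext e1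
    rw [e2, orderOf_one] at hc
    exact hp.one_lt.ne hc
  have hZ1 : Z ≠ ⊥ := by
    haveI := hPnp.center_nontrivial
    intro e
    rw [hZ, Subgroup.map_eq_bot_iff, Subgroup.ker_subtype] at e
    have := (Subgroup.nontrivial_iff_ne_bot (Subgroup.center Pn)).mp inferInstance
    exact this (le_bot_iff.mp e)
  -- indices
  have hidxK : Nat.card M / Nat.card K = K.relIndex M := by
    have e1 := Subgroup.card_mul_index (K.subgroupOf M)
    have e2 : Nat.card (K.subgroupOf M) = Nat.card K := Nat.card_congr (Subgroup.subgroupOfEquivOfLe hKM).toEquiv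
    rw [e2] at e1
    rw [← e1]
    exact Nat.mul_div_cancel_left _ Nat.card_pos
  have hidxM : Nat.card G / Nat.card M = M.index := by
    have e1 := Subgroup.card_mul_index M
    rw [← e1]
    exact Nat.mul_div_cancel_left _ Nat.card_pos
  rw [hidxK] at hqM
  rw [hidxM] at hrG
  have hDed : (M ⊓ L) ⊔ K = M := by
    apply le_antisymm (sup_le inf_le_left hKM)
    intro x hx
    have hxt : x ∈ L ⊔ K := by rw [hLK]; trivial
    obtain ⟨l, hl, k, hk, e⟩ := Subgroup.mem_sup_of_normal_right.mp hxt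
    rw [← e]
    apply Subgroup.mul_mem_sup _ hk
    refine ⟨?_, hl⟩
    have : l = x * k⁻¹ := by rw [← e]; group
    rw [this]
    exact M.mul_mem hx (M.inv_mem (hKM hk))
  have hqML : q ∣ Nat.card (M ⊓ L : Subgroup G) := by
    have e1 := Subgroup.relIndex_sup_right (M ⊓ L) K
    rw [hDed] at e1
    rw [e1] at hqM
    exact hqM.trans (Subgroup.index_dvd_card _)
  have hrM₀ : r ∣ (M.subgroupOf L).index := by
    have e1 := Subgroup.relIndex_sup_right L M
    have e2 : L ⊔ M = ⊤ := by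
      rw [eq_top_iff, ← hLK]
      exact sup_le_sup_left hKM L
    rw [e2, Subgroup.relIndex_top_right] at e1
    rw [e1] at hrG
    exact hrG
  set M₀ : Subgroup L := M.subgroupOf L with hM₀
  haveI hM₀n : M₀.Normal := Subgroup.normal_subgroupOf
  have hcM₀ : Nat.card M₀ = Nat.card (M ⊓ L : Subgroup G) := by
    rw [hM₀]
    have : Nat.card (M.subgroupOf L) = Nat.card (M ⊓ L : Subgroup G) := by
      rw [← Subgroup.inf_subgroupOf_right]
      exact Nat.card_congr (Subgroup.subgroupOfEquivOfLe inf_le_right).toEquiv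
    exact this
  rw [← hcM₀] at hqML
  -- a Sylow `q`-subgroup of `M₀`
  obtain ⟨d, hd⟩ := exists_prime_orderOf_dvd_card' q hqML
  have hzq : IsPGroup q (Subgroup.zpowers d) := IsPGroup.of_card (n := 1) (by rw [Nat.card_zpowers, hd, pow_one])
  obtain ⟨Q₀, hQ₀⟩ := hzq.exists_le_sylow
  have hdQ : d ∈ (Q₀ : Subgroup M₀) := hQ₀ (Subgroup.mem_zpowers d)
  set Q' : Subgroup L := (Q₀ : Subgroup M₀).map M₀.subtype with hQ'
  have hF : Subgroup.normalizer (Q' : Set L) ⊔ M₀ = ⊤ := Sylow.normalizer_sup_eq_top Q₀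
  have hQ'1 : Q' ≠ ⊥ := by
    intro e
    have h4 : (d : L) ∈ Q' := ⟨d, hdQ, rfl⟩
    rw [e, Subgroup.mem_bot] at h4
    have h5 : d = 1 := Subtype.ext h4
    rw [h5, orderOf_one] at hd
    exact hq.one_lt.ne hd
  have hQ'q : IsPGroup q Q' := by
    rintro ⟨_, ⟨a, ha, rfl⟩⟩
    obtain ⟨k, hk⟩ := Q₀.isPGroup' ⟨a, ha⟩
    refine ⟨k, ?_⟩
    apply Subtype.ext
    have := congrArg (fun z : (Q₀ : Subgroup M₀) => ((z : M₀) : L)) hk
    simpa using this
  have hrN : r ∣ Nat.card (Subgroup.normalizer (Q' : Set L)) := by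
    have e1 := Subgroup.relIndex_sup_right (Subgroup.normalizer (Q' : Set L)) M₀
    rw [hF, Subgroup.relIndex_top_right] at e1
    have e2 : M₀.index = (M₀.subgroupOf (Subgroup.normalizer (Q' : Set L))).index := e1
    rw [e2] at hrM₀
    exact hrM₀.trans (Subgroup.index_dvd_card _)
  obtain ⟨y, hy⟩ := exists_prime_orderOf_dvd_card' r hrN
  have hyo : orderOf (y : L) = r := by rw [Subgroup.orderOf_coe]; exact hy
  have hyQ : ∀ c ∈ Q', (y : L) * c * (y : L)⁻¹ ∈ Q' := by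
    intro c hc
    exact (Subgroup.mem_normalizer_iff.mp y.2 c).mp hc
  refine core_contra hp hq hr hpq hpr hqr Z hZab hZp hZ1 Q' hQ'q hQ'1 (y : L) hyo hyQ ?_ ?_ ?_
  · intro x hx
    exact h1 (x : G) (by rw [Subgroup.orderOf_coe]; exact hx)
  · intro x hx
    exact h2 (x : G) (by rw [Subgroup.orderOf_coe]; exact hx)
  · intro x hx
    exact h3 (x : G) (by rw [Subgroup.orderOf_coe]; exact hx)

end Cfsg.Agent.S3634
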