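import Cfsg.Statements.S3633
import Mathlib
import Cfsg.Agent.S3634
import Cfsg.Agent.Lib.PNilp

set_option autoImplicit false
open Cfsg

namespace Cfsg.Agent.S3633

open Cfsg Cfsg.Agent.Lib.PNilp

section
variable {G : Type*} [Group G] [Finite G]

instance pResidual_char (u : ℕ) (X : Type*) [Group X] : (pResidual u X).Characteristic := by
  rw [Subgroup.characteristic_iff_map_le]
  intro ϕ
  unfold pResidual
  rw [MonoidHom.map_closure, Subgroup.closure_le]
  rintro _ ⟨x, hx, rfl⟩
  apply Subgroup.subset_closure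
  show Nat.Coprime (orderOf (ϕ x)) u
  rw [MulEquiv.orderOf_eq]
  exact hx

/-- A proper normal subgroup of prime power index in a non-trivial solvable normal subgroup. -/
lemma sep (K : Subgroup G) [hKn : K.Normal] (hK1 : K ≠ ⊥) (hK : Group.IsSolvable K) :
    ∃ (K₁ : Subgroup G) (u e : ℕ), K₁.Normal ∧ K₁ ≤ K ∧ u.Prime ∧ 0 < e ∧ Nat.card K = Nat.card K₁ * u ^ e := by
  classical
  haveI : Nontrivial K := (Subgroup.nontrivial_iff_ne_bot K).mpr hK1
  have hcomm : commutator K < ⊤ := Group.IsSolvable.commutator_lt_top_of_nontrivial K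
  haveI hAnt : Nontrivial (Abelianization K) := by
    rw [Abelianization, QuotientGroup.nontrivial_iff]
    exact hcomm.ne
  haveI : Finite (Abelianization K) := by
    unfold Abelianization; infer_instance
  have hcard1 : Nat.card (Abelianization K) ≠ 1 := by
    exact (Finite.one_lt_card).ne'
  obtain ⟨u, hu, hud⟩ := Nat.exists_prime_and_dvd hcard1
  haveI : Fact u.Prime := ⟨hu⟩
  obtain ⟨a, m, hm, hn⟩ := Nat.exists_eq_pow_mul_and_not_dvd (n := Nat.card (Abelianization K)) Nat.card_pos.ne' u hu.ne_one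
  let φ : K →* Abelianization K := (powMonoidHom m).comp Abelianization.of
  set R := pResidual u K with hR
  have hRk : R ≤ φ.ker := by
    rw [hR]
    unfold pResidual
    rw [Subgroup.closure_le]
    intro g hg
    show φ g = 1
    show (Abelianization.of g) ^ m = 1
    have h1 : orderOf (Abelianization.of g) ∣ orderOf g := orderOf_map_dvd _ _
    have h2 : Nat.Coprime (orderOf (Abelianization.of g)) u := Nat.Coprime.coprime_dvd_left h1 hg
    have h3 : orderOf (Abelianization.of g) ∣ u ^ a * m := by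
      rw [← hn]
      exact orderOf_dvd_natCard _
    have h4 : orderOf (Abelianization.of g) ∣ m := (Nat.Coprime.pow_right a h2).dvd_of_dvd_mul_left h3
    exact orderOf_dvd_iff_pow_eq_one.mp h4
  have hRne : R ≠ ⊤ := by
    intro htop
    obtain ⟨c, hc⟩ := exists_prime_orderOf_dvd_card' u hud
    obtain ⟨x, rfl⟩ : ∃ x : K, Abelianization.of x = c := QuotientGroup.mk_surjective c
    have h1 : x ∈ φ.ker := hRk (by rw [htop]; trivial)
    have h2 : (Abelianization.of x) ^ m = 1 := h1
    have h3 := orderOf_dvd_of_pow_eq_one h2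
    rw [hc] at h3
    exact hm h3
  have hq : IsPGroup u (K ⧸ R) := isPGroup_quotient_pResidual
  obtain ⟨e, he⟩ := IsPGroup.iff_card.mp hq
  haveI : R.Characteristic := pResidual_char u K
  refine ⟨R.map K.subtype, u, e, Cfsg.Agent.Lib.H1Core.normal_map_of_characteristic K R, Subgroup.map_subtype_le _, hu, ?_, ?_⟩
  · rcases Nat.eq_zero_or_pos e with h0 | h0
    · exfalso
      rw [h0, pow_zero] at he
      have : R = ⊤ := by
        rw [← Subgroup.index_eq_one, Subgroup.index]
        exact he
      exact hRne this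
    · exact h0
  · rw [← he]
    have e1 : Nat.card (R.map K.subtype) = Nat.card R :=
      Nat.card_congr (Subgroup.equivMapOfInjective R K.subtype K.subtype_injective).symm.toEquiv
    rw [e1, mul_comm]
    exact Subgroup.card_eq_card_quotient_mul_card_subgroup R

lemma main_lemma (ρ : Finset ℕ) (hρ : 3 ≤ ρ.card) (hc : ((∀ r ∈ ρ, r.Prime ∧ r ∣ Nat.card G) ∧ (∀ r ∈ ρ, ∀ s ∈ ρ, r ≠ s → ¬ ∃ x : G, orderOf x = r * s))) :
    ∀ (n : ℕ) (K : Subgroup G), K.Normal → Nat.card K = n → Group.IsSolvable K →
      ∀ r ∈ ρ, ∀ s ∈ ρ, r ∣ Nat.card K → s ∣ Nat.card K → r = s := by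
  classical
  intro n
  induction n using Nat.strong_induction_on with
  | _ n ih =>
    intro K hKn hcK hKs r hr s hs hrd hsd
    by_contra hrs
    haveI := hKn
    have hK1 : K ≠ ⊥ := by
      intro e
      rw [e, Subgroup.card_bot] at hrd
      exact (hc.1 r hr).1.one_lt.ne' (Nat.dvd_one.mp hrd)
    obtain ⟨K₁, u, e, hK₁n, hK₁K, hu, he, hcard⟩ := sep K hK1 hKs
    haveI := hK₁n
    have hK₁s : Group.IsSolvable K₁ :=
      Group.isSolvable_of_isSolvable_injective (f := Subgroup.inclusion hK₁K) (Subgroup.inclusion_injective hK₁K)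
    have hlt : Nat.card K₁ < n := by
      rw [← hcK, hcard]
      have h1 : 0 < Nat.card K₁ := Nat.card_pos
      have h2 : 1 < u ^ e := Nat.one_lt_pow he.ne' hu.one_lt
      nlinarith
    have hIH := ih _ hlt K₁ hK₁n rfl hK₁s
    -- a third prime
    obtain ⟨t, ht, htr, hts⟩ : ∃ t ∈ ρ, t ≠ r ∧ t ≠ s := by
      by_contra hcon
      push Not at hcon
      have : ρ ⊆ {r, s} := by
        intro t ht
        by_cases h : t = r
        · simp [h]
        · simp [hcon t ht h]
      have := Finset.card_le_card this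
      have h2 : ({r, s} : Finset ℕ).card ≤ 2 := Finset.card_le_two
      omega
    -- primes dividing `K`
    have hdiv : ∀ w : ℕ, w.Prime → w ∣ Nat.card K → w = u ∨ w ∣ Nat.card K₁ := by
      intro w hw hwd
      rw [hcard] at hwd
      rcases (Nat.Prime.dvd_mul hw).mp hwd with h | h
      · exact Or.inr h
      · exact Or.inl ((Nat.prime_dvd_prime_iff_eq hw hu).mp (hw.dvd_of_dvd_pow h))
    -- the final step
    have hfinal : ∀ p₁ ∈ ρ, p₁ ∣ Nat.card K₁ → u ∈ ρ → p₁ ≠ u → t ≠ p₁ → t ≠ u → False := by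
      intro p₁ hp₁ hp₁d huρ hp₁u htp₁ htu
      by_cases htd : t ∣ Nat.card K₁
      · exact htp₁ (hIH t ht p₁ hp₁ htd hp₁d)
      · have htK : ¬ t ∣ Nat.card K := by
          intro h
          rcases hdiv t (hc.1 t ht).1 h with h' | h'
          · exact htu h'
          · exact htd h'
        have h1 : u ∣ Nat.card K / Nat.card K₁ := by
          rw [hcard, Nat.mul_div_cancel_left _ Nat.card_pos]
          exact dvd_pow_self u he.ne'
        have h2 : t ∣ Nat.card G / Nat.card K := by
          have e1 := Subgroup.card_mul_index K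
          have h3 := (hc.1 t ht).2
          rw [← e1] at h3
          rw [← e1, Nat.mul_div_cancel_left _ Nat.card_pos]
          exact ((Nat.Prime.dvd_mul (hc.1 t ht).1).mp h3).resolve_left htK
        have hres := Cfsg.Agent.S3634.result K₁ K hK₁K p₁ u t (hc.1 p₁ hp₁).1 hu (hc.1 t ht).1 hp₁u htp₁.symm htu.symm hp₁d h1 h2
        rcases hres with hres | hres | hres
        · exact hc.2 p₁ hp₁ u huρ hp₁u hres
        · exact hc.2 p₁ hp₁ t ht htp₁.symm hres
        · exact hc.2 u huρ t ht htu.symm hres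
    rcases hdiv r (hc.1 r hr).1 hrd with hru | hru
    · -- `r = u`
      have hsu : s ≠ u := fun h => hrs (hru.trans h.symm)
      have hs1 := (hdiv s (hc.1 s hs).1 hsd).resolve_left hsu
      exact hfinal s hs hs1 (hru ▸ hr) hsu hts (hru ▸ htr)
    · rcases hdiv s (hc.1 s hs).1 hsd with hsu | hsu
      · have hru' : r ≠ u := fun h => hrs (h.trans hsu.symm)
        exact hfinal r hr hru (hsu ▸ hs) hru' htr (hsu ▸ hts)
      · exact hrs (hIH r hr s hs hru hsu)
end

/-- Let G be a finite group and ρ a set of at least three prime divisors of the order of G that are pairwise non-adjacent in the prime graph (no element of order rs for distinct r, s ∈ ρ). Then at most one prime of ρ divides the order of any given solvable normal subgroup of G; in particular G is not solvable. -/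
theorem result {G : Type*} [Group G] [Finite G] (ρ : Finset ℕ) (hρ : 3 ≤ ρ.card) (hc : ((∀ r ∈ ρ, r.Prime ∧ r ∣ Nat.card G) ∧ (∀ r ∈ ρ, ∀ s ∈ ρ, r ≠ s → ¬ ∃ x : G, orderOf x = r * s)))
    (K : Subgroup G) [K.Normal] (hK : Group.IsSolvable ↥K) :
    (∀ r ∈ ρ, ∀ s ∈ ρ, r ∣ Nat.card ↥K → s ∣ Nat.card ↥K → r = s) ∧ ¬ Group.IsSolvable G := by
  refine ⟨fun r hr s hs hrd hsd => main_lemma ρ hρ hc _ K inferInstance rfl hK r hr s hs hrd hsd, fun hG => ?_⟩
  have htop : Group.IsSolvable (⊤ : Subgroup G) :=
    Group.isSolvable_of_isSolvable_injective (f := (⊤ : Subgroup G).subtype) (Subgroup.subtype_injective _)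
  have hcard : Nat.card (⊤ : Subgroup G) = Nat.card G := Subgroup.card_top
  obtain ⟨r, hr, s, hs, hrs⟩ : ∃ r ∈ ρ, ∃ s ∈ ρ, r ≠ s := by
    have : 1 < ρ.card := by omega
    exact Finset.one_lt_card.mp this
  apply hrs
  apply main_lemma ρ hρ hc _ ⊤ inferInstance rfl htop r hr s hs
  · rw [hcard]; exact (hc.1 r hr).2
  · rw [hcard]; exact (hc.1 s hs).2

end Cfsg.Agent.S3633
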