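import Cfsg.Statements.S4416
import Mathlib
import Cfsg.Agent.Lib.PGrp2
-- import your own Cfsg.Agent.* helpers here

set_option autoImplicit false
open Cfsg

namespace Cfsg.Agent.S4416

universe u v
open scoped commutatorElement

/-- element-level description of an extraspecial `2`-group (or a group of order two) -/
structure XS {E : Type*} [Group E] (z : E) : Prop where
  hz1 : z ≠ 1
  hzz : z * z = 1
  hzc : ∀ g, g * z = z * g
  hcen : ∀ g, (∀ h, g * h = h * g) → g = 1 ∨ g = z
  hsq : ∀ g : E, g * g = 1 ∨ g * g = z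
  hcomm : ∀ a b : E, a * b = b * a ∨ a * b = z * (b * a)

theorem xs_of_ex {E : Type*} [Group E] [Finite E] (h : Cfsg.IsExtraspecial 2 E) :
    ∃ z : E, XS z ∧ ∃ a b : E, b * a = z * (a * b) := by
  obtain ⟨⟨hP, hΦ, hc⟩, hZ⟩ := h
  haveI : Fact (Nat.Prime 2) := ⟨Nat.prime_two⟩
  obtain ⟨y, hy, huniq⟩ := (Nat.card_eq_two_iff' (1 : Subgroup.center E)).1 hZ
  have hz1 : (y : E) ≠ 1 := fun h => hy (Subtype.ext h)
  have hzc : ∀ g : E, g * y = y * g := fun g => (Subgroup.mem_center_iff.1 y.2 g)
  have hmem : ∀ w ∈ Subgroup.center E, w = 1 ∨ w = (y : E) := by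
    intro w hw
    by_cases h1 : w = 1
    · exact Or.inl h1
    · right
      have := huniq ⟨w, hw⟩ (fun h => h1 (congrArg Subtype.val h))
      exact congrArg Subtype.val this
  have hzz : (y : E) * y = 1 := by
    rcases hmem _ (mul_mem y.2 y.2) with h | h
    · exact h
    · exact absurd (mul_eq_left.1 h) hz1
  have hcomm : ∀ a b : E, a * b = b * a ∨ a * b = (y : E) * (b * a) := by
    intro a b
    have h1 : ⁅a, b⁆ ∈ commutator E := by
      rw [commutator_def]
      exact Subgroup.commutator_mem_commutator (Subgroup.mem_top _) (Subgroup.mem_top _)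
    rw [hc] at h1
    rcases hmem _ h1 with h | h
    · left
      exact commutatorElement_eq_one_iff_mul_comm.1 h
    · right
      rw [← h, commutatorElement_def]
      group
  refine ⟨y, ⟨hz1, hzz, hzc, ?_, ?_, hcomm⟩, ?_⟩
  · intro g hg
    exact hmem g (Subgroup.mem_center_iff.2 fun h => (hg h).symm)
  · intro g
    have := Cfsg.Agent.Lib.PGrp.pow_mem_frattini hP g
    rw [hΦ, pow_two] at this
    exact hmem _ this
  · by_contra hno
    push Not at hno
    have hall : ∀ a b : E, a * b = b * a := by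
      intro a b
      rcases hcomm a b with h | h
      · exact h
      · exact absurd h (hno b a)
    have h1 : (y : E) ∈ commutator E := by rw [hc]; exact y.2
    have h2 : commutator E ≤ ⊥ := by
      rw [commutator_def, Subgroup.commutator_le]
      intro g₁ _ g₂ _
      rw [Subgroup.mem_bot]
      exact commutatorElement_eq_one_iff_mul_comm.2 (hall _ _)
    exact hz1 (Subgroup.mem_bot.1 (h2 h1))

theorem ex_of_xs {E : Type*} [Group E] [Finite E] {z : E} (h : XS z) (a b : E)
    (hba : b * a = z * (a * b)) : Cfsg.IsExtraspecial 2 E := by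
  haveI : Fact (Nat.Prime 2) := ⟨Nat.prime_two⟩
  have hP : IsPGroup 2 E := fun g => ⟨2, by
    rcases h.hsq g with h1 | h1
    · rw [show (2 : ℕ) ^ 2 = 2 + 2 by norm_num, pow_add, pow_two, h1, one_mul]
    · rw [show (2 : ℕ) ^ 2 = 2 + 2 by norm_num, pow_add, pow_two, h1, h.hzz]⟩
  have hzmem : z ∈ Subgroup.center E := Subgroup.mem_center_iff.2 h.hzc
  have hmem : ∀ w ∈ Subgroup.center E, w = 1 ∨ w = z := fun w hw =>
    h.hcen w fun k => (Subgroup.mem_center_iff.1 hw k).symm
  have hle1 : commutator E ≤ Subgroup.center E := by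
    rw [commutator_def, Subgroup.commutator_le]
    intro x _ y _
    rcases h.hcomm x y with h1 | h1
    · rw [commutatorElement_eq_one_iff_mul_comm.2 h1]; exact one_mem _
    · have : ⁅x, y⁆ = z := by
        rw [commutatorElement_def, h1]; group
      rw [this]; exact hzmem
  have hle2 : Subgroup.center E ≤ commutator E := by
    intro w hw
    rcases hmem w hw with rfl | rfl
    · exact one_mem _
    · have : ⁅b, a⁆ = w := by
        rw [commutatorElement_def, hba]; group
      rw [← this, commutator_def]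
      exact Subgroup.commutator_mem_commutator (Subgroup.mem_top _) (Subgroup.mem_top _)
  refine ⟨⟨hP, le_antisymm ?_ (hle2.trans (Cfsg.Agent.Lib.PGrp.commutator_le_frattini hP)),
    le_antisymm hle1 hle2⟩, ?_⟩
  · refine Cfsg.Agent.Lib.PGrp.frattini_le_of hP _ hle1 fun x => ?_
    rw [pow_two]
    rcases h.hsq x with h1 | h1
    · rw [h1]; exact one_mem _
    · rw [h1]; exact hzmem
  · refine (Nat.card_eq_two_iff' (1 : Subgroup.center E)).2 ⟨⟨z, hzmem⟩, ?_, ?_⟩
    · exact fun e => h.hz1 (congrArg Subtype.val e)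
    · intro y hy
      rcases hmem y.1 y.2 with h1 | h1
      · exact absurd (Subtype.ext h1) hy
      · exact Subtype.ext h1

section NF
variable {E : Type*} [Group E]

def u (a b : E) (p : Bool × Bool) : E := (if p.1 then a else 1) * (if p.2 then b else 1)

def zeta (α β ω : E) (p q : Bool × Bool) : E :=
  (if p.1 && q.1 then α else 1) * (if p.2 && q.2 then β else 1) * (if p.2 && q.1 then ω else 1)

def pxor (p q : Bool × Bool) : Bool × Bool := (xor p.1 q.1, xor p.2 q.2)

theorem map_zeta {H : Type*} [Group H] (f : E →* H) (α β ω : E) (p q : Bool × Bool) :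
    f (zeta α β ω p q) = zeta (f α) (f β) (f ω) p q := by
  simp only [zeta, map_mul, apply_ite f, map_one]

theorem u_mul {a b z : E} (hzz : z * z = 1) (hza : a * z = z * a) (hzb : b * z = z * b)
    (hba : b * a = z * (a * b)) (p q : Bool × Bool) :
    u a b p * u a b q = u a b (pxor p q) * zeta (a * a) (b * b) z p q := by
  have hzz' : ∀ x, z * (z * x) = x := fun x => by rw [← mul_assoc, hzz, one_mul]
  have hza' : ∀ x, a * (z * x) = z * (a * x) := fun x => by rw [← mul_assoc, hza, mul_assoc]
  have hzb' : ∀ x, b * (z * x) = z * (b * x) := fun x => by rw [← mul_assoc, hzb, mul_assoc]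
  have hba' : ∀ x, b * (a * x) = z * (a * (b * x)) := fun x => by
    rw [← mul_assoc, hba]; simp only [mul_assoc]
  rcases p with ⟨_ | _, _ | _⟩ <;> rcases q with ⟨_ | _, _ | _⟩ <;>
    simp [u, zeta, pxor, mul_assoc, hzz, hzz', hza, hzb, hza', hzb', hba, hba']

theorem u_a {a b z : E} (hzz : z * z = 1) (hza : a * z = z * a) (hzb : b * z = z * b)
    (hba : b * a = z * (a * b)) (p : Bool × Bool) :
    u a b p * a = (if p.2 then z else 1) * (a * u a b p) := by
  have hzz' : ∀ x, z * (z * x) = x := fun x => by rw [← mul_assoc, hzz, one_mul]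
  have hza' : ∀ x, a * (z * x) = z * (a * x) := fun x => by rw [← mul_assoc, hza, mul_assoc]
  have hzb' : ∀ x, b * (z * x) = z * (b * x) := fun x => by rw [← mul_assoc, hzb, mul_assoc]
  have hba' : ∀ x, b * (a * x) = z * (a * (b * x)) := fun x => by
    rw [← mul_assoc, hba]; simp only [mul_assoc]
  rcases p with ⟨_ | _, _ | _⟩ <;>
    simp [u, mul_assoc, hzz, hzz', hza, hzb, hza', hzb', hba, hba']

theorem u_b {a b z : E} (hzz : z * z = 1) (hza : a * z = z * a) (hzb : b * z = z * b)
    (hba : b * a = z * (a * b)) (p : Bool × Bool) :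
    u a b p * b = (if p.1 then z else 1) * (b * u a b p) := by
  have hzz' : ∀ x, z * (z * x) = x := fun x => by rw [← mul_assoc, hzz, one_mul]
  have hza' : ∀ x, a * (z * x) = z * (a * x) := fun x => by rw [← mul_assoc, hza, mul_assoc]
  have hzb' : ∀ x, b * (z * x) = z * (b * x) := fun x => by rw [← mul_assoc, hzb, mul_assoc]
  have hba' : ∀ x, b * (a * x) = z * (a * (b * x)) := fun x => by
    rw [← mul_assoc, hba]; simp only [mul_assoc]
  rcases p with ⟨_ | _, _ | _⟩ <;>
    simp [u, mul_assoc, hzz, hzz', hza, hzb, hza', hzb', hba, hba']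

theorem comm_of_same (x y w ε : E) (hx : x * w = ε * (w * x)) (hy : y * w = ε * (w * y)) :
    y⁻¹ * x * w = w * (y⁻¹ * x) := by
  have h1 : w * y⁻¹ = y⁻¹ * ε * w := by
    calc w * y⁻¹ = y⁻¹ * (y * w) * y⁻¹ := by group
      _ = y⁻¹ * (ε * (w * y)) * y⁻¹ := by rw [hy]
      _ = y⁻¹ * ε * w := by group
  calc y⁻¹ * x * w = y⁻¹ * (x * w) := by rw [mul_assoc]
    _ = y⁻¹ * (ε * (w * x)) := by rw [hx]
    _ = (y⁻¹ * ε * w) * x := by simp only [mul_assoc]
    _ = w * (y⁻¹ * x) := by rw [← h1, mul_assoc]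

def centC (a b : E) : Subgroup E := Subgroup.centralizer {a, b}

theorem mem_centC {a b c : E} : c ∈ centC a b ↔ c * a = a * c ∧ c * b = b * c := by
  simp only [centC, Subgroup.mem_centralizer_iff, Set.mem_insert_iff, Set.mem_singleton_iff,
    forall_eq_or_imp, forall_eq]
  constructor
  · rintro ⟨h1, h2⟩; exact ⟨h1.symm, h2.symm⟩
  · rintro ⟨h1, h2⟩; exact ⟨h1.symm, h2.symm⟩

theorem comm_u {a b c : E} (hc : c ∈ centC a b) (p : Bool × Bool) :
    c * u a b p = u a b p * c := by
  obtain ⟨h1, h2⟩ := mem_centC.1 hc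
  have h3 : Commute c (if p.1 then a else 1) := by
    split_ifs
    · exact h1
    · exact Commute.one_right c
  have h4 : Commute c (if p.2 then b else 1) := by
    split_ifs
    · exact h2
    · exact Commute.one_right c
  exact (h3.mul_right h4)

theorem ite_inj {z : E} (hz : z ≠ 1) (s t : Bool)
    (h : (if s then z else 1) = (if t then z else 1)) : s = t := by
  cases s <;> cases t <;> simp_all [eq_comm]

theorem rel_a {a b z : E} (hzz : z * z = 1) (hza : a * z = z * a) (hzb : b * z = z * b)
    (hba : b * a = z * (a * b)) (p : Bool × Bool) (c : centC a b) :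
    (u a b p * (c : E)) * a = (if p.2 then z else 1) * (a * (u a b p * (c : E))) := by
  have h1 := (mem_centC.1 c.2).1
  calc (u a b p * (c : E)) * a = u a b p * ((c : E) * a) := by rw [mul_assoc]
    _ = (u a b p * a) * c := by rw [h1, mul_assoc]
    _ = _ := by rw [u_a hzz hza hzb hba]; simp only [mul_assoc]

theorem rel_b {a b z : E} (hzz : z * z = 1) (hza : a * z = z * a) (hzb : b * z = z * b)
    (hba : b * a = z * (a * b)) (p : Bool × Bool) (c : centC a b) :
    (u a b p * (c : E)) * b = (if p.1 then z else 1) * (b * (u a b p * (c : E))) := by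
  have h1 := (mem_centC.1 c.2).2
  calc (u a b p * (c : E)) * b = u a b p * ((c : E) * b) := by rw [mul_assoc]
    _ = (u a b p * b) * c := by rw [h1, mul_assoc]
    _ = _ := by rw [u_b hzz hza hzb hba]; simp only [mul_assoc]

theorem F_bij {a b z : E} (hX : XS z) (hba : b * a = z * (a * b)) :
    Function.Bijective (fun q : (Bool × Bool) × centC a b => u a b q.1 * (q.2 : E)) := by
  have hza := hX.hzc a
  have hzb := hX.hzc b
  constructor
  · rintro ⟨p, c⟩ ⟨q, d⟩ h
    simp only at h
    have e1 := rel_a hX.hzz hza hzb hba p c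
    have e2 := rel_a hX.hzz hza hzb hba q d
    have e3 := rel_b hX.hzz hza hzb hba p c
    have e4 := rel_b hX.hzz hza hzb hba q d
    rw [h] at e1 e3
    have h2 : p.2 = q.2 := ite_inj hX.hz1 _ _ (mul_right_cancel (e1.symm.trans e2))
    have h1 : p.1 = q.1 := ite_inj hX.hz1 _ _ (mul_right_cancel (e3.symm.trans e4))
    have hpq : p = q := Prod.ext h1 h2
    subst hpq
    have hcd : c = d := Subtype.ext (mul_left_cancel h)
    rw [hcd]
  · intro x
    classical
    let p : Bool × Bool := (decide (¬ x * b = b * x), decide (¬ x * a = a * x))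
    have hxa : x * a = (if p.2 then z else 1) * (a * x) := by
      by_cases h : x * a = a * x
      · simp [p, h]
      · simp only [p, h, not_false_eq_true, decide_true, if_true]
        exact (hX.hcomm x a).resolve_left h
    have hxb : x * b = (if p.1 then z else 1) * (b * x) := by
      by_cases h : x * b = b * x
      · simp [p, h]
      · simp only [p, h, not_false_eq_true, decide_true, if_true]
        exact (hX.hcomm x b).resolve_left h
    have hmem : (u a b p)⁻¹ * x ∈ centC a b :=
      mem_centC.2 ⟨comm_of_same _ _ _ _ hxa (u_a hX.hzz hza hzb hba p),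
        comm_of_same _ _ _ _ hxb (u_b hX.hzz hza hzb hba p)⟩
    exact ⟨(p, ⟨_, hmem⟩), by simp⟩

theorem card_eq_four [Finite E] {a b z : E} (hX : XS z) (hba : b * a = z * (a * b)) :
    Nat.card E = 4 * Nat.card (centC a b) := by
  rw [← Nat.card_congr (Equiv.ofBijective _ (F_bij hX hba)), Nat.card_prod, Nat.card_prod]
  simp

theorem z_mem {a b z : E} (hX : XS z) : z ∈ centC a b :=
  mem_centC.2 ⟨(hX.hzc a).symm, (hX.hzc b).symm⟩

theorem xs_C {a b z : E} (hX : XS z) (hba : b * a = z * (a * b)) :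
    XS (⟨z, z_mem hX⟩ : centC a b) := by
  refine ⟨fun h => hX.hz1 (congrArg Subtype.val h), Subtype.ext hX.hzz,
    fun g => Subtype.ext (hX.hzc g), ?_, ?_, ?_⟩
  · intro g hg
    have hall : ∀ h : E, (g : E) * h = h * g := by
      intro h
      obtain ⟨⟨p, c⟩, rfl⟩ := (F_bij hX hba).2 h
      simp only
      have h1 : (g : E) * c = c * g := congrArg Subtype.val (hg c)
      calc (g : E) * (u a b p * c) = ((g : E) * u a b p) * c := by rw [mul_assoc]
        _ = (u a b p * g) * c := by rw [comm_u g.2]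
        _ = u a b p * ((g : E) * c) := by rw [mul_assoc]
        _ = (u a b p * c) * g := by rw [h1, mul_assoc]
    rcases hX.hcen _ hall with h | h
    · exact Or.inl (Subtype.ext h)
    · exact Or.inr (Subtype.ext h)
  · intro g
    rcases hX.hsq g with h | h
    · exact Or.inl (Subtype.ext h)
    · exact Or.inr (Subtype.ext h)
  · intro x y
    rcases hX.hcomm x y with h | h
    · exact Or.inl (Subtype.ext h)
    · exact Or.inr (Subtype.ext h)

theorem dich_C [Finite E] {a b z : E} (hX : XS z) (hba : b * a = z * (a * b)) :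
    Nat.card (centC a b) = 2 ∨ Cfsg.IsExtraspecial 2 (centC a b) := by
  have hXC := xs_C hX hba
  by_cases h : ∃ x y : centC a b, y * x = ⟨z, z_mem hX⟩ * (x * y)
  · obtain ⟨x, y, hxy⟩ := h
    exact Or.inr (ex_of_xs hXC x y hxy)
  · left
    push Not at h
    have hall : ∀ x y : centC a b, x * y = y * x := by
      intro x y
      rcases hXC.hcomm x y with h1 | h1
      · exact h1
      · exact absurd h1 (h y x)
    refine (Nat.card_eq_two_iff' (1 : centC a b)).2 ⟨⟨z, z_mem hX⟩, hXC.hz1, ?_⟩
    intro y hy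
    exact (hXC.hcen y (hall y)).resolve_left hy

theorem cnt_formula [Finite E] {a b z : E} (hX : XS z) (hba : b * a = z * (a * b))
    (haa : a * a = 1) (hbb : b * b = 1) :
    Nat.card {x : E // x ^ 2 = 1} =
      2 * Nat.card {c : centC a b // c ^ 2 = 1} + Nat.card (centC a b) := by
  classical
  have hF := F_bij hX hba
  have h1 : Nat.card {x : E // x ^ 2 = 1} =
      Nat.card {q : (Bool × Bool) × centC a b // (u a b q.1 * (q.2 : E)) ^ 2 = 1} :=
    (Nat.card_congr ((Equiv.ofBijective _ hF).subtypeEquiv (fun q => Iff.rfl))).symm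
  have h2 : Nat.card {q : (Bool × Bool) × centC a b // (u a b q.1 * (q.2 : E)) ^ 2 = 1} =
      Nat.card (Σ p : Bool × Bool, {c : centC a b // (u a b p * (c : E)) ^ 2 = 1}) :=
    Nat.card_congr (Equiv.subtypeProdEquivSigmaSubtype
      (fun (p : Bool × Bool) (c : centC a b) => (u a b p * (c : E)) ^ 2 = 1))
  have hsq : ∀ (p : Bool × Bool) (c : centC a b),
      (u a b p * (c : E)) ^ 2 = (u a b p) ^ 2 * (c : E) ^ 2 := by
    intro p c
    exact Commute.mul_pow (comm_u c.2 p).symm 2
  have hcc : ∀ c : centC a b, (c : E) ^ 2 = 1 ↔ c ^ 2 = 1 := by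
    intro c
    rw [Subtype.ext_iff]
    simp
  have hu00 : (u a b (false, false)) ^ 2 = 1 := by simp [u]
  have hu10 : (u a b (true, false)) ^ 2 = 1 := by simp [u, pow_two, haa]
  have hu01 : (u a b (false, true)) ^ 2 = 1 := by simp [u, pow_two, hbb]
  have hu11 : (u a b (true, true)) ^ 2 = z := by
    have h3 := u_mul hX.hzz (hX.hzc a) (hX.hzc b) hba (true, true) (true, true)
    rw [pow_two, h3]
    simp [u, zeta, pxor, haa, hbb]
  have e00 : Nat.card {c : centC a b // (u a b (false, false) * (c : E)) ^ 2 = 1} =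
      Nat.card {c : centC a b // c ^ 2 = 1} :=
    Nat.card_congr (Equiv.subtypeEquivRight fun c => by rw [hsq, hu00, one_mul, hcc])
  have e10 : Nat.card {c : centC a b // (u a b (true, false) * (c : E)) ^ 2 = 1} =
      Nat.card {c : centC a b // c ^ 2 = 1} :=
    Nat.card_congr (Equiv.subtypeEquivRight fun c => by rw [hsq, hu10, one_mul, hcc])
  have e01 : Nat.card {c : centC a b // (u a b (false, true) * (c : E)) ^ 2 = 1} =
      Nat.card {c : centC a b // c ^ 2 = 1} :=
    Nat.card_congr (Equiv.subtypeEquivRight fun c => by rw [hsq, hu01, one_mul, hcc])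
  have e11 : Nat.card {c : centC a b // (u a b (true, true) * (c : E)) ^ 2 = 1} =
      Nat.card {c : centC a b // ¬ c ^ 2 = 1} := by
    refine Nat.card_congr (Equiv.subtypeEquivRight fun c => ?_)
    rw [hsq, hu11, ← hcc]
    rw [pow_two (c : E)]
    rcases hX.hsq (c : E) with h | h
    · rw [h, mul_one]
      simp [hX.hz1]
    · rw [h, hX.hzz]
      simp [hX.hz1]
  have e5 : Nat.card {c : centC a b // c ^ 2 = 1} + Nat.card {c : centC a b // ¬ c ^ 2 = 1} =
      Nat.card (centC a b) := by
    rw [← Nat.card_sum]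
    exact Nat.card_congr (Equiv.sumCompl _)
  rw [h1, h2, Nat.card_sigma, Fintype.sum_prod_type]
  simp only [Fintype.sum_bool]
  rw [e00, e10, e01, e11]
  omega

theorem cnt_ne_two_iff {z : E} (hX : XS z) :
    (∃ g : E, g * g = 1 ∧ g ≠ 1 ∧ g ≠ z) ↔ Nat.card {x : E // x ^ 2 = 1} ≠ 2 := by
  let one : {x : E // x ^ 2 = 1} := ⟨1, by simp⟩
  let zz : {x : E // x ^ 2 = 1} := ⟨z, by rw [pow_two]; exact hX.hzz⟩
  have hzz : zz ≠ one := fun e => hX.hz1 (congrArg Subtype.val e)
  constructor
  · rintro ⟨g, hg, h1, h2⟩ hc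
    obtain ⟨y, -, hu⟩ := (Nat.card_eq_two_iff' one).1 hc
    have e1 := hu ⟨g, by rw [pow_two]; exact hg⟩ (fun e => h1 (congrArg Subtype.val e))
    have e2 := hu zz hzz
    exact h2 (congrArg Subtype.val (e1.trans e2.symm))
  · intro hne
    by_contra hno
    push Not at hno
    apply hne
    refine (Nat.card_eq_two_iff' one).2 ⟨zz, hzz, fun y hy => Subtype.ext ?_⟩
    exact hno y.1 (by rw [← pow_two]; exact y.2) (fun e => hy (Subtype.ext e))

theorem exists_pair {z : E} (hX : XS z) (g : E) (hg : g * g = 1) (h1 : g ≠ 1) (h2 : g ≠ z) :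
    ∃ a b : E, a * a = 1 ∧ b * b = 1 ∧ b * a = z * (a * b) := by
  have hnc : ¬ ∀ h, g * h = h * g := fun h => by
    rcases hX.hcen g h with h3 | h3
    · exact h1 h3
    · exact h2 h3
  push Not at hnc
  obtain ⟨h, hh⟩ := hnc
  have hgh : g * h = z * (h * g) := (hX.hcomm g h).resolve_left hh
  have hzz' : ∀ x, z * (z * x) = x := fun x => by rw [← mul_assoc, hX.hzz, one_mul]
  have hhg : h * g = z * (g * h) := by rw [hgh, hzz']
  have hzg' : ∀ x, g * (z * x) = z * (g * x) := fun x => by
    rw [← mul_assoc, hX.hzc, mul_assoc]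
  have hhg' : ∀ x, h * (g * x) = z * (g * (h * x)) := fun x => by
    rw [← mul_assoc, hhg]; simp only [mul_assoc]
  have hgg' : ∀ x, g * (g * x) = x := fun x => by rw [← mul_assoc, hg, one_mul]
  rcases hX.hsq h with h3 | h3
  · exact ⟨g, h, hg, h3, hhg⟩
  · refine ⟨g, g * h, hg, ?_, ?_⟩
    · simp only [mul_assoc, hhg', hzg', hgg', h3, hX.hzz]
    · simp only [mul_assoc, hhg, hzg', hgg']

theorem card_C_of_noinv [Finite E] {a b z : E} (hX : XS z) (hba : b * a = z * (a * b))
    (hno : ∀ g : E, g * g = 1 → g = 1 ∨ g = z) : Nat.card (centC a b) = 2 := by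
  have hXC := xs_C hX hba
  have hab : ¬ a * b = b * a := by
    intro h
    rw [hba] at h
    exact hX.hz1 (mul_eq_right.1 h.symm)
  have haa : a * a = z := by
    rcases hX.hsq a with h | h
    · exfalso
      rcases hno a h with h1 | h1
      · exact hab (by rw [h1]; simp)
      · exact hab (by rw [h1]; exact (hX.hzc b).symm)
    · exact h
  refine (Nat.card_eq_two_iff' (1 : centC a b)).2 ⟨⟨z, z_mem hX⟩, hXC.hz1, ?_⟩
  intro y hy
  have hy1 : (y : E) ≠ 1 := fun e => hy (Subtype.ext e)
  by_contra hne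
  have hyz : (y : E) ≠ z := fun e => hne (Subtype.ext e)
  have hyy : (y : E) * y = z := by
    rcases hX.hsq (y : E) with h | h
    · rcases hno _ h with h1 | h1
      · exact absurd h1 hy1
      · exact absurd h1 hyz
    · exact h
  have hya := (mem_centC.1 y.2).1
  have hyb := (mem_centC.1 y.2).2
  have h1 : (a * y) * (a * y) = 1 := by
    calc (a * y) * (a * y) = a * ((y : E) * a) * y := by simp only [mul_assoc]
      _ = (a * a) * ((y : E) * y) := by rw [hya]; simp only [mul_assoc]
      _ = 1 := by rw [haa, hyy, hX.hzz]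
  have h2 : (a * y) * b = b * (a * y) := by
    rcases hno _ h1 with h3 | h3
    · rw [h3]; simp
    · rw [h3]; exact hX.hzc b |>.symm
  apply hab
  have h3 : a * (y * b) = b * (a * y) := by rw [← mul_assoc]; exact h2
  rw [hyb, ← mul_assoc, ← mul_assoc] at h3
  exact mul_right_cancel h3

theorem sqs_of_noinv {x y w : E} (hW : XS w) (hyx : y * x = w * (x * y))
    (hn : ∀ g : E, g * g = 1 → g = 1 ∨ g = w) : x * x = w ∧ y * y = w := by
  have hne : ¬ x * y = y * x := by
    intro h
    rw [hyx] at h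
    exact hW.hz1 (mul_eq_right.1 h.symm)
  constructor
  · rcases hW.hsq x with h | h
    · exfalso
      rcases hn x h with h1 | h1
      · exact hne (by rw [h1]; simp)
      · exact hne (by rw [h1]; exact (hW.hzc y).symm)
    · exact h
  · rcases hW.hsq y with h | h
    · exfalso
      rcases hn y h with h1 | h1
      · exact hne (by rw [h1]; simp)
      · exact hne (by rw [h1]; exact hW.hzc x)
    · exact h

theorem F_mul {a b z : E} (hX : XS z) (hba : b * a = z * (a * b)) (α β ω : centC a b)
    (hα : (α : E) = a * a) (hβ : (β : E) = b * b) (hω : (ω : E) = z) (p q : Bool × Bool)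
    (c d : centC a b) :
    (u a b p * (c : E)) * (u a b q * (d : E)) =
      u a b (pxor p q) * ((zeta α β ω p q * (c * d) : centC a b) : E) := by
  have h1 : ((zeta α β ω p q : centC a b) : E) = zeta (a * a) (b * b) z p q := by
    have := map_zeta (centC a b).subtype α β ω p q
    rw [Subgroup.subtype_apply, Subgroup.subtype_apply, Subgroup.subtype_apply,
      Subgroup.subtype_apply, hα, hβ, hω] at this
    exact this
  calc (u a b p * (c : E)) * (u a b q * (d : E)) = u a b p * ((c : E) * u a b q) * d := by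
        simp only [mul_assoc]
    _ = u a b p * (u a b q * c) * d := by rw [comm_u c.2 q]
    _ = (u a b p * u a b q) * ((c : E) * d) := by simp only [mul_assoc]
    _ = u a b (pxor p q) * zeta (a * a) (b * b) z p q * ((c : E) * d) := by
        rw [u_mul hX.hzz (hX.hzc a) (hX.hzc b) hba]
    _ = _ := by
        rw [Subgroup.coe_mul, h1, Subgroup.coe_mul]; simp only [mul_assoc]

end NF

theorem lift {E : Type u} {E' : Type v} [Group E] [Group E'] {a b z : E} {a' b' z' : E'}
    (hX : XS z) (hX' : XS z') (hba : b * a = z * (a * b)) (hba' : b' * a' = z' * (a' * b'))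
    (ι : centC a b ≃* centC a' b') (α β ω : centC a b)
    (hα : (α : E) = a * a) (hβ : (β : E) = b * b) (hω : (ω : E) = z)
    (h1 : ((ι α : centC a' b') : E') = a' * a') (h2 : ((ι β : centC a' b') : E') = b' * b')
    (h3 : ((ι ω : centC a' b') : E') = z') : Nonempty (E ≃* E') := by
  have hF := F_bij hX hba
  have hF' := F_bij hX' hba'
  let Fe := Equiv.ofBijective _ hF
  let Fe' := Equiv.ofBijective _ hF'
  let Φ : E ≃ E' := Fe.symm.trans ((Equiv.prodCongr (Equiv.refl _) ι.toEquiv).trans Fe')
  have hΦ : ∀ (p : Bool × Bool) (c : centC a b),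
      Φ (u a b p * (c : E)) = u a' b' p * ((ι c : centC a' b') : E') := by
    intro p c
    have h4 : Fe.symm (u a b p * (c : E)) = (p, c) := Fe.symm_apply_apply (p, c)
    change Fe' ((Equiv.prodCongr (Equiv.refl _) ι.toEquiv) (Fe.symm (u a b p * (c : E)))) = _
    rw [h4]
    rfl
  refine ⟨MulEquiv.mk' Φ ?_⟩
  intro x y
  obtain ⟨⟨p, c⟩, rfl⟩ := hF.2 x
  obtain ⟨⟨q, d⟩, rfl⟩ := hF.2 y
  simp only
  rw [F_mul hX hba α β ω hα hβ hω, hΦ, hΦ, hΦ, F_mul hX' hba' (ι α) (ι β) (ι ω) h1 h2 h3,
    map_mul, map_mul]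
  have := map_zeta ι.toMonoidHom α β ω p q
  congr 3

theorem iota_z {C : Type u} {C' : Type v} [Group C] [Group C'] {z : C} {z' : C'}
    (hX : XS z) (hX' : XS z') (ι : C ≃* C') : ι z = z' := by
  have hc : ∀ h, ι z * h = h * ι z := by
    intro h
    obtain ⟨w, rfl⟩ := ι.surjective h
    rw [← map_mul, ← map_mul, hX.hzc]
  rcases hX'.hcen _ hc with h | h
  · exact absurd ((map_eq_one_iff ι ι.injective).1 h) hX.hz1
  · exact h

theorem part_a : ∀ (N : ℕ) (E : Type u) [Group E] [Finite E], Nat.card E = N →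
    Cfsg.IsExtraspecial 2 E → ∃ m : ℕ, 1 ≤ m ∧ Nat.card E = 2 ^ (2 * m + 1) ∧
      (Nat.card {x : E // x ^ 2 = 1} = 2 ^ (2 * m) + 2 ^ m ∨
        Nat.card {x : E // x ^ 2 = 1} = 2 ^ (2 * m) - 2 ^ m) := by
  intro N
  induction N using Nat.strong_induction_on with
  | _ N ih =>
    intro E _ _ hN hE
    obtain ⟨z, hX, a₀, b₀, hba₀⟩ := xs_of_ex hE
    by_cases hinv : Nat.card {x : E // x ^ 2 = 1} = 2
    · -- no noncentral involution
      have hno : ∀ g : E, g * g = 1 → g = 1 ∨ g = z := by
        intro g hg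
        by_contra hc
        push Not at hc
        exact (cnt_ne_two_iff hX).1 ⟨g, hg, hc.1, hc.2⟩ hinv
      have h1 := card_C_of_noinv hX hba₀ hno
      have h2 := card_eq_four hX hba₀
      refine ⟨1, le_refl _, ?_, Or.inr ?_⟩
      · rw [h2, h1]; norm_num
      · rw [hinv]; norm_num
    · obtain ⟨g, hg, h1, h2⟩ := (cnt_ne_two_iff hX).2 hinv
      obtain ⟨a, b, haa, hbb, hba⟩ := exists_pair hX g hg h1 h2
      have hcard := card_eq_four hX hba
      have hcnt := cnt_formula hX hba haa hbb
      have hpos : 0 < Nat.card (centC a b) := Nat.card_pos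
      rcases dich_C hX hba with h3 | h3
      · -- order 8
        have hcC : Nat.card {c : centC a b // c ^ 2 = 1} = 2 := by
          have hXC := xs_C hX hba
          by_contra hne
          obtain ⟨w, hw, hw1, hw2⟩ := (cnt_ne_two_iff hXC).2 hne
          obtain ⟨y, -, hu⟩ := (Nat.card_eq_two_iff' (1 : centC a b)).1 h3
          exact hw2 ((hu w hw1).trans (hu _ hXC.hz1).symm)
        refine ⟨1, le_refl _, ?_, Or.inl ?_⟩
        · rw [hcard, h3]; norm_num
        · rw [hcnt, hcC, h3]; norm_num
      · obtain ⟨m, hm, hm1, hm2⟩ := ih (Nat.card (centC a b)) (by omega) (centC a b) rfl h3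
        refine ⟨m + 1, by omega, ?_, ?_⟩
        · rw [hcard, hm1]
          ring
        · have e1 : (2 : ℕ) ^ (2 * (m + 1)) = 4 * 2 ^ (2 * m) := by ring
          have e2 : (2 : ℕ) ^ (m + 1) = 2 * 2 ^ m := by ring
          have e3 : (2 : ℕ) ^ (2 * m + 1) = 2 * 2 ^ (2 * m) := by ring
          have e4 : (2 : ℕ) ^ m ≤ 2 ^ (2 * m) := Nat.pow_le_pow_right (by norm_num) (by omega)
          rw [e1, e2]
          rw [hm1, e3] at hcnt
          rcases hm2 with h5 | h5
          · left; rw [hcnt, h5]; omega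
          · right; rw [hcnt, h5]; omega

theorem part_b : ∀ (N : ℕ) (E : Type u) (E' : Type v) [Group E] [Group E'] [Finite E] [Finite E'],
    Nat.card E = N → Cfsg.IsExtraspecial 2 E → Cfsg.IsExtraspecial 2 E' →
    Nat.card E' = Nat.card E →
    Nat.card {x : E' // x ^ 2 = 1} = Nat.card {x : E // x ^ 2 = 1} → Nonempty (E ≃* E') := by
  intro N
  induction N using Nat.strong_induction_on with
  | _ N ih =>
    intro E E' _ _ _ _ hN hE hE' hc hcnt
    obtain ⟨z, hX, a₀, b₀, hba₀⟩ := xs_of_ex hE
    obtain ⟨z', hX', a₀', b₀', hba₀'⟩ := xs_of_ex hE'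
    have htwo : Nat.Prime 2 := Nat.prime_two
    by_cases hinv : Nat.card {x : E // x ^ 2 = 1} = 2
    · have hinv' : Nat.card {x : E' // x ^ 2 = 1} = 2 := hcnt.trans hinv
      have hno : ∀ g : E, g * g = 1 → g = 1 ∨ g = z := by
        intro g hg
        by_contra hc
        push Not at hc
        exact (cnt_ne_two_iff hX).1 ⟨g, hg, hc.1, hc.2⟩ hinv
      have hno' : ∀ g : E', g * g = 1 → g = 1 ∨ g = z' := by
        intro g hg
        by_contra hc
        push Not at hc
        exact (cnt_ne_two_iff hX').1 ⟨g, hg, hc.1, hc.2⟩ hinv'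
      obtain ⟨h1, h2⟩ := sqs_of_noinv hX hba₀ hno
      obtain ⟨h1', h2'⟩ := sqs_of_noinv hX' hba₀' hno'
      let ι : centC a₀ b₀ ≃* centC a₀' b₀' := mulEquivOfPrimeCardEq (p := 2)
        (card_C_of_noinv hX hba₀ hno) (card_C_of_noinv hX' hba₀' hno')
      have hι := iota_z (xs_C hX hba₀) (xs_C hX' hba₀') ι
      have hι' := congrArg Subtype.val hι
      exact lift hX hX' hba₀ hba₀' ι ⟨z, z_mem hX⟩ ⟨z, z_mem hX⟩ ⟨z, z_mem hX⟩ h1.symm h2.symm rfl
        (hι'.trans h1'.symm) (hι'.trans h2'.symm) hι'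
    · have hinv' : Nat.card {x : E' // x ^ 2 = 1} ≠ 2 := fun h => hinv (hcnt.symm.trans h)
      obtain ⟨g, hg, h1, h2⟩ := (cnt_ne_two_iff hX).2 hinv
      obtain ⟨a, b, haa, hbb, hba⟩ := exists_pair hX g hg h1 h2
      obtain ⟨g', hg', h1', h2'⟩ := (cnt_ne_two_iff hX').2 hinv'
      obtain ⟨a', b', haa', hbb', hba'⟩ := exists_pair hX' g' hg' h1' h2'
      have hcard := card_eq_four hX hba
      have hcard' := card_eq_four hX' hba'
      have hpos : 0 < Nat.card (centC a b) := Nat.card_pos
      have hcC : Nat.card (centC a' b') = Nat.card (centC a b) := by omega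
      have hf := cnt_formula hX hba haa hbb
      have hf' := cnt_formula hX' hba' haa' hbb'
      have hcntC : Nat.card {c : centC a' b' // c ^ 2 = 1} = Nat.card {c : centC a b // c ^ 2 = 1} := by
        omega
      have hιe : Nonempty (centC a b ≃* centC a' b') := by
        rcases dich_C hX hba with h3 | h3
        · exact ⟨mulEquivOfPrimeCardEq (p := 2) h3 (hcC.trans h3)⟩
        · rcases dich_C hX' hba' with h4 | h4
          · exact ⟨mulEquivOfPrimeCardEq (p := 2) (hcC.symm.trans h4) h4⟩
          · exact ih (Nat.card (centC a b)) (by omega) (centC a b) (centC a' b') rfl h3 h4 hcC hcntC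
      obtain ⟨ι⟩ := hιe
      have hι := iota_z (xs_C hX hba) (xs_C hX' hba') ι
      have hι' := congrArg Subtype.val hι
      refine lift hX hX' hba hba' ι 1 1 ⟨z, z_mem hX⟩ ?_ ?_ rfl ?_ ?_ hι'
      · simp [haa]
      · simp [hbb]
      · simp [haa']
      · simp [hbb']

/-- Classification of extraspecial 2-groups in intrinsic form. An extraspecial 2-group has order 2^(2m+1) for some m ≥ 1, and the number of its elements squaring to the identity is either 2^(2m) + 2^m or 2^(2m) − 2^m; two extraspecial 2-groups of the same order with the same number of such elements are isomorphic. (The two cases are the central products of m dihedral groups of order 8, and of m − 1 dihedral groups with one quaternion group.) -/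
theorem result (E : Type*) [Group E] [Finite E] (hE : Cfsg.IsExtraspecial 2 E) :
    (∃ m : ℕ, 1 ≤ m ∧ Nat.card E = 2 ^ (2 * m + 1) ∧
      (Nat.card {x : E // x ^ 2 = 1} = 2 ^ (2 * m) + 2 ^ m ∨ Nat.card {x : E // x ^ 2 = 1} = 2 ^ (2 * m) - 2 ^ m)) ∧
    ∀ (E' : Type*) [Group E'] [Finite E'], Cfsg.IsExtraspecial 2 E' → Nat.card E' = Nat.card E →
      Nat.card {x : E' // x ^ 2 = 1} = Nat.card {x : E // x ^ 2 = 1} → Nonempty (E ≃* E') := by
  exact ⟨part_a _ E rfl hE, fun E' _ _ hE' hc hcnt => part_b _ E E' rfl hE hE' hc hcnt⟩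

end Cfsg.Agent.S4416
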