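import Cfsg.Statements.S3763
import Mathlib
import Cfsg.Agent.S4416
-- import your own Cfsg.Agent.* helpers here

set_option autoImplicit false
open Cfsg

namespace Cfsg.Agent.S3763

universe u v
open Cfsg.Agent.S4416

theorem prank_of_iso {C : Type u} {C' : Type v} [Group C] [Group C'] (ι : C ≃* C') {k : ℕ}
    (h : Cfsg.PRankLE 2 k C) : Cfsg.PRankLE 2 k C' := by
  intro A hA hexp
  have hc := hA.is_comm.comm
  have h1 := h (A.map ι.symm.toMonoidHom) ⟨⟨by
      rintro ⟨x, y, hy, rfl⟩ ⟨x', y', hy', rfl⟩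
      apply Subtype.ext
      have := congrArg Subtype.val (hc ⟨y, hy⟩ ⟨y', hy'⟩)
      change ι.symm y * ι.symm y' = ι.symm y' * ι.symm y
      rw [← map_mul, ← map_mul]
      exact congrArg ι.symm this⟩⟩ (by
      rintro _ ⟨y, hy, rfl⟩
      change (ι.symm y) ^ 2 = 1
      rw [← map_pow, hexp y hy, map_one])
  have h2 : Nat.card (A.map ι.symm.toMonoidHom) = Nat.card A :=
    (Nat.card_congr (A.equivMapOfInjective ι.symm.toMonoidHom ι.symm.injective).toEquiv).symm
  rwa [h2] at h1

theorem exists_pair' {E : Type*} [Group E] {z : E} (hX : XS z) (g : E) (hg : g * g = 1)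
    (h1 : g ≠ 1) (h2 : g ≠ z) : ∃ b : E, b * b = 1 ∧ b * g = z * (g * b) := by
  have hnc : ¬ ∀ h, g * h = h * g := fun h => by
    rcases hX.hcen g h with h3 | h3
    · exact h1 h3
    · exact h2 h3
  push Not at hnc
  obtain ⟨h, hh⟩ := hnc
  have hgh : g * h = z * (h * g) := (hX.hcomm g h).resolve_left hh
  have hzz' : ∀ x, z * (z * x) = x := fun x => by rw [← mul_assoc, hX.hzz, one_mul]
  have hhg : h * g = z * (g * h) := by rw [hgh, hzz']
  have hzg' : ∀ x, g * (z * x) = z * (g * x) := fun x => by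
    rw [← mul_assoc, hX.hzc, mul_assoc]
  have hhg' : ∀ x, h * (g * x) = z * (g * (h * x)) := fun x => by
    rw [← mul_assoc, hhg]; simp only [mul_assoc]
  have hgg' : ∀ x, g * (g * x) = x := fun x => by rw [← mul_assoc, hg, one_mul]
  rcases hX.hsq h with h3 | h3
  · exact ⟨h, h3, hhg⟩
  · refine ⟨g * h, ?_, ?_⟩
    · simp only [mul_assoc, hhg', hzg', hgg', h3, hX.hzz]
    · simp only [mul_assoc, hhg, hzg', hgg']

theorem anti_of_not {E : Type*} [Group E] {a b z x : E} (hX : XS z) (hba : b * a = z * (a * b))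
    (hxa : x * a = a * x) (hx : x ∉ centC a b) : a * x ∈ centC a b := by
  have hxb : x * b = z * (b * x) := by
    refine (hX.hcomm x b).resolve_left fun h => hx (mem_centC.2 ⟨hxa, h⟩)
  have hzz' : ∀ t, z * (z * t) = t := fun t => by rw [← mul_assoc, hX.hzz, one_mul]
  have hzb' : ∀ t, b * (z * t) = z * (b * t) := fun t => by
    rw [← mul_assoc, hX.hzc, mul_assoc]
  have hba' : ∀ t, b * (a * t) = z * (a * (b * t)) := fun t => by
    rw [← mul_assoc, hba]; simp only [mul_assoc]
  refine mem_centC.2 ⟨?_, ?_⟩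
  · rw [mul_assoc, hxa]
  · rw [mul_assoc, hxb, hba']
    rw [← mul_assoc a z, hX.hzc a, mul_assoc]

theorem ub_single {E : Type*} [Group E] [Finite E] {a b z : E} (hX : XS z)
    (hba : b * a = z * (a * b)) (A : Subgroup E) (hc : IsMulCommutative A)
    (hexp : ∀ x ∈ A, x ^ 2 = 1) (haA : a ∈ A) {k : ℕ} (hk : Cfsg.PRankLE 2 k (centC a b)) :
    Nat.card A ≤ 2 ^ (k + 1) := by
  have hcomm : ∀ x ∈ A, ∀ y ∈ A, x * y = y * x := fun x hx y hy =>
    congrArg Subtype.val (hc.is_comm.comm ⟨x, hx⟩ ⟨y, hy⟩)
  let T : Subgroup (centC a b) := A.subgroupOf (centC a b)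
  have hT : Nat.card T ≤ 2 ^ k := by
    refine hk T ⟨⟨fun x y => Subtype.ext (Subtype.ext ?_)⟩⟩ ?_
    · exact hcomm _ (Subgroup.mem_subgroupOf.1 x.2) _ (Subgroup.mem_subgroupOf.1 y.2)
    · intro x hx
      apply Subtype.ext
      have := hexp _ (Subgroup.mem_subgroupOf.1 hx)
      simpa using this
  let g : T × Bool → A := fun q =>
    if q.2 then ⟨a * ((q.1 : centC a b) : E), mul_mem haA (Subgroup.mem_subgroupOf.1 q.1.2)⟩
    else ⟨((q.1 : centC a b) : E), Subgroup.mem_subgroupOf.1 q.1.2⟩
  have hg : Function.Surjective g := by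
    rintro ⟨x, hx⟩
    by_cases hxC : x ∈ centC a b
    · refine ⟨(⟨⟨x, hxC⟩, Subgroup.mem_subgroupOf.2 hx⟩, false), ?_⟩
      simp [g]
    · have h1 := anti_of_not hX hba (hcomm x hx a haA) hxC
      have h2 : a * x ∈ A := mul_mem haA hx
      refine ⟨(⟨⟨a * x, h1⟩, Subgroup.mem_subgroupOf.2 h2⟩, true), ?_⟩
      apply Subtype.ext
      have haa : a * a = 1 := by rw [← pow_two]; exact hexp a haA
      simp [g, ← mul_assoc, haa]
  have h3 := Nat.card_le_card_of_surjective g hg
  rw [Nat.card_prod] at h3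
  have h4 : Nat.card Bool = 2 := by simp
  rw [h4] at h3
  rw [pow_succ]
  omega

theorem ub_all {E : Type*} [Group E] [Finite E] {z : E} (hX : XS z) (k : ℕ)
    (hk : ∀ a b : E, a * a = 1 → b * b = 1 → b * a = z * (a * b) →
      Cfsg.PRankLE 2 k (centC a b)) : Cfsg.PRankLE 2 (k + 1) E := by
  intro A hA hexp
  by_cases h : ∃ g ∈ A, g ≠ 1 ∧ g ≠ z
  · obtain ⟨g, hg, h1, h2⟩ := h
    have hgg : g * g = 1 := by rw [← pow_two]; exact hexp g hg
    obtain ⟨b, hbb, hba⟩ := exists_pair' hX g hgg h1 h2
    exact ub_single hX hba A hA hexp hg (hk g b hgg hbb hba)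
  · push Not at h
    classical
    have hinj : Function.Injective (fun x : A => decide ((x : E) = 1)) := by
      rintro ⟨x, hx⟩ ⟨y, hy⟩ hxy
      apply Subtype.ext
      change x = y
      simp only [decide_eq_decide] at hxy
      by_cases h1 : x = 1
      · rw [h1, hxy.1 h1]
      · have h2 : y ≠ 1 := fun e => h1 (hxy.2 e)
        rw [h x hx h1, h y hy h2]
    have h3 := Nat.card_le_card_of_injective _ hinj
    have h4 : Nat.card Bool = 2 := by simp
    rw [h4] at h3
    have h5 : 2 ^ 1 ≤ 2 ^ (k + 1) := Nat.pow_le_pow_right (by norm_num) (by omega)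
    omega

theorem lb_core {E : Type*} [Group E] [Finite E] {a b z : E} (hX : XS z)
    (hba : b * a = z * (a * b)) (haa : a * a = 1) (B : Subgroup E) (hBC : B ≤ centC a b)
    (hc : ∀ x ∈ B, ∀ y ∈ B, x * y = y * x) (hexp : ∀ x ∈ B, x * x = 1) :
    ∃ A : Subgroup E, IsMulCommutative A ∧ (∀ x ∈ A, x ^ 2 = 1) ∧ 2 * Nat.card B ≤ Nat.card A := by
  have hca : ∀ x ∈ B, x * a = a * x := fun x hx => (mem_centC.1 (hBC hx)).1
  have haa' : ∀ t, a * (a * t) = t := fun t => by rw [← mul_assoc, haa, one_mul]
  let A : Subgroup E :=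
    { carrier := {x | x ∈ B ∨ a * x ∈ B}
      one_mem' := Or.inl (one_mem _)
      mul_mem' := by
        rintro x y (hx | hx) (hy | hy)
        · exact Or.inl (mul_mem hx hy)
        · right
          have : a * (x * y) = x * (a * y) := by rw [← mul_assoc, ← hca x hx, mul_assoc]
          rw [this]; exact mul_mem hx hy
        · right
          rw [← mul_assoc]; exact mul_mem hx hy
        · left
          have h1 : x = a * (a * x) := (haa' x).symm
          have h2 : x * y = (a * x) * (a * y) := by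
            have := hca _ hx
            calc x * y = (a * (a * x)) * y := by rw [haa']
              _ = ((a * x) * a) * y := by rw [this]
              _ = _ := by simp only [mul_assoc]
          rw [h2]; exact mul_mem hx hy
      inv_mem' := by
        rintro x (hx | hx)
        · exact Or.inl (inv_mem hx)
        · right
          have h1 := inv_mem hx
          have h2 : a⁻¹ = a := by
            rw [inv_eq_iff_mul_eq_one]; exact haa
          rw [mul_inv_rev, h2] at h1
          have h3 : x⁻¹ * a = a * x⁻¹ := by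
            have h4 := hca _ hx
            have h5 : x * a = a * x := by
              have h6 : (a * x) * a = a * (a * x) := h4
              rw [haa'] at h6
              rw [mul_assoc] at h6
              calc x * a = a * (a * (x * a)) := (haa' _).symm
                _ = a * x := by rw [h6]
            have h7 : Commute x a := h5
            exact h7.inv_left
          rw [← h3]; exact h1 }
  have hmem : ∀ x, x ∈ A ↔ x ∈ B ∨ a * x ∈ B := fun x => Iff.rfl
  -- elements of `A` have the form `c` or `a c`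
  have hform : ∀ x ∈ A, x ∈ B ∨ ∃ c ∈ B, x = a * c := by
    rintro x (hx | hx)
    · exact Or.inl hx
    · exact Or.inr ⟨a * x, hx, (haa' x).symm⟩
  refine ⟨A, ⟨⟨?_⟩⟩, ?_, ?_⟩
  · rintro ⟨x, hx⟩ ⟨y, hy⟩
    apply Subtype.ext
    change x * y = y * x
    rcases hform x hx with hx | ⟨c, hc1, rfl⟩ <;> rcases hform y hy with hy | ⟨d, hd, rfl⟩
    · exact hc x hx y hy
    · have h1 := hca x hx
      calc x * (a * d) = (x * a) * d := by rw [mul_assoc]
        _ = a * (x * d) := by rw [h1, mul_assoc]
        _ = a * (d * x) := by rw [hc x hx d hd]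
        _ = _ := by rw [mul_assoc]
    · have h1 := hca y hy
      calc (a * c) * y = a * (c * y) := by rw [mul_assoc]
        _ = a * (y * c) := by rw [hc c hc1 y hy]
        _ = (y * a) * c := by rw [← mul_assoc, h1]
        _ = _ := by rw [mul_assoc]
    · have h1 := hca c hc1
      have h2 := hca d hd
      calc (a * c) * (a * d) = a * ((c * a) * d) := by simp only [mul_assoc]
        _ = a * a * (c * d) := by rw [h1]; simp only [mul_assoc]
        _ = a * a * (d * c) := by rw [hc c hc1 d hd]
        _ = a * ((a * d) * c) := by simp only [mul_assoc]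
        _ = a * ((d * a) * c) := by rw [h2]
        _ = _ := by simp only [mul_assoc]
  · intro x hx
    rw [pow_two]
    rcases hform x hx with hx | ⟨c, hc1, rfl⟩
    · exact hexp x hx
    · have h1 := hca c hc1
      calc (a * c) * (a * c) = a * ((c * a) * c) := by simp only [mul_assoc]
        _ = a * a * (c * c) := by rw [h1]; simp only [mul_assoc]
        _ = 1 := by rw [haa, hexp c hc1, one_mul]
  · have hanot : a ∉ centC a b := by
      intro h
      have h1 := (mem_centC.1 h).2
      rw [hba] at h1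
      exact hX.hz1 (mul_eq_right.1 h1.symm)
    let f : B × Bool → A := fun q =>
      if q.2 then ⟨a * (q.1 : E), Or.inr (by rw [haa']; exact q.1.2)⟩ else ⟨(q.1 : E), Or.inl q.1.2⟩
    have hf : Function.Injective f := by
      rintro ⟨⟨x, hx⟩, s⟩ ⟨⟨y, hy⟩, t⟩ hxy
      have h1 := congrArg Subtype.val hxy
      cases s <;> cases t <;> simp [f] at h1
      · subst h1; rfl
      · exfalso
        apply hanot
        have h5 : x * y⁻¹ = a := by rw [h1]; group
        have h6 := hBC (mul_mem hx (inv_mem hy))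
        rwa [h5] at h6
      · exfalso
        apply hanot
        have h5 : y * x⁻¹ = a := by rw [← h1]; group
        have h6 := hBC (mul_mem hy (inv_mem hx))
        rwa [h5] at h6
      · subst h1; rfl
    have h3 := Nat.card_le_card_of_injective f hf
    rw [Nat.card_prod] at h3
    have h4 : Nat.card Bool = 2 := by simp
    rw [h4] at h3
    omega

theorem lb {E : Type*} [Group E] [Finite E] {a b z : E} (hX : XS z)
    (hba : b * a = z * (a * b)) (haa : a * a = 1) {k : ℕ}
    (h : ¬ Cfsg.PRankLE 2 k (centC a b)) : ¬ Cfsg.PRankLE 2 (k + 1) E := by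
  intro hE
  apply h
  intro A₀ hA₀ hexp
  let B : Subgroup E := A₀.map (centC a b).subtype
  have hB : Nat.card B = Nat.card A₀ :=
    (Nat.card_congr (A₀.equivMapOfInjective _ (centC a b).subtype_injective).toEquiv).symm
  obtain ⟨A, hA1, hA2, hA3⟩ := lb_core hX hba haa B
    (by rintro _ ⟨c, -, rfl⟩; exact c.2)
    (by
      rintro _ ⟨x, hx, rfl⟩ _ ⟨y, hy, rfl⟩
      exact congrArg (fun t : A₀ => (((t : centC a b) : E))) (hA₀.is_comm.comm ⟨x, hx⟩ ⟨y, hy⟩))
    (by
      rintro _ ⟨x, hx, rfl⟩
      have := hexp x hx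
      rw [pow_two] at this
      exact congrArg Subtype.val this)
  have h5 := hE A hA1 hA2
  rw [hB] at hA3
  rw [pow_succ] at h5
  omega

theorem not_prank_zero {E : Type*} [Group E] [Finite E] {z : E} (hX : XS z) :
    ¬ Cfsg.PRankLE 2 0 E := by
  intro h
  have h1 := h (Subgroup.center E) ⟨⟨fun x y => Subtype.ext (Subgroup.mem_center_iff.1 x.2 _).symm⟩⟩
    (by
      intro x hx
      rw [pow_two]
      rcases hX.hcen x (fun k => (Subgroup.mem_center_iff.1 hx k).symm) with rfl | rfl
      · simp
      · exact hX.hzz)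
  have h2 : Subgroup.center E ≠ ⊥ := by
    intro e
    have : z ∈ Subgroup.center E := Subgroup.mem_center_iff.2 hX.hzc
    rw [e] at this
    exact hX.hz1 (Subgroup.mem_bot.1 this)
  have h3 := (Subgroup.one_lt_card_iff_ne_bot _).2 h2
  simp at h1
  omega

/-- all centralisers of involution pairs are isomorphic -/
theorem iso_C {E : Type u} [Group E] [Finite E] {z : E} (hX : XS z) {a b a' b' : E}
    (haa : a * a = 1) (hbb : b * b = 1) (hba : b * a = z * (a * b))
    (haa' : a' * a' = 1) (hbb' : b' * b' = 1) (hba' : b' * a' = z * (a' * b')) :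
    Nonempty (centC a b ≃* centC a' b') := by
  have hcard := card_eq_four hX hba
  have hcard' := card_eq_four hX hba'
  have hcC : Nat.card (centC a' b') = Nat.card (centC a b) := by omega
  have hf := cnt_formula hX hba haa hbb
  have hf' := cnt_formula hX hba' haa' hbb'
  have hcntC : Nat.card {c : centC a' b' // c ^ 2 = 1} = Nat.card {c : centC a b // c ^ 2 = 1} := by
    omega
  rcases dich_C hX hba with h3 | h3
  · exact ⟨mulEquivOfPrimeCardEq (p := 2) h3 (hcC.trans h3)⟩
  · rcases dich_C hX hba' with h4 | h4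
    · exact ⟨mulEquivOfPrimeCardEq (p := 2) (hcC.symm.trans h4) h4⟩
    · exact part_b _ (centC a b) (centC a' b') rfl h3 h4 hcC hcntC

/-- the rank data of an element-level extraspecial group. -/
def RQ (E : Type*) [Group E] : Prop :=
  ∃ m : ℕ, Nat.card E = 2 ^ (2 * m + 1) ∧
    ((Nat.card {x : E // x ^ 2 = 1} = 2 ^ (2 * m) + 2 ^ m ∧ Cfsg.PRankLE 2 (m + 1) E ∧
        ¬ Cfsg.PRankLE 2 m E) ∨
      (1 ≤ m ∧ Nat.card {x : E // x ^ 2 = 1} = 2 ^ (2 * m) - 2 ^ m ∧ Cfsg.PRankLE 2 m E ∧
        ¬ Cfsg.PRankLE 2 (m - 1) E))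

theorem rq : ∀ (N : ℕ) (E : Type u) [Group E] [Finite E] (z : E), Nat.card E = N → XS z → RQ E := by
  intro N
  induction N using Nat.strong_induction_on with
  | _ N ih =>
    intro E _ _ z hN hX
    by_cases hab : ∃ a b : E, b * a = z * (a * b)
    · obtain ⟨a₀, b₀, hba₀⟩ := hab
      by_cases hinv : Nat.card {x : E // x ^ 2 = 1} = 2
      · have hno : ∀ g : E, g * g = 1 → g = 1 ∨ g = z := by
          intro g hg
          by_contra hc
          push Not at hc
          exact (cnt_ne_two_iff hX).1 ⟨g, hg, hc.1, hc.2⟩ hinv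
        have h1 := card_C_of_noinv hX hba₀ hno
        have h2 := card_eq_four hX hba₀
        refine ⟨1, by rw [h2, h1]; norm_num, Or.inr ⟨le_refl _, by rw [hinv]; norm_num, ?_,
          not_prank_zero hX⟩⟩
        intro A _ hexp
        classical
        have hinj : Function.Injective (fun x : A => decide ((x : E) = 1)) := by
          rintro ⟨x, hx⟩ ⟨y, hy⟩ hxy
          apply Subtype.ext
          change x = y
          simp only [decide_eq_decide] at hxy
          have hxx := hno x (by rw [← pow_two]; exact hexp x hx)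
          have hyy := hno y (by rw [← pow_two]; exact hexp y hy)
          by_cases h1 : x = 1
          · rw [h1, hxy.1 h1]
          · have h2 : y ≠ 1 := fun e => h1 (hxy.2 e)
            rw [hxx.resolve_left h1, hyy.resolve_left h2]
        have h3 := Nat.card_le_card_of_injective _ hinj
        have h4 : Nat.card Bool = 2 := by simp
        rw [h4] at h3
        simpa using h3
      · obtain ⟨g, hg, h1, h2⟩ := (cnt_ne_two_iff hX).2 hinv
        obtain ⟨a, b, haa, hbb, hba⟩ := exists_pair hX g hg h1 h2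
        have hcard := card_eq_four hX hba
        have hcnt := cnt_formula hX hba haa hbb
        have hpos : 0 < Nat.card (centC a b) := Nat.card_pos
        have hXC := xs_C hX hba
        obtain ⟨m, hm1, hm2⟩ := ih (Nat.card (centC a b)) (by omega) (centC a b) ⟨z, z_mem hX⟩ rfl hXC
        have e1 : (2 : ℕ) ^ (2 * (m + 1)) = 4 * 2 ^ (2 * m) := by ring
        have e2 : (2 : ℕ) ^ (m + 1) = 2 * 2 ^ m := by ring
        have e3 : (2 : ℕ) ^ (2 * m + 1) = 2 * 2 ^ (2 * m) := by ring
        have e4 : (2 : ℕ) ^ m ≤ 2 ^ (2 * m) := Nat.pow_le_pow_right (by norm_num) (by omega)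
        have htransfer : ∀ k, Cfsg.PRankLE 2 k (centC a b) → ∀ a' b' : E, a' * a' = 1 → b' * b' = 1 →
            b' * a' = z * (a' * b') → Cfsg.PRankLE 2 k (centC a' b') := by
          intro k hk a' b' h3 h4 h5
          obtain ⟨ι⟩ := iso_C hX haa hbb hba h3 h4 h5
          exact prank_of_iso ι hk
        refine ⟨m + 1, by rw [hcard, hm1]; ring, ?_⟩
        rw [hm1, e3] at hcnt
        rcases hm2 with ⟨h5, h6, h7⟩ | ⟨h5, h6, h7, h8⟩
        · left
          refine ⟨by rw [hcnt, h5, e1, e2]; omega, ub_all hX _ (htransfer _ h6), lb hX hba haa h7⟩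
        · right
          refine ⟨by omega, by rw [hcnt, h6, e1, e2]; omega, ub_all hX _ (htransfer _ h7), ?_⟩
          have := lb hX hba haa h8
          rwa [Nat.sub_add_cancel h5] at this
    · -- abelian: order two
      push Not at hab
      have hall : ∀ a b : E, a * b = b * a := by
        intro a b
        rcases hX.hcomm b a with h | h
        · exact h.symm
        · exact absurd h (hab a b)
      have hE2 : Nat.card E = 2 := by
        refine (Nat.card_eq_two_iff' (1 : E)).2 ⟨z, hX.hz1, ?_⟩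
        intro y hy
        exact (hX.hcen y (hall y)).resolve_left hy
      refine ⟨0, by rw [hE2]; norm_num, Or.inl ⟨?_, ?_, not_prank_zero hX⟩⟩
      · by_contra hne
        obtain ⟨g, -, h1, h2⟩ := (cnt_ne_two_iff hX).2 (by simpa using hne)
        rcases hX.hcen g (hall g) with h3 | h3
        · exact h1 h3
        · exact h2 h3
      · intro A _ _
        have := Subgroup.card_le_card_group A
        simpa [hE2] using this

/-- Let E be an extraspecial 2-group of order 2^(2n+1). Then the largest elementary abelian subgroups of E have order 2^n or 2^(n+1); and two extraspecial 2-groups of the same order whose largest elementary abelian subgroups have the same order are isomorphic. -/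
theorem result {E : Type*} [Group E] [Finite E] (hE : Cfsg.IsExtraspecial 2 E) (n : ℕ) (hn : Nat.card E = 2 ^ (2 * n + 1)) : ((Cfsg.PRankLE 2 n E ∧ ¬ Cfsg.PRankLE 2 (n - 1) E) ∨ (Cfsg.PRankLE 2 (n + 1) E ∧ ¬ Cfsg.PRankLE 2 n E)) ∧ ∀ (E' : Type*) [Group E'] [Finite E'], Cfsg.IsExtraspecial 2 E' → Nat.card E' = Nat.card E → (∀ k : ℕ, Cfsg.PRankLE 2 k E ↔ Cfsg.PRankLE 2 k E') → Nonempty (E ≃* E') := by
  obtain ⟨z, hX, -⟩ := xs_of_ex hE
  obtain ⟨m, hm1, hm2⟩ := rq _ E z rfl hX
  have hmn : m = n := by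
    have h1 : (2 : ℕ) ^ (2 * m + 1) = 2 ^ (2 * n + 1) := hm1.symm.trans hn
    have h2 := Nat.pow_right_injective (le_refl 2) h1
    omega
  subst hmn
  refine ⟨?_, ?_⟩
  · rcases hm2 with ⟨-, h2, h3⟩ | ⟨-, -, h2, h3⟩
    · exact Or.inr ⟨h2, h3⟩
    · exact Or.inl ⟨h2, h3⟩
  · intro E' _ _ hE' hc hrank
    obtain ⟨z', hX', -⟩ := xs_of_ex hE'
    obtain ⟨m', hm1', hm2'⟩ := rq _ E' z' rfl hX'
    have hmn : m' = m := by
      have h1 : (2 : ℕ) ^ (2 * m' + 1) = 2 ^ (2 * m + 1) := by rw [← hm1', hc, hm1]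
      have h2 := Nat.pow_right_injective (le_refl 2) h1
      omega
    subst hmn
    refine part_b _ E E' rfl hE hE' hc ?_
    rcases hm2 with ⟨h1, h2, h3⟩ | ⟨h0, h1, h2, h3⟩ <;>
      rcases hm2' with ⟨h1', h2', h3'⟩ | ⟨h0', h1', h2', h3'⟩
    · rw [h1, h1']
    · exact absurd ((hrank m').2 h2') h3
    · exact absurd ((hrank m').1 h2) h3'
    · rw [h1, h1']

end Cfsg.Agent.S3763
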