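import Cfsg.Statements.S3803
import Cfsg.Agent.Lib.CritAut
import Cfsg.Agent.Lib.Herstein
import Cfsg.Agent.Lib.H1Cop
-- import your own Cfsg.Agent.* helpers here

set_option autoImplicit false
open Cfsg

namespace Cfsg.Agent.S3803

open Subgroup
open scoped commutatorElement

theorem exists_between {X : Type*} [Group X] [Finite X] (p : ℕ) [Fact p.Prime] (P T : Subgroup X)
    (hTP : T ≤ P) {m n : ℕ} (hT : Nat.card T = p ^ m) (hmn : m ≤ n) (hn : p ^ n ∣ Nat.card P) :
    ∃ K : Subgroup X, T ≤ K ∧ K ≤ P ∧ Nat.card K = p ^ n := by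
  have hc : Nat.card (T.subgroupOf P) = p ^ m := by
    rw [← hT]; exact Nat.card_congr (Subgroup.subgroupOfEquivOfLe hTP).toEquiv
  obtain ⟨K, hK, hle⟩ := Sylow.exists_subgroup_card_pow_prime_le p hn (T.subgroupOf P) hc hmn
  refine ⟨K.map P.subtype, ?_, by rintro _ ⟨w, -, rfl⟩; exact w.2, ?_⟩
  · intro t ht
    exact ⟨⟨t, hTP ht⟩, hle (by simpa [Subgroup.mem_subgroupOf] using ht), rfl⟩
  · rw [Subgroup.card_map_of_injective P.subtype_injective]; exact hK

theorem aut4 {X : Type*} [Group X] [Finite X] (a x : X) (ha : Odd (orderOf a)) (hx : x ^ 4 = 1)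
    (hy : a * x * a⁻¹ ∈ zpowers x) : a * x = x * a := by
  obtain ⟨n, hn⟩ : ∃ n : ℕ, x ^ n = a * x * a⁻¹ := by
    have : a * x * a⁻¹ ∈ Submonoid.powers x := mem_powers_iff_mem_zpowers.mpr hy
    exact this
  have hr : x ^ (n % 4) = a * x * a⁻¹ := by
    rw [← hn]
    conv_rhs => rw [← Nat.div_add_mod n 4, pow_add, pow_mul, hx, one_pow, one_mul]
  have hlt := Nat.mod_lt n (by norm_num : 4 > 0)
  have htriv : a * x * a⁻¹ = 1 → a * x = x * a := by
    intro h
    have : x = 1 := by
      have h2 : a * x = a := by
        calc a * x = a * x * a⁻¹ * a := by group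
          _ = a := by rw [h, one_mul]
      simpa using h2
    simp [this]
  generalize n % 4 = r at hr hlt
  interval_cases r
  · apply htriv; rw [← hr]; simp
  · rw [pow_one] at hr
    calc a * x = (a * x * a⁻¹) * a := by group
      _ = x * a := by rw [← hr]
  · apply htriv
    have h2 : a * (x ^ 2) * a⁻¹ = 1 := by
      have : (a * x * a⁻¹) ^ 2 = a * (x ^ 2) * a⁻¹ := by
        simp only [pow_two]; group
      rw [← this, ← hr, ← pow_mul]
      exact hx
    have h3 : x ^ 2 = 1 := by
      have : x ^ 2 = a⁻¹ * (a * (x ^ 2) * a⁻¹) * a := by group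
      rw [this, h2]; group
    rw [← hr, h3]
  · have hinv : a * x * a⁻¹ = x⁻¹ := by
      rw [← hr]
      apply eq_inv_of_mul_eq_one_left
      rw [← pow_succ]; exact hx
    have hc : Commute (a * a) x := by
      have h1 : a * x = x⁻¹ * a := by
        calc a * x = (a * x * a⁻¹) * a := by group
          _ = x⁻¹ * a := by rw [hinv]
      have h2 : a * x⁻¹ = x * a := by
        calc a * x⁻¹ = (a * x * a⁻¹)⁻¹ * a := by group
          _ = x * a := by rw [hinv, inv_inv]
      show a * a * x = x * (a * a)
      calc a * a * x = a * (a * x) := by group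
        _ = a * (x⁻¹ * a) := by rw [h1]
        _ = (a * x⁻¹) * a := by group
        _ = (x * a) * a := by rw [h2]
        _ = x * (a * a) := by group
    obtain ⟨m, hm⟩ := ha
    have hpow : (a * a) ^ (m + 1) = a := by
      have h1 : a ^ (2 * m + 1) = 1 := by rw [← hm]; exact pow_orderOf_eq_one a
      calc (a * a) ^ (m + 1) = a ^ (2 * (m + 1)) := by rw [pow_mul, pow_two]
        _ = a ^ (2 * m + 1) * a := by rw [← pow_succ]; ring_nf
        _ = a := by rw [h1, one_mul]
    have := hc.pow_left (m + 1)
    rw [hpow] at this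
    exact this

theorem mem_zpowers_of_cyclic {X : Type*} [Group X] [Finite X] (u x y : X) (hx : x ∈ zpowers u)
    (hy : y ∈ zpowers u) (hxy : orderOf x = orderOf y) : y ∈ zpowers x := by
  classical
  haveI : Fintype (zpowers u) := Fintype.ofFinite _
  set x' : zpowers u := ⟨x, hx⟩
  set y' : zpowers u := ⟨y, hy⟩
  have hox : orderOf x' = orderOf x := Subgroup.orderOf_mk x hx
  have hoy : orderOf y' = orderOf y := Subgroup.orderOf_mk y hy
  have h1 : (Finset.univ.filter fun g : zpowers u => g ^ orderOf x' = 1).card ≤ orderOf x' :=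
    IsCyclic.card_pow_eq_one_le (orderOf_pos _)
  haveI : Fintype (zpowers x') := Fintype.ofFinite _
  have h2 : (Finset.univ.filter fun g : zpowers u => g ∈ zpowers x').card = orderOf x' := by
    rw [← Nat.card_zpowers, Nat.card_eq_fintype_card, Fintype.card_subtype]
  have hsub : (Finset.univ.filter fun g : zpowers u => g ∈ zpowers x') ⊆
      (Finset.univ.filter fun g : zpowers u => g ^ orderOf x' = 1) := by
    intro g hg
    simp only [Finset.mem_filter, Finset.mem_univ, true_and] at hg ⊢
    obtain ⟨i, rfl⟩ := hg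
    show (x' ^ i) ^ orderOf x' = 1
    rw [← zpow_natCast, ← zpow_mul, mul_comm, zpow_mul, zpow_natCast, pow_orderOf_eq_one, one_zpow]
  have heq := Finset.eq_of_subset_of_card_le hsub (by rw [h2]; exact h1)
  have hmem : y' ∈ (Finset.univ.filter fun g : zpowers u => g ^ orderOf x' = 1) := by
    simp only [Finset.mem_filter, Finset.mem_univ, true_and]
    rw [hox, hxy, ← hoy]; exact pow_orderOf_eq_one y'
  rw [← heq] at hmem
  simp only [Finset.mem_filter, Finset.mem_univ, true_and] at hmem
  obtain ⟨i, hi⟩ := hmem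
  refine ⟨i, ?_⟩
  have := congrArg (Subtype.val) hi
  simpa [y', x'] using this

/-- Let P be a 2-subgroup and A a subgroup of odd order of a finite group, with A normalizing P. Let D ≤ P with 1 < |D| < |P|. If every subgroup of P of order |D|, and also every subgroup of P of order 4 in case |D| = 2, is normalized by A, then A centralizes P. -/
theorem result {X : Type*} [Group X] [Finite X] (P A D : Subgroup X) (hP : IsPGroup 2 P) (hA : Odd (Nat.card A))
    (hAP : A ≤ Subgroup.normalizer (P : Set X)) (hDP : D ≤ P) (hD1 : 1 < Nat.card D) (hD2 : Nat.card D < Nat.card P)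
    (hinv : ∀ E : Subgroup X, E ≤ P → (Nat.card E = Nat.card D ∨ (Nat.card D = 2 ∧ Nat.card E = 4)) → A ≤ Subgroup.normalizer (E : Set X)) :
    A ≤ Subgroup.centralizer (P : Set X) := by
  classical
  haveI : Fact (Nat.Prime 2) := ⟨Nat.prime_two⟩
  intro a haA
  have hoa : Odd (orderOf a) := Odd.of_dvd_nat hA (by simpa using Subgroup.orderOf_dvd_natCard A haA)
  have hcopa : (orderOf a).Coprime 2 := Nat.coprime_two_right.mpr hoa
  suffices key : ∀ x ∈ P, x ^ 4 = 1 → a * x = x * a by
    by_contra hnc
    obtain ⟨R, hRP, hRn, hRc, -, hexp, -⟩ := Lib.CritAut.crit_exists a hcopa P hP (hAP haA) hnc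
    apply hRc
    rw [Subgroup.mem_centralizer_iff]
    intro x hx
    have hx4 : x ^ 4 = 1 := by
      rcases hexp x hx with h | ⟨-, h⟩
      · rw [show (4 : ℕ) = 2 * 2 by rfl, pow_mul, h, one_pow]
      · exact h
    exact (key x (hRP hx) hx4).symm
  intro x hxP hx4
  obtain ⟨k, hk⟩ : ∃ k, Nat.card D = 2 ^ k := IsPGroup.iff_card.mp (hP.to_le hDP)
  obtain ⟨n, hn⟩ : ∃ n, Nat.card P = 2 ^ n := IsPGroup.iff_card.mp hP
  have hk1 : 1 ≤ k := by
    rcases Nat.eq_zero_or_pos k with rfl | h
    · rw [hk] at hD1; simp at hD1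
    · exact h
  have hkn : k < n := by
    rw [hk, hn] at hD2
    exact (Nat.pow_lt_pow_iff_right (by norm_num)).mp hD2
  obtain ⟨t, ht2, hot⟩ : ∃ t, t ≤ 2 ∧ orderOf x = 2 ^ t := by
    have : orderOf x ∣ 2 ^ 2 := orderOf_dvd_of_pow_eq_one hx4
    exact (Nat.dvd_prime_pow Nat.prime_two).mp this
  have hnorm : ∀ E : Subgroup X, E ≤ P → (Nat.card E = Nat.card D ∨ (Nat.card D = 2 ∧ Nat.card E = 4)) →
      ∀ w ∈ E, a * w * a⁻¹ ∈ E := by
    intro E hE hc w hw
    have := hinv E hE hc haA
    exact (Subgroup.mem_normalizer_iff.mp this w).mp hw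
  have hzle : zpowers x ≤ P := by rwa [Subgroup.zpowers_le]
  have hzc : Nat.card (zpowers x) = 2 ^ t := by rw [Nat.card_zpowers, hot]
  rcases Nat.lt_or_ge k 2 with hk2 | hk2
  · -- k = 1
    have hk11 : k = 1 := by omega
    subst hk11
    apply aut4 a x hoa hx4
    have hk' : Nat.card D = 2 := by simpa using hk
    interval_cases t
    · have : x = 1 := by simpa using hot
      subst this
      simp
    · exact hnorm _ hzle (Or.inl (by rw [hzc, hk']; norm_num)) x (mem_zpowers x)
    · exact hnorm _ hzle (Or.inr ⟨hk', by rw [hzc]; norm_num⟩) x (mem_zpowers x)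
  · -- k ≥ 2
    have hpow : ∀ j, j ≤ n → 2 ^ j ∣ Nat.card P := by
      intro j hj; rw [hn]; exact pow_dvd_pow 2 hj
    obtain ⟨E, hxE, hEP, hE⟩ := exists_between 2 P (zpowers x) hzle hzc (show t ≤ k by omega) (hpow k hkn.le)
    obtain ⟨S, hES, hSP, hS⟩ := exists_between 2 P E hEP hE (show k ≤ k + 1 by omega) (hpow (k + 1) hkn)
    have hEn := hnorm E hEP (Or.inl (hE.trans hk.symm))
    have hxE' : x ∈ E := hxE (mem_zpowers x)
    by_cases hcyc : ∃ u, zpowers u = S
    · obtain ⟨u, rfl⟩ := hcyc
      apply aut4 a x hoa hx4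
      apply mem_zpowers_of_cyclic u x (a * x * a⁻¹) (hES hxE') (hES (hEn x hxE'))
      exact (Lib.FGSBasic.orderOf_conj a x).symm
    · have hall : ∀ M : Subgroup X, M ≤ S → Nat.card M = 2 ^ k → ∀ w ∈ M, a * w * a⁻¹ ∈ M :=
        fun M hM hc => hnorm M (hM.trans hSP) (Or.inl (hc.trans hk.symm))
      have hSp : IsPGroup 2 S := hP.to_le hSP
      -- proper subgroups of S lie in subgroups of index 2
      have hext : ∀ T : Subgroup X, T ≤ S → T ≠ S → ∃ M : Subgroup X, T ≤ M ∧ M ≤ S ∧ Nat.card M = 2 ^ k := by
        intro T hTS hne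
        obtain ⟨j, hj⟩ : ∃ j, Nat.card T = 2 ^ j := IsPGroup.iff_card.mp (hSp.to_le hTS)
        have hlt : Nat.card T < Nat.card S := by
          refine lt_of_le_of_ne (Subgroup.card_le_of_le hTS) ?_
          intro h
          exact hne (Subgroup.eq_of_le_of_card_ge hTS h.ge)
        have hjk : j ≤ k := by
          rw [hj, hS] at hlt
          have := (Nat.pow_lt_pow_iff_right (by norm_num : 1 < 2)).mp hlt
          omega
        exact exists_between 2 S T hTS hj hjk (by rw [hS]; exact pow_dvd_pow 2 (by omega))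
      have hSn : ∀ w ∈ S, a * w * a⁻¹ ∈ S := by
        obtain ⟨u, huS, huE⟩ : ∃ u ∈ S, u ∉ E := by
          by_contra hcon
          push Not at hcon
          have : S ≤ E := hcon
          have := Subgroup.card_le_of_le this
          rw [hS, hE, pow_succ] at this
          have h2 : 0 < 2 ^ k := by positivity
          omega
        obtain ⟨M, huM, hMS, hM⟩ := hext (zpowers u) (by rwa [Subgroup.zpowers_le]) (fun h => hcyc ⟨u, h⟩)
        have huM' : u ∈ M := huM (mem_zpowers u)
        have hsup : E ⊔ M = S := by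
          have hle : E ⊔ M ≤ S := sup_le hES hMS
          obtain ⟨j, hj⟩ : ∃ j, Nat.card (E ⊔ M : Subgroup X) = 2 ^ j := IsPGroup.iff_card.mp (hSp.to_le hle)
          have hdvd : (2 : ℕ) ^ j ∣ 2 ^ (k + 1) := by
            rw [← hj, ← hS]; exact Subgroup.card_dvd_of_le hle
          have hjle : j ≤ k + 1 := (Nat.pow_dvd_pow_iff_le_right (by norm_num)).mp hdvd
          have hkj : ¬ j ≤ k := by
            intro hjk
            have h1 : Nat.card (E ⊔ M : Subgroup X) ≤ Nat.card E := by
              rw [hj, hE]; exact Nat.pow_le_pow_right (by norm_num) hjk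
            have h2 : E ⊔ M = E := (Subgroup.eq_of_le_of_card_ge le_sup_left h1).symm
            exact huE (h2 ▸ Subgroup.mem_sup_right huM')
          have : j = k + 1 := by omega
          apply Subgroup.eq_of_le_of_card_ge hle
          rw [hS, hj, this]
        have hle2 : S ≤ S.comap (MulAut.conj a).toMonoidHom := by
          rw [← hsup]
          apply sup_le
          · intro w hw
            have := hall E hES hE w hw
            exact Subgroup.mem_sup_left this
          · intro w hw
            have := hall M hMS hM w hw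
            exact Subgroup.mem_sup_right this
        intro w hw
        exact hle2 hw
      have haS : a ∈ Subgroup.normalizer (S : Set X) := Lib.Herstein.mem_normalizer_of_conj_le S a hSn
      have hAK : zpowers a ≤ Subgroup.normalizer (S : Set X) := by rwa [Subgroup.zpowers_le]
      have hcop : (Nat.card (zpowers a)).Coprime (Nat.card S) := by
        rw [Nat.card_zpowers, hS]
        exact Nat.Coprime.pow_right _ hcopa
      have hsolv : Group.IsSolvable (zpowers a) ∨ Group.IsSolvable S := by
        right
        haveI := hSp.isNilpotent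
        infer_instance
      have hsup := Lib.H1Cop.commutator_sup_centralizer hAK hcop hsolv
      have hcen : S ⊓ Subgroup.centralizer (zpowers a : Set X) = S := by
        by_contra hne
        obtain ⟨M, hCM, hMS, hM⟩ := hext _ inf_le_left hne
        have haM : a ∈ Subgroup.normalizer (M : Set X) :=
          Lib.Herstein.mem_normalizer_of_conj_le M a (hall M hMS hM)
        have hbM : zpowers a ≤ Subgroup.normalizer (M : Set X) := by rwa [Subgroup.zpowers_le]
        have hidx : (M.subgroupOf S).index = 2 := by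
          have h1 : Nat.card (M.subgroupOf S) = 2 ^ k := by
            rw [← hM]; exact Nat.card_congr (Subgroup.subgroupOfEquivOfLe hMS).toEquiv
          have h2 := Subgroup.card_mul_index (M.subgroupOf S)
          rw [h1, hS, pow_succ] at h2
          exact Nat.eq_of_mul_eq_mul_left (by positivity) h2
        have hcomm : ⁅S, zpowers a⁆ ≤ M := by
          rw [Subgroup.commutator_le]
          intro u hu b hb
          have hbS := hAK hb
          set v := b * u⁻¹ * b⁻¹ with hv
          have hvS : v ∈ S := (Subgroup.mem_normalizer_iff.mp hbS u⁻¹).mp (S.inv_mem hu)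
          have hvM : v ∈ M ↔ u ∈ M := by
            rw [hv, ← Subgroup.mem_normalizer_iff.mp (hbM hb) u⁻¹, Subgroup.inv_mem_iff]
          have hmul := (Subgroup.mul_mem_iff_of_index_two (a := (⟨u, hu⟩ : S)) (b := (⟨v, hvS⟩ : S)) hidx).mpr
            (by simp only [Subgroup.mem_subgroupOf]; exact hvM.symm)
          rw [Subgroup.mem_subgroupOf] at hmul
          have e : ⁅u, b⁆ = u * v := by
            rw [commutatorElement_def, hv]; group
          rw [e]
          exact hmul
        have hle : S ≤ M := by
          conv_lhs => rw [← hsup]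
          exact sup_le hcomm hCM
        have := Subgroup.card_le_of_le hle
        rw [hS, hM, pow_succ] at this
        have h2 : 0 < 2 ^ k := by positivity
        omega
      have hxS : x ∈ S := hES hxE'
      rw [← hcen] at hxS
      have := Subgroup.mem_centralizer_iff.mp hxS.2 a (mem_zpowers a)
      exact this

end Cfsg.Agent.S3803
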