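import Cfsg.Statements.S3807
import Mathlib
import Cfsg.Agent.Lib.ExtraIdx
import Cfsg.Agent.Lib.FGSBasic
import Cfsg.Agent.Lib.Herstein
-- import your own Cfsg.Agent.* helpers here

set_option autoImplicit false
open Cfsg

namespace Cfsg.Agent.S3807

open Subgroup
open scoped commutatorElement
theorem abelian_of_coatom {S : Type*} [Group S] (H : Subgroup S) [H.Normal] (hH : IsCoatom H)
    (hab : ∀ a ∈ H, ∀ b ∈ H, a * b = b * a) (c : S) (hc : c ∉ H) (hcH : ∀ h ∈ H, h * c = c * h) :
    ∀ g g' : S, g * g' = g' * g := by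
  have htop : H ⊔ zpowers c = ⊤ := by
    apply hH.2
    apply lt_of_le_of_ne le_sup_left
    intro h
    apply hc
    rw [h]
    exact (le_sup_right : zpowers c ≤ H ⊔ zpowers c) (mem_zpowers c)
  have hdec : ∀ g : S, ∃ a ∈ H, ∃ i : ℤ, g = a * c ^ i := by
    intro g
    have hg : g ∈ ((H ⊔ zpowers c : Subgroup S) : Set S) := by rw [htop]; trivial
    rw [Subgroup.normal_mul, Set.mem_mul] at hg
    obtain ⟨a, ha, y, hy, rfl⟩ := hg
    obtain ⟨i, rfl⟩ := Subgroup.mem_zpowers_iff.mp hy
    exact ⟨a, ha, i, rfl⟩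
  intro g g'
  obtain ⟨a, ha, i, rfl⟩ := hdec g
  obtain ⟨b, hb, j, rfl⟩ := hdec g'
  have h1 : Commute a b := hab a ha b hb
  have h2 : Commute a (c ^ j) := Commute.zpow_right (hcH a ha) j
  have h3 : Commute (c ^ i) b := (Commute.zpow_right (hcH b hb) i).symm
  have h4 : Commute (c ^ i) (c ^ j) := (Commute.refl c).zpow_zpow i j
  have h5 : Commute (a * c ^ i) (b * c ^ j) :=
    Commute.mul_left (Commute.mul_right h1 h2) (Commute.mul_right h3 h4)
  exact h5

/-- Double counting of the abelian maximal subgroups, when the centre has index `p²`. -/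
theorem count_abelian {S : Type*} [Group S] [Finite S] (p : ℕ) [hpf : Fact p.Prime] (hS : IsPGroup p S)
    (hna : ∃ g g' : S, g * g' ≠ g' * g) (hZ : (center S).index = p ^ 2) :
    Nat.card {B : Subgroup S // IsMulCommutative ↥B ∧ B.index = p} = p + 1 := by
  classical
  haveI : Fintype S := Fintype.ofFinite S
  haveI : Fintype (Subgroup S) := Fintype.ofFinite _
  set Z := center S with hZdef
  have hp := hpf.out
  -- facts on T
  have hZB : ∀ B : Subgroup S, IsMulCommutative ↥B → B.index = p → Z ≤ B := by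
    intro B hB hBi z hz
    by_contra hzB
    haveI := Lib.ExtraIdx.normal_of_index hS B hBi
    have hco := Lib.FGSBasic.isCoatom_of_index_prime B (by rw [hBi]; exact hp)
    obtain ⟨g, g', hg⟩ := hna
    refine hg (abelian_of_coatom B hco ?_ z hzB ?_ g g')
    · intro a ha b hb
      exact congrArg Subtype.val (hB.is_comm.comm (⟨a, ha⟩ : B) ⟨b, hb⟩)
    · intro h _
      exact mem_center_iff.mp hz h
  have hCen : ∀ B : Subgroup S, IsMulCommutative ↥B → B.index = p → ∀ y ∈ B, y ∉ Z →
      centralizer ({y} : Set S) = B := by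
    intro B hB hBi y hyB hyZ
    have hco := Lib.FGSBasic.isCoatom_of_index_prime B (by rw [hBi]; exact hp)
    have hle : B ≤ centralizer ({y} : Set S) := by
      intro a ha
      rw [mem_centralizer_singleton_iff]
      exact congrArg Subtype.val (hB.is_comm.comm (⟨a, ha⟩ : B) ⟨y, hyB⟩)
    rcases hle.lt_or_eq with hlt | heq
    · exfalso
      apply hyZ
      have htop := hco.2 _ hlt
      rw [hZdef, mem_center_iff]
      intro g
      have hg : g ∈ centralizer ({y} : Set S) := by rw [htop]; trivial
      exact mem_centralizer_singleton_iff.mp hg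
    · exact heq.symm
  have hMem : ∀ y : S, y ∉ Z → IsMulCommutative ↥(centralizer ({y} : Set S)) ∧ (centralizer ({y} : Set S)).index = p := by
    intro y hy
    set C := centralizer ({y} : Set S) with hC
    have hZC : Z ≤ C := by
      intro z hz
      rw [hC, mem_centralizer_singleton_iff]
      exact (mem_center_iff.mp hz y).symm
    have hrel : Z.relIndex C * C.index = p ^ 2 := by
      rw [Subgroup.relIndex_mul_index hZC, hZ]
    have hCtop : C ≠ ⊤ := by
      intro h
      apply hy
      rw [hZdef, mem_center_iff]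
      intro g
      have hg : g ∈ C := by rw [h]; trivial
      exact mem_centralizer_singleton_iff.mp hg
    have hCi : C.index ≠ 1 := by
      rw [Ne, Subgroup.index_eq_one]; exact hCtop
    have hrel1 : Z.relIndex C ≠ 1 := by
      intro h1
      have hCZ : C ≤ Z := Subgroup.relIndex_eq_one.mp h1
      exact hy (hCZ (by rw [hC, mem_centralizer_singleton_iff]))
    obtain ⟨j, hj, hj'⟩ := (Nat.dvd_prime_pow hp).mp (Dvd.intro_left _ hrel)
    obtain ⟨k, hk, hk'⟩ := (Nat.dvd_prime_pow hp).mp (Dvd.intro _ hrel)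
    have hj1 : j = 1 := by
      rw [hj', hk', ← pow_add] at hrel
      have h3 := Nat.pow_right_injective hp.two_le hrel
      have h4 : j ≠ 0 := by
        rintro rfl
        rw [pow_zero] at hj'
        exact hCi hj'
      have h5 : k ≠ 0 := by
        rintro rfl
        rw [pow_zero] at hk'
        exact hrel1 hk'
      omega
    have hk1 : k = 1 := by
      rw [hj', hk', ← pow_add] at hrel
      have h3 := Nat.pow_right_injective hp.two_le hrel
      omega
    rw [hj1, pow_one] at hj'
    rw [hk1, pow_one] at hk'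
    refine ⟨?_, hj'⟩
    -- C is abelian : cyclic central quotient
    have hq : Nat.card (C ⧸ Z.subgroupOf C) = p := hk'
    haveI : Fact (Nat.card (C ⧸ Z.subgroupOf C)).Prime := by rw [hq]; exact hpf
    haveI hcy : IsCyclic (C ⧸ Z.subgroupOf C) := isCyclic_of_prime_card (p := Nat.card (C ⧸ Z.subgroupOf C)) rfl
    have hker : (QuotientGroup.mk' (Z.subgroupOf C)).ker ≤ center C := by
      rw [QuotientGroup.ker_mk']
      intro c hc
      rw [mem_subgroupOf] at hc
      rw [mem_center_iff]
      intro d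
      apply Subtype.ext
      exact mem_center_iff.mp hc (d : S)
    exact ⟨⟨fun a b => commutative_of_cyclic_center_quotient (QuotientGroup.mk' (Z.subgroupOf C)) hker a b⟩⟩
  -- counting
  have cardF : ∀ (H : Subgroup S) [DecidablePred (· ∈ H)], ((Finset.univ : Finset S).filter (· ∈ H)).card = Nat.card H := by
    intro H _
    rw [← Fintype.card_subtype, ← Nat.card_eq_fintype_card]
  set T : Finset (Subgroup S) := (Finset.univ : Finset (Subgroup S)).filter (fun B => IsMulCommutative ↥B ∧ B.index = p) with hT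
  have hcardT : Nat.card {B : Subgroup S // IsMulCommutative ↥B ∧ B.index = p} = T.card := by
    rw [Nat.card_eq_fintype_card, Fintype.card_subtype]
  rw [hcardT]
  set s : Finset S := (Finset.univ : Finset S).filter (· ∉ Z) with hs
  have hmaps : ∀ y ∈ s, centralizer ({y} : Set S) ∈ T := by
    intro y hy
    have hy' : y ∉ Z := (Finset.mem_filter.mp hy).2
    exact Finset.mem_filter.mpr ⟨Finset.mem_univ _, hMem y hy'⟩
  have hsum := Finset.card_eq_sum_card_fiberwise (f := fun y => centralizer ({y} : Set S)) (s := s) (t := T) hmaps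
  set z := Nat.card Z with hz
  have hzpos : 0 < z := Nat.card_pos
  have hSc : z * p ^ 2 = Nat.card S := by
    rw [← hZ]; exact Z.card_mul_index
  have hscard : s.card + z = Nat.card S := by
    have h1 := Finset.card_filter_add_card_filter_not (s := (Finset.univ : Finset S)) (· ∈ Z)
    rw [cardF] at h1
    rw [Nat.card_eq_fintype_card, ← Finset.card_univ, ← h1, add_comm]
  obtain ⟨q, hq⟩ : ∃ q, p = q + 1 := ⟨p - 1, by have := hp.two_le; omega⟩
  have hqpos : 0 < q := by have := hp.two_le; omega
  have hfib : ∀ B ∈ T, (s.filter (fun y => centralizer ({y} : Set S) = B)).card = q * z := by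
    intro B hBT
    obtain ⟨-, hB, hBi⟩ := Finset.mem_filter.mp hBT
    have hZle := hZB B hB hBi
    have h1 : s.filter (fun y => centralizer ({y} : Set S) = B) = ((Finset.univ : Finset S).filter (· ∈ B)).filter (· ∉ Z) := by
      ext y
      simp only [Finset.mem_filter, hs, Finset.mem_univ, true_and]
      constructor
      · rintro ⟨hyZ, hyB⟩
        refine ⟨?_, hyZ⟩
        rw [← hyB, mem_centralizer_singleton_iff]
      · rintro ⟨hyB, hyZ⟩
        exact ⟨hyZ, hCen B hB hBi y hyB hyZ⟩
    rw [h1]
    have h2 := Finset.card_filter_add_card_filter_not (s := (Finset.univ : Finset S).filter (· ∈ B)) (· ∈ Z)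
    have h3 : ((Finset.univ : Finset S).filter (· ∈ B)).filter (· ∈ Z) = (Finset.univ : Finset S).filter (· ∈ Z) := by
      ext y
      simp only [Finset.mem_filter, Finset.mem_univ, true_and]
      exact ⟨fun h => h.2, fun h => ⟨hZle h, h⟩⟩
    rw [h3, cardF, cardF] at h2
    have h4 : Nat.card B * p = Nat.card S := by
      rw [← hBi]; exact B.card_mul_index
    have h5 : Nat.card B = p * z := by
      apply Nat.eq_of_mul_eq_mul_right hp.pos
      rw [h4, ← hSc]
      ring
    rw [h5, hq] at h2
    have h6 : z + (((Finset.univ : Finset S).filter (· ∈ B)).filter (· ∉ Z)).card = (q + 1) * z := h2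
    have h7 : (q + 1) * z = q * z + z := by ring
    omega
  rw [Finset.sum_congr rfl hfib, Finset.sum_const, smul_eq_mul] at hsum
  rw [hsum, ← hSc, hq] at hscard
  have h8 : (T.card * q + 1) * z = (q + 1) ^ 2 * z := by
    calc (T.card * q + 1) * z = T.card * (q * z) + z := by ring
      _ = z * (q + 1) ^ 2 := hscard
      _ = _ := by ring
  have h9 := Nat.eq_of_mul_eq_mul_right hzpos h8
  have h10 : T.card * q = (q + 2) * q := by
    have : (q + 1) ^ 2 = (q + 2) * q + 1 := by ring
    omega
  have h11 := Nat.eq_of_mul_eq_mul_right hqpos h10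
  rw [h11, hq]

/-- Let S be a non-abelian finite p-group with an abelian subgroup A of index p. Then [S : Z(S)] = p·#[S,S], and either [S,S] has order p, S/Z(S) is elementary abelian of order p², and S has exactly p + 1 abelian subgroups of index p; or [S,S] has order at least p² and A is the only abelian subgroup of index p in S. -/
theorem result {S : Type*} [Group S] [Finite S] (p : ℕ) [Fact p.Prime] (hS : IsPGroup p S) (hna : ¬ IsMulCommutative S)
    (A : Subgroup S) (hA : IsMulCommutative ↥A) (hAi : A.index = p) :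
    (Subgroup.center S).index = p * Nat.card (commutator S) ∧
      ((Nat.card (commutator S) = p ∧ Cfsg.IsElementaryAbelian p (⊤ : Subgroup (S ⧸ Subgroup.center S)) ∧
          Nat.card (S ⧸ Subgroup.center S) = p ^ 2 ∧
          Nat.card {B : Subgroup S // IsMulCommutative ↥B ∧ B.index = p} = p + 1) ∨
        (p ^ 2 ≤ Nat.card (commutator S) ∧ ∀ B : Subgroup S, IsMulCommutative ↥B → B.index = p → B = A)) := by
  classical
  have hp := (Fact.out : p.Prime)
  haveI hAn : A.Normal := Lib.ExtraIdx.normal_of_index hS A hAi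
  have hAco := Lib.FGSBasic.isCoatom_of_index_prime A (by rw [hAi]; exact hp)
  have hcommA : ∀ a ∈ A, ∀ b ∈ A, a * b = b * a := by
    intro a ha b hb
    exact congrArg Subtype.val (hA.is_comm.comm (⟨a, ha⟩ : A) ⟨b, hb⟩)
  have hna' : ∃ g g' : S, g * g' ≠ g' * g := by
    by_contra hcon
    push Not at hcon
    exact hna ⟨⟨hcon⟩⟩
  obtain ⟨x, hxA⟩ : ∃ x, x ∉ A := by
    by_contra hcon
    push Not at hcon
    exact hAco.1 (eq_top_iff.mpr (fun y _ => hcon y))
  have htop : A ⊔ zpowers x = ⊤ := by
    apply hAco.2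
    apply lt_of_le_of_ne le_sup_left
    intro h
    apply hxA
    rw [h]
    exact (le_sup_right : zpowers x ≤ A ⊔ zpowers x) (mem_zpowers x)
  have hdec : ∀ g : S, ∃ a ∈ A, ∃ i : ℤ, g = a * x ^ i := by
    intro g
    have hg : g ∈ ((A ⊔ zpowers x : Subgroup S) : Set S) := by rw [htop]; trivial
    rw [Subgroup.normal_mul, Set.mem_mul] at hg
    obtain ⟨a, ha, y, hy, rfl⟩ := hg
    obtain ⟨i, rfl⟩ := Subgroup.mem_zpowers_iff.mp hy
    exact ⟨a, ha, i, rfl⟩
  have hmemφ : ∀ a ∈ A, a * x * a⁻¹ * x⁻¹ ∈ A := by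
    intro a ha
    have h1 : a * x * a⁻¹ * x⁻¹ = a * (x * a⁻¹ * x⁻¹) := by group
    rw [h1]
    exact A.mul_mem ha (hAn.conj_mem _ (A.inv_mem ha) x)
  let φ : A →* A :=
    { toFun := fun a => ⟨a * x * (a : S)⁻¹ * x⁻¹, hmemφ a a.2⟩
      map_one' := by apply Subtype.ext; simp
      map_mul' := by
        intro a b
        apply Subtype.ext
        have ha' : x * (a : S)⁻¹ * x⁻¹ ∈ A := hAn.conj_mem _ (A.inv_mem a.2) x
        have hb' : x * (b : S)⁻¹ * x⁻¹ ∈ A := hAn.conj_mem _ (A.inv_mem b.2) x
        have h1 := hcommA _ ha' _ (A.mul_mem b.2 hb')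
        change ((a : S) * b) * x * ((a : S) * b)⁻¹ * x⁻¹ = ((a : S) * x * (a : S)⁻¹ * x⁻¹) * ((b : S) * x * (b : S)⁻¹ * x⁻¹)
        calc ((a : S) * b) * x * ((a : S) * b)⁻¹ * x⁻¹ = (a : S) * (((b : S) * (x * (b : S)⁻¹ * x⁻¹)) * (x * (a : S)⁻¹ * x⁻¹)) := by group
          _ = (a : S) * ((x * (a : S)⁻¹ * x⁻¹) * ((b : S) * (x * (b : S)⁻¹ * x⁻¹))) := by rw [h1]
          _ = _ := by group }
  have hφ : ∀ a : A, ((φ a : A) : S) = a * x * (a : S)⁻¹ * x⁻¹ := fun a => rfl
  set Z := center S with hZdef
  have hZA : Z ≤ A := by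
    intro z hz
    by_contra hzA
    obtain ⟨g, g', hg⟩ := hna'
    exact hg (abelian_of_coatom A hAco hcommA z hzA (fun h _ => mem_center_iff.mp hz h) g g')
  have hker : φ.ker = Z.subgroupOf A := by
    ext a
    rw [MonoidHom.mem_ker, mem_subgroupOf]
    constructor
    · intro h
      have h1 : ((φ a : A) : S) = 1 := by rw [h]; rfl
      rw [hφ] at h1
      have hax : (a : S) * x = x * a := by
        have h2 : (a : S) * x = ((a : S) * x * (a : S)⁻¹ * x⁻¹) * (x * a) := by group
        rw [h2, h1, one_mul]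
      rw [hZdef, mem_center_iff]
      intro g
      obtain ⟨b, hb, i, rfl⟩ := hdec g
      have h3 : Commute (a : S) (b * x ^ i) :=
        Commute.mul_right (hcommA a a.2 b hb) (Commute.zpow_right hax i)
      exact h3.symm
    · intro h
      apply Subtype.ext
      rw [hφ]
      have h2 := mem_center_iff.mp h x
      rw [← h2]
      simp
  set D : Subgroup S := φ.range.map A.subtype with hD
  have hDA : ∀ d ∈ D, d ∈ A := by
    rintro d ⟨y, -, rfl⟩
    exact y.2
  have hDmem : ∀ a ∈ A, a * x * a⁻¹ * x⁻¹ ∈ D := by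
    intro a ha
    exact ⟨φ ⟨a, ha⟩, ⟨⟨a, ha⟩, rfl⟩, rfl⟩
  have hDex : ∀ d ∈ D, ∃ a ∈ A, d = a * x * a⁻¹ * x⁻¹ := by
    rintro d ⟨y, ⟨a, rfl⟩, rfl⟩
    exact ⟨a, a.2, rfl⟩
  have hDN : (⊤ : Subgroup S) ≤ normalizer (D : Set S) := by
    rw [← htop, sup_le_iff, zpowers_le]
    constructor
    · intro a ha
      apply Lib.Herstein.mem_normalizer_of_conj_le
      intro w hw
      have h1 : a * w * a⁻¹ = w := by
        rw [hcommA a ha w (hDA w hw)]; group
      rw [h1]; exact hw
    · apply Lib.Herstein.mem_normalizer_of_conj_le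
      intro w hw
      obtain ⟨a, ha, rfl⟩ := hDex w hw
      have h1 : x * (a * x * a⁻¹ * x⁻¹) * x⁻¹ = (x * a * x⁻¹) * x * (x * a * x⁻¹)⁻¹ * x⁻¹ := by group
      rw [h1]
      exact hDmem _ (hAn.conj_mem a ha x)
  haveI hDn : D.Normal := normalizer_eq_top_iff.mp (top_le_iff.mp hDN)
  have hDeq : commutator S = D := by
    apply le_antisymm
    · rw [_root_.commutator_def, Subgroup.commutator_le]
      intro g _ g' _
      rw [← QuotientGroup.ker_mk' D, MonoidHom.mem_ker, map_commutatorElement, commutatorElement_eq_one_iff_commute]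
      obtain ⟨a, ha, i, rfl⟩ := hdec g
      obtain ⟨b, hb, j, rfl⟩ := hdec g'
      set f := QuotientGroup.mk' D with hf
      have hax : ∀ a ∈ A, Commute (f a) (f x) := by
        intro a ha
        rw [← commutatorElement_eq_one_iff_commute, ← map_commutatorElement, ← MonoidHom.mem_ker, hf, QuotientGroup.ker_mk']
        exact hDmem a ha
      have h1 : Commute (f a) (f b) := by
        change f a * f b = f b * f a
        rw [← map_mul, ← map_mul, hcommA a ha b hb]
      rw [map_mul, map_mul, map_zpow, map_zpow]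
      exact Commute.mul_left (Commute.mul_right h1 ((hax a ha).zpow_right j))
        (Commute.mul_right (((hax b hb).zpow_right i).symm) ((Commute.refl _).zpow_zpow i j))
    · rintro d hd
      obtain ⟨a, ha, rfl⟩ := hDex d hd
      rw [_root_.commutator_def]
      exact Subgroup.commutator_mem_commutator (mem_top a) (mem_top x)
  have hrel : Z.relIndex A = Nat.card (commutator S) := by
    rw [hDeq, hD, Subgroup.card_map_of_injective A.subtype_injective, Subgroup.relIndex, ← hker, Subgroup.index_ker]
  have hidx : Z.index = p * Nat.card (commutator S) := by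
    rw [← hrel, ← Subgroup.relIndex_mul_index hZA, hAi, mul_comm]
  refine ⟨hidx, ?_⟩
  have hcard1 : Nat.card (commutator S) ≠ 1 := by
    intro h
    have h0 := Subgroup.card_eq_one.mp h
    obtain ⟨g, g', hg⟩ := hna'
    apply hg
    have h2 : ⁅g, g'⁆ ∈ commutator S := by
      rw [_root_.commutator_def]
      exact Subgroup.commutator_mem_commutator (mem_top g) (mem_top g')
    rw [h0, mem_bot, commutatorElement_eq_one_iff_commute] at h2
    exact h2
  obtain ⟨k, hk⟩ := IsPGroup.iff_card.mp (hS.to_subgroup (commutator S))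
  by_cases hk1 : k = 1
  · left
    have hc : Nat.card (commutator S) = p := by rw [hk, hk1, pow_one]
    have hZi : Z.index = p ^ 2 := by rw [hidx, hc, pow_two]
    have hcQ : Nat.card (S ⧸ Z) = p ^ 2 := hZi
    refine ⟨hc, ⟨?_, ?_⟩, hcQ, count_abelian p hS hna' hZi⟩
    · have h1 : IsMulCommutative (S ⧸ Z) := IsPGroup.isMulCommutative_of_card_eq_prime_sq hcQ
      exact ⟨⟨fun a b => Subtype.ext (h1.is_comm.comm (a : S ⧸ Z) b)⟩⟩
    · intro a _
      have h1 : orderOf a ∣ p ^ 2 := by
        rw [← hcQ]; exact orderOf_dvd_natCard a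
      obtain ⟨j, hj, hj'⟩ := (Nat.dvd_prime_pow hp).mp h1
      by_cases hj2 : j = 2
      · exfalso
        have h2 : orderOf a = Nat.card (S ⧸ Z) := by rw [hj', hj2, hcQ]
        haveI hcy : IsCyclic (S ⧸ Z) := isCyclic_of_orderOf_eq_card a h2
        obtain ⟨g, g', hg⟩ := hna'
        apply hg
        apply commutative_of_cyclic_center_quotient (QuotientGroup.mk' Z)
        rw [QuotientGroup.ker_mk']
      · have h3 : j ≤ 1 := by omega
        have h4 : orderOf a ∣ p := by
          rw [hj']
          calc p ^ j ∣ p ^ 1 := pow_dvd_pow p h3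
            _ = p := pow_one p
        exact orderOf_dvd_iff_pow_eq_one.mp h4
  · right
    have hk0 : k ≠ 0 := by
      rintro rfl
      rw [pow_zero] at hk
      exact hcard1 hk
    have hk2 : 2 ≤ k := by omega
    have hp2 : p ^ 2 ≤ Nat.card (commutator S) := by
      rw [hk]
      exact Nat.pow_le_pow_right hp.pos hk2
    refine ⟨hp2, ?_⟩
    intro B hB hBi
    by_contra hBA
    have hBco := Lib.FGSBasic.isCoatom_of_index_prime B (by rw [hBi]; exact hp)
    have hBle : ¬ B ≤ A := by
      intro hle
      rcases hle.lt_or_eq with hlt | heq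
      · exact hAco.1 (hBco.2 _ hlt)
      · exact hBA heq
    have hAB : A ⊔ B = ⊤ := by
      apply hAco.2
      apply lt_of_le_of_ne le_sup_left
      intro h
      apply hBle
      rw [h]
      exact le_sup_right
    have hinfZ : A ⊓ B ≤ Z := by
      intro y hy
      rw [hZdef, mem_center_iff]
      intro g
      have hg : g ∈ ((A ⊔ B : Subgroup S) : Set S) := by rw [hAB]; trivial
      rw [Subgroup.normal_mul, Set.mem_mul] at hg
      obtain ⟨a, ha, b, hb, rfl⟩ := hg
      have h1 : Commute a y := hcommA a ha y hy.1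
      have h2 : Commute b y := congrArg Subtype.val (hB.is_comm.comm (⟨b, hb⟩ : B) ⟨y, hy.2⟩)
      exact Commute.mul_left h1 h2
    have h1 : Z.index ≤ (A ⊓ B).index :=
      Nat.le_of_dvd (Nat.pos_of_ne_zero Subgroup.index_ne_zero_of_finite) (Subgroup.index_dvd_of_le hinfZ)
    have h2 : (A ⊓ B).index ≤ A.index * B.index := Subgroup.index_inf_le
    rw [hAi, hBi] at h2
    rw [hidx] at h1
    have h3 : Nat.card (commutator S) ≤ p := Nat.le_of_mul_le_mul_left (h1.trans h2) hp.pos
    have h4 := hp.two_le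
    have h5 : p ^ 2 = p * p := pow_two p
    nlinarith

end Cfsg.Agent.S3807
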