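import Cfsg.Statements.S3808
import Cfsg.Agent.Lib.ExtraIdx
import Cfsg.Agent.Lib.FGSBasic
-- import your own Cfsg.Agent.* helpers here

set_option autoImplicit false
open Cfsg

namespace Cfsg.Agent.S3808

/-- Let S be a finite p-group with an extraspecial subgroup Q of index p. Then either Z(S) = Z(Q), or S = Q·Z(S) and Z(S) has order p². -/
theorem result {S : Type*} [Group S] [Finite S] (p : ℕ) [Fact p.Prime] (hS : IsPGroup p S) (Q : Subgroup S) (hQ : Cfsg.IsExtraspecial p ↥Q) (hQi : Q.index = p) :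
    Subgroup.center S = (Subgroup.center ↥Q).map Q.subtype ∨
      (Q ⊔ Subgroup.center S = ⊤ ∧ Nat.card (Subgroup.center S) = p ^ 2) := by
  classical
  haveI hQn : Q.Normal := Lib.ExtraIdx.normal_of_index hS Q hQi
  have hcZ := Lib.ExtraIdx.card_Zq Q hQ
  have hinf := Lib.ExtraIdx.center_inf hS Q hQ
  by_cases hZQ : Subgroup.center S ≤ Q
  · left
    rw [inf_eq_left.mpr hZQ] at hinf
    exact hinf
  · right
    have hco : IsCoatom Q := Lib.FGSBasic.isCoatom_of_index_prime Q (hQi ▸ Fact.out)
    have hs : Q ⊔ Subgroup.center S = ⊤ := by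
      apply hco.2
      refine lt_of_le_of_ne le_sup_left ?_
      intro h
      exact hZQ (h ▸ le_sup_right)
    refine ⟨hs, ?_⟩
    have h1 : Q.relIndex (Subgroup.center S) = p := by
      rw [← Subgroup.relIndex_sup_left, hs, Subgroup.relIndex_top_right, hQi]
    have h2 := Lib.ExtraIdx.card_inf_mul_relIndex Q (Subgroup.center S)
    rw [inf_comm, hinf, hcZ, h1] at h2
    rw [← h2, sq]

end Cfsg.Agent.S3808
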