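import Cfsg.Statements.S3809
import Cfsg.Agent.Lib.ExtraIdx
import Cfsg.Agent.Lib.PGrp2
-- import your own Cfsg.Agent.* helpers here

set_option autoImplicit false
open Cfsg

namespace Cfsg.Agent.S3809

/-- Let S be a finite p-group with an extraspecial subgroup of index p. Then S has order p^(2+2n) for some n ≥ 1, derived length at most 3, and exponent dividing p³. -/
theorem result {S : Type*} [Group S] [Finite S] (p : ℕ) [Fact p.Prime] (hS : IsPGroup p S) (Q : Subgroup S) (hQ : Cfsg.IsExtraspecial p ↥Q) (hQi : Q.index = p) :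
    (∃ n : ℕ, 1 ≤ n ∧ Nat.card S = p ^ (2 + 2 * n)) ∧ derivedSeries S 3 = ⊥ ∧ ∀ x : S, x ^ (p ^ 3) = 1 := by
  classical
  haveI hQn : Q.Normal := Lib.ExtraIdx.normal_of_index hS Q hQi
  refine ⟨Lib.ExtraIdx.card_S Q hQ hQi, ?_, ?_⟩
  · have h1 : derivedSeries S 1 ≤ Q := by
      rw [derivedSeries_succ, derivedSeries_zero]
      exact Lib.ExtraIdx.commutator_le_of_index Q hQi
    have h2 : derivedSeries S 2 ≤ Lib.ExtraIdx.Zq Q := by
      rw [derivedSeries_succ, ← Lib.ExtraIdx.commutator_map Q hQ]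
      exact Subgroup.commutator_mono h1 h1
    rw [derivedSeries_succ, eq_bot_iff]
    refine le_trans (Subgroup.commutator_mono h2 h2) ?_
    rw [le_bot_iff, Subgroup.commutator_eq_bot_iff_le_centralizer]
    refine le_trans (Lib.ExtraIdx.Zq_le_center hS Q hQ) ?_
    exact Subgroup.center_le_centralizer _
  · intro x
    have hx := Lib.ExtraIdx.pow_mem_of_index Q hQi x
    have h3 := Lib.PGrp.pow_mem_frattini hQ.1.1 (⟨x ^ p, hx⟩ : Q)
    rw [hQ.1.2.1] at h3
    have h4 : ((⟨x ^ p, hx⟩ : Q) ^ p) ^ p = 1 := by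
      have h5 := pow_card_eq_one' (x := (⟨(⟨x ^ p, hx⟩ : Q) ^ p, h3⟩ : Subgroup.center ↥Q))
      rw [hQ.2] at h5
      have h6 := congrArg Subtype.val h5
      exact h6
    have h7 := congrArg Subtype.val h4
    have h8 : ((x ^ p) ^ p) ^ p = 1 := h7
    rw [← h8, ← pow_mul, ← pow_mul]
    congr 1
    ring

end Cfsg.Agent.S3809
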