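import Cfsg.Statements.S3810
import Cfsg.Agent.Lib.ExtraIdx
import Cfsg.Agent.Lib.PGrp2
import Cfsg.Agent.Lib.SubCount
import Cfsg.Agent.Lib.FGSBasic
import Cfsg.Agent.S3803
-- import your own Cfsg.Agent.* helpers here

set_option autoImplicit false
open Cfsg

namespace Cfsg.Agent.S3810

open Subgroup
open scoped commutatorElement

/-- Let S be a finite p-group with an extraspecial subgroup of index p. Then S has an abelian subgroup of index p if and only if S has order p⁴. -/
theorem result {S : Type*} [Group S] [Finite S] (p : ℕ) [Fact p.Prime] (hS : IsPGroup p S) (Q : Subgroup S) (hQ : Cfsg.IsExtraspecial p ↥Q) (hQi : Q.index = p) :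
    (∃ A : Subgroup S, IsMulCommutative ↥A ∧ A.index = p) ↔ Nat.card S = p ^ 4 := by
  classical
  have hpp : p.Prime := Fact.out
  constructor
  · rintro ⟨A, hA, hAi⟩
    haveI hQn := Lib.ExtraIdx.normal_of_index hS Q hQi
    haveI hAn := Lib.ExtraIdx.normal_of_index hS A hAi
    obtain ⟨n, hn, hc⟩ := Lib.PGrp.extraspecial_card_eq hQ
    have hcoA : IsCoatom A := Lib.FGSBasic.isCoatom_of_index_prime A (hAi ▸ hpp)
    have hcoQ : IsCoatom Q := Lib.FGSBasic.isCoatom_of_index_prime Q (hQi ▸ hpp)
    have hQA : ¬ Q ≤ A := by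
      intro h
      have hAQ : A = Q := (hcoQ.le_iff_eq hcoA.1).mp h |>.symm ▸ rfl
      subst hAQ
      apply Lib.PGrp.extraspecial_commutator_ne hQ
      intro x y
      exact hA.is_comm.comm x y
    have hs : A ⊔ Q = ⊤ := by
      apply hcoA.2
      refine lt_of_le_of_ne le_sup_left ?_
      intro h
      exact hQA (h ▸ le_sup_right)
    have h1 : A.relIndex Q = p := by
      rw [← Subgroup.relIndex_sup_left, hs, Subgroup.relIndex_top_right, hAi]
    have h2 := Lib.ExtraIdx.card_inf_mul_relIndex A Q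
    rw [h1] at h2
    obtain ⟨x, hxQ, hxA⟩ := SetLike.not_le_iff_exists.mp hQA
    have hsx : A ⊔ Subgroup.zpowers x = ⊤ := by
      apply hcoA.2
      refine lt_of_le_of_ne le_sup_left ?_
      intro h
      apply hxA
      rw [h]
      exact (le_sup_right : Subgroup.zpowers x ≤ _) (Subgroup.mem_zpowers x)
    have hB := Lib.PGrp.relIndex_inf_centralizer_le (A ⊓ Q) (Lib.ExtraIdx.Zq Q) x
      (fun y hy => Lib.ExtraIdx.commutator_mem Q hQ hy.2 hxQ)
    rw [Lib.ExtraIdx.card_Zq Q hQ] at hB
    have hW : A ⊓ Q ⊓ centralizer {x} ≤ Lib.ExtraIdx.Zq Q := by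
      rintro w ⟨⟨hwA, hwQ⟩, hwx⟩
      have hwx : w * x = x * w := mem_centralizer_singleton_iff.mp hwx
      have hwc : (⟨w, hwQ⟩ : Q) ∈ center ↥Q := by
        rw [Subgroup.mem_center_iff]
        intro g
        apply Subtype.ext
        show g.1 * w = w * g.1
        have hg : g.1 ∈ A ⊔ Subgroup.zpowers x := by rw [hsx]; exact Subgroup.mem_top _
        obtain ⟨a, ha, z, hz, haz⟩ := Subgroup.mem_sup_of_normal_left.mp hg
        have hzQ : z ∈ Q := (Subgroup.zpowers_le.mpr hxQ) hz
        have haQ : a ∈ Q := by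
          have : a = g.1 * z⁻¹ := by rw [← haz]; group
          rw [this]
          exact Q.mul_mem g.2 (Q.inv_mem hzQ)
        have h3 : a * w = w * a := by
          have := hA.is_comm.comm (⟨a, ha⟩ : A) (⟨w, hwA⟩ : A)
          exact congrArg Subtype.val this
        have h4 : z * w = w * z := by
          obtain ⟨k, rfl⟩ := Subgroup.mem_zpowers_iff.mp hz
          have h5 : Commute x w := hwx.symm
          exact (h5.zpow_left k)
        rw [← haz, mul_assoc, h4, ← mul_assoc, h3, mul_assoc]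
      exact ⟨⟨w, hwQ⟩, hwc, rfl⟩
    have h6 := Lib.ExtraIdx.card_inf_mul_relIndex (A ⊓ Q ⊓ centralizer {x}) (A ⊓ Q)
    have h7 : A ⊓ Q ⊓ centralizer {x} ⊓ (A ⊓ Q) = A ⊓ Q ⊓ centralizer {x} :=
      inf_eq_left.mpr inf_le_left
    rw [h7] at h6
    have h8 : Nat.card ↥(A ⊓ Q ⊓ centralizer {x}) ≤ p := by
      have h9 := Subgroup.card_le_of_le hW
      rwa [Lib.ExtraIdx.card_Zq Q hQ] at h9
    have h10 : Nat.card ↥(A ⊓ Q) ≤ p * p := by
      rw [← h6]
      refine Nat.mul_le_mul h8 ?_
      have : (A ⊓ Q ⊓ centralizer {x}).relIndex (A ⊓ Q) = (centralizer {x}).relIndex (A ⊓ Q) := by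
        rw [Subgroup.inf_relIndex_left]
      rw [this]
      rwa [Subgroup.inf_relIndex_left] at hB
    have h11 : p ^ (2 * n + 1) ≤ p ^ 3 := by
      rw [← hc, ← h2]
      calc Nat.card ↥(A ⊓ Q) * p ≤ p * p * p := Nat.mul_le_mul_right _ h10
        _ = p ^ 3 := by ring
    have h12 : 2 * n + 1 ≤ 3 := (Nat.pow_le_pow_iff_right hpp.one_lt).mp h11
    have hn1 : n = 1 := by omega
    subst hn1
    rw [← Subgroup.card_mul_index Q, hc, hQi]
    ring
  · intro hcard
    have hcount := Lib.SubCount.card_normal_subgroups_modEq (G := S) (s := 2) hpp hcard (by omega)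
    have hne : Nonempty {H : Subgroup S // H.Normal ∧ Nat.card H = p ^ 2} := by
      by_contra hemp
      rw [not_nonempty_iff] at hemp
      rw [Nat.card_of_isEmpty] at hcount
      have h3 : p ∣ 1 := (Nat.modEq_zero_iff_dvd).1 hcount.symm
      exact hpp.one_lt.ne' (Nat.dvd_one.1 h3)
    obtain ⟨⟨N, hNn, hNc⟩⟩ := hne
    haveI := hNn
    have hNa : IsMulCommutative ↥N := IsPGroup.isMulCommutative_of_card_eq_prime_sq hNc
    have hC := Lib.PGrp.index_centralizer_le hS N hNa 2 hNc
    have hC' : (centralizer (N : Set S)).index ≤ p := by simpa using hC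
    have hNC : N ≤ centralizer (N : Set S) := by
      intro a ha
      rw [mem_centralizer_iff]
      intro b hb
      exact congrArg Subtype.val (hNa.is_comm.comm (⟨b, hb⟩ : N) (⟨a, ha⟩ : N))
    have hdvd : p ^ 3 ∣ Nat.card (centralizer (N : Set S)) := by
      have h1 := Subgroup.card_mul_index (centralizer (N : Set S))
      rw [hcard] at h1
      have h2 : (centralizer (N : Set S)).index ∣ p ^ 4 := ⟨_, by rw [← h1, mul_comm]⟩
      obtain ⟨k, hk, hk2⟩ := (Nat.dvd_prime_pow hpp).mp h2
      have hk1 : k ≤ 1 := by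
        rw [hk2] at hC'
        exact (Nat.pow_le_pow_iff_right hpp.one_lt).mp (by simpa using hC')
      rw [hk2] at h1
      have h3 : Nat.card (centralizer (N : Set S)) = p ^ (4 - k) := by
        have h4 : p ^ 4 = p ^ (4 - k) * p ^ k := by rw [← pow_add]; congr 1; omega
        exact Nat.eq_of_mul_eq_mul_right (pow_pos hpp.pos k) (h1.trans h4)
      rw [h3]
      exact pow_dvd_pow _ (by omega)
    obtain ⟨K, hNK, hKC, hKc⟩ := Cfsg.Agent.S3803.exists_between p (centralizer (N : Set S)) N hNC hNc (by omega) hdvd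
    refine ⟨K, ?_, ?_⟩
    · have hquot : Nat.card (↥K ⧸ N.subgroupOf K) = p := by
        have h1 := Subgroup.card_mul_index (N.subgroupOf K)
        have h2 : Nat.card (N.subgroupOf K) = p ^ 2 := by
          rw [← hNc]; exact Nat.card_congr (Subgroup.subgroupOfEquivOfLe hNK).toEquiv
        rw [h2, hKc] at h1
        have h3 : (N.subgroupOf K).index = p := by
          apply Nat.eq_of_mul_eq_mul_left (pow_pos hpp.pos 2)
          rw [h1]; ring
        exact h3
      haveI : Fact (Nat.card (↥K ⧸ N.subgroupOf K)).Prime := ⟨hquot ▸ hpp⟩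
      haveI : IsCyclic (↥K ⧸ N.subgroupOf K) := isCyclic_of_prime_card rfl
      refine ⟨⟨fun a b => commutative_of_cyclic_center_quotient (QuotientGroup.mk' (N.subgroupOf K)) ?_ a b⟩⟩
      rw [QuotientGroup.ker_mk']
      intro y hy
      rw [Subgroup.mem_center_iff]
      intro g
      apply Subtype.ext
      have hy' : (y : S) ∈ N := Subgroup.mem_subgroupOf.mp hy
      have := mem_centralizer_iff.mp (hKC g.2) y hy'
      exact this.symm
    · have h1 := Subgroup.card_mul_index K
      rw [hcard, hKc] at h1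
      apply Nat.eq_of_mul_eq_mul_left (pow_pos hpp.pos 3)
      rw [h1]; ring

end Cfsg.Agent.S3810
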