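import Cfsg.Statements.S3824
import Cfsg.Agent.Lib.CharGal
import Cfsg.Agent.Lib.FGSBasic
-- import your own Cfsg.Agent.* helpers here

set_option autoImplicit false
open Cfsg

namespace Cfsg.Agent.S3824

universe u
theorem aux : ∀ (n : ℕ) (G : Type u) [Group G] [Finite G], Nat.card G = n → ∀ A : Subgroup G,
    IsMulCommutative A → (∃ k : ℕ, A.index = 2 ^ k) → Group.IsSolvable G := by
  intro n
  induction n using Nat.strong_induction_on with
  | _ n ih =>
    intro G _ _ hn A hA hidx
    obtain ⟨k, hk⟩ := hidx
    by_cases hsimple : IsSimpleGroup G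
    · by_cases hbot : A = ⊥
      · have h1 : Nat.card G = 2 ^ k := by
          rw [← hk, hbot, Subgroup.index_bot]
        haveI : Fact (Nat.Prime 2) := ⟨Nat.prime_two⟩
        have := (IsPGroup.of_card h1).isNilpotent
        infer_instance
      · obtain ⟨a, ha, ha1⟩ : ∃ a, a ∈ A ∧ a ≠ 1 := by
          obtain ⟨x, hx⟩ := (Subgroup.ne_bot_iff_exists_ne_one).1 hbot
          exact ⟨x.1, x.2, fun h => hx (Subtype.ext h)⟩
        have hle : A ≤ Subgroup.centralizer ({a} : Set G) := by
          intro x hx
          apply Subgroup.mem_centralizer_singleton_iff.2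
          haveI := hA
          exact Lib.FGSBasic.mul_comm_of_mem A hx ha
        have hd : (Subgroup.centralizer ({a} : Set G)).index ∣ 2 ^ k := hk ▸ Subgroup.index_dvd_of_le hle
        obtain ⟨j, _, hj⟩ := (Nat.dvd_prime_pow Nat.prime_two).1 hd
        haveI := Fintype.ofFinite G
        have hprime := Lib.CharGal.prime_card_of_prime_power_class 2 j Nat.prime_two a ha1 hj
        haveI : Fact (Nat.card G).Prime := ⟨hprime⟩
        have hcyc : IsCyclic G := isCyclic_of_prime_card (p := Nat.card G) (by rw [Nat.card_eq_fintype_card])
        exact Group.isSolvable_of_comm (fun a b => (IsCyclic.isMulCommutative (α := G)).is_comm.comm a b)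
    · by_cases hnt : Nontrivial G
      · have hex : ∃ N : Subgroup G, N.Normal ∧ N ≠ ⊥ ∧ N ≠ ⊤ := by
          by_contra hcon
          push Not at hcon
          apply hsimple
          refine { eq_bot_or_eq_top_of_normal := ?_ }
          intro H hH
          by_cases hb : H = ⊥
          · exact Or.inl hb
          · exact Or.inr (hcon H hH hb)
        obtain ⟨N, hN, hN1, hN2⟩ := hex
        have hNcard : Nat.card N * N.index = Nat.card G := N.card_mul_index
        have hNpos : 0 < Nat.card N := Nat.card_pos
        have hidxpos : 0 < N.index := Nat.pos_of_ne_zero Subgroup.index_ne_zero_of_finite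
        have h1 : 1 < N.index := by
          have : N.index ≠ 1 := by
            intro h
            exact hN2 (Subgroup.index_eq_one.mp h)
          omega
        have h2 : 1 < Nat.card N := by
          have : Nat.card N ≠ 1 := by
            intro h
            exact hN1 (Subgroup.card_eq_one.mp h)
          omega
        have hN3 : Nat.card N < n := by
          rw [← hn, ← hNcard]
          nlinarith
        have hN4 : Nat.card (G ⧸ N) < n := by
          rw [← hn, ← hNcard, ← Subgroup.index_eq_card]
          nlinarith
        -- the subgroup of `N`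
        have hA1 : IsMulCommutative (A.subgroupOf N) := ⟨⟨fun a b => by
          apply Subtype.ext
          apply Subtype.ext
          haveI := hA
          exact Lib.FGSBasic.mul_comm_of_mem A a.2 b.2⟩⟩
        have hA2 : ∃ j : ℕ, (A.subgroupOf N).index = 2 ^ j := by
          have h3 : (A.subgroupOf N).index = A.relIndex N := rfl
          have h4 : A.relIndex N = A.relIndex (N ⊔ A) := Lib.FGSBasic.relIndex_eq_relIndex_sup N A
          have h5 : A.relIndex (N ⊔ A) ∣ A.index := Subgroup.relIndex_dvd_index_of_le le_sup_right
          obtain ⟨j, _, hj⟩ := (Nat.dvd_prime_pow Nat.prime_two).1 (hk ▸ h5)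
          exact ⟨j, by rw [h3, h4, hj]⟩
        have hs1 : Group.IsSolvable N := ih _ hN3 N rfl _ hA1 hA2
        have hB1 : IsMulCommutative (A.map (QuotientGroup.mk' N)) := ⟨⟨fun a b => by
          obtain ⟨x, hx, hxa⟩ := a.2
          obtain ⟨y, hy, hyb⟩ := b.2
          apply Subtype.ext
          show a.1 * b.1 = b.1 * a.1
          rw [← hxa, ← hyb, ← map_mul, ← map_mul]
          haveI := hA
          rw [Lib.FGSBasic.mul_comm_of_mem A hx hy]⟩⟩
        have hB2 : ∃ j : ℕ, (A.map (QuotientGroup.mk' N)).index = 2 ^ j := by
          have h5 := Subgroup.index_map_dvd A (QuotientGroup.mk'_surjective N)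
          obtain ⟨j, _, hj⟩ := (Nat.dvd_prime_pow Nat.prime_two).1 (hk ▸ h5)
          exact ⟨j, hj⟩
        have hs2 : Group.IsSolvable (G ⧸ N) := ih _ hN4 (G ⧸ N) rfl _ hB1 hB2
        exact Group.isSolvable_of_ker_le_range N.subtype (QuotientGroup.mk' N) (by
          intro g hg
          rw [QuotientGroup.ker_mk'] at hg
          exact ⟨⟨g, hg⟩, rfl⟩)
      · rw [not_nontrivial_iff_subsingleton] at hnt
        infer_instance

/-- Every finite group having an abelian subgroup whose index is a power of 2 is solvable. -/
theorem result {G : Type*} [Group G] [Finite G]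
    (A : Subgroup G) (hA : IsMulCommutative A) (hidx : ∃ k : ℕ, A.index = 2 ^ k) : Group.IsSolvable G := by
  exact aux _ G rfl A hA hidx

end Cfsg.Agent.S3824
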