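import Cfsg.Statements.S3825
import Mathlib
-- import your own Cfsg.Agent.* helpers here

set_option autoImplicit false
open Cfsg

namespace Cfsg.Agent.S3825

open scoped commutatorElement
theorem fpf_inv {W : Type*} [Group W] [Finite W] (τ : W →* W) (hτ : ∀ x, τ (τ x) = x) (hfp : ∀ x, τ x = x → x = 1) :
    (∀ x, τ x = x⁻¹) ∧ (∀ a b : W, a * b = b * a) ∧ ¬ 2 ∣ Nat.card W := by
  have hinj : Function.Injective (fun x : W => x⁻¹ * τ x) := by
    intro a b hab
    have h1 : a⁻¹ * τ a = b⁻¹ * τ b := hab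
    have h2 : τ (b * a⁻¹) = b * a⁻¹ := by
      rw [map_mul, map_inv]
      have h3 : τ a = a * (b⁻¹ * τ b) := by rw [← h1]; group
      rw [h3]
      group
    have h4 := hfp _ h2
    rw [mul_inv_eq_one] at h4
    exact h4.symm
  have hsurj := Finite.injective_iff_surjective.mp hinj
  have hinv : ∀ x, τ x = x⁻¹ := by
    intro x
    obtain ⟨a, rfl⟩ := hsurj x
    show τ (a⁻¹ * τ a) = (a⁻¹ * τ a)⁻¹
    rw [map_mul, map_inv, hτ]
    group
  refine ⟨hinv, ?_, ?_⟩
  · intro a b
    have h1 := hinv (a * b)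
    rw [map_mul, hinv, hinv] at h1
    have h2 : (b * a)⁻¹ = (a * b)⁻¹ := by rw [← h1]; group
    exact (inv_injective h2).symm
  · intro h2
    haveI : Fact (Nat.Prime 2) := ⟨Nat.prime_two⟩
    obtain ⟨x, hx⟩ := exists_prime_orderOf_dvd_card' 2 h2
    have hxx : x * x = 1 := by
      have := pow_orderOf_eq_one x
      rwa [hx, sq] at this
    have h3 : x⁻¹ = x := inv_eq_of_mul_eq_one_left hxx
    have h4 := hfp x (by rw [hinv, h3])
    rw [h4, orderOf_one] at hx
    omega

/-- Let U be a subgroup of a finite group H and w an involution of H normalizing U and commuting with exactly two elements of U, the identity and y. If V is a non-cyclic elementary abelian 2-subgroup of U containing y which is normal in U and invariant under w, then V is a Sylow 2-subgroup of U, V has order 4, and U/V is abelian. -/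
theorem result {H : Type*} [Group H] [Finite H] (U : Subgroup H) (w : H) (hw : orderOf w = 2)
    (hwU : w ∈ Subgroup.normalizer (U : Set H)) (y : H) (hy : y ≠ 1) (hyU : y ∈ U)
    (hfix : ∀ u ∈ U, w * u * w⁻¹ = u ↔ (u = 1 ∨ u = y))
    (V : Subgroup H) (hVU : V ≤ U) (hVn : (V.subgroupOf U).Normal) (hVw : ∀ v ∈ V, w * v * w⁻¹ ∈ V)
    (hVe : Cfsg.IsElementaryAbelian 2 V) (hVc : ¬ IsCyclic ↥V) (hyV : y ∈ V) :
    ¬ 2 ∣ V.relIndex U ∧ Nat.card ↥V = 4 ∧ ⁅U, U⁆ ≤ V := by
  classical
  have hww : w * w = 1 := by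
    have := pow_orderOf_eq_one w
    rwa [hw, sq] at this
  have hwi : w⁻¹ = w := inv_eq_of_mul_eq_one_left hww
  have hv2 : ∀ v ∈ V, v * v = 1 := by
    intro v hv
    have := hVe.2 v hv
    rwa [sq] at this
  have hvi : ∀ v ∈ V, v⁻¹ = v := fun v hv => inv_eq_of_mul_eq_one_left (hv2 v hv)
  have hcV : ∀ a ∈ V, ∀ b ∈ V, a * b = b * a := by
    intro a ha b hb
    exact congrArg Subtype.val (hVe.1.is_comm.comm (⟨a, ha⟩ : V) ⟨b, hb⟩)
  have hWW : ∀ u : H, w * (w * u * w⁻¹) * w⁻¹ = u := by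
    intro u
    rw [hwi]
    calc w * (w * u * w) * w = (w * w) * u * (w * w) := by group
      _ = u := by rw [hww]; group
  have hWmul : ∀ a b : H, w * (a * b) * w⁻¹ = (w * a * w⁻¹) * (w * b * w⁻¹) := by
    intro a b; group
  obtain ⟨z, hzV, hz1, hzy⟩ : ∃ z ∈ V, z ≠ 1 ∧ z ≠ y := by
    by_contra hcon
    push Not at hcon
    apply hVc
    refine ⟨⟨⟨y, hyV⟩, fun x => ?_⟩⟩
    by_cases hx1 : (x : H) = 1
    · refine ⟨0, ?_⟩
      apply Subtype.ext
      simpa using hx1.symm
    · refine ⟨1, ?_⟩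
      apply Subtype.ext
      simpa using (hcon x.1 x.2 hx1).symm
  have hkey : ∀ t ∈ V, t ≠ 1 → t ≠ y → w * t * w⁻¹ = t * y := by
    intro t ht ht1 hty
    have hWt := hVw t ht
    have h1 : t * (w * t * w⁻¹) ∈ V := V.mul_mem ht hWt
    have h2 : w * (t * (w * t * w⁻¹)) * w⁻¹ = t * (w * t * w⁻¹) := by
      rw [hWmul, hWW]
      exact hcV _ hWt _ ht
    rcases (hfix _ (hVU h1)).mp h2 with h3 | h3
    · exfalso
      have h4 : w * t * w⁻¹ = t := by
        have h5 : w * t * w⁻¹ = t⁻¹ := by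
          rw [eq_inv_iff_mul_eq_one]
          rw [hcV _ hWt _ ht]
          exact h3
        rw [h5, hvi t ht]
      rcases (hfix t (hVU ht)).mp h4 with h5 | h5
      · exact ht1 h5
      · exact hty h5
    · calc w * t * w⁻¹ = (t * t) * (w * t * w⁻¹) := by rw [hv2 t ht, one_mul]
        _ = t * (t * (w * t * w⁻¹)) := by group
        _ = t * y := by rw [h3]
  have hyy := hv2 y hyV
  have hVset : ∀ v ∈ V, v = 1 ∨ v = y ∨ v = z ∨ v = z * y := by
    intro v hv
    by_contra hcon
    push Not at hcon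
    obtain ⟨hv1, hvy, hvz, hvzy⟩ := hcon
    have hzv1 : z * v ≠ 1 := by
      intro h
      apply hvz
      have : v = z⁻¹ := by rw [eq_inv_iff_mul_eq_one, hcV _ hv _ hzV]; exact h
      rw [this, hvi z hzV]
    have hzvy : z * v ≠ y := by
      intro h
      apply hvzy
      rw [← h, ← mul_assoc, hv2 z hzV, one_mul]
    have h1 := hkey _ (V.mul_mem hzV hv) hzv1 hzvy
    rw [hWmul, hkey z hzV hz1 hzy, hkey v hv hv1 hvy] at h1
    have h2 : z * y * (v * y) = z * v := by
      calc z * y * (v * y) = z * (y * v) * y := by group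
        _ = z * (v * y) * y := by rw [hcV y hyV v hv]
        _ = z * v * (y * y) := by group
        _ = z * v := by rw [hyy, mul_one]
    rw [h2] at h1
    apply hy
    exact (mul_eq_left.mp h1.symm)
  have hcard4 : Nat.card V = 4 := by
    let F : Finset H := {1, y, z, z * y}
    have hF : (V : Set H) = (F : Set H) := by
      ext v
      constructor
      · intro hv
        simpa [F] using hVset v hv
      · intro hv
        have hv' : v = 1 ∨ v = y ∨ v = z ∨ v = z * y := by simpa [F] using hv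
        rcases hv' with rfl | rfl | rfl | rfl
        · exact V.one_mem
        · exact hyV
        · exact hzV
        · exact V.mul_mem hzV hyV
    have hFc : F.card = 4 := by
      have h1 : (1 : H) ≠ y := hy.symm
      have h2 : (1 : H) ≠ z := hz1.symm
      have h3 : (1 : H) ≠ z * y := by
        intro h
        apply hzy
        have h4 : z = y⁻¹ := eq_inv_of_mul_eq_one_left h.symm
        rw [h4, hvi y hyV]
      have h4 : y ≠ z := hzy.symm
      have h5 : y ≠ z * y := by
        intro h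
        exact hz1 (mul_eq_right.mp h.symm)
      have h6 : z ≠ z * y := by
        intro h
        exact hy (mul_eq_left.mp h.symm)
      simp [F, h1, h2, h3, h4, h5, h6]
    rw [← hFc]
    have h1 : Nat.card V = Nat.card (F : Set H) := Nat.card_congr (Equiv.setCongr hF)
    rw [h1, Nat.card_coe_set_eq, Set.ncard_coe_finset]
  have hfpf : ∀ u ∈ U, u⁻¹ * (w * u * w⁻¹) ∈ V → u ∈ V := by
    intro u hu hv
    set v := u⁻¹ * (w * u * w⁻¹) with hvdef
    have hWu : w * u * w⁻¹ = u * v := by rw [hvdef]; group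
    have h1 : u * v * (w * v * w⁻¹) = u := by
      rw [← hWu, ← hWmul, ← hWu, hWW]
    have h2 : v * (w * v * w⁻¹) = 1 := by
      have h3 : u * (v * (w * v * w⁻¹)) = u := by rw [← mul_assoc]; exact h1
      exact mul_eq_left.mp h3
    have h4 : w * v * w⁻¹ = v := by
      have h5 : w * v * w⁻¹ = v⁻¹ := eq_inv_of_mul_eq_one_right h2
      rw [h5, hvi v hv]
    rcases (hfix v (hVU hv)).mp h4 with h5 | h5
    · rw [h5, mul_one] at hWu
      rcases (hfix u hu).mp hWu with h6 | h6
      · rw [h6]; exact V.one_mem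
      · rw [h6]; exact hyV
    · have h6 : w * (u * z) * w⁻¹ = u * z := by
        rw [hWmul, hWu, hkey z hzV hz1 hzy, h5]
        calc u * y * (z * y) = u * (y * z) * y := by group
          _ = u * (z * y) * y := by rw [hcV y hyV z hzV]
          _ = u * z * (y * y) := by group
          _ = u * z := by rw [hyy, mul_one]
      have h7 : u * z ∈ V := by
        rcases (hfix _ (U.mul_mem hu (hVU hzV))).mp h6 with h8 | h8
        · rw [h8]; exact V.one_mem
        · rw [h8]; exact hyV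
      have h8 : u = u * z * z⁻¹ := by group
      rw [h8]
      exact V.mul_mem h7 (V.inv_mem hzV)
  -- the quotient
  haveI := hVn
  let φ : U →* U := MonoidHom.mk' (fun x => ⟨w * x * w⁻¹, (Subgroup.mem_normalizer_iff.mp hwU x).mp x.2⟩)
    (fun a b => Subtype.ext (by
      show w * ((a : H) * b) * w⁻¹ = (w * a * w⁻¹) * (w * b * w⁻¹)
      group))
  have hφK : V.subgroupOf U ≤ (V.subgroupOf U).comap φ := by
    intro x hx
    exact Subgroup.mem_subgroupOf.mpr (hVw x.1 (Subgroup.mem_subgroupOf.mp hx))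
  let τ : (U ⧸ V.subgroupOf U) →* (U ⧸ V.subgroupOf U) := QuotientGroup.map _ _ φ hφK
  have hτmk : ∀ x : U, τ (x : U ⧸ V.subgroupOf U) = (φ x : U ⧸ V.subgroupOf U) := fun x => rfl
  have hτ2 : ∀ q, τ (τ q) = q := by
    intro q
    obtain ⟨x, rfl⟩ := QuotientGroup.mk_surjective q
    rw [hτmk, hτmk]
    congr 1
    apply Subtype.ext
    exact hWW x.1
  have hτf : ∀ q, τ q = q → q = 1 := by
    intro q hq
    obtain ⟨x, rfl⟩ := QuotientGroup.mk_surjective q
    rw [hτmk] at hq
    rw [QuotientGroup.eq] at hq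
    have h1 : (w * (x : H) * w⁻¹)⁻¹ * x ∈ V := Subgroup.mem_subgroupOf.mp hq
    have h2 : (x : H)⁻¹ * (w * x * w⁻¹) ∈ V := by
      have := V.inv_mem h1
      simpa using this
    exact (QuotientGroup.eq_one_iff x).mpr (Subgroup.mem_subgroupOf.mpr (hfpf x.1 x.2 h2))
  obtain ⟨-, hcomm, hodd⟩ := fpf_inv τ hτ2 hτf
  refine ⟨hodd, hcard4, ?_⟩
  rw [Subgroup.commutator_le]
  intro a ha b hb
  have h1 := hcomm (((⟨b⁻¹, U.inv_mem hb⟩ : U)) : U ⧸ V.subgroupOf U) ((⟨a⁻¹, U.inv_mem ha⟩ : U) : U ⧸ V.subgroupOf U)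
  rw [← QuotientGroup.mk_mul, ← QuotientGroup.mk_mul, QuotientGroup.eq] at h1
  have h2 := Subgroup.mem_subgroupOf.mp h1
  have h3 : ⁅a, b⁆ = a * b * a⁻¹ * b⁻¹ := commutatorElement_def a b
  rw [h3]
  have h4 : a * b * a⁻¹ * b⁻¹ = (b⁻¹ * a⁻¹)⁻¹ * (a⁻¹ * b⁻¹) := by group
  rw [h4]
  exact h2

end Cfsg.Agent.S3825
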