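import Cfsg.Statements.S4001
import Mathlib
import Cfsg.Agent.Lib.H1FrobK
import Cfsg.Agent.Lib.H1FrobThm
import Cfsg.Agent.Lib.H1FrobMod
import Cfsg.Agent.Lib.H1Q8
import Cfsg.Agent.Lib.H1FC
import Cfsg.Agent.Lib.Herstein
import Cfsg.Agent.Lib.FGSBasic
import Cfsg.Agent.S3939
-- import your own Cfsg.Agent.* helpers here

set_option autoImplicit false
open Cfsg

namespace Cfsg.Agent.S4001

open Cfsg
open scoped Pointwise

theorem frob_data {L : Type*} [Group L] [Finite L] (C M : Subgroup L) (hC : IsFrobeniusComplement C)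
    (hM : frobeniusKernel C = (M : Set L)) :
    M.Normal ∧ M.IsComplement' C ∧ Group.IsNilpotent M ∧
      (∀ c ∈ C, c ≠ 1 → ∀ h ∈ M, c * h = h * c → h = 1) ∧ (∀ x, x ∉ M → ∃ t, t⁻¹ * x * t ∈ C) ∧
      (Nat.card C).Coprime (Nat.card M) := by
  classical
  haveI := Fintype.ofFinite L
  obtain ⟨N, hN, hNn, hc⟩ := Lib.H1FrobThm.frobenius_theorem hC
  have hNM : N = M := SetLike.coe_injective (hN.trans hM)
  subst hNM
  haveI := hNn
  refine ⟨hNn, hc, Lib.H1FrobK.kernel_nilpotent hC hc, ?_, ?_, ?_⟩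
  · intro c hc' hc1 h hh hcomm
    have h1 := Lib.H1FrobK.fpf_of_frob hC hc hc' hc1
    have h2 : h ∈ N ⊓ Subgroup.centralizer ({c} : Set L) :=
      ⟨hh, Subgroup.mem_centralizer_singleton_iff.2 hcomm.symm⟩
    rw [h1] at h2
    exact h2
  · intro x hx
    have h1 : x ∉ frobeniusKernel C := by rw [← hN]; exact hx
    simp only [frobeniusKernel, Set.mem_setOf_eq, not_or, not_forall, not_not] at h1
    obtain ⟨-, g, hg⟩ := h1
    exact ⟨g, Lib.H1Core.mem_conj_smul.1 hg⟩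
  · apply Lib.H1FC.coprime_of_fpf
    · rw [Subgroup.normalizer_eq_top]; exact le_top
    · intro a ha ha1
      exact Lib.H1FrobK.fpf_of_frob hC hc ha ha1

theorem uniq_in_fc {L : Type*} [Group L] [Finite L] (C : Subgroup L) (hC : IsFrobeniusComplement C)
    (hn : Group.IsNilpotent C) {r : ℕ} (hr : r.Prime) {a b : L} (ha : a ∈ C) (hb : b ∈ C)
    (hao : orderOf a = r) (hbo : orderOf b = r) : b ∈ Subgroup.zpowers a := by
  haveI : Fact r.Prime := ⟨hr⟩
  obtain ⟨P⟩ : Nonempty (Sylow r C) := inferInstance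
  have hPn : (P : Subgroup C).Normal :=
    Sylow.normal_of_normalizerCondition (normalizerCondition_of_isNilpotent) P
  have ha' : (⟨a, ha⟩ : C) ∈ (P : Subgroup C) :=
    Lib.FGSBasic.mem_sylow_of_normal P hPn ⟨1, by rw [Subgroup.orderOf_mk, hao, pow_one]⟩
  have hb' : (⟨b, hb⟩ : C) ∈ (P : Subgroup C) :=
    Lib.FGSBasic.mem_sylow_of_normal P hPn ⟨1, by rw [Subgroup.orderOf_mk, hbo, pow_one]⟩
  set a₁ : ((P : Subgroup C) : Subgroup C) := ⟨⟨a, ha⟩, ha'⟩ with ha₁
  set b₁ : ((P : Subgroup C) : Subgroup C) := ⟨⟨b, hb⟩, hb'⟩ with hb₁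
  have h1 : Nat.card (Subgroup.zpowers a₁) = r := by
    rw [Nat.card_zpowers, ha₁, Subgroup.orderOf_mk, Subgroup.orderOf_mk, hao]
  have h2 : Nat.card (Subgroup.zpowers b₁) = r := by
    rw [Nat.card_zpowers, hb₁, Subgroup.orderOf_mk, Subgroup.orderOf_mk, hbo]
  have h3 := Lib.H1Q8.unique_order_p C hC r (P : Subgroup C) P.isPGroup' (Subgroup.zpowers a₁)
    (Subgroup.zpowers b₁) h1 h2
  have h4 : b₁ ∈ Subgroup.zpowers a₁ := h3 ▸ Subgroup.mem_zpowers b₁
  obtain ⟨k, hk⟩ := h4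
  refine ⟨k, ?_⟩
  have h5 := congrArg (fun z : ((P : Subgroup C) : Subgroup C) => ((z : C) : L)) hk
  simpa [ha₁, hb₁] using h5

theorem exists_mul_of_compl {L : Type*} [Group L] {N C : Subgroup L} [N.Normal]
    (hc : N.IsComplement' C) (x : L) : ∃ c ∈ C, ∃ n ∈ N, x = c * n := by
  have h1 : N ⊔ C = ⊤ := hc.sup_eq_top
  have h2 : x ∈ (↑(C ⊔ N) : Set L) := by
    rw [sup_comm, h1]; trivial
  rw [Subgroup.mul_normal] at h2
  obtain ⟨c, hc', n, hn, rfl⟩ := Set.mem_mul.1 h2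
  exact ⟨c, hc', n, hn, rfl⟩

section
variable {G : Type*} [Group G]

structure TF (H K C₁ : Subgroup G) [H.Normal] [K.Normal] (D : Subgroup (G ⧸ H)) : Prop where
  hle : H ≤ K
  C₁le : C₁ ≤ K
  ne : C₁ ≠ ⊥
  disj : ∀ x, x ∈ H → x ∈ C₁ → x = 1
  fac : ∀ x ∈ K, ∃ c ∈ C₁, ∃ h ∈ H, x = c * h
  fpf1 : ∀ c ∈ C₁, c ≠ 1 → ∀ h ∈ H, c * h = h * c → h = 1
  not1 : ∀ x ∈ K, x ∉ H → ∃ t ∈ K, t⁻¹ * x * t ∈ C₁
  Dne : D ≠ ⊥
  fpf2 : ∀ d ∈ D, d ≠ 1 → ∀ x ∈ K.map (QuotientGroup.mk' H), d * x = x * d → x = 1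
  not2 : ∀ x, x ∉ K.map (QuotientGroup.mk' H) → ∃ t, t⁻¹ * x * t ∈ D
  facD : ∀ x : G ⧸ H, ∃ d ∈ D, ∃ k ∈ K.map (QuotientGroup.mk' H), x = d * k
  disjD : ∀ x, x ∈ K.map (QuotientGroup.mk' H) → x ∈ D → x = 1
  nilH : Group.IsNilpotent H
  nilK : Group.IsNilpotent (K.map (QuotientGroup.mk' H))
  nilC : Group.IsNilpotent C₁
  uniq : ∀ r : ℕ, r.Prime → ∀ a ∈ C₁, ∀ b ∈ C₁, orderOf a = r → orderOf b = r → b ∈ Subgroup.zpowers a
  lift : ∀ g : G, ∃ h ∈ H, h * g ∈ Subgroup.normalizer (C₁ : Set G)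
  card_eq : Nat.card G = Nat.card H * (Nat.card C₁ * Nat.card D)
  cop1 : (Nat.card C₁).Coprime (Nat.card H)
  cop2 : (Nat.card C₁).Coprime (Nat.card D)
  cardKb : Nat.card (K.map (QuotientGroup.mk' H)) = Nat.card C₁
  cardKQ : Nat.card (↥K ⧸ H.subgroupOf K) = Nat.card C₁
  cardGK : Nat.card (G ⧸ K) = Nat.card D

end

theorem mkTF {G : Type*} [Group G] [Finite G] (H K : Subgroup G) [H.Normal] [K.Normal] (hlt : H < K)
    (C : Subgroup ↥K) (hC : IsFrobeniusComplement C) (hCk : frobeniusKernel C = (H.subgroupOf K : Set ↥K))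
    (D : Subgroup (G ⧸ H)) (hD : IsFrobeniusComplement D)
    (hDk : frobeniusKernel D = (K.map (QuotientGroup.mk' H) : Set (G ⧸ H))) :
    TF H K (C.map K.subtype) D := by
  classical
  obtain ⟨hn1, hc1, hnil1, hfpf1, hnot1, hcop1⟩ := frob_data C (H.subgroupOf K) hC hCk
  obtain ⟨hn2, hc2, hnil2, hfpf2, hnot2, hcop2⟩ := frob_data D (K.map (QuotientGroup.mk' H)) hD hDk
  haveI := hn1
  haveI := hn2
  have hle : H ≤ K := hlt.le
  set C₁ : Subgroup G := C.map K.subtype with hC₁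
  set mk' := QuotientGroup.mk' H with hmk
  have eC : C ≃* C₁ := C.equivMapOfInjective _ K.subtype_injective
  have hcardC : Nat.card C₁ = Nat.card C := (Nat.card_congr eC.toEquiv).symm
  have eH : H.subgroupOf K ≃* H := Subgroup.subgroupOfEquivOfLe hle
  have hcardH : Nat.card (H.subgroupOf K) = Nat.card H := Nat.card_congr eH.toEquiv
  -- the isomorphism C ≃ K̄
  let ψ : C →* K.map mk' :=
    ((mk'.comp K.subtype).comp C.subtype).codRestrict (K.map mk') (fun c => ⟨c.1, c.1.2, rfl⟩)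
  have hψinj : Function.Injective ψ := by
    rw [injective_iff_map_eq_one]
    intro c hc
    have h1 : mk' ((c : K) : G) = 1 := congrArg Subtype.val hc
    have h2 : ((c : K) : G) ∈ H := (QuotientGroup.eq_one_iff _).1 h1
    have h3 : (c : K) ∈ H.subgroupOf K := Subgroup.mem_subgroupOf.2 h2
    have h4 := Subgroup.disjoint_def.1 hc1.disjoint h3 c.2
    exact Subtype.ext h4
  have hψsurj : Function.Surjective ψ := by
    rintro ⟨_, k, hk, rfl⟩
    obtain ⟨c, hc, n, hn, he⟩ := exists_mul_of_compl hc1 (⟨k, hk⟩ : K)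
    refine ⟨⟨c, hc⟩, Subtype.ext ?_⟩
    have h1 : k = (c : G) * (n : G) := congrArg Subtype.val he
    have h2 : mk' (n : G) = 1 := (QuotientGroup.eq_one_iff _).2 (Subgroup.mem_subgroupOf.1 hn)
    show mk' (c : G) = mk' k
    rw [h1, map_mul, h2, mul_one]
  let e : C ≃* K.map mk' := MulEquiv.ofBijective ψ ⟨hψinj, hψsurj⟩
  have hnilC : Group.IsNilpotent C := nilpotent_of_surjective e.symm.toMonoidHom e.symm.surjective
  have hcardKb : Nat.card (K.map mk') = Nat.card C := (Nat.card_congr e.toEquiv).symm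
  have hcardKQ : Nat.card (↥K ⧸ H.subgroupOf K) = Nat.card C := hc1.symm.index_eq_card
  have hidx : K.index = (K.map mk').index := by
    have h1 := Subgroup.index_comap_of_surjective (K.map mk') (QuotientGroup.mk'_surjective H)
    rw [Subgroup.comap_map_eq, QuotientGroup.ker_mk', sup_of_le_left hle] at h1
    exact h1
  have hcardGK : Nat.card (G ⧸ K) = Nat.card D := by
    show K.index = _
    rw [hidx]
    exact hc2.symm.index_eq_card
  refine
  { hle := hle
    C₁le := Subgroup.map_subtype_le _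
    ne := ?_
    disj := ?_
    fac := ?_
    fpf1 := ?_
    not1 := ?_
    Dne := hD.1
    fpf2 := hfpf2
    not2 := hnot2
    facD := fun x => exists_mul_of_compl hc2 x
    disjD := fun x hx hd => Subgroup.disjoint_def.1 hc2.disjoint hx hd
    nilH := ?_
    nilK := ?_
    nilC := ?_
    uniq := ?_
    lift := ?_
    card_eq := ?_
    cop1 := ?_
    cop2 := ?_
    cardKb := ?_
    cardKQ := ?_
    cardGK := hcardGK }
  · intro h0
    apply hC.1
    rwa [hC₁, Subgroup.map_eq_bot_iff_of_injective _ K.subtype_injective] at h0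
  · rintro x hx ⟨c, hc, rfl⟩
    have h1 : c ∈ H.subgroupOf K := Subgroup.mem_subgroupOf.2 hx
    have h2 := Subgroup.disjoint_def.1 hc1.disjoint h1 hc
    rw [h2]; rfl
  · intro x hx
    obtain ⟨c, hc, n, hn, he⟩ := exists_mul_of_compl hc1 (⟨x, hx⟩ : K)
    refine ⟨c, ⟨c, hc, rfl⟩, n, Subgroup.mem_subgroupOf.1 hn, ?_⟩
    exact congrArg Subtype.val he
  · rintro _ ⟨c, hc, rfl⟩ hc1' h hh hcomm
    have h1 := hfpf1 c hc (fun e => hc1' (by rw [e]; rfl)) ⟨h, hle hh⟩ (Subgroup.mem_subgroupOf.2 hh)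
      (Subtype.ext hcomm)
    exact congrArg Subtype.val h1
  · intro x hx hxH
    have h1 : (⟨x, hx⟩ : K) ∉ H.subgroupOf K := fun h => hxH (Subgroup.mem_subgroupOf.1 h)
    obtain ⟨t, ht⟩ := hnot1 _ h1
    exact ⟨t, t.2, _, ht, rfl⟩
  · haveI := hnil1
    exact nilpotent_of_surjective eH.toMonoidHom eH.surjective
  · exact hnil2
  · haveI := hnilC
    exact nilpotent_of_surjective eC.toMonoidHom eC.surjective
  · rintro r hr _ ⟨a, ha, rfl⟩ _ ⟨b, hb, rfl⟩ hao hbo
    have hsub : ∀ z : K, orderOf (K.subtype z) = orderOf z := fun z => Subgroup.orderOf_coe z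
    rw [hsub] at hao hbo
    obtain ⟨k, hk⟩ := uniq_in_fc C hC hnilC hr ha hb hao hbo
    refine ⟨k, ?_⟩
    show _ = (b : G)
    rw [← hk]
    simp
  · intro g
    let φ : MulAut K := MulAut.conjNormal g
    have hC' : IsFrobeniusComplement (C.map φ.toMonoidHom) := Lib.H1FrobMod.isFrob_map φ C hC
    obtain ⟨t, ht⟩ := Lib.H1FrobK.frob_conj hC hC'
    obtain ⟨c, hc, n, hn, he⟩ := exists_mul_of_compl hc1 t
    refine ⟨n, Subgroup.mem_subgroupOf.1 hn, ?_⟩
    apply Lib.Herstein.mem_normalizer_of_conj_le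
    rintro _ ⟨w, hw, rfl⟩
    have h1 : φ w ∈ C.map φ.toMonoidHom := ⟨w, hw, rfl⟩
    have h2 : t * φ w * t⁻¹ ∈ C := by
      rw [← ht]
      exact ⟨φ w, h1, rfl⟩
    have h3 : c⁻¹ * (t * φ w * t⁻¹) * c ∈ C := C.mul_mem (C.mul_mem (C.inv_mem hc) h2) hc
    refine ⟨_, h3, ?_⟩
    rw [he]
    have h4 : ((φ w : K) : G) = g * (w : G) * g⁻¹ := rfl
    simp only [Subgroup.coe_subtype, Subgroup.coe_mul, Subgroup.coe_inv, h4]
    group
  · have h1 := hc1.card_mul_card
    have h2 : Nat.card G = Nat.card K * K.index := (Subgroup.card_mul_index K).symm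
    rw [h2, ← h1, hcardH, hcardC, mul_assoc, hidx, hc2.symm.index_eq_card]
  · rw [hcardC, ← hcardH]; exact hcop1
  · rw [hcardC, ← hcardKb]; exact hcop2.symm
  · rw [hcardC]; exact hcardKb
  · rw [hcardC]; exact hcardKQ


theorem norm_lemma {F A : Type*} [Group F] [Finite F] [CommGroup A] (act : F →* MulAut A)
    (U Y : Subgroup F)
    (hYU : ∀ t ∈ Y, ∀ u ∈ U, t * u * t⁻¹ ∈ U)
    (hfix : ∀ t ∈ Y, t ≠ 1 → ∀ u ∈ U, t * u * t⁻¹ = u → u = 1)
    (u₀ : F) (hu₀ : u₀ ∈ U) (hu₀1 : ∀ w : A, act u₀ w = w → w = 1)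
    (y₀ : F) (hy₀ : y₀ ∈ Y) (hy₀1 : ∀ w : A, act y₀ w = w → w = 1) (v : A) : v ^ Nat.card U = 1 := by
  classical
  letI := Fintype.ofFinite U
  letI := Fintype.ofFinite Y
  have hU : ∀ w : A, ∏ u : U, act u w = 1 := by
    intro w
    apply hu₀1
    rw [map_prod]
    refine Fintype.prod_equiv (Equiv.mulLeft (⟨u₀, hu₀⟩ : U)) _ _ (fun u => ?_)
    simp [map_mul, MulAut.mul_def]
  have hY : ∀ w : A, ∏ t : Y, act t w = 1 := by
    intro w
    apply hy₀1
    rw [map_prod]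
    refine Fintype.prod_equiv (Equiv.mulLeft (⟨y₀, hy₀⟩ : Y)) _ _ (fun u => ?_)
    simp [map_mul, MulAut.mul_def]
  have hP1 : ∀ u : U, ∏ t : Y, act ((u : F) * t * (u : F)⁻¹) v = 1 := by
    intro u
    have h1 : ∀ t : Y, act ((u : F) * t * (u : F)⁻¹) v = act (u : F) (act (t : F) (act (u : F)⁻¹ v)) := by
      intro t
      simp [map_mul, MulAut.mul_def]
    simp_rw [h1]
    rw [← map_prod, hY, map_one]
  have hP2 : ∀ t : Y, t ≠ 1 → ∏ u : U, act ((u : F) * t * (u : F)⁻¹) v = 1 := by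
    intro t ht
    have ht' : (t : F) ≠ 1 := fun e => ht (Subtype.ext e)
    let f : U → U := fun u =>
      ⟨(u : F) * ((t : F) * (u : F)⁻¹ * (t : F)⁻¹), U.mul_mem u.2 (hYU t t.2 _ (U.inv_mem u.2))⟩
    have hf : Function.Injective f := by
      intro a b hab
      have h2 : (a : F) * ((t : F) * (a : F)⁻¹ * (t : F)⁻¹) = (b : F) * ((t : F) * (b : F)⁻¹ * (t : F)⁻¹) :=
        congrArg Subtype.val hab
      have h5 : (a : F) * t * (a : F)⁻¹ = (b : F) * t * (b : F)⁻¹ := by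
        have h6 := congrArg (fun z => z * (t : F)) h2
        simpa [mul_assoc] using h6
      have hw : (t : F) * ((b : F)⁻¹ * a) * (t : F)⁻¹ = (b : F)⁻¹ * a := by
        have h7 : (b : F)⁻¹ * a * t = t * ((b : F)⁻¹ * a) := by
          calc (b : F)⁻¹ * a * t = (b : F)⁻¹ * ((a : F) * t * (a : F)⁻¹) * a := by group
            _ = (b : F)⁻¹ * ((b : F) * t * (b : F)⁻¹) * a := by rw [h5]
            _ = t * ((b : F)⁻¹ * a) := by group
        rw [← h7]
        group
      have h8 := hfix t t.2 ht' _ (U.mul_mem (U.inv_mem b.2) a.2) hw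
      have h9 : (a : F) = b := by
        have h10 := congrArg (fun z => (b : F) * z) h8
        simpa using h10
      exact Subtype.ext h9
    have hb : Function.Bijective f := Finite.injective_iff_bijective.1 hf
    have h3 : ∀ u : U, act ((u : F) * t * (u : F)⁻¹) v = act (f u : F) (act (t : F) v) := by
      intro u
      have e : (u : F) * t * (u : F)⁻¹ = (f u : F) * t := by
        show _ = (u : F) * ((t : F) * (u : F)⁻¹ * (t : F)⁻¹) * t
        group
      rw [e, map_mul]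
      rfl
    simp_rw [h3]
    rw [hb.prod_comp (fun u' : U => act (u' : F) (act (t : F) v))]
    exact hU _
  have hP : ∏ u : U, ∏ t : Y, act ((u : F) * t * (u : F)⁻¹) v = 1 :=
    Finset.prod_eq_one (fun u _ => hP1 u)
  rw [Finset.prod_comm, Finset.prod_eq_single (1 : Y) (fun t _ ht => hP2 t ht) (by simp)] at hP
  simp at hP
  rw [Nat.card_eq_fintype_card]
  exact hP

theorem order_pq {X : Type*} [Group X] {x y : X} (hc : x * y = y * x) {p q : ℕ} (hpq : p.Coprime q)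
    (hx : orderOf x = p) (hy : orderOf y = q) : orderOf (x * y) = p * q := by
  have h1 : Commute x y := hc
  rw [h1.orderOf_mul_eq_mul_orderOf_of_coprime (by rw [hx, hy]; exact hpq), hx, hy]

theorem nil_pq {G : Type*} [Group G] [Finite G] (X : Subgroup G) (hX : Group.IsNilpotent X) {p q : ℕ}
    (hp : p.Prime) (hq : q.Prime) (hpq : p ≠ q) (hpd : p ∣ Nat.card X) (hqd : q ∣ Nat.card X) :
    ∃ g : G, orderOf g = p * q := by
  haveI := Fact.mk hp
  haveI := Fact.mk hq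
  obtain ⟨a, ha⟩ := exists_prime_orderOf_dvd_card' (G := X) p hpd
  obtain ⟨b, hb⟩ := exists_prime_orderOf_dvd_card' (G := X) q hqd
  have hc := S3939.comm_of_nilp a b (a := 1) (b := 1) hp hq hpq (by rw [ha, pow_one]) (by rw [hb, pow_one])
  refine ⟨((a * b : X) : G), ?_⟩
  rw [Subgroup.orderOf_coe]
  exact order_pq hc ((Nat.coprime_primes hp hq).2 hpq) ha hb

theorem eq_one_of_cop {X : Type*} [Group X] {x : X} {a b : ℕ} (ha : x ^ a = 1) (hb : x ^ b = 1)
    (hab : a.Coprime b) : x = 1 := by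
  have h1 : x ^ Nat.gcd a b = 1 := pow_gcd_eq_one.2 ⟨ha, hb⟩
  rwa [hab.gcd_eq_one, pow_one] at h1

section
variable {G : Type*} [Group G] [Finite G] {H K C₁ : Subgroup G} [H.Normal] [K.Normal] {D : Subgroup (G ⧸ H)}

theorem TF.mk_inj (h : TF H K C₁ D) {c : G} (hc : c ∈ C₁) (h1 : QuotientGroup.mk' H c = 1) : c = 1 :=
  h.disj c ((QuotientGroup.eq_one_iff _).1 h1) hc

theorem TF.order_mk (h : TF H K C₁ D) {c : G} (hc : c ∈ C₁) :
    orderOf (QuotientGroup.mk' H c) = orderOf c := by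
  let f : C₁ →* G ⧸ H := (QuotientGroup.mk' H).comp C₁.subtype
  have hf : Function.Injective f := by
    rw [injective_iff_map_eq_one]
    intro x hx
    exact Subtype.ext (h.mk_inj x.2 hx)
  have h2 := orderOf_injective f hf ⟨c, hc⟩
  rw [Subgroup.orderOf_mk] at h2
  exact h2

theorem TF.exists_C (h : TF H K C₁ D) {x : G ⧸ H} (hx : x ∈ K.map (QuotientGroup.mk' H)) :
    ∃ c ∈ C₁, QuotientGroup.mk' H c = x := by
  obtain ⟨k, hk, rfl⟩ := hx
  obtain ⟨c, hc, n, hn, rfl⟩ := h.fac k hk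
  have hh : QuotientGroup.mk' H n = 1 := (QuotientGroup.eq_one_iff n).2 hn
  exact ⟨c, hc, by rw [map_mul, hh, mul_one]⟩

theorem TF.uniqK (h : TF H K C₁ D) {r : ℕ} (hr : r.Prime) {a b : G ⧸ H}
    (ha : a ∈ K.map (QuotientGroup.mk' H)) (hb : b ∈ K.map (QuotientGroup.mk' H))
    (hao : orderOf a = r) (hbo : orderOf b = r) : b ∈ Subgroup.zpowers a := by
  obtain ⟨a₀, ha₀, rfl⟩ := h.exists_C ha
  obtain ⟨b₀, hb₀, rfl⟩ := h.exists_C hb
  rw [h.order_mk ha₀] at hao
  rw [h.order_mk hb₀] at hbo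
  obtain ⟨k, hk⟩ := h.uniq r hr a₀ ha₀ b₀ hb₀ hao hbo
  refine ⟨k, ?_⟩
  show QuotientGroup.mk' H a₀ ^ k = _
  rw [← map_zpow]
  exact congrArg _ hk

theorem TF.normK (_h : TF H K C₁ D) : (K.map (QuotientGroup.mk' H)).Normal :=
  Subgroup.Normal.map ‹K.Normal› (QuotientGroup.mk' H) (QuotientGroup.mk'_surjective H)

theorem order_conj' {X : Type*} [Group X] (x a : X) : orderOf (x * a * x⁻¹) = orderOf a :=
  orderOf_injective (MulAut.conj x).toMonoidHom (MulAut.conj x).injective a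

theorem TF.normal_zp (h : TF H K C₁ D) {r : ℕ} (hr : r.Prime) {a : G ⧸ H}
    (ha : a ∈ K.map (QuotientGroup.mk' H)) (hao : orderOf a = r) : (Subgroup.zpowers a).Normal := by
  refine ⟨?_⟩
  rintro _ ⟨k, rfl⟩ x
  have h1 : x * a * x⁻¹ ∈ K.map (QuotientGroup.mk' H) := h.normK.conj_mem a ha x
  have h2 : orderOf (x * a * x⁻¹) = r := by rw [order_conj', hao]
  have h3 := h.uniqK hr ha h1 hao h2
  show x * a ^ k * x⁻¹ ∈ _
  rw [← conj_zpow]
  exact Subgroup.zpow_mem _ h3 k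

theorem TF.exists_el (h : TF H K C₁ D) {r : ℕ} (hr : r.Prime) (hd : r ∣ Nat.card C₁) :
    ∃ a ∈ K.map (QuotientGroup.mk' H), orderOf a = r := by
  haveI := Fact.mk hr
  rw [← h.cardKb] at hd
  obtain ⟨x, hx⟩ := exists_prime_orderOf_dvd_card' (G := K.map (QuotientGroup.mk' H)) r hd
  exact ⟨x, x.2, by rw [Subgroup.orderOf_coe, hx]⟩

theorem TF.cyc_odd (h : TF H K C₁ D) : IsCyclic D ∧ Odd (Nat.card C₁) := by
  have hC1 : Nat.card C₁ ≠ 1 := fun e => h.ne (Subgroup.eq_bot_of_card_eq _ e)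
  constructor
  · obtain ⟨r, hr, hd⟩ := Nat.exists_prime_and_dvd hC1
    obtain ⟨a, ha, hao⟩ := h.exists_el hr hd
    haveI hU := h.normal_zp hr ha hao
    have hUc : Nat.card (Subgroup.zpowers a) = r := by rw [Nat.card_zpowers, hao]
    haveI : Fact (Nat.card (Subgroup.zpowers a)).Prime := ⟨by rw [hUc]; exact hr⟩
    let f : D →* MulAut (Subgroup.zpowers a) := (MulAut.conjNormal).comp D.subtype
    have hf : Function.Injective f := by
      rw [injective_iff_map_eq_one]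
      intro d hd
      by_contra hd1
      have h2 : ((f d ⟨a, Subgroup.mem_zpowers a⟩ : Subgroup.zpowers a) : G ⧸ H) = a := by
        rw [hd]; rfl
      have h3 : (d : G ⧸ H) * a * (d : G ⧸ H)⁻¹ = a :=
        (MulAut.conjNormal_apply (H := Subgroup.zpowers a) (d : G ⧸ H) ⟨a, Subgroup.mem_zpowers a⟩).symm.trans h2
      have h4 := h.fpf2 d d.2 (fun e => hd1 (Subtype.ext e)) a ha (by
        rw [← mul_inv_eq_iff_eq_mul]; exact h3)
      rw [h4, orderOf_one] at hao
      exact hr.one_lt.ne hao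
    haveI : IsCyclic (MulAut (Subgroup.zpowers a)) :=
      isCyclic_of_injective (IsCyclic.mulAutMulEquiv _).toMonoidHom (IsCyclic.mulAutMulEquiv _).injective
    exact isCyclic_of_injective f hf
  · by_contra hodd
    rw [Nat.not_odd_iff_even, even_iff_two_dvd] at hodd
    obtain ⟨a, ha, hao⟩ := h.exists_el Nat.prime_two hodd
    obtain ⟨d, hd, hd1⟩ := D.bot_or_exists_ne_one.resolve_left h.Dne
    have h1 : d * a * d⁻¹ ∈ K.map (QuotientGroup.mk' H) := h.normK.conj_mem a ha d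
    have h2 : orderOf (d * a * d⁻¹) = 2 := by rw [order_conj', hao]
    obtain ⟨k, hk⟩ := h.uniqK Nat.prime_two ha h1 hao h2
    have hk' : a ^ k = d * a * d⁻¹ := hk
    have h3 : d * a * d⁻¹ = a := by
      rw [← hk', ← zpow_mod_orderOf, hao]
      rcases Int.emod_two_eq_zero_or_one k with e | e
      · have e' : k % ((2 : ℕ) : ℤ) = 0 := by exact_mod_cast e
        exfalso
        rw [← hk', ← zpow_mod_orderOf, hao, e', zpow_zero] at h2
        exact absurd h2 (by simp)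
      · have e' : k % ((2 : ℕ) : ℤ) = 1 := by exact_mod_cast e
        rw [e', zpow_one]
    have h4 := h.fpf2 d hd hd1 a ha (by rw [← mul_inv_eq_iff_eq_mul]; exact h3)
    rw [h4, orderOf_one] at hao
    exact absurd hao (by norm_num)

theorem TF.N_inf (h : TF H K C₁ D) {y : G} (hy : y ∈ Subgroup.normalizer (C₁ : Set G)) (hyH : y ∈ H) : y = 1 := by
  obtain ⟨c, hc, hc1⟩ := C₁.bot_or_exists_ne_one.resolve_left h.ne
  have h1 : y * c * y⁻¹ ∈ C₁ := (Subgroup.mem_normalizer_iff.1 hy c).1 hc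
  have h2 : y * c * y⁻¹ * c⁻¹ ∈ C₁ := C₁.mul_mem h1 (C₁.inv_mem hc)
  have h3 : y * c * y⁻¹ * c⁻¹ ∈ H := by
    have e : y * c * y⁻¹ * c⁻¹ = y * (c * y⁻¹ * c⁻¹) := by group
    rw [e]
    exact H.mul_mem hyH (Subgroup.Normal.conj_mem ‹_› _ (H.inv_mem hyH) c)
  have h4 := h.disj _ h3 h2
  have h5 : c * y = y * c := by
    have h6 : y * c * y⁻¹ = c := by
      rw [mul_inv_eq_one] at h4; exact h4
    rw [mul_inv_eq_iff_eq_mul] at h6
    exact h6.symm
  exact h.fpf1 c hc hc1 y hyH h5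

theorem TF.lift_el (h : TF H K C₁ D) (x : G ⧸ H) :
    ∃ y ∈ Subgroup.normalizer (C₁ : Set G), QuotientGroup.mk' H y = x ∧ orderOf y = orderOf x := by
  obtain ⟨g, rfl⟩ := QuotientGroup.mk'_surjective H x
  obtain ⟨n, hn, hy⟩ := h.lift g
  have hh : QuotientGroup.mk' H n = 1 := (QuotientGroup.eq_one_iff n).2 hn
  have hmk : QuotientGroup.mk' H (n * g) = QuotientGroup.mk' H g := by
    rw [map_mul, hh, one_mul]
  refine ⟨n * g, hy, hmk, ?_⟩
  let f : Subgroup.normalizer (C₁ : Set G) →* G ⧸ H := (QuotientGroup.mk' H).comp (Subgroup.normalizer (C₁ : Set G)).subtype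
  have hf : Function.Injective f := by
    rw [injective_iff_map_eq_one]
    intro x hx
    exact Subtype.ext (h.N_inf x.2 ((QuotientGroup.eq_one_iff _).1 hx))
  have h2 := orderOf_injective f hf ⟨n * g, hy⟩
  rw [Subgroup.orderOf_mk] at h2
  rw [← h2]
  exact congrArg _ hmk

theorem exists_normal_p {H : Subgroup G} [H.Normal] (hnil : Group.IsNilpotent H) {p : ℕ} (hp : p.Prime)
    (hd : p ∣ Nat.card H) :
    ∃ A₀ : Subgroup G, A₀.Normal ∧ A₀ ≠ ⊥ ∧ A₀ ≤ H ∧ IsPGroup p A₀ ∧ ∀ a ∈ A₀, ∀ b ∈ A₀, a * b = b * a := by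
  classical
  haveI := Fact.mk hp
  obtain ⟨Sy⟩ : Nonempty (Sylow p H) := inferInstance
  have hSn : (Sy : Subgroup H).Normal :=
    Sylow.normal_of_normalizerCondition (normalizerCondition_of_isNilpotent) Sy
  set P : Subgroup G := (Sy : Subgroup H).map H.subtype with hP
  have hPp : IsPGroup p P := Sy.isPGroup'.map _
  have hPn : P.Normal := by
    refine ⟨?_⟩
    rintro _ ⟨x, hx, rfl⟩ g
    have h1 : g * (x : G) * g⁻¹ ∈ H := Subgroup.Normal.conj_mem ‹_› _ x.2 g
    have h2 : (⟨g * (x : G) * g⁻¹, h1⟩ : H) ∈ (Sy : Subgroup H) := by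
      apply Lib.FGSBasic.mem_sylow_of_normal Sy hSn
      obtain ⟨k, hk⟩ := IsPGroup.iff_orderOf.1 Sy.isPGroup' ⟨x, hx⟩
      rw [Subgroup.orderOf_mk] at hk
      refine ⟨k, ?_⟩
      rw [Subgroup.orderOf_mk, order_conj', Subgroup.orderOf_coe, hk]
    exact ⟨_, h2, rfl⟩
  have hPne : Nontrivial P := by
    have h1 : Nat.card Sy ≠ 1 := by
      have hdvd : p ∣ Nat.card (Sy : Subgroup H) := by
        have h2 := Sy.card_eq_multiplicity
        rw [h2]
        exact dvd_pow_self p (by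
          have := (Nat.factorization_eq_zero_iff (Nat.card H) p).not.2 (by
            push Not
            exact ⟨hp, hd, Nat.card_pos.ne'⟩)
          exact this)
      intro e
      have h3 : p ∣ 1 := by
        have e2 : Nat.card (Sy : Subgroup H) = 1 := e
        rwa [e2] at hdvd
      exact hp.one_lt.ne' (Nat.dvd_one.1 h3)
    have h2 : Nat.card P ≠ 1 := by
      intro e
      apply h1
      have e3 : (Sy : Subgroup H) ≃* P := (Sy : Subgroup H).equivMapOfInjective _ H.subtype_injective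
      exact (Nat.card_congr e3.toEquiv).trans e
    exact Finite.one_lt_card_iff_nontrivial.1 (by
      have : 0 < Nat.card P := Nat.card_pos
      omega)
  haveI := hPne
  haveI := hPn
  haveI := hPp.center_nontrivial
  obtain ⟨z, hz⟩ := exists_ne (1 : Subgroup.center P)
  refine ⟨P ⊓ Subgroup.centralizer (P : Set G), inferInstance, ?_, ?_, ?_, ?_⟩
  · intro e
    have h3 : ((z : P) : G) ∈ P ⊓ Subgroup.centralizer (P : Set G) := by
      refine ⟨(z : P).2, Subgroup.mem_centralizer_iff.2 (fun q hq => ?_)⟩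
      have h4 := Subgroup.mem_center_iff.1 z.2 ⟨q, hq⟩
      exact congrArg Subtype.val h4
    rw [e] at h3
    apply hz
    exact Subtype.ext (Subtype.ext h3)
  · exact inf_le_left.trans (Subgroup.map_subtype_le _)
  · exact hPp.to_le inf_le_left
  · rintro a ⟨ha, -⟩ b ⟨-, hb⟩
    exact Subgroup.mem_centralizer_iff.1 hb a ha


theorem TF.exists_mixed (h : TF H K C₁ D) {p q : ℕ} (hp : p.Prime) (hq : q.Prime) (hpq : p ≠ q)
    (hpH : p ∣ Nat.card H) (hqD : q ∣ Nat.card D) (hpC : ¬ p ∣ Nat.card C₁) :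
    ∃ g : G, orderOf g = p * q := by
  classical
  haveI := Fact.mk hp
  haveI := Fact.mk hq
  obtain ⟨yb, hyb⟩ := exists_prime_orderOf_dvd_card' (G := D) q hqD
  obtain ⟨y, hyN, hym, hyo⟩ := h.lift_el (yb : G ⧸ H)
  rw [Subgroup.orderOf_coe, hyb] at hyo
  have hC1 : Nat.card C₁ ≠ 1 := fun e => h.ne (Subgroup.eq_bot_of_card_eq _ e)
  obtain ⟨r, hr, hrd⟩ := Nat.exists_prime_and_dvd hC1
  haveI := Fact.mk hr
  obtain ⟨c₀, hc₀⟩ := exists_prime_orderOf_dvd_card' (G := C₁) r hrd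
  have hco : orderOf (c₀ : G) = r := by rw [Subgroup.orderOf_coe, hc₀]
  set c : G := (c₀ : G) with hc
  have hcC : c ∈ C₁ := c₀.2
  have hc1 : c ≠ 1 := by
    intro e
    rw [e, orderOf_one] at hco
    exact hr.one_lt.ne hco
  have hzpow : ∀ t ∈ Subgroup.zpowers y, t ∈ Subgroup.normalizer (C₁ : Set G) := by
    intro t ht
    exact (Subgroup.zpowers_le.2 hyN) ht
  have hUC : Subgroup.zpowers c ≤ C₁ := Subgroup.zpowers_le.2 hcC
  have hYU : ∀ t ∈ Subgroup.zpowers y, ∀ u ∈ Subgroup.zpowers c, t * u * t⁻¹ ∈ Subgroup.zpowers c := by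
    rintro t ht _ ⟨k, rfl⟩
    have h1 : t * c * t⁻¹ ∈ C₁ := (Subgroup.mem_normalizer_iff.1 (hzpow t ht) c).1 hcC
    have h2 : orderOf (t * c * t⁻¹) = r := by rw [order_conj', hco]
    have h3 := h.uniq r hr c hcC _ h1 hco h2
    show t * c ^ k * t⁻¹ ∈ _
    rw [← conj_zpow]
    exact Subgroup.zpow_mem _ h3 k
  have hYD : ∀ t ∈ Subgroup.zpowers y, QuotientGroup.mk' H t ∈ D := by
    rintro _ ⟨k, rfl⟩
    show QuotientGroup.mk' H (y ^ k) ∈ D
    rw [map_zpow, hym]
    exact Subgroup.zpow_mem _ yb.2 k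
  have hfix : ∀ t ∈ Subgroup.zpowers y, t ≠ 1 → ∀ u ∈ Subgroup.zpowers c, t * u * t⁻¹ = u → u = 1 := by
    intro t ht ht1 u hu hte
    have hd1 : QuotientGroup.mk' H t ≠ 1 := by
      intro e
      exact ht1 (h.N_inf (hzpow t ht) ((QuotientGroup.eq_one_iff _).1 e))
    have hu2 : QuotientGroup.mk' H u ∈ K.map (QuotientGroup.mk' H) := ⟨u, h.C₁le (hUC hu), rfl⟩
    have h5 : QuotientGroup.mk' H t * QuotientGroup.mk' H u = QuotientGroup.mk' H u * QuotientGroup.mk' H t := by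
      rw [← map_mul, ← map_mul]
      congr 1
      rw [mul_inv_eq_iff_eq_mul] at hte
      exact hte
    have h6 := h.fpf2 _ (hYD t ht) hd1 _ hu2 h5
    exact h.mk_inj (hUC hu) h6
  by_contra hcon
  obtain ⟨A₀, hA₀n, hA₀ne, hA₀H, hA₀p, hA₀c⟩ := exists_normal_p h.nilH hp hpH
  haveI := hA₀n
  -- y acts fixed point freely on A₀
  have hy1 : ∀ v ∈ A₀, y * v * y⁻¹ = v → v = 1 := by
    intro v hv hve
    by_contra hv1
    obtain ⟨k, hk⟩ := IsPGroup.iff_orderOf.1 hA₀p ⟨v, hv⟩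
    rw [Subgroup.orderOf_mk] at hk
    have hk0 : k ≠ 0 := by
      rintro rfl
      rw [pow_zero, orderOf_eq_one_iff] at hk
      exact hv1 hk
    have h7 : p ∣ orderOf v := by rw [hk]; exact dvd_pow_self p hk0
    have h8 : orderOf (v ^ (orderOf v / p)) = p := orderOf_pow_orderOf_div (orderOf_pos v).ne' h7
    have h9 : y * v = v * y := by
      rw [mul_inv_eq_iff_eq_mul] at hve
      exact hve
    have h10 : v ^ (orderOf v / p) * y = y * v ^ (orderOf v / p) :=
      ((Commute.symm h9).pow_left _)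
    exact hcon ⟨_, order_pq h10 ((Nat.coprime_primes hp hq).2 hpq) h8 hyo⟩
  letI : CommGroup A₀ := { (inferInstance : Group A₀) with
    mul_comm := fun a b => Subtype.ext (hA₀c a a.2 b b.2) }
  have hnorm := norm_lemma (MulAut.conjNormal (H := A₀)) (Subgroup.zpowers c) (Subgroup.zpowers y) hYU hfix
    c (Subgroup.mem_zpowers c) (by
      intro w hw
      have h11 : c * (w : G) * c⁻¹ = w := by
        rw [← MulAut.conjNormal_apply]
        exact congrArg Subtype.val hw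
      have h12 := h.fpf1 c hcC hc1 w (hA₀H w.2) (by
        rw [mul_inv_eq_iff_eq_mul] at h11; exact h11)
      exact Subtype.ext h12)
    y (Subgroup.mem_zpowers y) (by
      intro w hw
      have h11 : y * (w : G) * y⁻¹ = w := by
        rw [← MulAut.conjNormal_apply]
        exact congrArg Subtype.val hw
      exact Subtype.ext (hy1 w w.2 h11))
  obtain ⟨v, hv, hv1⟩ := A₀.bot_or_exists_ne_one.resolve_left hA₀ne
  have h13 := hnorm ⟨v, hv⟩
  rw [Nat.card_zpowers, hco] at h13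
  have h14 : v ^ r = 1 := congrArg Subtype.val h13
  obtain ⟨k, hk⟩ := IsPGroup.iff_orderOf.1 hA₀p ⟨v, hv⟩
  rw [Subgroup.orderOf_mk] at hk
  have h15 : v ^ (p ^ k) = 1 := by rw [← hk]; exact pow_orderOf_eq_one v
  have hpr : p ≠ r := fun e => hpC (e ▸ hrd)
  exact hv1 (eq_one_of_cop h15 h14 (Nat.Coprime.pow_left k ((Nat.coprime_primes hp hr).2 hpr)))

theorem TF.pq_fwd (h : TF H K C₁ D) {p q : ℕ} (hp : p.Prime) (hq : q.Prime) (hpq : p ≠ q)
    (hpc : p ∣ Nat.card C₁) (hqc : ¬ q ∣ Nat.card C₁) {g : G} (hg : orderOf g = p * q) : False := by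
  classical
  set x := g ^ q with hx
  set y := g ^ p with hy
  have hxo : orderOf x = p := by
    rw [hx, orderOf_pow_of_dvd hq.ne_zero (by rw [hg]; exact dvd_mul_left _ _), hg]
    exact Nat.mul_div_cancel _ hq.pos
  have hyo : orderOf y = q := by
    rw [hy, orderOf_pow_of_dvd hp.ne_zero (by rw [hg]; exact dvd_mul_right _ _), hg]
    exact Nat.mul_div_cancel_left _ hp.pos
  have hcomm : x * y = y * x := ((Commute.refl g).pow_pow q p)
  have hx1 : x ≠ 1 := by
    intro e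
    rw [e, orderOf_one] at hxo
    exact hp.one_lt.ne hxo
  have hy1 : y ≠ 1 := by
    intro e
    rw [e, orderOf_one] at hyo
    exact hq.one_lt.ne hyo
  have hpH : (p).Coprime (Nat.card H) := Nat.Coprime.coprime_dvd_left hpc h.cop1
  have hpD : (p).Coprime (Nat.card D) := Nat.Coprime.coprime_dvd_left hpc h.cop2
  have hxp : x ^ p = 1 := by rw [← hxo]; exact pow_orderOf_eq_one x
  have hyq : y ^ q = 1 := by rw [← hyo]; exact pow_orderOf_eq_one y
  -- x ∈ K
  have hxK : x ∈ K := by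
    have h1 : (QuotientGroup.mk' K x) ^ p = 1 := by rw [← map_pow, hxp, map_one]
    have h2 : (QuotientGroup.mk' K x) ^ Nat.card (G ⧸ K) = 1 := pow_card_eq_one'
    rw [h.cardGK] at h2
    exact (QuotientGroup.eq_one_iff _).1 (eq_one_of_cop h1 h2 hpD)
  have hxH : x ∉ H := by
    intro e
    have h1 : (⟨x, e⟩ : H) ^ p = 1 := Subtype.ext hxp
    have h2 : (⟨x, e⟩ : H) ^ Nat.card H = 1 := pow_card_eq_one'
    have h3 := eq_one_of_cop h1 h2 hpH
    exact hx1 (congrArg Subtype.val h3)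
  have hxb1 : QuotientGroup.mk' H x ≠ 1 := fun e => hxH ((QuotientGroup.eq_one_iff _).1 e)
  have hxbK : QuotientGroup.mk' H x ∈ K.map (QuotientGroup.mk' H) := ⟨x, hxK, rfl⟩
  have hyK : QuotientGroup.mk' H y ∈ K.map (QuotientGroup.mk' H) := by
    by_contra hn
    obtain ⟨t, ht⟩ := h.not2 _ hn
    have hy1' : QuotientGroup.mk' H y ≠ 1 := fun e => hn (e ▸ Subgroup.one_mem _)
    have hd1 : t⁻¹ * QuotientGroup.mk' H y * t ≠ 1 := by
      intro e
      apply hy1'
      have e2 := congrArg (fun z => t * z * t⁻¹) e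
      simpa [mul_assoc] using e2
    have hx2 : t⁻¹ * QuotientGroup.mk' H x * t ∈ K.map (QuotientGroup.mk' H) := by
      have := h.normK.conj_mem _ hxbK t⁻¹
      simpa using this
    have hc : (t⁻¹ * QuotientGroup.mk' H y * t) * (t⁻¹ * QuotientGroup.mk' H x * t) =
        (t⁻¹ * QuotientGroup.mk' H x * t) * (t⁻¹ * QuotientGroup.mk' H y * t) := by
      have h0 : QuotientGroup.mk' H y * QuotientGroup.mk' H x = QuotientGroup.mk' H x * QuotientGroup.mk' H y := by
        rw [← map_mul, ← map_mul, hcomm]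
      calc (t⁻¹ * QuotientGroup.mk' H y * t) * (t⁻¹ * QuotientGroup.mk' H x * t)
          = t⁻¹ * (QuotientGroup.mk' H y * QuotientGroup.mk' H x) * t := by group
        _ = t⁻¹ * (QuotientGroup.mk' H x * QuotientGroup.mk' H y) * t := by rw [h0]
        _ = _ := by group
    have h6 := h.fpf2 _ ht hd1 _ hx2 hc
    apply hxb1
    have e2 := congrArg (fun z => t * z * t⁻¹) h6
    simpa [mul_assoc] using e2
  have hyH : y ∈ H := by
    have h1 : (⟨_, hyK⟩ : K.map (QuotientGroup.mk' H)) ^ q = 1 :=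
      Subtype.ext (by show QuotientGroup.mk' H y ^ q = 1; rw [← map_pow, hyq, map_one])
    have h2 : (⟨_, hyK⟩ : K.map (QuotientGroup.mk' H)) ^ Nat.card (K.map (QuotientGroup.mk' H)) = 1 :=
      pow_card_eq_one'
    rw [h.cardKb] at h2
    have hcop : q.Coprime (Nat.card C₁) := (Nat.Prime.coprime_iff_not_dvd hq).2 hqc
    have h3 := eq_one_of_cop h1 h2 hcop
    exact (QuotientGroup.eq_one_iff _).1 (congrArg Subtype.val h3)
  obtain ⟨t, htK, ht⟩ := h.not1 x hxK hxH
  have hc1 : t⁻¹ * x * t ≠ 1 := by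
    intro e
    apply hx1
    have e2 := congrArg (fun z => t * z * t⁻¹) e
    simpa [mul_assoc] using e2
  have hy2 : t⁻¹ * y * t ∈ H := by
    have := Subgroup.Normal.conj_mem ‹H.Normal› _ hyH t⁻¹
    simpa using this
  have hc : (t⁻¹ * x * t) * (t⁻¹ * y * t) = (t⁻¹ * y * t) * (t⁻¹ * x * t) := by
    calc (t⁻¹ * x * t) * (t⁻¹ * y * t) = t⁻¹ * (x * y) * t := by group
      _ = t⁻¹ * (y * x) * t := by rw [hcomm]
      _ = _ := by group
  have h6 := h.fpf1 _ ht hc1 _ hy2 hc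
  apply hy1
  have e2 := congrArg (fun z => t * z * t⁻¹) h6
  simpa [mul_assoc] using e2

theorem TF.pq_back (h : TF H K C₁ D) {p q : ℕ} (hp : p.Prime) (hq : q.Prime) (hpq : p ≠ q)
    (hpG : p ∣ Nat.card G) (hqG : q ∣ Nat.card G) (hiff : p ∣ Nat.card C₁ ↔ q ∣ Nat.card C₁) :
    ∃ g : G, orderOf g = p * q := by
  classical
  by_cases hpc : p ∣ Nat.card C₁
  · exact nil_pq C₁ h.nilC hp hq hpq hpc (hiff.1 hpc)
  · have hqc : ¬ q ∣ Nat.card C₁ := mt hiff.2 hpc
    have hsplit : ∀ r : ℕ, r.Prime → r ∣ Nat.card G → ¬ r ∣ Nat.card C₁ → r ∣ Nat.card H ∨ r ∣ Nat.card D := by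
      intro r hr hd hn
      rw [h.card_eq] at hd
      rcases (hr.dvd_mul).1 hd with h1 | h1
      · exact Or.inl h1
      · rcases (hr.dvd_mul).1 h1 with h2 | h2
        · exact absurd h2 hn
        · exact Or.inr h2
    rcases hsplit p hp hpG hpc with h1 | h1 <;> rcases hsplit q hq hqG hqc with h2 | h2
    · exact nil_pq H h.nilH hp hq hpq h1 h2
    · exact h.exists_mixed hp hq hpq h1 h2 hpc
    · obtain ⟨g, hg⟩ := h.exists_mixed hq hp hpq.symm h2 h1 hqc
      exact ⟨g, by rw [hg, mul_comm]⟩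
    · haveI := Fact.mk hp
      haveI := Fact.mk hq
      obtain ⟨a, ha⟩ := exists_prime_orderOf_dvd_card' (G := D) p h1
      obtain ⟨b, hb⟩ := exists_prime_orderOf_dvd_card' (G := D) q h2
      haveI := h.cyc_odd.1
      have hc : a * b = b * a := (IsCyclic.commGroup (α := D)).mul_comm a b
      have h3 := order_pq hc ((Nat.coprime_primes hp hq).2 hpq) ha hb
      obtain ⟨y, -, -, hy⟩ := h.lift_el ((a * b : D) : G ⧸ H)
      refine ⟨y, ?_⟩
      rw [hy, Subgroup.orderOf_coe, h3]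

theorem TF.solv (h : TF H K C₁ D) : Group.IsSolvable G := by
  classical
  haveI := h.normK
  haveI := h.nilH
  haveI := h.nilK
  haveI := h.cyc_odd.1
  letI : CommGroup D := IsCyclic.commGroup
  haveI hsD : Group.IsSolvable D := inferInstance
  let f : D →* (G ⧸ H) ⧸ K.map (QuotientGroup.mk' H) :=
    (QuotientGroup.mk' (K.map (QuotientGroup.mk' H))).comp D.subtype
  have hf : Function.Surjective f := by
    intro z
    obtain ⟨x, rfl⟩ := QuotientGroup.mk'_surjective _ z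
    obtain ⟨d, hd, k, hk, rfl⟩ := h.facD x
    refine ⟨⟨d, hd⟩, ?_⟩
    have hh : QuotientGroup.mk' (K.map (QuotientGroup.mk' H)) k = 1 := (QuotientGroup.eq_one_iff k).2 hk
    show QuotientGroup.mk' (K.map (QuotientGroup.mk' H)) d = _
    rw [map_mul, hh, mul_one]
  haveI hs1 : Group.IsSolvable ((G ⧸ H) ⧸ K.map (QuotientGroup.mk' H)) := solvable_of_surjective hf
  haveI hs2 : Group.IsSolvable (G ⧸ H) :=
    solvable_of_ker_le_range (K.map (QuotientGroup.mk' H)).subtype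
      (QuotientGroup.mk' (K.map (QuotientGroup.mk' H))) (by
        intro x hx
        rw [QuotientGroup.ker_mk'] at hx
        exact ⟨⟨x, hx⟩, rfl⟩)
  exact solvable_of_ker_le_range H.subtype (QuotientGroup.mk' H) (by
    intro x hx
    rw [QuotientGroup.ker_mk'] at hx
    exact ⟨⟨x, hx⟩, rfl⟩)

theorem TF.cycGK (h : TF H K C₁ D) : IsCyclic (G ⧸ K) := by
  classical
  haveI := h.cyc_odd.1
  let f : D →* G ⧸ K := (QuotientGroup.map H K (MonoidHom.id G) (by
    intro x hx; exact h.hle hx)).comp D.subtype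
  apply isCyclic_of_surjective f
  intro z
  obtain ⟨g, rfl⟩ := QuotientGroup.mk'_surjective K z
  obtain ⟨d, hd, k, ⟨k₀, hk₀, rfl⟩, he⟩ := h.facD (QuotientGroup.mk' H g)
  refine ⟨⟨d, hd⟩, ?_⟩
  obtain ⟨d₀, rfl⟩ := QuotientGroup.mk'_surjective H d
  have h1 : QuotientGroup.mk' H g = QuotientGroup.mk' H (d₀ * k₀) := by
    rw [map_mul]; exact he
  have h2 : (d₀ * k₀)⁻¹ * g ∈ H := by
    rw [← QuotientGroup.eq]
    exact h1.symm
  show QuotientGroup.mk' K d₀ = QuotientGroup.mk' K g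
  have h3 : d₀⁻¹ * g ∈ K := by
    have e : d₀⁻¹ * g = k₀ * ((d₀ * k₀)⁻¹ * g) := by group
    rw [e]
    exact K.mul_mem hk₀ (h.hle h2)
  exact QuotientGroup.eq.2 h3

end

/-- Let G be a 2-Frobenius group: it has normal subgroups H < K with K a Frobenius group with kernel H and G/H a Frobenius group with kernel K/H. Then G is solvable; K/H has odd order coprime to the order of H and to the order of G/K (it is the image of an odd-order Hall subgroup); G/K is cyclic; and the prime graph of G has exactly two connected components, both complete: for distinct primes p, q dividing the order of G, G has an element of order pq exactly when p and q either both divide the order of K/H or both do not. -/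
theorem result {G : Type*} [Group G] [Finite G] (H K : Subgroup G) [H.Normal] [K.Normal] (hlt : H < K)
    (hK : ∃ C : Subgroup ↥K, Cfsg.IsFrobeniusComplement C ∧ Cfsg.frobeniusKernel C = (H.subgroupOf K : Set ↥K))
    (hGH : ∃ C : Subgroup (G ⧸ H), Cfsg.IsFrobeniusComplement C ∧ Cfsg.frobeniusKernel C = (K.map (QuotientGroup.mk' H) : Set (G ⧸ H))) :
    Group.IsSolvable G ∧ Odd (Nat.card (↥K ⧸ H.subgroupOf K)) ∧
      Nat.Coprime (Nat.card (↥K ⧸ H.subgroupOf K)) (Nat.card ↥H * Nat.card (G ⧸ K)) ∧ IsCyclic (G ⧸ K) ∧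
      ∀ p q : ℕ, p.Prime → q.Prime → p ≠ q → p ∣ Nat.card G → q ∣ Nat.card G →
        ((∃ g : G, orderOf g = p * q) ↔ (p ∣ Nat.card (↥K ⧸ H.subgroupOf K) ↔ q ∣ Nat.card (↥K ⧸ H.subgroupOf K))) := by
  obtain ⟨C, hC, hCk⟩ := hK
  obtain ⟨D, hD, hDk⟩ := hGH
  have h := mkTF H K hlt C hC hCk D hD hDk
  refine ⟨h.solv, ?_, ?_, h.cycGK, ?_⟩
  · rw [h.cardKQ]; exact h.cyc_odd.2
  · rw [h.cardKQ]
    apply Nat.Coprime.mul_right h.cop1
    rw [h.cardGK]
    exact h.cop2
  · intro p q hp hq hpq hpG hqG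
    rw [h.cardKQ]
    constructor
    · rintro ⟨g, hg⟩
      constructor
      · intro hpc
        by_contra hqc
        exact h.pq_fwd hp hq hpq hpc hqc hg
      · intro hqc
        by_contra hpc
        exact h.pq_fwd hq hp hpq.symm hqc hpc (g := g) (by rw [hg, mul_comm])
    · intro hiff
      exact h.pq_back hp hq hpq hpG hqG hiff

end Cfsg.Agent.S4001
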