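import Cfsg.Statements.S3857
import Mathlib
import Cfsg.Agent.S4001
import Cfsg.Agent.Lib.FrobFpf
import Cfsg.Agent.Lib.H1Hall
-- import your own Cfsg.Agent.* helpers here

set_option autoImplicit false
open Cfsg

namespace Cfsg.Agent.S3857

open Cfsg
open scoped Pointwise
open Cfsg.Agent.S4001

def PiC (A : Set ℕ) {Y : Type*} [Group Y] (X : Subgroup Y) : Prop :=
  ∀ r : ℕ, r.Prime → r ∣ Nat.card X → r ∈ A

def El (A : Set ℕ) {Y : Type*} [Group Y] (x : Y) : Prop :=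
  ∀ r : ℕ, r.Prime → r ∣ orderOf x → r ∈ A

theorem El_of_mem {A : Set ℕ} {Y : Type*} [Group Y] [Finite Y] {X : Subgroup Y} (h : PiC A X) {x : Y} (hx : x ∈ X) :
    El A x := fun r hr hd => h r hr (hd.trans (Subgroup.orderOf_dvd_natCard X hx))

theorem comm_trivial {G : Type*} [Group G] [Finite G] {A : Set ℕ}
    (hD : ∀ a ∈ A, ∀ b ∉ A, a.Prime → b.Prime → ¬∃ g : G, orderOf g = a * b) {x y : G}
    (hc : x * y = y * x) (hx : El A x) (hy : El Aᶜ y) : x = 1 ∨ y = 1 := by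
  by_contra hcon
  push Not at hcon
  obtain ⟨hx1, hy1⟩ := hcon
  obtain ⟨a, ha, had⟩ := Nat.exists_prime_and_dvd (orderOf_eq_one_iff.not.2 hx1)
  obtain ⟨b, hb, hbd⟩ := Nat.exists_prime_and_dvd (orderOf_eq_one_iff.not.2 hy1)
  have haA := hx a ha had
  have hbA : b ∉ A := hy b hb hbd
  have hne : a ≠ b := fun e => hbA (e ▸ haA)
  have h1 : orderOf (x ^ (orderOf x / a)) = a := orderOf_pow_orderOf_div (orderOf_pos x).ne' had
  have h2 : orderOf (y ^ (orderOf y / b)) = b := orderOf_pow_orderOf_div (orderOf_pos y).ne' hbd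
  have hc' : x ^ (orderOf x / a) * y ^ (orderOf y / b) = y ^ (orderOf y / b) * x ^ (orderOf x / a) :=
    Commute.pow_pow hc _ _
  exact hD a haA b hbA ha hb ⟨_, order_pq hc' ((Nat.coprime_primes ha hb).2 hne) h1 h2⟩

theorem ext_max {A : Set ℕ} {Y : Type*} [Group Y] [Finite Y] (N : Subgroup Y) [N.Normal] (hNA : PiC A N)
    (hmax : ∀ X : Subgroup Y, X ∈ {X : Subgroup Y | X.Normal ∧ PiC A X} → N ≤ X → X ≤ N)
    (X : Subgroup (Y ⧸ N)) [X.Normal] (hX : PiC A X) : X = ⊥ := by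
  have h1 : X.comap (QuotientGroup.mk' N) ≤ N := by
    apply hmax _ ⟨inferInstance, ?_⟩
    · intro x hx
      exact Subgroup.mem_comap.2 (by
        have : QuotientGroup.mk' N x = 1 := (QuotientGroup.eq_one_iff x).2 hx
        rw [this]; exact X.one_mem)
    · intro r hr hd
      have h2 := Lib.H1Hall.card_comap_mk N X
      rw [h2] at hd
      rcases (hr.dvd_mul).1 hd with h3 | h3
      · exact hX r hr h3
      · exact hNA r hr h3
  rw [eq_bot_iff]
  intro x hx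
  obtain ⟨g, rfl⟩ := QuotientGroup.mk'_surjective N x
  have h3 := h1 (Subgroup.mem_comap.2 hx)
  exact (QuotientGroup.eq_one_iff g).2 h3

theorem sz {Y : Type*} [Group Y] [Finite Y] (N T : Subgroup Y) [N.Normal] (hNT : N ≤ T) {m : ℕ}
    (hT : Nat.card T = Nat.card N * m) (hcop : (Nat.card N).Coprime m) :
    ∃ E : Subgroup Y, E ≤ T ∧ N ⊓ E = ⊥ ∧ N ⊔ E = T ∧ Nat.card E = m := by
  have hNc : Nat.card (N.subgroupOf T) = Nat.card N :=
    Nat.card_congr (Subgroup.subgroupOfEquivOfLe hNT).toEquiv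
  have hidx : (N.subgroupOf T).index = m := by
    have h1 := Subgroup.card_mul_index (N.subgroupOf T)
    rw [hNc, hT] at h1
    exact Nat.eq_of_mul_eq_mul_left Nat.card_pos h1
  have hc1 : (Nat.card (N.subgroupOf T)).Coprime (N.subgroupOf T).index := by
    rw [hNc, hidx]; exact hcop
  obtain ⟨E', hE'⟩ := Subgroup.exists_right_complement'_of_coprime hc1
  refine ⟨E'.map T.subtype, Subgroup.map_subtype_le _, ?_, ?_, ?_⟩
  · rw [eq_bot_iff]
    rintro x ⟨hx1, e, he, rfl⟩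
    have h2 := Subgroup.disjoint_def.1 hE'.disjoint (Subgroup.mem_subgroupOf.2 hx1) he
    rw [h2]; rfl
  · apply le_antisymm (sup_le hNT (Subgroup.map_subtype_le _))
    intro x hx
    obtain ⟨c, hc, n, hn, he⟩ := exists_mul_of_compl hE' ⟨x, hx⟩
    have h3 : x = c * n := congrArg Subtype.val he
    rw [h3]
    exact Subgroup.mul_mem _ (Subgroup.mem_sup_right ⟨c, hc, rfl⟩)
      (Subgroup.mem_sup_left (Subgroup.mem_subgroupOf.1 hn))
  · have h4 : Nat.card (E'.map T.subtype) = Nat.card E' :=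
      (Nat.card_congr (E'.equivMapOfInjective _ T.subtype_injective).toEquiv).symm
    rw [h4, ← hidx]
    exact hE'.symm.index_eq_card.symm

theorem frob_top {Y : Type*} [Group Y] [Finite Y] (N H : Subgroup Y) [N.Normal] (hinf : N ⊓ H = ⊥)
    (hsup : N ⊔ H = ⊤) (hN : N ≠ ⊥) (hH : H ≠ ⊥)
    (hfpf : ∀ h ∈ H, ∀ n ∈ N, h * n = n * h → h = 1 ∨ n = 1) :
    IsFrobeniusComplement H ∧ frobeniusKernel H = (N : Set Y) := by
  obtain ⟨h1, h2⟩ := Lib.FrobFpf.frob_of_fpf N H hinf hN hH hfpf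
  have hmem : ∀ x : Y, x ∈ N ⊔ H := fun x => by rw [hsup]; trivial
  refine ⟨⟨hH, ?_, ?_⟩, ?_⟩
  · intro e
    obtain ⟨n, hn, hn1⟩ := N.bot_or_exists_ne_one.resolve_left hN
    have h3 : n ∈ N ⊓ H := ⟨hn, by rw [e]; trivial⟩
    rw [hinf] at h3
    exact hn1 h3
  · intro g hg
    have h3 := h1.2.2 ⟨g, hmem g⟩ (fun e => hg (Subgroup.mem_subgroupOf.1 e))
    rw [eq_bot_iff]
    rintro x ⟨hx1, hx2⟩
    have hx' : (⟨x, hmem x⟩ : ↥(N ⊔ H)) ∈ H.subgroupOf (N ⊔ H) ⊓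
        MulAut.conj (⟨g, hmem g⟩ : ↥(N ⊔ H)) • H.subgroupOf (N ⊔ H) :=
      ⟨Subgroup.mem_subgroupOf.2 hx1, Lib.H1Core.mem_conj_smul.2
        (Subgroup.mem_subgroupOf.2 (Lib.H1Core.mem_conj_smul.1 hx2))⟩
    rw [h3] at hx'
    exact congrArg Subtype.val (Subgroup.mem_bot.1 hx')
  · ext x
    have h3 := Set.ext_iff.1 h2 ⟨x, hmem x⟩
    have h4 : x ∈ (N : Set Y) ↔ (⟨x, hmem x⟩ : ↥(N ⊔ H)) ∈ (N.subgroupOf (N ⊔ H) : Set ↥(N ⊔ H)) :=
      (Subgroup.mem_subgroupOf (H := N) (K := N ⊔ H) (h := ⟨x, hmem x⟩)).symm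
    rw [h4, ← h3]
    simp only [frobeniusKernel, Set.mem_setOf_eq]
    constructor
    · rintro (h5 | h5)
      · exact Or.inl (Subtype.ext h5)
      · right
        intro g hg
        apply h5 g
        apply Lib.H1Core.mem_conj_smul.2
        exact Subgroup.mem_subgroupOf.1 (Lib.H1Core.mem_conj_smul.1 hg)
    · rintro (h5 | h5)
      · exact Or.inl (congrArg Subtype.val h5)
      · right
        intro g hg
        apply h5 ⟨g, hmem g⟩
        apply Lib.H1Core.mem_conj_smul.2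
        exact Subgroup.mem_subgroupOf.2 (Lib.H1Core.mem_conj_smul.1 hg)

theorem PiC_of_card {A : Set ℕ} {Y : Type*} [Group Y] {X : Subgroup Y} {r a : ℕ} (hr : r.Prime)
    (hc : Nat.card X = r ^ a) (hrA : r ∈ A) : PiC A X := by
  intro k hk hd
  rw [hc] at hd
  have := (Nat.prime_dvd_prime_iff_eq hk hr).1 (hk.dvd_of_dvd_pow hd)
  rw [this]; exact hrA

theorem Q_step {Q : Type*} [Group Q] [Finite Q] [Group.IsSolvable Q] (A : Set ℕ) (T : Subgroup Q) [T.Normal]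
    (hT : PiC Aᶜ T) (hTne : T ≠ ⊥)
    (hmax : ∀ X : Subgroup Q, X ∈ {X : Subgroup Q | X.Normal ∧ PiC Aᶜ X} → T ≤ X → X ≤ T) (hTtop : T ≠ ⊤)
    (Q1 : ∀ x y : Q, x * y = y * x → El A x → El Aᶜ y → x = 1 ∨ y = 1)
    (huniq : Group.IsNilpotent T → ∀ p : ℕ, p.Prime → ∀ a ∈ T, ∀ b ∈ T, orderOf a = p → orderOf b = p →
      b ∈ Subgroup.zpowers a)
    (hcomm : ∀ p q : ℕ, p.Prime → q.Prime → p ∉ A → q ∉ A → ∀ y v : Q, orderOf y = q → orderOf v = p →
      y * v * y⁻¹ ∈ Subgroup.zpowers v → y * v = v * y) :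
    ∃ W : Subgroup Q, IsFrobeniusComplement W ∧ frobeniusKernel W = (T : Set Q) := by
  classical
  haveI : Nontrivial (Q ⧸ T) := by
    obtain ⟨x, hx⟩ : ∃ x, x ∉ T := by
      by_contra hcon
      push Not at hcon
      exact hTtop (eq_top_iff.2 (fun x _ => hcon x))
    refine ⟨QuotientGroup.mk' T x, 1, fun e => hx ((QuotientGroup.eq_one_iff x).1 e)⟩
  haveI : Group.IsSolvable (Q ⧸ T) := inferInstance
  obtain ⟨r, a, V₂, hr, ha, hV₂n, hV₂c⟩ := Lib.H1Hall.exists_minimal_normal_pgroup (X := Q ⧸ T)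
  haveI := hV₂n
  haveI := Fact.mk hr
  have hrA : r ∈ A := by
    by_contra hrn
    have h1 := ext_max T hT hmax V₂ (PiC_of_card hr hV₂c hrn)
    rw [h1, Subgroup.card_bot] at hV₂c
    have := Nat.one_lt_pow ha.ne' hr.one_lt
    omega
  set V : Subgroup Q := V₂.comap (QuotientGroup.mk' T) with hV
  have hTV : T ≤ V := by
    intro x hx
    refine Subgroup.mem_comap.2 ?_
    have : QuotientGroup.mk' T x = 1 := (QuotientGroup.eq_one_iff x).2 hx
    rw [this]; exact V₂.one_mem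
  haveI hVn : V.Normal := inferInstance
  have hVcard : Nat.card V = Nat.card T * r ^ a := by
    rw [hV, Lib.H1Hall.card_comap_mk T V₂, hV₂c, mul_comm]
  have hcop : (Nat.card T).Coprime (r ^ a) := by
    apply Nat.Coprime.pow_right
    apply Nat.Coprime.symm
    exact (Nat.Prime.coprime_iff_not_dvd hr).2 (fun hd => hT r hr hd hrA)
  obtain ⟨R, hRV, hinf, hsup, hRc⟩ := sz T V hTV hVcard hcop
  have hRp : IsPGroup r R := IsPGroup.of_card hRc
  have hRne : R ≠ ⊥ := by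
    intro e
    rw [e, Subgroup.card_bot] at hRc
    have := Nat.one_lt_pow ha.ne' hr.one_lt
    omega
  have hElR : ∀ x ∈ R, El A x := fun x hx => El_of_mem (PiC_of_card hr hRc hrA) hx
  have hElT : ∀ x ∈ T, El Aᶜ x := fun x hx => El_of_mem hT hx
  have hfpfR : ∀ h ∈ R, ∀ n ∈ T, h * n = n * h → h = 1 ∨ n = 1 :=
    fun h hh n hn hc => Q1 h n hc (hElR h hh) (hElT n hn)
  -- T nilpotent
  obtain ⟨h1, h2⟩ := Lib.FrobFpf.frob_of_fpf T R hinf hTne hRne hfpfR
  obtain ⟨-, -, hnil1, -, -, -⟩ := frob_data (R.subgroupOf (T ⊔ R)) (T.subgroupOf (T ⊔ R)) h1 h2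
  have hnilT : Group.IsNilpotent T := by
    haveI := hnil1
    let e1 : T.subgroupOf (T ⊔ R) ≃* T := Subgroup.subgroupOfEquivOfLe le_sup_left
    exact nilpotent_of_surjective e1.toMonoidHom e1.surjective
  have huq := huniq hnilT
  -- Frattini
  have hidx : ¬ r ∣ (R.subgroupOf V).index := by
    have hRc2 : Nat.card (R.subgroupOf V) = r ^ a := by
      rw [← hRc]; exact Nat.card_congr (Subgroup.subgroupOfEquivOfLe hRV).toEquiv
    have h3 := Subgroup.card_mul_index (R.subgroupOf V)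
    rw [hRc2, hVcard, mul_comm (Nat.card T)] at h3
    have h4 := Nat.eq_of_mul_eq_mul_left (pow_pos hr.pos a) h3
    rw [h4]
    exact fun hd => hT r hr hd hrA
  let P : Sylow r V := (IsPGroup.comap_subtype hRp : IsPGroup r (R.subgroupOf V)).toSylow hidx
  have hPc : (P : Subgroup V) = R.subgroupOf V := IsPGroup.toSylow_coe _ _
  have hPm : (P : Subgroup V).map V.subtype = R := by
    rw [hPc, Subgroup.subgroupOf_map_subtype, inf_of_le_left hRV]
  have hF := Sylow.normalizer_sup_eq_top P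
  rw [hPm] at hF
  set W : Subgroup Q := Subgroup.normalizer (R : Set Q) with hW
  have hRW : R ≤ W := Subgroup.le_normalizer
  have hsupW : T ⊔ W = ⊤ := by
    rw [eq_top_iff, ← hF]
    refine sup_le le_sup_right ?_
    rw [← hsup]
    exact sup_le le_sup_left (hRW.trans le_sup_right)
  -- crux
  have hcrux : ∀ y ∈ W, El Aᶜ y → y = 1 := by
    intro y₀ hy₀ hy₀E
    by_contra hy₀1
    obtain ⟨q, hq, hqd⟩ := Nat.exists_prime_and_dvd (orderOf_eq_one_iff.not.2 hy₀1)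
    have hqA : q ∉ A := hy₀E q hq hqd
    set y := y₀ ^ (orderOf y₀ / q) with hy
    have hyo : orderOf y = q := orderOf_pow_orderOf_div (orderOf_pos y₀).ne' hqd
    have hyW : y ∈ W := W.pow_mem hy₀ _
    obtain ⟨v, hv, hv1⟩ := T.bot_or_exists_ne_one.resolve_left hTne
    obtain ⟨p, hp, hpd⟩ := Nat.exists_prime_and_dvd (orderOf_eq_one_iff.not.2 hv1)
    have hpA : p ∉ A := hElT v hv p hp hpd
    set v₁ := v ^ (orderOf v / p) with hv₁
    have hv₁o : orderOf v₁ = p := orderOf_pow_orderOf_div (orderOf_pos v).ne' hpd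
    have hv₁T : v₁ ∈ T := T.pow_mem hv _
    have hv₁1 : v₁ ≠ 1 := by
      intro e
      rw [e, orderOf_one] at hv₁o
      exact hp.one_lt.ne hv₁o
    have hnorm : ∀ x : Q, x * v₁ * x⁻¹ ∈ Subgroup.zpowers v₁ := by
      intro x
      have h5 : x * v₁ * x⁻¹ ∈ T := Subgroup.Normal.conj_mem ‹_› _ hv₁T x
      have h6 : orderOf (x * v₁ * x⁻¹) = p := by rw [order_conj', hv₁o]
      exact huq p hp v₁ hv₁T _ h5 hv₁o h6
    have hyv : y * v₁ = v₁ * y := hcomm p q hp hq hpA hqA y v₁ hyo hv₁o (hnorm y)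
    obtain ⟨s, hs, hs1⟩ := R.bot_or_exists_ne_one.resolve_left hRne
    have hzR : y * s * y⁻¹ * s⁻¹ ∈ R :=
      R.mul_mem ((Subgroup.mem_normalizer_iff.1 hyW s).1 hs) (R.inv_mem hs)
    have hyz : ∀ u ∈ Subgroup.zpowers v₁, y * u * y⁻¹ = u := by
      rintro _ ⟨k, rfl⟩
      have hc2 : Commute y v₁ := hyv
      have hc3 : Commute y (v₁ ^ k) := hc2.zpow_right k
      show y * v₁ ^ k * y⁻¹ = v₁ ^ k
      rw [hc3.eq]
      group
    have hzv : (y * s * y⁻¹ * s⁻¹) * v₁ = v₁ * (y * s * y⁻¹ * s⁻¹) := by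
      have h7 : s⁻¹ * v₁ * s ∈ Subgroup.zpowers v₁ := by
        have := hnorm s⁻¹
        simpa using this
      set w := s⁻¹ * v₁ * s with hw
      have h10 := hyz _ h7
      have hw1 : y * w = w * y := by
        rw [mul_inv_eq_iff_eq_mul] at h10
        exact h10
      have hw2 : y⁻¹ * w = w * y⁻¹ := by
        rw [inv_mul_eq_iff_eq_mul, ← mul_assoc, hw1, mul_assoc, mul_inv_cancel, mul_one]
      have hs' : s * w = v₁ * s := by
        rw [hw]; group
      calc (y * s * y⁻¹ * s⁻¹) * v₁ = y * s * y⁻¹ * w * s⁻¹ := by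
            rw [hw]; group
        _ = y * s * (y⁻¹ * w) * s⁻¹ := by group
        _ = y * s * (w * y⁻¹) * s⁻¹ := by rw [hw2]
        _ = y * (s * w) * y⁻¹ * s⁻¹ := by group
        _ = y * (v₁ * s) * y⁻¹ * s⁻¹ := by rw [hs']
        _ = (y * v₁) * s * y⁻¹ * s⁻¹ := by group
        _ = (v₁ * y) * s * y⁻¹ * s⁻¹ := by rw [hyv]
        _ = v₁ * (y * s * y⁻¹ * s⁻¹) := by group
    have hz1 : y * s * y⁻¹ * s⁻¹ = 1 := by
      rcases Q1 _ v₁ hzv (hElR _ hzR) (hElT _ hv₁T) with h | h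
      · exact h
      · exact absurd h hv₁1
    have hsy : s * y = y * s := by
      have h11 : y * s * y⁻¹ = s := by rwa [mul_inv_eq_one] at hz1
      rw [mul_inv_eq_iff_eq_mul] at h11
      exact h11.symm
    have hElY : El Aᶜ y := by
      intro k hk hd
      rw [hyo] at hd
      rw [(Nat.prime_dvd_prime_iff_eq hk hq).1 hd]
      exact hqA
    rcases Q1 s y hsy (hElR s hs) hElY with h | h
    · exact hs1 h
    · rw [h, orderOf_one] at hyo
      exact hq.one_lt.ne hyo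
  have hWA : PiC A W := by
    intro q hq hqd
    by_contra hqn
    haveI := Fact.mk hq
    obtain ⟨y, hy⟩ := exists_prime_orderOf_dvd_card' (G := W) q hqd
    have hyo : orderOf (y : Q) = q := by rw [Subgroup.orderOf_coe, hy]
    have hElY : El Aᶜ (y : Q) := by
      intro k hk hd
      rw [hyo] at hd
      rw [(Nat.prime_dvd_prime_iff_eq hk hq).1 hd]
      exact hqn
    have h3 := hcrux y y.2 hElY
    rw [h3, orderOf_one] at hyo
    exact hq.one_lt.ne hyo
  have hinfW : T ⊓ W = ⊥ := by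
    rw [eq_bot_iff]
    rintro x ⟨hx1, hx2⟩
    rw [Subgroup.mem_bot]
    by_contra hx
    obtain ⟨k, hk, hkd⟩ := Nat.exists_prime_and_dvd (orderOf_eq_one_iff.not.2 hx)
    exact (hElT x hx1 k hk hkd) (El_of_mem hWA hx2 k hk hkd)
  have hWne : W ≠ ⊥ := by
    intro e
    apply hRne
    rw [eq_bot_iff, ← e]
    exact hRW
  refine ⟨W, ?_⟩
  exact frob_top T W hinfW hsupW hTne hWne
    (fun h hh n hn hc => Q1 h n hc (El_of_mem hWA hh) (hElT n hn))

theorem lift_of_frob {G : Type*} [Group G] [Finite G] (N K : Subgroup G) [N.Normal] [K.Normal]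
    (C : Subgroup K) (hC : IsFrobeniusComplement C) (hc1 : (N.subgroupOf K).IsComplement' C) (g : G) :
    ∃ n ∈ N, n * g ∈ Subgroup.normalizer ((C.map K.subtype : Subgroup G) : Set G) := by
  classical
  let φ : MulAut K := MulAut.conjNormal g
  have hC' : IsFrobeniusComplement (C.map φ.toMonoidHom) := Lib.H1FrobMod.isFrob_map φ C hC
  obtain ⟨t, ht⟩ := Lib.H1FrobK.frob_conj hC hC'
  obtain ⟨c, hc, n, hn, he⟩ := exists_mul_of_compl hc1 t
  refine ⟨n, Subgroup.mem_subgroupOf.1 hn, ?_⟩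
  apply Lib.Herstein.mem_normalizer_of_conj_le
  rintro _ ⟨w, hw, rfl⟩
  have h1 : φ w ∈ C.map φ.toMonoidHom := ⟨w, hw, rfl⟩
  have h2 : t * φ w * t⁻¹ ∈ C := by
    rw [← ht]
    exact ⟨φ w, h1, rfl⟩
  have h3 : c⁻¹ * (t * φ w * t⁻¹) * c ∈ C := C.mul_mem (C.mul_mem (C.inv_mem hc) h2) hc
  refine ⟨_, h3, ?_⟩
  rw [he]
  have h4 : ((φ w : K) : G) = g * (w : G) * g⁻¹ := rfl
  simp only [Subgroup.coe_subtype, Subgroup.coe_mul, Subgroup.coe_inv, h4]
  group

theorem gen_of_prime {Y : Type*} [Group Y] [Finite Y] {a u : Y} (ha : (orderOf a).Prime)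
    (hu : u ∈ Subgroup.zpowers a) (hu1 : u ≠ 1) : a ∈ Subgroup.zpowers u := by
  have h1 : orderOf u ∣ orderOf a := orderOf_dvd_of_mem_zpowers hu
  have h2 : orderOf u = orderOf a := ((Nat.dvd_prime ha).1 h1).resolve_left (orderOf_eq_one_iff.not.2 hu1)
  have h3 : Subgroup.zpowers u ≤ Subgroup.zpowers a := Subgroup.zpowers_le.2 hu
  have h4 : Subgroup.zpowers u = Subgroup.zpowers a :=
    Subgroup.eq_of_le_of_card_ge h3 (by rw [Nat.card_zpowers, Nat.card_zpowers, h2])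
  rw [h4]
  exact Subgroup.mem_zpowers a

theorem main_thm {G : Type*} [Group G] [Finite G] [Group.IsSolvable G] (A : Set ℕ)
    (hD : ∀ a ∈ A, ∀ b ∉ A, a.Prime → b.Prime → ¬∃ g : G, orderOf g = a * b)
    (V : Subgroup G) [V.Normal] (hVne : V ≠ ⊥) (hVA : PiC A V) (b : ℕ) (hbA : b ∉ A) (hb : b.Prime)
    (hbd : b ∣ Nat.card G) :
    (∃ C : Subgroup G, Cfsg.IsFrobeniusComplement C) ∨
    (∃ (H K : Subgroup G) (_ : H.Normal), K.Normal ∧ H < K ∧
      (∃ C : Subgroup ↥K, Cfsg.IsFrobeniusComplement C ∧ Cfsg.frobeniusKernel C = (H.subgroupOf K : Set ↥K)) ∧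
      (∃ C : Subgroup (G ⧸ H), Cfsg.IsFrobeniusComplement C ∧ Cfsg.frobeniusKernel C = (K.map (QuotientGroup.mk' H) : Set (G ⧸ H)))) := by
  classical
  obtain ⟨N, hVN, ⟨hNn, hNA⟩, hNmax⟩ := Set.Finite.exists_le_maximal
    (s := {X : Subgroup G | X.Normal ∧ PiC A X}) (Set.toFinite _) (a := V) ⟨inferInstance, hVA⟩
  haveI := hNn
  have hNne : N ≠ ⊥ := by
    intro e
    apply hVne
    rw [eq_bot_iff, ← e]
    exact hVN
  have hNtop : N ≠ ⊤ := by
    intro e
    rw [e] at hNA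
    exact hbA (hNA b hb (by rwa [Subgroup.card_top]))
  set mk' := QuotientGroup.mk' N with hmk
  haveI : Nontrivial (G ⧸ N) := by
    obtain ⟨x, hx⟩ : ∃ x, x ∉ N := by
      by_contra hcon
      push Not at hcon
      exact hNtop (eq_top_iff.2 (fun x _ => hcon x))
    exact ⟨mk' x, 1, fun e => hx ((QuotientGroup.eq_one_iff x).1 e)⟩
  obtain ⟨p, a, V₁, hp, ha, hV₁n, hV₁c⟩ := Lib.H1Hall.exists_minimal_normal_pgroup (X := G ⧸ N)
  haveI := hV₁n
  have hppow := Nat.one_lt_pow ha.ne' hp.one_lt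
  have hpA : p ∉ A := by
    intro h
    have h1 := ext_max N hNA hNmax V₁ (PiC_of_card hp hV₁c h)
    rw [h1, Subgroup.card_bot] at hV₁c
    omega
  obtain ⟨T, hV₁T, ⟨hTn, hTA⟩, hTmax⟩ := Set.Finite.exists_le_maximal
    (s := {X : Subgroup (G ⧸ N) | X.Normal ∧ PiC Aᶜ X}) (Set.toFinite _) (a := V₁)
    ⟨inferInstance, PiC_of_card hp hV₁c hpA⟩
  haveI := hTn
  have hTne : T ≠ ⊥ := by
    intro e
    rw [e, le_bot_iff] at hV₁T
    rw [hV₁T, Subgroup.card_bot] at hV₁c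
    omega
  set K₀ : Subgroup G := T.comap mk' with hK₀
  have hNK₀ : N ≤ K₀ := by
    intro x hx
    refine Subgroup.mem_comap.2 ?_
    have : mk' x = 1 := (QuotientGroup.eq_one_iff x).2 hx
    rw [this]; exact T.one_mem
  have hK₀c : Nat.card K₀ = Nat.card N * Nat.card T := by
    rw [hK₀, Lib.H1Hall.card_comap_mk N T, mul_comm]
  have hcop : (Nat.card N).Coprime (Nat.card T) :=
    Nat.coprime_of_dvd (fun k hk h1 h2 => hTA k hk h2 (hNA k hk h1))
  obtain ⟨E, hEK, hinf, hsup, hEc⟩ := sz N K₀ hNK₀ hK₀c hcop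
  have hEA : PiC Aᶜ E := by
    intro k hk hd
    rw [hEc] at hd
    exact hTA k hk hd
  have hEne : E ≠ ⊥ := by
    intro e
    rw [e, Subgroup.card_bot] at hEc
    exact hTne (Subgroup.eq_bot_of_card_eq T hEc.symm)
  have hfpf : ∀ h ∈ E, ∀ n ∈ N, h * n = n * h → h = 1 ∨ n = 1 := by
    intro h hh n hn hc
    exact (comm_trivial hD hc.symm (El_of_mem hNA hn) (El_of_mem hEA hh)).symm
  obtain ⟨h1, h2⟩ := Lib.FrobFpf.frob_of_fpf N E hinf hNne hEne hfpf
  haveI hKn : (N ⊔ E).Normal := by rw [hsup]; exact inferInstance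
  obtain ⟨-, hc1, hnil1, -, -, -⟩ := frob_data (E.subgroupOf (N ⊔ E)) (N.subgroupOf (N ⊔ E)) h1 h2
  have hCE : (E.subgroupOf (N ⊔ E)).map (N ⊔ E).subtype = E := by
    rw [Subgroup.subgroupOf_map_subtype, inf_of_le_left le_sup_right]
  have hlift : ∀ g : G, ∃ n ∈ N, n * g ∈ Subgroup.normalizer (E : Set G) := by
    intro g
    have h3 := lift_of_frob N (N ⊔ E) _ h1 hc1 g
    rwa [hCE] at h3
  set L : Subgroup G := Subgroup.normalizer (E : Set G) with hL
  have hEL : E ≤ L := Subgroup.le_normalizer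
  have hNL : ∀ y ∈ L, y ∈ N → y = 1 := by
    intro y hy hyN
    obtain ⟨c, hc, hc1'⟩ := E.bot_or_exists_ne_one.resolve_left hEne
    have h3 : y * c * y⁻¹ ∈ E := (Subgroup.mem_normalizer_iff.1 hy c).1 hc
    have h4 : y * c * y⁻¹ * c⁻¹ ∈ E := E.mul_mem h3 (E.inv_mem hc)
    have h5 : y * c * y⁻¹ * c⁻¹ ∈ N := by
      have e : y * c * y⁻¹ * c⁻¹ = y * (c * y⁻¹ * c⁻¹) := by group
      rw [e]
      exact N.mul_mem hyN (Subgroup.Normal.conj_mem ‹_› _ (N.inv_mem hyN) c)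
    have h6 : y * c * y⁻¹ * c⁻¹ ∈ N ⊓ E := ⟨h5, h4⟩
    rw [hinf, Subgroup.mem_bot] at h6
    have h7 : y * c * y⁻¹ = c := by rwa [mul_inv_eq_one] at h6
    rw [mul_inv_eq_iff_eq_mul] at h7
    exact (hfpf c hc y hyN h7.symm).resolve_left hc1'
  have hinjL : ∀ x ∈ L, ∀ y ∈ L, mk' x = mk' y → x = y := by
    intro x hx y hy hxy
    have h3 : mk' (x * y⁻¹) = 1 := by rw [map_mul, map_inv, hxy, mul_inv_cancel]
    have h4 := hNL _ (L.mul_mem hx (L.inv_mem hy)) ((QuotientGroup.eq_one_iff _).1 h3)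
    rwa [mul_inv_eq_one] at h4
  have hlift_el : ∀ x : G ⧸ N, ∃ y ∈ L, mk' y = x ∧ orderOf y = orderOf x := by
    intro x
    obtain ⟨g, rfl⟩ := QuotientGroup.mk'_surjective N x
    obtain ⟨n, hn, hy⟩ := hlift g
    have hh : mk' n = 1 := (QuotientGroup.eq_one_iff n).2 hn
    have hm : mk' (n * g) = mk' g := by rw [map_mul, hh, one_mul]
    refine ⟨n * g, hy, hm, ?_⟩
    let f : L →* G ⧸ N := mk'.comp L.subtype
    have hf : Function.Injective f := by
      rw [injective_iff_map_eq_one]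
      intro x hx
      exact Subtype.ext (hNL x x.2 ((QuotientGroup.eq_one_iff _).1 hx))
    have h3 := orderOf_injective f hf ⟨n * g, hy⟩
    rw [Subgroup.orderOf_mk] at h3
    rw [← h3]
    exact congrArg _ hm
  have hElmap : ∀ {S : Set ℕ} {x : G} {x' : G ⧸ N}, orderOf x = orderOf x' → El S x' → El S x := by
    intro S x x' he h r hr hd
    rw [he] at hd
    exact h r hr hd
  have Q1 : ∀ x y : G ⧸ N, x * y = y * x → El A x → El Aᶜ y → x = 1 ∨ y = 1 := by
    intro x y hc hx hy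
    obtain ⟨x₁, hx₁, rfl, hxo⟩ := hlift_el x
    obtain ⟨y₁, hy₁, rfl, hyo⟩ := hlift_el y
    have h3 : x₁ * y₁ = y₁ * x₁ := by
      apply hinjL _ (L.mul_mem hx₁ hy₁) _ (L.mul_mem hy₁ hx₁)
      rw [map_mul, map_mul, hc]
    rcases comm_trivial hD h3 (hElmap hxo hx) (hElmap hyo hy) with h | h
    · left; rw [h, map_one]
    · right; rw [h, map_one]
  have hnilN : Group.IsNilpotent N := by
    haveI := hnil1
    let e1 : N.subgroupOf (N ⊔ E) ≃* N := Subgroup.subgroupOfEquivOfLe le_sup_left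
    exact nilpotent_of_surjective e1.toMonoidHom e1.surjective
  have hcomm : ∀ p q : ℕ, p.Prime → q.Prime → p ∉ A → q ∉ A → ∀ y v : G ⧸ N, orderOf y = q → orderOf v = p →
      y * v * y⁻¹ ∈ Subgroup.zpowers v → y * v = v * y := by
    intro p q hp hq hpA hqA y v hyo hvo hyv
    by_contra hne
    obtain ⟨y₁, hy₁, rfl, hy₁o⟩ := hlift_el y
    obtain ⟨v₁, hv₁, rfl, hv₁o⟩ := hlift_el v
    rw [hyo] at hy₁o
    rw [hvo] at hv₁o
    have hc1 : y₁ * v₁ ≠ v₁ * y₁ := by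
      intro e
      apply hne
      rw [← map_mul, ← map_mul, e]
    have hn1 : y₁ * v₁ * y₁⁻¹ ∈ Subgroup.zpowers v₁ := by
      obtain ⟨k, hk⟩ := hyv
      refine ⟨k, ?_⟩
      apply hinjL _ (L.zpow_mem hv₁ k) _ (L.mul_mem (L.mul_mem hy₁ hv₁) (L.inv_mem hy₁))
      have hk' : mk' v₁ ^ k = mk' y₁ * mk' v₁ * (mk' y₁)⁻¹ := hk
      rw [map_zpow, hk', map_mul, map_mul, map_inv]
    have hy₁v : ∀ m : G, y₁ * m = m * y₁ → m ∈ Subgroup.zpowers v₁ → m = 1 ∨ v₁ ∈ Subgroup.zpowers m := by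
      intro m _ hm
      by_cases hm1 : m = 1
      · exact Or.inl hm1
      · right
        exact gen_of_prime (by rw [hv₁o]; exact hp) hm hm1
    have hyN : y₁ ∈ Subgroup.normalizer ((Subgroup.zpowers v₁ : Subgroup G) : Set G) := by
      apply Lib.Herstein.mem_normalizer_of_conj_le
      rintro _ ⟨k, rfl⟩
      show y₁ * v₁ ^ k * y₁⁻¹ ∈ _
      rw [← conj_zpow]
      exact Subgroup.zpow_mem _ hn1 k
    have hYU : ∀ t ∈ Subgroup.zpowers y₁, ∀ u ∈ Subgroup.zpowers v₁, t * u * t⁻¹ ∈ Subgroup.zpowers v₁ :=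
      fun t ht u hu => (Subgroup.mem_normalizer_iff.1 ((Subgroup.zpowers_le.2 hyN) ht) u).1 hu
    have hfix : ∀ t ∈ Subgroup.zpowers y₁, t ≠ 1 → ∀ u ∈ Subgroup.zpowers v₁, t * u * t⁻¹ = u → u = 1 := by
      intro t ht ht1 u hu hte
      by_contra hu1
      have hv : v₁ ∈ Subgroup.zpowers u := gen_of_prime (by rw [hv₁o]; exact hp) hu hu1
      have hy : y₁ ∈ Subgroup.zpowers t := gen_of_prime (by rw [hy₁o]; exact hq) ht ht1
      have hc2 : Commute t u := by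
        rw [mul_inv_eq_iff_eq_mul] at hte
        exact hte
      obtain ⟨i, rfl⟩ := hv
      obtain ⟨j, rfl⟩ := hy
      exact hc1 ((hc2.zpow_zpow j i).eq)
    obtain ⟨r₀, hr₀, hr₀d⟩ := Nat.exists_prime_and_dvd (fun e => hNne (Subgroup.eq_bot_of_card_eq N e))
    haveI := Fact.mk hr₀
    obtain ⟨A₀, hA₀n, hA₀ne, hA₀N, hA₀p, hA₀c⟩ := exists_normal_p hnilN hr₀ hr₀d
    haveI := hA₀n
    have hr₀A : r₀ ∈ A := hNA r₀ hr₀ hr₀d
    have hElV : El Aᶜ v₁ := by
      intro k hk hd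
      rw [hv₁o] at hd
      rw [(Nat.prime_dvd_prime_iff_eq hk hp).1 hd]
      exact hpA
    have hElY : El Aᶜ y₁ := by
      intro k hk hd
      rw [hy₁o] at hd
      rw [(Nat.prime_dvd_prime_iff_eq hk hq).1 hd]
      exact hqA
    have hv₁1 : v₁ ≠ 1 := by
      intro e
      rw [e, orderOf_one] at hv₁o
      exact hp.one_lt.ne hv₁o
    have hy₁1 : y₁ ≠ 1 := by
      intro e
      rw [e, orderOf_one] at hy₁o
      exact hq.one_lt.ne hy₁o
    letI : CommGroup A₀ := { (inferInstance : Group A₀) with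
      mul_comm := fun a b => Subtype.ext (hA₀c a a.2 b b.2) }
    have hfix0 : ∀ c : G, El Aᶜ c → c ≠ 1 → ∀ w : A₀, (MulAut.conjNormal (H := A₀) c) w = w → w = 1 := by
      intro c hc hc1' w hw
      have h11 : c * (w : G) * c⁻¹ = w := by
        rw [← MulAut.conjNormal_apply]
        exact congrArg Subtype.val hw
      rw [mul_inv_eq_iff_eq_mul] at h11
      have h12 := comm_trivial hD h11.symm (El_of_mem hNA (hA₀N w.2)) hc
      rcases h12 with h | h
      · exact Subtype.ext h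
      · exact absurd h hc1'
    have hnorm := norm_lemma (MulAut.conjNormal (H := A₀)) (Subgroup.zpowers v₁) (Subgroup.zpowers y₁) hYU hfix
      v₁ (Subgroup.mem_zpowers v₁) (hfix0 v₁ hElV hv₁1)
      y₁ (Subgroup.mem_zpowers y₁) (hfix0 y₁ hElY hy₁1)
    obtain ⟨w, hw, hw1⟩ := A₀.bot_or_exists_ne_one.resolve_left hA₀ne
    have h13 := hnorm ⟨w, hw⟩
    rw [Nat.card_zpowers, hv₁o] at h13
    have h14 : w ^ p = 1 := congrArg Subtype.val h13
    obtain ⟨k, hk⟩ := IsPGroup.iff_orderOf.1 hA₀p ⟨w, hw⟩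
    rw [Subgroup.orderOf_mk] at hk
    have h15 : w ^ (r₀ ^ k) = 1 := by rw [← hk]; exact pow_orderOf_eq_one w
    have hpr : r₀ ≠ p := fun e => hpA (e ▸ hr₀A)
    exact hw1 (eq_one_of_cop h15 h14 (Nat.Coprime.pow_left k ((Nat.coprime_primes hr₀ hp).2 hpr)))
  by_cases hTtop : T = ⊤
  · left
    have hsup' : N ⊔ E = ⊤ := by
      rw [hsup, hK₀, hTtop, Subgroup.comap_top]
    exact ⟨E, (frob_top N E hinf hsup' hNne hEne hfpf).1⟩
  · right
    have huniq : Group.IsNilpotent T → ∀ p : ℕ, p.Prime → ∀ a ∈ T, ∀ b ∈ T, orderOf a = p → orderOf b = p →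
        b ∈ Subgroup.zpowers a := by
      intro hnilT p hp a ha b hb hao hbo
      haveI := hnilT
      -- E.subgroupOf K embeds into T
      let f : E.subgroupOf (N ⊔ E) →* T :=
        ((mk'.comp (N ⊔ E).subtype).comp (E.subgroupOf (N ⊔ E)).subtype).codRestrict T (fun c => by
          have h3 : ((c : ↥(N ⊔ E)) : G) ∈ K₀ := by
            rw [← hsup]; exact (c : ↥(N ⊔ E)).2
          exact h3)
      have hf : Function.Injective f := by
        rw [injective_iff_map_eq_one]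
        intro c hc
        have h3 : mk' (((c : ↥(N ⊔ E)) : G)) = 1 := congrArg Subtype.val hc
        have h4 : ((c : ↥(N ⊔ E)) : G) ∈ N := (QuotientGroup.eq_one_iff _).1 h3
        have h5 : ((c : ↥(N ⊔ E)) : G) ∈ E := Subgroup.mem_subgroupOf.1 c.2
        have h6 : ((c : ↥(N ⊔ E)) : G) ∈ N ⊓ E := ⟨h4, h5⟩
        rw [hinf, Subgroup.mem_bot] at h6
        exact Subtype.ext (Subtype.ext h6)
      have hnilE : Group.IsNilpotent (E.subgroupOf (N ⊔ E)) := by
        let e2 := MonoidHom.ofInjective hf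
        exact nilpotent_of_surjective e2.symm.toMonoidHom e2.symm.surjective
      have hliftE : ∀ x ∈ T, ∃ x₁ ∈ E, mk' x₁ = x ∧ orderOf x₁ = orderOf x := by
        intro x hx
        obtain ⟨x₁, hx₁, rfl, hxo⟩ := hlift_el x
        refine ⟨x₁, ?_, rfl, hxo⟩
        have h3 : x₁ ∈ N ⊔ E := by
          rw [hsup]; exact hx
        obtain ⟨n, hn, e, he, hne⟩ := Subgroup.mem_sup_of_normal_left.1 h3
        have h4 : n ∈ L := by
          have e' : n = x₁ * e⁻¹ := by rw [← hne]; group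
          rw [e']
          exact L.mul_mem hx₁ (L.inv_mem (hEL he))
        have h5 := hNL n h4 hn
        rw [← hne, h5, one_mul]
        exact he
      obtain ⟨a₁, ha₁, rfl, ha₁o⟩ := hliftE a ha
      obtain ⟨b₁, hb₁, rfl, hb₁o⟩ := hliftE b hb
      rw [hao] at ha₁o
      rw [hbo] at hb₁o
      have ha₂ : (⟨a₁, Subgroup.mem_sup_right ha₁⟩ : ↥(N ⊔ E)) ∈ E.subgroupOf (N ⊔ E) :=
        Subgroup.mem_subgroupOf.2 ha₁
      have hb₂ : (⟨b₁, Subgroup.mem_sup_right hb₁⟩ : ↥(N ⊔ E)) ∈ E.subgroupOf (N ⊔ E) :=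
        Subgroup.mem_subgroupOf.2 hb₁
      obtain ⟨k, hk⟩ := uniq_in_fc _ h1 hnilE hp ha₂ hb₂ (by rw [Subgroup.orderOf_mk, ha₁o])
        (by rw [Subgroup.orderOf_mk, hb₁o])
      refine ⟨k, ?_⟩
      have h3 : a₁ ^ k = b₁ := congrArg Subtype.val hk
      show mk' a₁ ^ k = _
      rw [← map_zpow, h3]
    obtain ⟨W, hW1, hW2⟩ := Q_step A T hTA hTne hTmax hTtop Q1 huniq hcomm
    have hKmap : (N ⊔ E).map mk' = T := by
      rw [hsup, hK₀]
      exact Subgroup.map_comap_eq_self_of_surjective (QuotientGroup.mk'_surjective N) T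
    refine ⟨N, N ⊔ E, hNn, hKn, ?_, ⟨_, h1, h2⟩, ⟨W, hW1, ?_⟩⟩
    · refine lt_of_le_of_ne le_sup_left ?_
      intro e
      apply hTne
      rw [← hKmap, ← e, eq_bot_iff]
      rintro _ ⟨x, hx, rfl⟩
      exact (QuotientGroup.eq_one_iff x).2 hx
    · rw [hW2, hKmap]

/-- A finite solvable group whose prime graph (prime divisors of the order, two distinct primes joined when there is an element of order their product) is disconnected is a Frobenius group or a 2-Frobenius group (it has normal subgroups H < K with K a Frobenius group with kernel H and G/H a Frobenius group with kernel K/H). -/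
theorem result {G : Type*} [Group G] [Finite G] (hsol : Group.IsSolvable G)
    (hdisc : (∃ A : Set ℕ, (∃ a ∈ A, a.Prime ∧ a ∣ Nat.card G) ∧ (∃ b ∉ A, b.Prime ∧ b ∣ Nat.card G) ∧
      ∀ a ∈ A, ∀ b ∉ A, a.Prime → b.Prime → a ∣ Nat.card G → b ∣ Nat.card G → ¬ ∃ g : G, orderOf g = a * b)) :
    (∃ C : Subgroup G, Cfsg.IsFrobeniusComplement C) ∨
    (∃ (H K : Subgroup G) (_ : H.Normal), K.Normal ∧ H < K ∧
      (∃ C : Subgroup ↥K, Cfsg.IsFrobeniusComplement C ∧ Cfsg.frobeniusKernel C = (H.subgroupOf K : Set ↥K)) ∧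
      (∃ C : Subgroup (G ⧸ H), Cfsg.IsFrobeniusComplement C ∧ Cfsg.frobeniusKernel C = (K.map (QuotientGroup.mk' H) : Set (G ⧸ H)))) := by
  classical
  obtain ⟨A, ⟨a₀, haA, ha₀, had⟩, ⟨b₀, hbA, hb₀, hbd⟩, hno⟩ := hdisc
  have hD1 : ∀ a ∈ A, ∀ b ∉ A, a.Prime → b.Prime → ¬∃ g : G, orderOf g = a * b := by
    rintro a ha b hb hap hbp ⟨g, hg⟩
    exact hno a ha b hb hap hbp ((Dvd.intro _ hg.symm).trans (orderOf_dvd_natCard g))
      ((Dvd.intro_left _ hg.symm).trans (orderOf_dvd_natCard g)) ⟨g, hg⟩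
  have hD2 : ∀ a ∈ Aᶜ, ∀ b ∉ Aᶜ, a.Prime → b.Prime → ¬∃ g : G, orderOf g = a * b := by
    rintro a ha b hb hap hbp ⟨g, hg⟩
    have hb' : b ∈ A := by simpa using hb
    exact hD1 b hb' a ha hbp hap ⟨g, by rw [hg, mul_comm]⟩
  haveI : Nontrivial G := by
    have : 1 < Nat.card G := by
      have h1 := Nat.le_of_dvd Nat.card_pos had
      have h2 := ha₀.one_lt
      omega
    exact Finite.one_lt_card_iff_nontrivial.1 this
  obtain ⟨r, a, V, hr, ha, hVn, hVc⟩ := Lib.H1Hall.exists_minimal_normal_pgroup (X := G)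
  haveI := hVn
  have hVne : V ≠ ⊥ := by
    intro e
    rw [e, Subgroup.card_bot] at hVc
    have := Nat.one_lt_pow ha.ne' hr.one_lt
    omega
  by_cases hrA : r ∈ A
  · exact main_thm A hD1 V hVne (PiC_of_card hr hVc hrA) b₀ hbA hb₀ hbd
  · exact main_thm Aᶜ hD2 V hVne (PiC_of_card hr hVc hrA) a₀ (by simpa using haA) ha₀ had

end Cfsg.Agent.S3857
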