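import Cfsg.Statements.S3859
import Cfsg.Agent.Lib.LPIrr
-- import your own Cfsg.Agent.* helpers here

set_option autoImplicit false
open Cfsg

namespace Cfsg.Agent.S3859

theorem norm_ne_top {G : Type*} [Group G] [Finite G] (T : Subgroup G) [T.Normal] (hT : IsSimpleGroup T)
    (hna : ¬ IsMulCommutative T) {r : ℕ} [Fact r.Prime] (R : Sylow r G) (hR0 : (R : Subgroup G) ⊓ T ≠ ⊥) :
    Subgroup.normalizer (((R : Subgroup G) ⊓ T : Subgroup G) : Set G) ≠ ⊤ := by
  intro h
  have hN : ((R : Subgroup G) ⊓ T).Normal := by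
    rwa [← Subgroup.normalizer_eq_top_iff]
  have hK : (((R : Subgroup G) ⊓ T).subgroupOf T).Normal := Subgroup.normal_subgroupOf
  rcases hK.eq_bot_or_eq_top with h1 | h1
  · apply hR0
    rw [eq_bot_iff]
    intro x hx
    have h2 : (⟨x, hx.2⟩ : T) ∈ ((R : Subgroup G) ⊓ T).subgroupOf T := Subgroup.mem_subgroupOf.mpr hx
    rw [h1] at h2
    have h3 := congrArg Subtype.val (Subgroup.mem_bot.mp h2)
    exact Subgroup.mem_bot.mpr h3
  · have hTR : T ≤ (R : Subgroup G) := by
      intro x hx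
      have h2 : (⟨x, hx⟩ : T) ∈ ((R : Subgroup G) ⊓ T).subgroupOf T := by rw [h1]; exact Subgroup.mem_top _
      exact (Subgroup.mem_subgroupOf.mp h2).1
    have hTp : IsPGroup r T := IsPGroup.to_le (R.isPGroup') hTR
    apply hna
    haveI := hTp.isNilpotent
    exact ⟨⟨IsSimpleGroup.comm_iff_isSolvable.mpr inferInstance⟩⟩

theorem R_le_norm {G : Type*} [Group G] (T : Subgroup G) [T.Normal] (R : Subgroup G) :
    R ≤ Subgroup.normalizer ((R ⊓ T : Subgroup G) : Set G) := by
  intro x hx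
  rw [Subgroup.mem_normalizer_iff]
  intro y
  constructor
  · rintro ⟨h1, h2⟩
    exact ⟨R.mul_mem (R.mul_mem hx h1) (R.inv_mem hx), ‹T.Normal›.conj_mem y h2 x⟩
  · rintro ⟨h1, h2⟩
    have h3 : y = x⁻¹ * (x * y * x⁻¹) * x := by group
    refine ⟨?_, ?_⟩
    · rw [h3]
      exact R.mul_mem (R.mul_mem (R.inv_mem hx) h1) hx
    · rw [h3]
      have := ‹T.Normal›.conj_mem _ h2 x⁻¹
      simpa using this

/-- Let G be a finite group with a normal non-abelian simple subgroup T whose centralizer is trivial (G almost simple with socle T), r a prime and R a Sylow r-subgroup of G meeting T nontrivially. If R lies in exactly one maximal subgroup of G, then G/T is an r-group. -/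
theorem result {G : Type*} [Group G] [Finite G] (T : Subgroup G) [T.Normal] (hT : IsSimpleGroup T) (hna : ¬ IsMulCommutative T)
    (hC : Subgroup.centralizer (T : Set G) = ⊥) {r : ℕ} [Fact r.Prime] (R : Sylow r G) (hR0 : (R : Subgroup G) ⊓ T ≠ ⊥)
    (huniq : ∃! M : Subgroup G, IsCoatom M ∧ (R : Subgroup G) ≤ M) : IsPGroup r (G ⧸ T) := by
  classical
  obtain ⟨M, ⟨hMc, hRM⟩, hM⟩ := huniq
  have hLtop := norm_ne_top T hT hna R hR0
  obtain ⟨L', hL'c, hL'⟩ := Lib.LPIrr.exists_coatom_of_ne_top hLtop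
  have hRL : (R : Subgroup G) ≤ Subgroup.normalizer (((R : Subgroup G) ⊓ T : Subgroup G) : Set G) :=
    R_le_norm T (R : Subgroup G)
  have hL'M : L' = M := hM L' ⟨hL'c, hRL.trans hL'⟩
  subst hL'M
  have hfr := Lib.LPIrr.normalizer_sylow_inf_sup R T
  have hTnot : ¬ T ≤ L' := by
    intro h
    apply hL'c.1
    rw [eq_top_iff, ← hfr]
    exact sup_le h hL'
  have hs : (R : Subgroup G) ⊔ T = ⊤ := by
    by_contra hne
    obtain ⟨M', hM'c, hM'⟩ := Lib.LPIrr.exists_coatom_of_ne_top hne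
    have h1 := hM M' ⟨hM'c, le_trans le_sup_left hM'⟩
    apply hTnot
    rw [← h1]
    exact le_trans le_sup_right hM'
  refine IsPGroup.of_surjective R.isPGroup' ((QuotientGroup.mk' T).comp (R : Subgroup G).subtype) ?_
  intro q
  obtain ⟨x, rfl⟩ := QuotientGroup.mk'_surjective T q
  have hx : x ∈ (R : Subgroup G) ⊔ T := by rw [hs]; exact Subgroup.mem_top _
  obtain ⟨a, ha, t, ht, hat⟩ := Subgroup.mem_sup_of_normal_right.mp hx
  refine ⟨⟨a, ha⟩, ?_⟩
  rw [← hat]
  simp only [MonoidHom.comp_apply, Subgroup.subtype_apply, QuotientGroup.mk'_apply]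
  rw [QuotientGroup.eq]
  have : a⁻¹ * (a * t) = t := by group
  rw [this]
  exact ht

end Cfsg.Agent.S3859
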