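import Cfsg.Statements.S3858
import Cfsg.Agent.S3859
import Cfsg.Agent.Lib.Herstein
-- import your own Cfsg.Agent.* helpers here

set_option autoImplicit false
open Cfsg

namespace Cfsg.Agent.S3858

open scoped Pointwise
theorem exists_conj_le {G : Type*} [Group G] [Finite G] {r : ℕ} [Fact r.Prime] (R : Subgroup G) (hR : IsPGroup r R)
    (M : Subgroup G) (hM : ¬ r ∣ M.index) : ∃ g : G, R ≤ M.map (MulAut.conj g).toMonoidHom := by
  classical
  have hfix := hR.nonempty_fixed_point_of_prime_not_dvd_card (G ⧸ M) hM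
  obtain ⟨q, hq⟩ := hfix
  obtain ⟨g, rfl⟩ := QuotientGroup.mk_surjective q
  refine ⟨g, ?_⟩
  intro x hx
  have h1 := hq ⟨x, hx⟩
  have h2 : ((x * g : G) : G ⧸ M) = (g : G ⧸ M) := h1
  rw [QuotientGroup.eq] at h2
  refine ⟨g⁻¹ * x * g, ?_, ?_⟩
  · have h3 : g⁻¹ * x * g = ((x * g)⁻¹ * g)⁻¹ := by group
    rw [h3]
    exact M.inv_mem h2
  · show g * (g⁻¹ * x * g) * g⁻¹ = x
    group

theorem coatom_map {G : Type*} [Group G] (M : Subgroup G) (hM : IsCoatom M) (g : G) :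
    IsCoatom (M.map (MulAut.conj g).toMonoidHom) :=
  ((MulAut.conj g).mapSubgroup.isCoatom_iff M).mpr hM

theorem map_conj_mul {G : Type*} [Group G] (M : Subgroup G) (g h : G) :
    (M.map (MulAut.conj g).toMonoidHom).map (MulAut.conj h).toMonoidHom = M.map (MulAut.conj (h * g)).toMonoidHom := by
  rw [Subgroup.map_map]
  have : (MulAut.conj h).toMonoidHom.comp (MulAut.conj g).toMonoidHom = (MulAut.conj (h * g)).toMonoidHom := by
    ext x
    show h * (g * x * g⁻¹) * h⁻¹ = (h * g) * x * (h * g)⁻¹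
    group
  rw [this]

theorem not_dvd_of_le {G : Type*} [Group G] [Finite G] {r : ℕ} [Fact r.Prime] (R : Sylow r G) (M : Subgroup G)
    (h : (R : Subgroup G) ≤ M) : ¬ r ∣ M.index := by
  intro h1
  exact R.not_dvd_index (h1.trans (Subgroup.index_dvd_of_le h))

/-- Let G be a finite group with a normal non-abelian simple subgroup T whose centralizer is trivial (G almost simple with socle T), r a prime and R a Sylow r-subgroup of G meeting T nontrivially. Then R lies in exactly one maximal subgroup of G if and only if G has exactly one conjugacy class of maximal subgroups whose index is prime to r. -/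
theorem result {G : Type*} [Group G] [Finite G] (T : Subgroup G) [T.Normal] (hT : IsSimpleGroup T) (hna : ¬ IsMulCommutative T)
    (hC : Subgroup.centralizer (T : Set G) = ⊥) {r : ℕ} [Fact r.Prime] (R : Sylow r G) (hR0 : (R : Subgroup G) ⊓ T ≠ ⊥) :
    (∃! M : Subgroup G, IsCoatom M ∧ (R : Subgroup G) ≤ M) ↔
      ((∃ M : Subgroup G, IsCoatom M ∧ ¬ r ∣ M.index) ∧
        ∀ M₁ M₂ : Subgroup G, IsCoatom M₁ → ¬ r ∣ M₁.index → IsCoatom M₂ → ¬ r ∣ M₂.index → ∃ g : G, M₂ = M₁.map (MulAut.conj g).toMonoidHom) := by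
  classical
  have hLtop := Cfsg.Agent.S3859.norm_ne_top T hT hna R hR0
  have hRL := Cfsg.Agent.S3859.R_le_norm T (R : Subgroup G)
  constructor
  · rintro ⟨M, ⟨hMc, hRM⟩, hM⟩
    refine ⟨⟨M, hMc, not_dvd_of_le R M hRM⟩, ?_⟩
    intro M₁ M₂ hM₁ hr₁ hM₂ hr₂
    obtain ⟨g₁, hg₁⟩ := exists_conj_le (R : Subgroup G) R.isPGroup' M₁ hr₁
    obtain ⟨g₂, hg₂⟩ := exists_conj_le (R : Subgroup G) R.isPGroup' M₂ hr₂
    have h1 := hM _ ⟨coatom_map M₁ hM₁ g₁, hg₁⟩
    have h2 := hM _ ⟨coatom_map M₂ hM₂ g₂, hg₂⟩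
    refine ⟨g₂⁻¹ * g₁, ?_⟩
    rw [← map_conj_mul, h1, ← h2, map_conj_mul]
    have h3 : (MulAut.conj (g₂⁻¹ * g₂)).toMonoidHom = MonoidHom.id G := by
      ext x
      simp [MulAut.conj_apply]
    rw [h3, Subgroup.map_id]
  · rintro ⟨-, hconj⟩
    obtain ⟨L', hL'c, hL'⟩ := Lib.LPIrr.exists_coatom_of_ne_top hLtop
    have hRL' : (R : Subgroup G) ≤ L' := hRL.trans hL'
    refine ⟨L', ⟨hL'c, hRL'⟩, ?_⟩
    rintro M ⟨hMc, hRM⟩
    obtain ⟨g, rfl⟩ := hconj L' M hL'c (not_dvd_of_le R L' hRL') hMc (not_dvd_of_le R M hRM)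
    -- `g⁻¹ R g ≤ L'`
    have h1 : ((g⁻¹ • R : Sylow r G) : Subgroup G) ≤ L' := by
      intro y hy
      have hy' : y ∈ MulAut.conj g⁻¹ • (R : Subgroup G) := hy
      rw [Subgroup.mem_pointwise_smul_iff_inv_smul_mem] at hy'
      have hy2 : g * y * g⁻¹ ∈ (R : Subgroup G) := by simpa [MulAut.smul_def, MulAut.conj_apply] using hy'
      obtain ⟨z, hz, hzy⟩ := hRM hy2
      have hzy' : g * z * g⁻¹ = g * y * g⁻¹ := hzy
      have : z = y := by simpa using hzy'
      rwa [← this]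
    obtain ⟨l, hl⟩ := MulAction.exists_smul_eq L' ((g⁻¹ • R).subtype h1) (R.subtype hRL')
    simp_rw [Sylow.smul_subtype, Subgroup.smul_def, smul_smul] at hl
    have hn := Sylow.smul_eq_iff_mem_normalizer.mp (Sylow.subtype_injective hl)
    have hnL : (l : G) * g⁻¹ ∈ L' := by
      apply hL'
      apply Lib.Herstein.mem_normalizer_of_conj_le
      rintro w ⟨hw1, hw2⟩
      refine ⟨?_, ‹T.Normal›.conj_mem w hw2 _⟩
      exact (Subgroup.mem_normalizer_iff.mp hn w).mp hw1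
    have hgL : g ∈ L' := by
      have h2 : g⁻¹ ∈ L' := by
        have h3 : g⁻¹ = (l : G)⁻¹ * ((l : G) * g⁻¹) := by group
        rw [h3]
        exact L'.mul_mem (L'.inv_mem l.2) hnL
      simpa using L'.inv_mem h2
    apply le_antisymm
    · rintro _ ⟨w, hw, rfl⟩
      exact L'.mul_mem (L'.mul_mem hgL hw) (L'.inv_mem hgL)
    · intro w hw
      refine ⟨g⁻¹ * w * g, L'.mul_mem (L'.mul_mem (L'.inv_mem hgL) hw) hgL, ?_⟩
      show g * (g⁻¹ * w * g) * g⁻¹ = w
      group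

end Cfsg.Agent.S3858
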