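import Cfsg.Statements.S3861
import Cfsg.Agent.Lib.BaerSuzuki
import Cfsg.Agent.Lib.FGS3
import Cfsg.Agent.Lib.FGSBasic
import Cfsg.Agent.Lib.Herstein
import Cfsg.Agent.Lib.H1Core
-- import your own Cfsg.Agent.* helpers here

set_option autoImplicit false
open Cfsg

namespace Cfsg.Agent.S3861

open Subgroup
open scoped Pointwise

/-- No nontrivial odd-order real elements. -/
def NoReal (G : Type*) [Group G] : Prop := ∀ x : G, x ≠ 1 → Odd (orderOf x) → ¬ IsConj x x⁻¹

theorem zpow_conj_inv {G : Type*} [Group G] {t w : G} (h : t * w * t⁻¹ = w⁻¹) (n : ℤ) :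
    t * w ^ n * t⁻¹ = (w ^ n)⁻¹ := by
  have h1 := map_zpow (MulAut.conj t).toMonoidHom w n
  have h2 : (MulAut.conj t).toMonoidHom w = t * w * t⁻¹ := rfl
  have h3 : (MulAut.conj t).toMonoidHom (w ^ n) = t * w ^ n * t⁻¹ := rfl
  rw [h2, h3, h, inv_zpow] at h1
  exact h1

theorem inv_in_normal {G : Type*} [Group G] [Finite G] (hprop : NoReal G) (t : G) (ht : t * t = 1) :
    ∃ N : Subgroup G, N.Normal ∧ IsPGroup 2 N ∧ t ∈ N := by
  classical
  haveI : Fact (Nat.Prime 2) := ⟨Nat.prime_two⟩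
  have hX : IsPGroup 2 (zpowers t) := by
    have h1 : orderOf t ∣ 2 ^ 1 := orderOf_dvd_of_pow_eq_one (by rw [pow_one, pow_two, ht])
    obtain ⟨k, -, hk⟩ := (Nat.dvd_prime_pow Nat.prime_two).mp h1
    exact IsPGroup.iff_card.mpr ⟨k, by rw [Nat.card_zpowers, hk]⟩
  have htinv : t⁻¹ = t := inv_eq_of_mul_eq_one_left ht
  have key : ∀ g : G, IsPGroup 2 ↥(zpowers t ⊔ (zpowers t).map (MulAut.conj g).toMonoidHom) := by
    intro g
    set s := g * t * g⁻¹ with hs
    have hss : s * s = 1 := by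
      calc s * s = g * (t * t) * g⁻¹ := by rw [hs]; group
        _ = 1 := by rw [ht]; group
    have hsinv : s⁻¹ = s := inv_eq_of_mul_eq_one_left hss
    set w := t * s with hw
    have hconj : t * w * t⁻¹ = w⁻¹ := by
      rw [htinv, hw, mul_inv_rev, htinv, hsinv]
      calc t * (t * s) * t = (t * t) * s * t := by group
        _ = s * t := by rw [ht, one_mul]
    obtain ⟨a, b, -, hb, hab, ⟨k, hk⟩, hbc⟩ := Cfsg.Agent.Lib.FGSBasic.exists_p_decomp 2 w
    have hb1 : b = 1 := by
      by_contra hne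
      obtain ⟨n, rfl⟩ := mem_zpowers_iff.mp hb
      refine hprop _ hne (Nat.coprime_two_right.mp hbc) ?_
      rw [isConj_iff]
      exact ⟨t, zpow_conj_inv hconj n⟩
    have hwa : orderOf w = 2 ^ k := by
      rw [← hab, hb1, mul_one, hk]
    have hK : IsPGroup 2 (zpowers w) := IsPGroup.iff_card.mpr ⟨k, by rw [Nat.card_zpowers, hwa]⟩
    have hnorm : zpowers t ≤ normalizer ((zpowers w : Subgroup G) : Set G) := by
      rw [zpowers_le]
      apply Cfsg.Agent.Lib.Herstein.mem_normalizer_of_conj_le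
      intro v hv
      obtain ⟨n, rfl⟩ := mem_zpowers_iff.mp hv
      rw [zpow_conj_inv hconj n]
      exact (zpowers w).inv_mem (zpow_mem_zpowers w n)
    have hsup := IsPGroup.to_sup_of_normal_right' hX hK hnorm
    apply hsup.to_le
    apply sup_le le_sup_left
    rw [MonoidHom.map_zpowers, zpowers_le]
    have h1 : (MulAut.conj g).toMonoidHom t = t * w := by
      show g * t * g⁻¹ = t * (t * s)
      rw [← mul_assoc, ht, one_mul]
    rw [h1]
    exact mul_mem (le_sup_left (a := zpowers t) (mem_zpowers t)) (le_sup_right (a := zpowers t) (mem_zpowers w))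
  obtain ⟨N, hN, hNp, hle⟩ := Cfsg.Agent.Lib.BaerSuzuki.baer_suzuki (zpowers t) hX key
  exact ⟨N, hN, hNp, hle (mem_zpowers t)⟩

theorem noReal_quot {G : Type*} [Group G] [Finite G] (hprop : NoReal G) (N : Subgroup G) [N.Normal]
    (hN : IsPGroup 2 N) : NoReal (G ⧸ N) := by
  classical
  haveI : Fact (Nat.Prime 2) := ⟨Nat.prime_two⟩
  intro xb hne hodd hconj
  set π := QuotientGroup.mk' N with hπ
  have hπone : ∀ a : G, π a = 1 ↔ a ∈ N := fun a => QuotientGroup.eq_one_iff a
  have hπs : Function.Surjective π := QuotientGroup.mk'_surjective N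
  obtain ⟨x₀, rfl⟩ := hπs xb
  obtain ⟨a, b, ha, -, hab, ⟨k, hk⟩, hbc⟩ := Cfsg.Agent.Lib.FGSBasic.exists_p_decomp 2 x₀
  have ha1 : π a = 1 := by
    have h1 : orderOf (π a) ∣ orderOf (π x₀) := by
      obtain ⟨n, rfl⟩ := mem_zpowers_iff.mp ha
      rw [map_zpow]
      exact orderOf_dvd_of_pow_eq_one (by
        rw [← zpow_natCast, ← zpow_mul, mul_comm, zpow_mul, zpow_natCast, pow_orderOf_eq_one, one_zpow])
    have h2 : orderOf (π a) ∣ 2 ^ k := by
      rw [← hk]; exact orderOf_map_dvd π a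
    have h3 : (2 ^ k).Coprime (orderOf (π x₀)) := by
      apply Nat.Coprime.pow_left
      exact Nat.coprime_two_left.mpr hodd
    have h4 := Nat.eq_one_of_dvd_coprimes h3 h2 h1
    exact orderOf_eq_one_iff.mp h4
  have hxb : π x₀ = π b := by rw [← hab, map_mul, ha1, one_mul]
  rw [hxb] at hne hconj
  have hb1 : b ≠ 1 := by
    rintro rfl
    exact hne (map_one _)
  obtain ⟨gb, hg⟩ := isConj_iff.mp hconj
  obtain ⟨g, rfl⟩ := hπs gb
  set y := g * b * g⁻¹ with hy
  have hπy : π y = (π b)⁻¹ := by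
    rw [hy, map_mul, map_mul, map_inv]
    exact hg
  have hordy : orderOf y = orderOf b := Cfsg.Agent.Lib.FGSBasic.orderOf_conj g b
  have hcardN : (Nat.card N).Coprime (orderOf b) := by
    obtain ⟨e, he⟩ := IsPGroup.iff_card.mp hN
    rw [he]
    exact Nat.Coprime.pow_left e ((Nat.coprime_comm).mp hbc)
  have hKL : zpowers b ≤ N ⊔ zpowers y := by
    rw [zpowers_le]
    have h1 : y * b ∈ N := by
      rw [← hπone, map_mul, hπy, inv_mul_cancel]
    have h2 : b = y⁻¹ * (y * b) := by group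
    rw [h2]
    exact mul_mem (le_sup_right (a := N) (inv_mem (mem_zpowers y))) (le_sup_left (a := N) h1)
  obtain ⟨n, hn, hconj2⟩ := Cfsg.Agent.Lib.FGS3.sz_conj_in_sup N (zpowers y) (zpowers b)
    (by rw [Nat.card_zpowers, hordy]; exact hcardN)
    (Or.inl (by
      haveI := hN.isNilpotent
      infer_instance))
    hKL (by rw [Nat.card_zpowers, Nat.card_zpowers, hordy])
  have hr : n * y * n⁻¹ ∈ zpowers b := by
    rw [← hconj2, Cfsg.Agent.Lib.FGSBasic.mem_conj_smul_iff]
    have : n⁻¹ * (n * y * n⁻¹) * n = y := by group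
    rw [this]
    exact mem_zpowers y
  have hπr : π (n * y * n⁻¹) = (π b)⁻¹ := by
    rw [map_mul, map_mul, map_inv, (hπone n).mpr hn, hπy]
    simp
  have hrb : n * y * n⁻¹ * b ∈ N := by
    rw [← hπone, map_mul, hπr, inv_mul_cancel]
  have hrb2 : n * y * n⁻¹ * b ∈ zpowers b := mul_mem hr (mem_zpowers b)
  have hrb3 : n * y * n⁻¹ * b = 1 := by
    have h1 : orderOf (n * y * n⁻¹ * b) ∣ orderOf b := by
      have := Subgroup.orderOf_dvd_natCard (zpowers b) hrb2
      rwa [Nat.card_zpowers] at this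
    have h2 : orderOf (n * y * n⁻¹ * b) ∣ Nat.card N := Subgroup.orderOf_dvd_natCard N hrb
    have h4 := Nat.eq_one_of_dvd_coprimes hcardN h2 h1
    exact orderOf_eq_one_iff.mp h4
  refine hprop b hb1 (Nat.coprime_two_right.mp hbc) ?_
  rw [isConj_iff]
  refine ⟨n * g, ?_⟩
  have h5 : n * g * b * (n * g)⁻¹ = n * y * n⁻¹ := by rw [hy]; group
  rw [h5]
  exact eq_inv_of_mul_eq_one_left hrb3

/-- A finite group G has no non-identity element of odd order that is conjugate to its inverse if and only if the Sylow 2-subgroups of G are normal. -/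
theorem result {G : Type*} [Group G] [Finite G] (P : Sylow 2 G) : (∀ x : G, x ≠ 1 → Odd (orderOf x) → ¬ IsConj x x⁻¹) ↔ (P : Subgroup G).Normal := by
  classical
  haveI : Fact (Nat.Prime 2) := ⟨Nat.prime_two⟩
  constructor
  · intro hprop
    have hprop' : NoReal G := hprop
    set T := Cfsg.pCore 2 G with hT
    haveI hTn : T.Normal := Cfsg.Agent.Lib.H1Core.pCore_normal 2 G
    have hTp : IsPGroup 2 T := Cfsg.Agent.Lib.H1Core.pCore_isPGroup 2
    have hq : NoReal (G ⧸ T) := noReal_quot hprop' T hTp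
    set π := QuotientGroup.mk' T with hπ
    have hπone : ∀ a : G, π a = 1 ↔ a ∈ T := fun a => QuotientGroup.eq_one_iff a
    have hπs : Function.Surjective π := QuotientGroup.mk'_surjective T
    have hodd : ¬ 2 ∣ Nat.card (G ⧸ T) := by
      intro hd
      obtain ⟨tb, htb⟩ := exists_prime_orderOf_dvd_card' 2 hd
      have htb2 : tb * tb = 1 := by rw [← pow_two, ← htb, pow_orderOf_eq_one]
      obtain ⟨M, hMn, hMp, htM⟩ := inv_in_normal hq tb htb2
      have hcom : IsPGroup 2 (M.comap π) :=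
        hMp.comap_of_ker_isPGroup π (by
          rw [QuotientGroup.ker_mk']; exact hTp)
      have hle : M.comap π ≤ T := Cfsg.Agent.Lib.H1Core.le_pCore (hMn.comap π) hcom
      obtain ⟨t, rfl⟩ := hπs tb
      have h1 : t ∈ T := hle htM
      rw [(hπone t).mpr h1, orderOf_one] at htb
      omega
    have hle : (P : Subgroup G) ≤ T := by
      intro x hx
      rw [← hπone]
      obtain ⟨k, hk⟩ := IsPGroup.iff_orderOf.mp P.2 ⟨x, hx⟩
      rw [Subgroup.orderOf_mk] at hk
      have h1 : orderOf (π x) ∣ 2 ^ k := by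
        rw [← hk]; exact orderOf_map_dvd π x
      have h2 : orderOf (π x) ∣ Nat.card (G ⧸ T) := orderOf_dvd_natCard _
      have h3 : (2 ^ k).Coprime (Nat.card (G ⧸ T)) :=
        Nat.Coprime.pow_left k ((Nat.Prime.coprime_iff_not_dvd Nat.prime_two).mpr hodd)
      exact orderOf_eq_one_iff.mp (Nat.eq_one_of_dvd_coprimes h3 h1 h2)
    have heq : (P : Subgroup G) = T :=
      le_antisymm hle (Cfsg.Agent.Lib.H1Core.pCore_le_sylow 2 P)
    rw [heq]
    exact hTn
  · intro hP x hx1 hodd hconj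
    obtain ⟨g, hg⟩ := isConj_iff.mp hconj
    obtain ⟨a, b, -, hb, hab, ⟨k, hk⟩, hbc⟩ := Cfsg.Agent.Lib.FGSBasic.exists_p_decomp 2 g
    have hgg : g * g ∈ centralizer ({x} : Set G) := by
      rw [mem_centralizer_singleton_iff]
      have h1 : g * x = x⁻¹ * g := by rw [← hg]; group
      have h2 : g * x⁻¹ = x * g := by
        have h3 : g * x⁻¹ * g⁻¹ = x := by
          have h4 : g * x⁻¹ * g⁻¹ = (g * x * g⁻¹)⁻¹ := by group
          rw [h4, hg, inv_inv]
        calc g * x⁻¹ = (g * x⁻¹ * g⁻¹) * g := by group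
          _ = x * g := by rw [h3]
      calc g * g * x = g * (g * x) := by group
        _ = g * (x⁻¹ * g) := by rw [h1]
        _ = (g * x⁻¹) * g := by group
        _ = x * g * g := by rw [h2]
        _ = x * (g * g) := by group
    obtain ⟨ℓ, hℓ⟩ : Odd (orderOf b) := Nat.coprime_two_right.mp hbc
    set c := b ^ (ℓ + 1) with hc
    have hcc : c * c = b := by
      rw [hc, ← pow_add]
      have : ℓ + 1 + (ℓ + 1) = orderOf b + 1 := by omega
      rw [this, pow_succ, pow_orderOf_eq_one, one_mul]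
    obtain ⟨m, hm⟩ := mem_zpowers_iff.mp hb
    have hcg : c = (g ^ m) ^ (ℓ + 1) := by rw [hc, hm]
    have hbx : b * x = x * b := by
      have h1 : b ∈ zpowers (g * g) := by
        rw [← hcc, hcg]
        have h2 : (g ^ m) ^ (ℓ + 1) * (g ^ m) ^ (ℓ + 1) = (g * g) ^ (m * (ℓ + 1 : ℕ)) := by
          have hc1 : Commute g g := Commute.refl g
          rw [hc1.mul_zpow, ← zpow_natCast, ← zpow_mul]
        rw [h2]
        exact zpow_mem_zpowers _ _
      have h3 : zpowers (g * g) ≤ centralizer ({x} : Set G) := by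
        rw [zpowers_le]; exact hgg
      exact mem_centralizer_singleton_iff.mp (h3 h1)
    have hax : a * x * a⁻¹ = x⁻¹ := by
      rw [← hg, ← hab]
      have h1 : a * b * x * (a * b)⁻¹ = a * (b * x) * b⁻¹ * a⁻¹ := by group
      rw [h1, hbx]
      group
    have haP : a ∈ (P : Subgroup G) := Cfsg.Agent.Lib.FGSBasic.mem_sylow_of_normal P hP ⟨k, hk⟩
    have hxx : x * x ∈ (P : Subgroup G) := by
      have h1 : x * a * x⁻¹ ∈ (P : Subgroup G) := hP.conj_mem a haP x
      have h2 := mul_mem h1 ((P : Subgroup G).inv_mem haP)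
      have h3 : x * a * x⁻¹ * a⁻¹ = x * (a * x * a⁻¹)⁻¹ := by group
      rw [h3, hax, inv_inv] at h2
      exact h2
    obtain ⟨e, he⟩ := IsPGroup.iff_orderOf.mp P.2 ⟨x * x, hxx⟩
    rw [Subgroup.orderOf_mk] at he
    have h5 : orderOf (x * x) ∣ orderOf x := by
      apply orderOf_dvd_of_pow_eq_one
      rw [← pow_two, ← pow_mul, mul_comm, pow_mul, pow_orderOf_eq_one, one_pow]
    have h6 : (2 ^ e).Coprime (orderOf x) := Nat.Coprime.pow_left e (Nat.coprime_two_left.mpr hodd)
    have h7 : x * x = 1 := orderOf_eq_one_iff.mp (Nat.eq_one_of_dvd_coprimes h6 (by rw [he]) h5)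
    have h8 : orderOf x ∣ 2 := orderOf_dvd_of_pow_eq_one (by rw [pow_two, h7])
    have h9 : orderOf x = 1 := by
      rcases (Nat.dvd_prime Nat.prime_two).mp h8 with h | h
      · exact h
      · rw [h] at hodd
        exact absurd hodd (by decide)
    exact hx1 (orderOf_eq_one_iff.mp h9)

end Cfsg.Agent.S3861
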