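import Cfsg.Statements.S3864
import Mathlib
import Cfsg.Agent.Lib.PThomp
import Cfsg.Agent.Lib.DihKlein
import Cfsg.Agent.S3858
-- import your own Cfsg.Agent.* helpers here

set_option autoImplicit false
open Cfsg

namespace Cfsg.Agent.S3864

open DihedralGroup Subgroup
open scoped commutatorElement Pointwise

section dih
variable {m : ℕ}

theorem exists_half [NeZero m] (h2 : 2 ∣ m) (y : ZMod m) (hy : ZMod.castHom h2 (ZMod 2) y = 0) : ∃ c : ZMod m, c + c = y := by
  have h1 : ((y.val : ℕ) : ZMod m) = y := ZMod.natCast_zmod_val y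
  rw [← h1, map_natCast] at hy
  rw [ZMod.natCast_eq_zero_iff] at hy
  obtain ⟨t, ht⟩ := hy
  refine ⟨(t : ZMod m), ?_⟩
  rw [← h1, ht]
  push_cast
  ring

theorem par_cases (h2 : 2 ∣ m) (a : ZMod m) : ZMod.castHom h2 (ZMod 2) a = 0 ∨ ZMod.castHom h2 (ZMod 2) a = 1 := by
  generalize ZMod.castHom h2 (ZMod 2) a = u
  revert u; decide

theorem conj_sr [NeZero m] (h2 : 2 ∣ m) (a b : ZMod m) (hab : ZMod.castHom h2 (ZMod 2) a = ZMod.castHom h2 (ZMod 2) b) :
    ∃ c, r c * sr b * (r c)⁻¹ = (sr a : DihedralGroup m) := by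
  obtain ⟨c, hc⟩ := exists_half h2 (b - a) (by rw [map_sub, hab, sub_self])
  refine ⟨c, ?_⟩
  rw [inv_r, r_mul_sr, sr_mul_r]
  congr 1
  linear_combination (-1 : ZMod m) * hc

theorem inv_cases {n : ℕ} (hn : 0 < n) (hm : m = 2 * n) (d : DihedralGroup m) (hd : orderOf d = 2) :
    d = r (n : ZMod m) ∨ ∃ a, d = sr a := by
  rcases d with a | a
  · left
    have h1 : (r a : DihedralGroup m) ^ 2 = 1 := by rw [← hd]; exact pow_orderOf_eq_one _
    rw [pow_two, r_mul_r, one_def] at h1
    have h2 : a + a = 0 := r.inj h1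
    rcases Cfsg.Agent.Lib.DihKlein.two_mul_eq_zero hn hm h2 with h3 | h3
    · rw [h3, r_zero, orderOf_one] at hd
      omega
    · rw [h3]
  · right; exact ⟨a, rfl⟩

theorem order_r_half {n : ℕ} (hn : 0 < n) (hm : m = 2 * n) : orderOf (r (n : ZMod m) : DihedralGroup m) = 2 := by
  haveI : Fact (Nat.Prime 2) := ⟨Nat.prime_two⟩
  apply orderOf_eq_prime
  · rw [pow_two, r_mul_r, one_def]
    congr 1
    have : ((m : ℕ) : ZMod m) = 0 := ZMod.natCast_self m
    rw [hm] at this ⊢
    push_cast at this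
    linear_combination this
  · rw [one_def]
    intro h
    have h1 := r.inj h
    rw [ZMod.natCast_eq_zero_iff, hm] at h1
    have := Nat.le_of_dvd hn h1
    omega

end dih

section main
variable {G : Type*} [Group G] [Finite G] {m : ℕ}

theorem comap_index {D : Type*} [Group D] (P : Sylow 2 G) (ι : D →* G) (hr : ι.range = P) (N : Subgroup G) [N.Normal] (t : ℕ) (hi : N.index = 2 ^ t) :
    (N.comap ι).index = 2 ^ t := by
  rw [Subgroup.index_comap, hr]
  rw [← Subgroup.relIndex_sup_right]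
  have h1 : (P : Subgroup G) ⊔ N = ⊤ := by
    have h2 : ((P : Subgroup G) ⊔ N).index ∣ 2 ^ t := hi ▸ Subgroup.index_dvd_of_le le_sup_right
    have h3 : ((P : Subgroup G) ⊔ N).index ∣ (P : Subgroup G).index := Subgroup.index_dvd_of_le le_sup_left
    obtain ⟨k, -, hk⟩ := (Nat.dvd_prime_pow Nat.prime_two).mp h2
    rcases Nat.eq_zero_or_pos k with rfl | hk0
    · rw [pow_zero] at hk
      exact Subgroup.index_eq_one.mp hk
    · exfalso
      apply P.not_dvd_index
      rw [hk] at h3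
      exact (dvd_pow_self 2 (by omega)).trans h3
  rw [h1, Subgroup.relIndex_top_right, hi]

theorem comm_le (N : Subgroup G) [N.Normal] (h : N.index = 2 ∨ N.index = 4) : commutator G ≤ N := by
  rw [← Subgroup.Normal.quotient_commutative_iff_commutator_le]
  haveI : Fact (Nat.Prime 2) := ⟨Nat.prime_two⟩
  rcases h with h | h
  · have hc : Nat.card (G ⧸ N) = 2 := by rw [← Subgroup.index_eq_card, h]
    haveI : IsCyclic (G ⧸ N) := isCyclic_of_prime_card hc
    exact IsCyclic.commutative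
  · have hc : Nat.card (G ⧸ N) = 2 ^ 2 := by rw [← Subgroup.index_eq_card, h]; norm_num
    have := IsPGroup.commutative_of_card_eq_prime_sq hc
    exact ⟨⟨this⟩⟩

theorem rot_mem (ι : DihedralGroup m →* G) (N : Subgroup G) (hN : commutator G ≤ N) (c : ZMod m) : ι (r (c + c)) ∈ N := by
  apply hN
  have h1 : (r (c + c) : DihedralGroup m) = ⁅(r c : DihedralGroup m), (sr 0 : DihedralGroup m)⁆ := by
    rw [commutatorElement_def, inv_r, inv_sr, r_mul_sr, sr_mul_r, sr_mul_sr]
    congr 1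
    ring
  rw [h1, map_commutatorElement]
  exact Subgroup.commutator_mem_commutator (mem_top _) (mem_top _)

theorem conj_to_P (P : Sylow 2 G) (ι : DihedralGroup m →* G) (hι : Function.Injective ι) (hr : ι.range = P) (g : G) (hg : orderOf g = 2) :
    ∃ d, orderOf d = 2 ∧ IsConj g (ι d) := by
  have h2 : IsPGroup 2 (zpowers g) := by
    rw [IsPGroup.iff_card, Nat.card_zpowers, hg]
    exact ⟨1, rfl⟩
  obtain ⟨u, hu⟩ := S3858.exists_conj_le (zpowers g) h2 (P : Subgroup G) P.not_dvd_index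
  obtain ⟨y, hy, hye⟩ := Subgroup.mem_map.mp (hu (mem_zpowers g))
  rw [← hr] at hy
  obtain ⟨d, rfl⟩ := hy
  have hye' : u * ι d * u⁻¹ = g := by simpa using hye
  have hcon : IsConj g (ι d) := by
    rw [isConj_iff]
    exact ⟨u⁻¹, by rw [← hye']; group⟩
  refine ⟨d, ?_, hcon⟩
  rw [← orderOf_injective ι hι d, ← hg, ← hye']
  have := MulEquiv.orderOf_eq (MulAut.conj u) (ι d)
  simpa using this.symm


theorem conj_orderOf {x y : G} (h : IsConj x y) : orderOf x = orderOf y := by
  obtain ⟨c, rfl⟩ := isConj_iff.mp h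
  simpa using (MulEquiv.orderOf_eq (MulAut.conj c) x).symm

theorem mem_of_conj (N : Subgroup G) [hN : N.Normal] {x y : G} (h : IsConj x y) (hx : x ∈ N) : y ∈ N := by
  obtain ⟨c, rfl⟩ := isConj_iff.mp h
  exact hN.conj_mem x hx c

theorem case_three [NeZero m] (P : Sylow 2 G) (h2 : 2 ∣ m) {n : ℕ} (hn : 0 < n) (hm : m = 2 * n) (ι : DihedralGroup m →* G) (hι : Function.Injective ι) (hr : ι.range = P)
    (hz : ∀ c, ¬ IsConj (ι (r (n : ZMod m))) (ι (sr c))) : Cfsg.HasNormalPComplement 2 G := by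
  haveI : Fact (Nat.Prime 2) := ⟨Nat.prime_two⟩
  apply Lib.PNilp.hasNormalPComplement_of_automizer P
  intro Q hQ g hgN hco
  have hPι : ∀ x ∈ (P : Subgroup G), ∃ d, ι d = x := by
    intro x hx
    rw [← hr] at hx
    exact hx
  let X : Subgroup G := Q ⊓ (zpowers (r 1 : DihedralGroup m)).map ι
  have hconj : ∀ g' ∈ normalizer (Q : Set G), ∀ x ∈ Q, g' * x * g'⁻¹ ∈ Q := by
    intro g' hg' x hx
    exact (Subgroup.mem_normalizer_iff.mp hg' x).mp hx
  have hrot : ∀ a, ι (r a) ∈ (zpowers (r 1 : DihedralGroup m)).map ι := by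
    intro a
    refine Subgroup.mem_map_of_mem ι ?_
    refine ⟨(a.val : ℤ), ?_⟩
    show (r 1 : DihedralGroup m) ^ ((a.val : ℤ)) = r a
    rw [r_one_zpow]
    congr 1
    push_cast
    exact ZMod.natCast_zmod_val a
  have hX : ∀ x, x ∈ X ↔ x ∈ Q ∧ ∃ a, x = ι (r a) := by
    intro x
    constructor
    · rintro ⟨hx, y, ⟨k, rfl⟩, rfl⟩
      refine ⟨hx, ?_⟩
      show ∃ a, ι ((r 1 : DihedralGroup m) ^ k) = ι (r a)
      rw [r_one_zpow]
      exact ⟨_, rfl⟩
    · rintro ⟨hx, a, rfl⟩
      exact ⟨hx, hrot a⟩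
  have hinvcase : ∀ a c, IsConj (ι (r a)) (ι (sr c)) → False := by
    intro a c hc
    have h3 : orderOf (r a : DihedralGroup m) = 2 := by
      rw [← orderOf_injective ι hι, conj_orderOf hc, orderOf_injective ι hι, orderOf_sr]
    rcases inv_cases hn hm _ h3 with h4 | ⟨b, h4⟩
    · rw [h4] at hc
      exact hz c hc
    · cases h4
  have hXnorm : ∀ g' ∈ normalizer (Q : Set G), ∀ x ∈ X, g' * x * g'⁻¹ ∈ X := by
    intro g' hg' x hx
    obtain ⟨hxQ, a, rfl⟩ := (hX _).mp hx
    have h3 := hconj g' hg' _ hxQ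
    obtain ⟨d, hd⟩ := hPι _ (hQ h3)
    rw [hX]
    refine ⟨h3, ?_⟩
    rcases d with a' | c
    · exact ⟨a', hd.symm⟩
    · exfalso
      apply hinvcase a c
      rw [isConj_iff]
      exact ⟨g', hd.symm⟩
  have hgX : g ∈ normalizer (X : Set G) := by
    rw [Subgroup.mem_normalizer_iff]
    intro x
    constructor
    · exact hXnorm g hgN x
    · intro h3
      have h4 := hXnorm g⁻¹ (inv_mem hgN) _ h3
      have h5 : g⁻¹ * (g * x * g⁻¹) * g⁻¹⁻¹ = x := by group
      rwa [h5] at h4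
  have hXP : X ≤ (P : Subgroup G) := inf_le_left.trans hQ
  have hXp : IsPGroup 2 X := P.isPGroup'.to_le hXP
  have hXcyc : IsCyclic X := by
    have hle : X ≤ (zpowers (r 1 : DihedralGroup m)).map ι := inf_le_right
    have h3 : IsCyclic ((zpowers (r 1 : DihedralGroup m)).map ι) := by
      rw [MonoidHom.map_zpowers]
      infer_instance
    exact isCyclic_of_injective (Subgroup.inclusion hle) (Subgroup.inclusion_injective hle)
  have hτ : X.normalizerMonoidHom ⟨g, hgX⟩ = 1 := by
    rw [← orderOf_eq_one_iff]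
    have h3 : orderOf (X.normalizerMonoidHom ⟨g, hgX⟩) ∣ orderOf g := by
      have := orderOf_map_dvd X.normalizerMonoidHom (⟨g, hgX⟩ : normalizer (X : Set G))
      rwa [Subgroup.orderOf_mk] at this
    have h4 : orderOf (X.normalizerMonoidHom ⟨g, hgX⟩) ∣ Nat.card (MulAut X) := orderOf_dvd_natCard _
    rw [hXcyc.card_mulAut] at h4
    obtain ⟨b, hb⟩ := IsPGroup.iff_card.mp hXp
    rcases Nat.eq_zero_or_pos b with rfl | hb0
    · rw [hb, pow_zero, Nat.totient_one] at h4
      exact Nat.dvd_one.mp h4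
    · rw [hb, Nat.totient_prime_pow Nat.prime_two hb0] at h4
      have h5 : Nat.Coprime (orderOf (X.normalizerMonoidHom ⟨g, hgX⟩)) (2 ^ (b - 1) * (2 - 1)) := by
        have h6 := Nat.Coprime.coprime_dvd_left h3 hco
        norm_num
        exact Nat.Coprime.pow_right _ h6
      exact Nat.eq_one_of_dvd_coprimes h5 dvd_rfl h4
  have hgc : g ∈ centralizer (X : Set G) := by
    have h3 : (⟨g, hgX⟩ : normalizer (X : Set G)) ∈ X.normalizerMonoidHom.ker := hτ
    rw [Subgroup.normalizerMonoidHom_ker] at h3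
    exact h3
  rw [Subgroup.mem_centralizer_iff]
  intro x hx
  have hxP := hQ hx
  obtain ⟨d, rfl⟩ := hPι _ hxP
  rcases d with a | c
  · exact (Subgroup.mem_centralizer_iff.mp hgc) _ ((hX _).mpr ⟨hx, a, rfl⟩)
  · -- reflection
    have h3 := hconj g hgN _ hx
    obtain ⟨d', hd'⟩ := hPι _ (hQ h3)
    rcases d' with a' | c'
    · exfalso
      apply hinvcase a' c
      rw [isConj_iff]
      exact ⟨g⁻¹, by rw [hd']; group⟩
    · set x := ι (sr c) with hxdef
      let w := x⁻¹ * (g * x * g⁻¹)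
      have hw : w = ι (r (c' - c)) := by
        show x⁻¹ * (g * x * g⁻¹) = _
        rw [← hd', hxdef, ← map_inv, ← map_mul, inv_sr, sr_mul_sr]
      have hwX : w ∈ X := (hX _).mpr ⟨Q.mul_mem (Q.inv_mem hx) h3, _, hw⟩
      have hgw : g * w * g⁻¹ = w := by
        have := (Subgroup.mem_centralizer_iff.mp hgc) w hwX
        rw [← this]; group
      have hpow : ∀ k : ℕ, g ^ k * x * (g ^ k)⁻¹ = x * w ^ k := by
        intro k
        induction k with
        | zero => simp
        | succ k ih =>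
          have h4 : g ^ (k + 1) * x * (g ^ (k + 1))⁻¹ = g * (g ^ k * x * (g ^ k)⁻¹) * g⁻¹ := by
            rw [pow_succ']; group
          rw [h4, ih]
          have h5 : g * (x * w ^ k) * g⁻¹ = (g * x * g⁻¹) * (g * w * g⁻¹) ^ k := by
            rw [conj_pow]; group
          rw [h5, hgw, pow_succ']
          show (g * x * g⁻¹) * w ^ k = x * (w * w ^ k)
          have h6 : g * x * g⁻¹ = x * w := by
            show g * x * g⁻¹ = x * (x⁻¹ * (g * x * g⁻¹))
            group
          rw [h6]; group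
      have h5 := hpow (orderOf g)
      rw [pow_orderOf_eq_one] at h5
      have h6 : w ^ orderOf g = 1 := by
        have h7 : x = x * w ^ orderOf g := by simpa using h5
        exact (mul_eq_left.mp h7.symm)
      have h7 : orderOf w ∣ orderOf g := orderOf_dvd_of_pow_eq_one h6
      obtain ⟨t, ht⟩ := (IsPGroup.iff_orderOf.mp hXp) ⟨w, hwX⟩
      rw [Subgroup.orderOf_mk] at ht
      have h8 : orderOf w = 1 := by
        have h9 : Nat.Coprime (orderOf w) (2 ^ t) := Nat.Coprime.pow_right _ (Nat.Coprime.coprime_dvd_left h7 hco)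
        exact Nat.eq_one_of_dvd_coprimes h9 dvd_rfl (ht ▸ dvd_rfl)
      have h9 : w = 1 := orderOf_eq_one_iff.mp h8
      have h10 : g * x * g⁻¹ = x := by
        have : x⁻¹ * (g * x * g⁻¹) = 1 := h9
        have h11 := inv_mul_eq_one.mp this
        exact h11.symm
      rw [mul_inv_eq_iff_eq_mul] at h10
      exact h10.symm

theorem hp_index [NeZero m] (h2 : 2 ∣ m) (i : ZMod 2) : (Lib.DihKlein.Hp h2 i).index = 2 := by
  rw [Subgroup.index_eq_two_iff]
  refine ⟨r 1, ?_⟩
  rintro (c | c)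
  · rw [r_mul_r, Lib.DihKlein.mem_Hp_r, Lib.DihKlein.mem_Hp_r, map_add, map_one]
    generalize ZMod.castHom h2 (ZMod 2) c = u
    revert u; decide
  · rw [sr_mul_r, Lib.DihKlein.mem_Hp_sr, Lib.DihKlein.mem_Hp_sr, map_add, map_one]
    generalize ZMod.castHom h2 (ZMod 2) c = u
    revert u i; decide

theorem case_two [NeZero m] (P : Sylow 2 G) (h2 : 2 ∣ m) {n : ℕ} (hn : 0 < n) (hm : m = 2 * n) (ι : DihedralGroup m →* G) (hι : Function.Injective ι) (hr : ι.range = P)
    (c₀ : ZMod m) (hc₀ : c₀ + c₀ = (n : ZMod m)) (a b : ZMod m) (i : ZMod 2) (ha : ZMod.castHom h2 (ZMod 2) a = i) (hb : ZMod.castHom h2 (ZMod 2) b = i + 1)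
    (hza : IsConj (ι (r (n : ZMod m))) (ι (sr a))) (hzb : ¬ IsConj (ι (r (n : ZMod m))) (ι (sr b))) :
    (∃ N : Subgroup G, N.Normal ∧ N.index = 2) ∧ ∀ N : Subgroup G, N.Normal → N.index ≠ 4 := by
  have hsr : ∀ c, ZMod.castHom h2 (ZMod 2) c = i → IsConj (ι (sr a)) (ι (sr c)) := by
    intro c hc
    obtain ⟨x, hx⟩ := conj_sr h2 c a (by rw [hc, ha])
    rw [isConj_iff]
    exact ⟨ι (r x), by rw [← map_inv, ← map_mul, ← map_mul, hx]⟩
  constructor
  · let Q : Subgroup G := (Lib.DihKlein.Hp h2 i).map ι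
    have hQi : Q.relIndex (P : Subgroup G) = 2 := by
      rw [← hr, ← Subgroup.index_comap, Subgroup.comap_map_eq_self_of_injective hι, hp_index]
    have huP : ι (sr b) ∈ (P : Subgroup G) := by rw [← hr]; exact ⟨_, rfl⟩
    have hu : orderOf (ι (sr b)) = 2 := by rw [orderOf_injective ι hι, orderOf_sr]
    have huQ : ι (sr b) ∉ Q := by
      rintro ⟨d, hd, hde⟩
      have h3 := hι hde
      subst h3
      rw [SetLike.mem_coe, Lib.DihKlein.mem_Hp_sr, hb] at hd
      revert hd
      generalize i = u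
      revert u; decide
    rcases Lib.PThomp.thompson_transfer P Q hQi _ hu huP huQ with ⟨M, hM, hMi, -⟩ | ⟨g, hg⟩
    · exact ⟨M, hM, hMi⟩
    · exfalso
      obtain ⟨d, hd, hde⟩ := hg
      have hconj : IsConj (ι (sr b)) (ι d) := by
        rw [isConj_iff]
        exact ⟨g, hde.symm⟩
      have hod : orderOf d = 2 := by
        rw [← orderOf_injective ι hι, ← conj_orderOf hconj, hu]
      rcases inv_cases hn hm d hod with rfl | ⟨c, rfl⟩
      · exact hzb hconj.symm
      · have h3 : ZMod.castHom h2 (ZMod 2) c = i := hd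
        exact hzb (hza.trans ((hsr c h3).trans hconj.symm))
  · intro N hN hi
    have hc := comm_le N (Or.inr hi)
    have hidx := comap_index P ι hr N 2 (by rw [hi]; norm_num)
    have hZ : ι (r (n : ZMod m)) ∈ N := by
      rw [← hc₀]; exact rot_mem ι N hc c₀
    have hle : Lib.DihKlein.Hp h2 i ≤ N.comap ι := by
      rintro (c | c) hcc
      · have h3 : ZMod.castHom h2 (ZMod 2) c = 0 := hcc
        obtain ⟨x, rfl⟩ := exists_half h2 c h3
        exact rot_mem ι N hc x
      · have h3 : ZMod.castHom h2 (ZMod 2) c = i := hcc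
        exact mem_of_conj N (hza.trans (hsr c h3)) hZ
    have h3 := Subgroup.index_dvd_of_le hle
    rw [hidx, hp_index] at h3
    norm_num at h3

theorem not_conj_of_complement [NeZero m] (P : Sylow 2 G) (h2 : 2 ∣ m) (ι : DihedralGroup m →* G) (hι : Function.Injective ι) (hr : ι.range = P)
    (hnc : Cfsg.HasNormalPComplement 2 G) : ¬ IsConj (ι (sr 0)) (ι (sr 1)) := by
  haveI : Fact (Nat.Prime 2) := ⟨Nat.prime_two⟩
  obtain ⟨N, hNn, hcN, hq⟩ := Lib.PNilp.hasNormalPComplement_iff.mp hnc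
  intro hcon
  have htop : (P : Subgroup G) ⊔ N = ⊤ := by
    obtain ⟨k, hk⟩ := IsPGroup.iff_card.mp hq
    have hi : N.index = 2 ^ k := by rw [Subgroup.index_eq_card, hk]
    have h3 : ((P : Subgroup G) ⊔ N).index ∣ 2 ^ k := hi ▸ Subgroup.index_dvd_of_le le_sup_right
    have h4 : ((P : Subgroup G) ⊔ N).index ∣ (P : Subgroup G).index := Subgroup.index_dvd_of_le le_sup_left
    obtain ⟨j, -, hj⟩ := (Nat.dvd_prime_pow Nat.prime_two).mp h3
    rcases Nat.eq_zero_or_pos j with rfl | hj0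
    · rw [pow_zero] at hj
      exact Subgroup.index_eq_one.mp hj
    · exfalso
      apply P.not_dvd_index
      rw [hj] at h4
      exact (dvd_pow_self 2 (by omega)).trans h4
  obtain ⟨g, hg⟩ := isConj_iff.mp hcon
  have hgm : g ∈ ((P : Subgroup G) ⊔ N : Subgroup G) := by rw [htop]; trivial
  rw [← SetLike.mem_coe, Subgroup.mul_normal, Set.mem_mul] at hgm
  obtain ⟨p, hp, k, hk, rfl⟩ := hgm
  rw [SetLike.mem_coe, ← hr] at hp
  obtain ⟨d, rfl⟩ := hp
  have hk' : k ∈ N := hk
  let y := (ι d)⁻¹ * ι (sr 1) * ι d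
  have hy1 : y = k * ι (sr 0) * k⁻¹ := by
    show (ι d)⁻¹ * ι (sr 1) * ι d = _
    rw [← hg]; group
  let v := y * (ι (sr 0))⁻¹
  have hvN : v ∈ N := by
    show y * (ι (sr 0))⁻¹ ∈ N
    rw [hy1]
    have h3 : k * ι (sr 0) * k⁻¹ * (ι (sr 0))⁻¹ = k * (ι (sr 0) * k⁻¹ * (ι (sr 0))⁻¹) := by group
    rw [h3]
    exact N.mul_mem hk' (hNn.conj_mem _ (N.inv_mem hk') _)
  have hvP : v ∈ ι.range := by
    refine ⟨d⁻¹ * sr 1 * d * (sr 0)⁻¹, ?_⟩
    simp only [v, y, map_mul, map_inv]
  rw [hr] at hvP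
  have hv1 : v = 1 := by
    have h3 : orderOf v ∣ Nat.card N := by
      have := orderOf_dvd_natCard (⟨v, hvN⟩ : N)
      rwa [Subgroup.orderOf_mk] at this
    obtain ⟨t, ht⟩ := (IsPGroup.iff_orderOf.mp P.isPGroup') ⟨v, hvP⟩
    rw [Subgroup.orderOf_mk] at ht
    have h4 : Nat.Coprime (orderOf v) (2 ^ t) := Nat.Coprime.pow_right _ (Nat.Coprime.coprime_dvd_left h3 hcN)
    exact orderOf_eq_one_iff.mp (Nat.eq_one_of_dvd_coprimes h4 dvd_rfl (ht ▸ dvd_rfl))
  have hy2 : y = ι (sr 0) := by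
    have : y * (ι (sr 0))⁻¹ = 1 := hv1
    exact mul_inv_eq_one.mp this
  have h5 : d⁻¹ * sr 1 * d = (sr 0 : DihedralGroup m) := by
    apply hι
    rw [← hy2]
    simp [y, map_mul, map_inv]
  have h6 : (sr 1 : DihedralGroup m) = d * sr 0 * d⁻¹ := by
    rw [← h5]; group
  have h7 : (sr 0 : DihedralGroup m) ∈ Lib.DihKlein.Hp h2 0 := by
    rw [Lib.DihKlein.mem_Hp_sr, map_zero]
  have h8 := (Lib.DihKlein.Hp_normal h2 0).conj_mem _ h7 d
  rw [← h6, Lib.DihKlein.mem_Hp_sr, map_one] at h8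
  exact one_ne_zero h8

end main

/-- Let G be a finite group whose Sylow 2-subgroups are dihedral of order 2 ^ n with n ≥ 3, and count the conjugacy classes of involutions of G. Then exactly one of the following holds: there is one class of involutions and no normal subgroup of index 2; there are two classes of involutions, a normal subgroup of index 2 and none of index 4; there are three classes of involutions and G has a normal 2-complement. -/
theorem result {G : Type*} [Group G] [Finite G] (P : Sylow 2 G) (n : ℕ) (hn : 3 ≤ n) (hdih : Nonempty (↥(P : Subgroup G) ≃* DihedralGroup (2 ^ (n - 1)))) : (Nat.card {C : ConjClasses G // ∃ g : G, ConjClasses.mk g = C ∧ orderOf g = 2} = 1 ∧ ∀ N : Subgroup G, N.Normal → N.index ≠ 2) ∨ (Nat.card {C : ConjClasses G // ∃ g : G, ConjClasses.mk g = C ∧ orderOf g = 2} = 2 ∧ (∃ N : Subgroup G, N.Normal ∧ N.index = 2) ∧ ∀ N : Subgroup G, N.Normal → N.index ≠ 4) ∨ (Nat.card {C : ConjClasses G // ∃ g : G, ConjClasses.mk g = C ∧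 orderOf g = 2} = 3 ∧ Cfsg.HasNormalPComplement 2 G) := by
  classical
  obtain ⟨e⟩ := hdih
  obtain ⟨k, rfl⟩ : ∃ k, n = k + 3 := ⟨n - 3, by omega⟩
  have hm0 : 2 ^ (k + 3 - 1) = 2 * (2 * 2 ^ k) := by
    rw [show k + 3 - 1 = k + 2 by omega, pow_succ, pow_succ]; ring
  set m := 2 ^ (k + 3 - 1) with hmdef
  haveI : NeZero m := ⟨by rw [hmdef]; positivity⟩
  have h2 : 2 ∣ m := ⟨_, hm0⟩
  set t := 2 * 2 ^ k with htdef
  have ht0 : 0 < t := by positivity
  let ι : DihedralGroup m →* G := (P : Subgroup G).subtype.comp e.symm.toMonoidHom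
  have hι : Function.Injective ι := (Subgroup.subtype_injective _).comp e.symm.injective
  have hr : ι.range = P := by
    ext x
    constructor
    · rintro ⟨d, rfl⟩
      exact (e.symm d).2
    · intro hx
      exact ⟨e ⟨x, hx⟩, by simp [ι]⟩
  let c₀ : ZMod m := ((2 ^ k : ℕ) : ZMod m)
  have hc₀ : c₀ + c₀ = (t : ZMod m) := by
    rw [htdef]; push_cast [c₀]; ring
  let Z := ι (r (t : ZMod m))
  let S0 := ι (sr 0)
  let S1 := ι (sr 1)
  have hoZ : orderOf Z = 2 := by rw [orderOf_injective ι hι]; exact order_r_half ht0 hm0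
  have hoS : ∀ c, orderOf (ι (sr c)) = 2 := by
    intro c; rw [orderOf_injective ι hι, orderOf_sr]
  have hsr : ∀ a b : ZMod m, ZMod.castHom h2 (ZMod 2) a = ZMod.castHom h2 (ZMod 2) b → IsConj (ι (sr b)) (ι (sr a)) := by
    intro a b hab
    obtain ⟨x, hx⟩ := conj_sr h2 a b hab
    rw [isConj_iff]
    exact ⟨ι (r x), by rw [← map_inv, ← map_mul, ← map_mul, hx]⟩
  have hsr01 : ∀ c : ZMod m, IsConj S0 (ι (sr c)) ∨ IsConj S1 (ι (sr c)) := by
    intro c
    rcases par_cases h2 c with h3 | h3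
    · left; exact hsr c 0 (by rw [h3, map_zero])
    · right; exact hsr c 1 (by rw [h3, map_one])
  have hcl : {C : ConjClasses G | ∃ g : G, ConjClasses.mk g = C ∧ orderOf g = 2} = {ConjClasses.mk Z, ConjClasses.mk S0, ConjClasses.mk S1} := by
    ext C
    simp only [Set.mem_setOf_eq, Set.mem_insert_iff, Set.mem_singleton_iff]
    constructor
    · rintro ⟨g, rfl, hg⟩
      obtain ⟨d, hd, hcg⟩ := conj_to_P P ι hι hr g hg
      rcases inv_cases ht0 hm0 d hd with rfl | ⟨c, rfl⟩
      · left; exact ConjClasses.mk_eq_mk_iff_isConj.mpr hcg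
      · rcases hsr01 c with h3 | h3
        · right; left; exact ConjClasses.mk_eq_mk_iff_isConj.mpr (hcg.trans h3.symm)
        · right; right; exact ConjClasses.mk_eq_mk_iff_isConj.mpr (hcg.trans h3.symm)
    · rintro (rfl | rfl | rfl)
      · exact ⟨Z, rfl, hoZ⟩
      · exact ⟨S0, rfl, hoS 0⟩
      · exact ⟨S1, rfl, hoS 1⟩
  have hcard : ∀ s : Set (ConjClasses G), {C : ConjClasses G | ∃ g : G, ConjClasses.mk g = C ∧ orderOf g = 2} = s →
      Nat.card {C : ConjClasses G // ∃ g : G, ConjClasses.mk g = C ∧ orderOf g = 2} = s.ncard := by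
    intro s hs
    rw [← hs, ← Nat.card_coe_set_eq]
    rfl
  by_cases hz0 : IsConj Z S0
  · by_cases hz1 : IsConj Z S1
    · left
      constructor
      · rw [hcard {ConjClasses.mk Z} (by
          rw [hcl, ConjClasses.mk_eq_mk_iff_isConj.mpr hz0.symm, ConjClasses.mk_eq_mk_iff_isConj.mpr hz1.symm]
          simp)]
        simp
      · intro N hN hi
        have hc := comm_le N (Or.inl hi)
        have hidx := comap_index P ι hr N 1 (by rw [hi]; norm_num)
        have hZ : Z ∈ N := by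
          show ι (r (t : ZMod m)) ∈ N
          rw [← hc₀]; exact rot_mem ι N hc c₀
        have hS : ∀ c, ι (sr c) ∈ N := by
          intro c
          rcases hsr01 c with h3 | h3
          · exact mem_of_conj N (hz0.trans h3) hZ
          · exact mem_of_conj N (hz1.trans h3) hZ
        have htop : N.comap ι = ⊤ := by
          rw [eq_top_iff]
          rintro (a | a) -
          · have h3 : (r a : DihedralGroup m) = sr 0 * sr a := by rw [sr_mul_sr, sub_zero]
            show ι (r a) ∈ N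
            rw [h3, map_mul]
            exact N.mul_mem (hS 0) (hS a)
          · exact hS a
        rw [htop, Subgroup.index_top] at hidx
        norm_num at hidx
    · right; left
      have h3 : ¬ IsConj S0 S1 := fun h => hz1 (hz0.trans h)
      refine ⟨?_, ?_⟩
      · rw [hcard {ConjClasses.mk Z, ConjClasses.mk S1} (by
          rw [hcl, ConjClasses.mk_eq_mk_iff_isConj.mpr hz0.symm]
          simp)]
        exact Set.ncard_pair (fun h => hz1 (ConjClasses.mk_eq_mk_iff_isConj.mp h))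
      · exact case_two P h2 ht0 hm0 ι hι hr c₀ hc₀ 0 1 0 (map_zero _) (by rw [map_one, zero_add]) hz0 hz1
  · by_cases hz1 : IsConj Z S1
    · right; left
      refine ⟨?_, ?_⟩
      · rw [hcard {ConjClasses.mk Z, ConjClasses.mk S0} (by
          rw [hcl, ConjClasses.mk_eq_mk_iff_isConj.mpr hz1.symm]
          ext C; simp; tauto)]
        exact Set.ncard_pair (fun h => hz0 (ConjClasses.mk_eq_mk_iff_isConj.mp h))
      · exact case_two P h2 ht0 hm0 ι hι hr c₀ hc₀ 1 0 1 (map_one _) (by rw [map_zero]; decide) hz1 hz0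
    · right; right
      have hnc : Cfsg.HasNormalPComplement 2 G := by
        apply case_three P h2 ht0 hm0 ι hι hr
        intro c hc
        rcases hsr01 c with h3 | h3
        · exact hz0 (hc.trans h3.symm)
        · exact hz1 (hc.trans h3.symm)
      refine ⟨?_, hnc⟩
      rw [hcard _ hcl]
      rw [Set.ncard_eq_three]
      refine ⟨_, _, _, ?_, ?_, ?_, rfl⟩
      · exact fun h => hz0 (ConjClasses.mk_eq_mk_iff_isConj.mp h)
      · exact fun h => hz1 (ConjClasses.mk_eq_mk_iff_isConj.mp h)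
      · exact fun h => not_conj_of_complement P h2 ι hι hr hnc (ConjClasses.mk_eq_mk_iff_isConj.mp h)

end Cfsg.Agent.S3864
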