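import Cfsg.Statements.S3868
import Cfsg.Agent.Lib.MinNonClosed
import Cfsg.Agent.Lib.H1Core
import Cfsg.Agent.Lib.FGSBasic
-- import your own Cfsg.Agent.* helpers here

set_option autoImplicit false
open Cfsg

namespace Cfsg.Agent.S3868

open Subgroup

/-- Structure of the non-simple minimal non-p-closed groups. Call a finite group p-closed when its Sylow p-subgroups are normal, and minimal non-p-closed when it is not p-closed but every proper subgroup and every proper quotient is. If such a group G is not simple, then there is a prime q ≠ p such that G has order p · q^e, where e is the multiplicative order of q modulo p, and G has a normal subgroup A of order q^e that is elementary abelian and is a minimal normal subgroup of G (so G is the semidirect product of A by a group of order p acting irreducibly). -/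
theorem result {G : Type*} [Group G] [Finite G] {p : ℕ} [Fact p.Prime]
    (hnc : ¬ Cfsg.IsPClosed p G) (hsub : ∀ H : Subgroup G, H ≠ ⊤ → Cfsg.IsPClosed p ↥H)
    (hquo : ∀ (N : Subgroup G) [N.Normal], N ≠ ⊥ → Cfsg.IsPClosed p (G ⧸ N)) (hns : ¬ IsSimpleGroup G) :
    ∃ q : ℕ, q.Prime ∧ q ≠ p ∧ Nat.card G = p * q ^ orderOf (q : ZMod p) ∧
      ∃ A : Subgroup G, A.Normal ∧ Nat.card ↥A = q ^ orderOf (q : ZMod p) ∧ Cfsg.IsElementaryAbelian q A ∧
        ∀ B : Subgroup G, B.Normal → B ≤ A → B = ⊥ ∨ B = A := by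
  classical
  have hpp : p.Prime := Fact.out
  have hnP : ∀ P : Sylow p G, ¬ (P : Subgroup G).Normal := by
    intro P hP
    apply hnc
    intro Q
    haveI := Sylow.unique_of_normal P hP
    have : Q = P := Subsingleton.elim _ _
    rw [this]; exact hP
  have hA : ∀ N : Subgroup G, N.Normal → N ≠ ⊥ → ∀ P : Sylow p G, (P : Subgroup G) ⊔ N = ⊤ := by
    intro N hN hne P
    by_contra hK
    haveI := hN
    set K := (P : Subgroup G) ⊔ N with hKdef
    let mk := QuotientGroup.mk' N
    have hs : Function.Surjective mk := QuotientGroup.mk'_surjective N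
    have hq := hquo N hne (P.mapSurjective hs)
    rw [Sylow.coe_mapSurjective] at hq
    have hKeq : K = ((P : Subgroup G).map mk).comap mk := by
      rw [Subgroup.comap_map_eq, QuotientGroup.ker_mk']
    have hKn : K.Normal := by rw [hKeq]; exact hq.comap mk
    have hcl := hsub K hK
    have hPK : (P : Subgroup G) ≤ K := le_sup_left
    have hP'n := hcl (P.subtype hPK)
    apply hnP P
    constructor
    intro x hx g
    have hxK : g * x * g⁻¹ ∈ K := hKn.conj_mem x (hPK hx) g
    obtain ⟨k, hk⟩ := IsPGroup.iff_orderOf.mp P.2 ⟨x, hx⟩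
    have ho : orderOf (⟨g * x * g⁻¹, hxK⟩ : K) = p ^ k := by
      rw [Subgroup.orderOf_mk, Lib.FGSBasic.orderOf_conj, ← hk, Subgroup.orderOf_mk]
    have := Lib.FGSBasic.mem_sylow_of_normal (P.subtype hPK) hP'n ⟨k, ho⟩
    exact this
  have hB : ∀ T : Subgroup G, T.Normal → IsPGroup p T → T = ⊥ := by
    intro T hT hTp
    by_contra hne
    obtain ⟨P⟩ : Nonempty (Sylow p G) := inferInstance
    have hTP : T ≤ P := (Lib.H1Core.le_pCore hT hTp).trans (Lib.H1Core.pCore_le_sylow p P)
    have h := hA T hT hne P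
    rw [sup_eq_left.mpr hTP] at h
    apply hnP P
    rw [h]; infer_instance
  have hC : ∀ N : Subgroup G, N.Normal → N ≠ ⊤ → (Nat.card N).Coprime p := by
    intro N hN hne
    haveI := hN
    obtain ⟨Q⟩ : Nonempty (Sylow p N) := inferInstance
    have hQn := hsub N hne Q
    haveI : (Q : Subgroup N).Characteristic := Q.characteristic_of_normal hQn
    have hmapn := Lib.H1Core.normal_map_of_characteristic N (Q : Subgroup N)
    have hmapp : IsPGroup p ((Q : Subgroup N).map N.subtype) := Q.2.map _
    have h0 := hB _ hmapn hmapp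
    have hQ0 : (Q : Subgroup N) = ⊥ := (Subgroup.map_eq_bot_iff_of_injective _ N.subtype_injective).mp h0
    rw [Nat.coprime_comm, Nat.Prime.coprime_iff_not_dvd hpp]
    intro hd
    have := Q.pow_dvd_card_of_pow_dvd_card (n := 1) (by simpa using hd)
    rw [hQ0] at this
    simp at this
    exact hpp.one_lt.ne' this
  have hpG : p ∣ Nat.card G := by
    by_contra hnd
    obtain ⟨P⟩ : Nonempty (Sylow p G) := inferInstance
    apply hnP P
    have h1 : Nat.card (P : Subgroup G) = 1 := by
      obtain ⟨k, hk⟩ := IsPGroup.iff_card.mp P.2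
      apply Nat.eq_one_of_dvd_coprimes (a := p ^ k) (b := Nat.card G)
      · exact Nat.Coprime.pow_left k ((Nat.Prime.coprime_iff_not_dvd hpp).mpr hnd)
      · rw [hk]
      · exact Subgroup.card_subgroup_dvd_card _
    rw [Subgroup.card_eq_one] at h1
    rw [h1]; infer_instance
  haveI hGnt : Nontrivial G := by
    rw [← Finite.one_lt_card_iff_nontrivial]
    exact lt_of_lt_of_le hpp.one_lt (Nat.le_of_dvd Nat.card_pos hpG)
  obtain ⟨N₀, hN₀n, hN₀b, hN₀t⟩ : ∃ N : Subgroup G, N.Normal ∧ N ≠ ⊥ ∧ N ≠ ⊤ := by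
    by_contra h
    push Not at h
    apply hns
    exact ⟨fun N hN => by
      by_cases hb : N = ⊥
      · exact Or.inl hb
      · exact Or.inr (h N hN hb)⟩
  haveI := hN₀n
  have hcardS : ∀ N : Subgroup G, N.Normal → N ≠ ⊥ → N ≠ ⊤ → ∀ P : Sylow p G,
      Nat.card N * Nat.card (P : Subgroup G) = Nat.card G := by
    intro N hN hb ht P
    haveI := hN
    have h1 : (P : Subgroup G) ≤ normalizer (N : Set G) := by
      rw [Subgroup.normalizer_eq_top_iff.mpr hN]; exact le_top
    obtain ⟨k, hk⟩ := IsPGroup.iff_card.mp P.2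
    have h2 : (Nat.card (P : Subgroup G)).Coprime (Nat.card N) := by
      rw [hk]; exact Nat.Coprime.pow_left k (hC N hN ht).symm
    have h3 := Lib.H1Cop.card_sup_of_coprime h1 h2
    rw [sup_comm, hA N hN hb P] at h3
    rw [← h3, Subgroup.card_top]
  have hSyl : ∀ P : Sylow p G, Nat.card (P : Subgroup G) = p := by
    intro P
    have h0 := hcardS N₀ hN₀n hN₀b hN₀t P
    have h1 : Nat.card (P : Subgroup G) = N₀.index := by
      have h2 := N₀.card_mul_index
      rw [← h0] at h2
      exact (Nat.eq_of_mul_eq_mul_left Nat.card_pos h2).symm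
    obtain ⟨k, hk⟩ := IsPGroup.iff_card.mp P.2
    have hk0 : k ≠ 0 := by
      rintro rfl
      rw [hk, pow_zero, eq_comm, Subgroup.index_eq_one] at h1
      exact hN₀t h1
    have hQ : Nat.card (G ⧸ N₀) = p ^ k := by rw [← hk, h1]; rfl
    obtain ⟨n, rfl⟩ := Nat.exists_eq_succ_of_ne_zero hk0
    obtain ⟨M, hM⟩ := Sylow.exists_subgroup_card_pow_prime (G := G ⧸ N₀) p (n := n)
      (by rw [hQ]; exact pow_dvd_pow p (Nat.le_succ n))
    have hMi : M.index = p := by
      have h2 := M.card_mul_index
      rw [hM, hQ, Nat.succ_eq_add_one, pow_succ] at h2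
      exact Nat.eq_of_mul_eq_mul_left (pow_pos hpp.pos n) h2
    have hMn : M.Normal := by
      apply Subgroup.normal_of_index_eq_minFac_card
      rw [hMi, hQ, Nat.Prime.pow_minFac hpp (Nat.succ_ne_zero n)]
    let mk := QuotientGroup.mk' N₀
    have hs : Function.Surjective mk := QuotientGroup.mk'_surjective N₀
    set K := M.comap mk with hK
    have hKi : K.index = p := by rw [hK, Subgroup.index_comap_of_surjective _ hs, hMi]
    have hKn : K.Normal := hMn.comap mk
    have hN₀K : N₀ ≤ K := by
      intro x hx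
      show mk x ∈ M
      have : mk x = 1 := (QuotientGroup.eq_one_iff x).mpr hx
      rw [this]; exact one_mem _
    have hKb : K ≠ ⊥ := by
      intro h
      rw [h] at hN₀K
      exact hN₀b (le_bot_iff.mp hN₀K)
    have hKt : K ≠ ⊤ := by
      intro h
      rw [h, Subgroup.index_top] at hKi
      exact hpp.one_lt.ne hKi
    have h3 := hcardS K hKn hKb hKt P
    have h4 := K.card_mul_index
    rw [hKi, ← h3] at h4
    exact (Nat.eq_of_mul_eq_mul_left Nat.card_pos h4).symm
  have hcard2 : ∀ N : Subgroup G, N.Normal → N ≠ ⊥ → N ≠ ⊤ → Nat.card N * p = Nat.card G := by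
    intro N hN hb ht
    obtain ⟨P⟩ : Nonempty (Sylow p G) := inferInstance
    rw [← hSyl P]
    exact hcardS N hN hb ht P
  have hcopN := hC N₀ hN₀n hN₀t
  have hidx : N₀.index = p := by
    have h1 := N₀.card_mul_index
    rw [← hcard2 N₀ hN₀n hN₀b hN₀t] at h1
    exact Nat.eq_of_mul_eq_mul_left Nat.card_pos h1
  have hmin : ∀ B : Subgroup G, B.Normal → B ≤ N₀ → B = ⊥ ∨ B = N₀ := by
    intro B hBn hBle
    by_cases hBb : B = ⊥
    · exact Or.inl hBb
    · right
      have hBt : B ≠ ⊤ := by
        rintro rfl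
        exact hN₀t (top_le_iff.mp hBle)
      have h1 := hcard2 B hBn hBb hBt
      have h2 := hcard2 N₀ hN₀n hN₀b hN₀t
      have h3 : Nat.card B = Nat.card N₀ := Nat.eq_of_mul_eq_mul_right hpp.pos (h1.trans h2.symm)
      exact Subgroup.eq_of_le_of_card_ge hBle h3.ge
  have hna : ¬ IsMulCommutative G := by
    intro hc
    obtain ⟨P⟩ : Nonempty (Sylow p G) := inferInstance
    apply hnP P
    constructor
    intro x hx g
    have : g * x * g⁻¹ = x := by rw [hc.is_comm.comm g x]; group
    rw [this]; exact hx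
  have hsupP : ∀ (P' R : Subgroup G), Nat.card P' = p → R ≤ N₀ → P' ≤ normalizer (R : Set G) →
      Nat.card (R ⊔ P' : Subgroup G) = Nat.card R * p := by
    intro P' R hP' hR hn
    have h1 : (Nat.card P').Coprime (Nat.card R) := by
      rw [hP']
      exact (Nat.Coprime.coprime_dvd_left (Subgroup.card_dvd_of_le hR) hcopN).symm
    rw [Lib.H1Cop.card_sup_of_coprime hn h1, hP']
  refine Lib.MinNonClosed.assemble N₀ hidx hcopN hN₀b hmin hna ?_ ?_
  · intro P' hP' R hR hne hn
    have hcs := hsupP P' R hP' hR hn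
    set K := R ⊔ P' with hK
    have hKt : K ≠ ⊤ := by
      intro h
      rw [h, Subgroup.card_top] at hcs
      rw [← hcard2 N₀ hN₀n hN₀b hN₀t] at hcs
      have h3 : Nat.card R = Nat.card N₀ := (Nat.eq_of_mul_eq_mul_right hpp.pos hcs).symm
      exact hne (Subgroup.eq_of_le_of_card_ge hR h3.ge)
    have hcl := hsub K hKt
    have hP'K : P' ≤ K := le_sup_right
    have hRK : R ≤ K := le_sup_left
    have hP'p : IsPGroup p (P'.subgroupOf K) := by
      apply IsPGroup.of_card (n := 1)
      rw [pow_one, ← hP']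
      exact Nat.card_congr (Subgroup.subgroupOfEquivOfLe hP'K).toEquiv
    obtain ⟨Q, hQ⟩ := hP'p.exists_le_sylow
    have hQn := hcl Q
    have hRn : (R.subgroupOf K).Normal := by
      apply (Subgroup.normal_subgroupOf_iff_le_normalizer hRK).mpr
      exact sup_le Subgroup.le_normalizer hn
    have hd : Disjoint (Q : Subgroup K) (R.subgroupOf K) := by
      apply Subgroup.disjoint_of_coprime_natCard
      obtain ⟨k, hk⟩ := IsPGroup.iff_card.mp Q.2
      have h1 : Nat.card (R.subgroupOf K) = Nat.card R :=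
        Nat.card_congr (Subgroup.subgroupOfEquivOfLe hRK).toEquiv
      rw [hk, h1]
      exact Nat.Coprime.pow_left k (Nat.Coprime.coprime_dvd_left (Subgroup.card_dvd_of_le hR) hcopN).symm
    intro σ hσ
    rw [mem_centralizer_iff]
    intro r hr
    have h1 := Subgroup.commute_of_normal_of_disjoint _ _ hQn hRn hd
      (⟨σ, hP'K hσ⟩ : K) (⟨r, hRK hr⟩ : K) (hQ hσ) hr
    have h2 : σ * r = r * σ := congrArg Subtype.val h1
    exact h2.symm
  · intro P' hP' hle
    have hcs := hsupP P' N₀ hP' le_rfl (by rw [Subgroup.normalizer_eq_top_iff.mpr hN₀n]; exact le_top)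
    have hsup : N₀ ⊔ P' = ⊤ := by
      rw [← Subgroup.card_eq_iff_eq_top, hcs, hcard2 N₀ hN₀n hN₀b hN₀t]
    have hp'p : IsPGroup p P' := IsPGroup.of_card (n := 1) (by rw [pow_one, hP'])
    obtain ⟨Q, hQ⟩ := hp'p.exists_le_sylow
    have hQc := hSyl Q
    have hQeq : P' = Q := Subgroup.eq_of_le_of_card_ge hQ (by rw [hQc, hP'])
    apply hnP Q
    rw [← hQeq]
    apply Subgroup.normalizer_eq_top_iff.mp
    rw [eq_top_iff, ← hsup]
    apply sup_le _ Subgroup.le_normalizer
    intro n hn
    apply Lib.Herstein.mem_normalizer_of_conj_le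
    intro w hw
    have : n * w = w * n := mem_centralizer_iff.mp (hle hw) n hn
    have h2 : n * w * n⁻¹ = w := by rw [this]; group
    rw [h2]; exact hw

end Cfsg.Agent.S3868
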