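import Cfsg.Statements.S3869
import Cfsg.Agent.Lib.IrrCyclic
import Cfsg.Agent.Lib.FGSBasic
import Cfsg.Agent.Lib.Herstein
-- import your own Cfsg.Agent.* helpers here

set_option autoImplicit false
open Cfsg

namespace Cfsg.Agent.S3869

open Subgroup

theorem normal_of_card_dvd {K : Type*} [Group K] [Finite K] {p : ℕ} [hp : Fact p.Prime] (T : Sylow p K)
    (h : Nat.card K ∣ p) : (T : Subgroup K).Normal := by
  have h1 : (T : Subgroup K).index ∣ Nat.card K := (T : Subgroup K).index_dvd_card
  have h2 : (T : Subgroup K).index ∣ p := h1.trans h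
  have h3 : (T : Subgroup K).index = 1 := by
    rcases (Nat.dvd_prime hp.out).mp h2 with h4 | h4
    · exact h4
    · exfalso
      apply T.not_dvd_index
      rw [h4]
  rw [Subgroup.index_eq_one] at h3
  rw [h3]
  infer_instance

/-- Let p and q be distinct primes and G a finite non-abelian group with a normal elementary abelian q-subgroup A that is a minimal normal subgroup of G and has index p. Then A has order q^e with e the multiplicative order of q modulo p, and G is minimal non-p-closed: its Sylow p-subgroups are not normal, while in every proper subgroup and in every proper quotient of G the Sylow p-subgroups are normal. -/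
theorem result {G : Type*} [Group G] [Finite G] {p q : ℕ} [Fact p.Prime] (hq : q.Prime) (hpq : q ≠ p)
    (hna : ¬ IsMulCommutative G) (A : Subgroup G) [A.Normal] (hA : Cfsg.IsElementaryAbelian q A) (hidx : A.index = p)
    (hmin : ∀ B : Subgroup G, B.Normal → B ≤ A → B = ⊥ ∨ B = A) :
    Nat.card ↥A = q ^ orderOf (q : ZMod p) ∧ ¬ Cfsg.IsPClosed p G ∧ (∀ H : Subgroup G, H ≠ ⊤ → Cfsg.IsPClosed p ↥H) ∧
      ∀ (N : Subgroup G) [N.Normal], N ≠ ⊥ → Cfsg.IsPClosed p (G ⧸ N) := by
  classical
  have hpp : p.Prime := Fact.out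
  haveI : Fact q.Prime := ⟨hq⟩
  have hAc : ∀ a ∈ A, ∀ b ∈ A, a * b = b * a := by
    intro a ha b hb
    have := hA.1.is_comm.comm (⟨a, ha⟩ : A) (⟨b, hb⟩ : A)
    exact congrArg Subtype.val this
  have hAq : IsPGroup q A := fun v => ⟨1, by
    apply Subtype.ext
    simpa using hA.2 v v.2⟩
  obtain ⟨m, hm⟩ := IsPGroup.iff_card.mp hAq
  have hcopqp : q.Coprime p := (Nat.coprime_primes hq hpp).mpr hpq
  have hcop : (Nat.card A).Coprime p := by
    rw [hm]; exact Nat.Coprime.pow_left m hcopqp
  have hcoatom : IsCoatom A := Lib.FGSBasic.isCoatom_of_index_prime A (by rw [hidx]; exact hpp)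
  have hlt : ∀ K : Subgroup G, A ≤ K → ∀ τ ∈ K, τ ∉ A → K = ⊤ := by
    intro K hK τ hτ hτA
    exact hcoatom.2 K (lt_of_le_of_ne hK (fun h => hτA (h ▸ hτ)))
  have hcard : Nat.card A * p = Nat.card G := by rw [← hidx]; exact A.card_mul_index
  have hab : ∀ τ : G, τ ∉ A → (∀ a ∈ A, τ * a = a * τ) → False := by
    intro τ hτ hc
    have hC : centralizer (A : Set G) = ⊤ := by
      apply hlt _ _ τ _ hτ
      · intro a ha
        rw [mem_centralizer_iff]
        intro b hb
        exact hAc b hb a ha
      · rw [mem_centralizer_iff]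
        intro b hb
        exact (hc b hb).symm
    haveI : Fact (Nat.card (G ⧸ A)).Prime := ⟨by
      show (A.index).Prime
      rw [hidx]; exact hpp⟩
    haveI : IsCyclic (G ⧸ A) := isCyclic_of_prime_card rfl
    have hker : (QuotientGroup.mk' A).ker ≤ center G := by
      rw [QuotientGroup.ker_mk']
      intro a ha
      rw [Subgroup.mem_center_iff]
      intro g
      have : g ∈ centralizer (A : Set G) := by rw [hC]; trivial
      exact (mem_centralizer_iff.mp this a ha).symm
    apply hna
    exact ⟨⟨fun a b => commutative_of_cyclic_center_quotient (QuotientGroup.mk' A) hker a b⟩⟩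
  have hnormalB : ∀ B : Subgroup G, B ≤ A → ∀ σ : G, σ ∉ A → (∀ b ∈ B, σ * b * σ⁻¹ ∈ B) → B.Normal := by
    intro B hB σ hσ hinv
    have hN : normalizer (B : Set G) = ⊤ := by
      apply hlt _ _ σ (Lib.Herstein.mem_normalizer_of_conj_le B σ hinv) hσ
      intro a ha
      apply Lib.Herstein.mem_normalizer_of_conj_le
      intro w hw
      have : a * w * a⁻¹ = w := by rw [hAc a ha w (hB hw)]; group
      rw [this]; exact hw
    exact Subgroup.normalizer_eq_top_iff.mp hN
  have hN0 : ∀ N : Subgroup G, N.Normal → N ⊓ A = ⊥ → N = ⊥ := by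
    intro N hN hNA
    by_contra hne
    obtain ⟨τ, hτN, hτ1⟩ := (Subgroup.ne_bot_iff_exists_ne_one.mp hne |>.imp (fun x h => h)) |> fun ⟨x, hx⟩ => (⟨x.1, x.2, fun h => hx (Subtype.ext h)⟩ : ∃ τ, τ ∈ N ∧ τ ≠ 1)
    have hτA : τ ∉ A := by
      intro hτA
      have : τ ∈ N ⊓ A := ⟨hτN, hτA⟩
      rw [hNA] at this
      exact hτ1 this
    apply hab τ hτA
    intro a ha
    have h1 : τ * (a * τ⁻¹ * a⁻¹) ∈ N := N.mul_mem hτN (hN.conj_mem _ (N.inv_mem hτN) a)
    have h2 : (τ * a * τ⁻¹) * a⁻¹ ∈ A := A.mul_mem (‹A.Normal›.conj_mem a ha τ) (A.inv_mem ha)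
    have h3 : τ * (a * τ⁻¹ * a⁻¹) = (τ * a * τ⁻¹) * a⁻¹ := by group
    have h4 : (τ * a * τ⁻¹) * a⁻¹ ∈ N ⊓ A := ⟨h3 ▸ h1, h2⟩
    rw [hNA] at h4
    have h5 : (τ * a * τ⁻¹) * a⁻¹ = 1 := h4
    calc τ * a = ((τ * a * τ⁻¹) * a⁻¹) * (a * τ) := by group
      _ = a * τ := by rw [h5, one_mul]
  -- element of order p
  have hpG : p ∣ Nat.card G := ⟨Nat.card A, by rw [← hcard, mul_comm]⟩
  obtain ⟨σ, hσ⟩ := exists_prime_orderOf_dvd_card' p hpG
  have hσA : σ ∉ A := by
    intro h
    have h1 : orderOf σ ∣ Nat.card A := Subgroup.orderOf_dvd_natCard A h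
    rw [hσ] at h1
    have h2 := Nat.Coprime.eq_one_of_dvd hcop.symm h1
    exact hpp.one_lt.ne' h2
  have hAne : A ≠ ⊥ := by
    rintro h
    apply hab σ hσA
    intro a ha
    rw [h] at ha
    have : a = 1 := ha
    simp [this]
  refine ⟨?_, ?_, ?_, ?_⟩
  · -- the order of `A`
    haveI hAnt : Nontrivial A := (Subgroup.nontrivial_iff_ne_bot A).mpr hAne
    letI hAC : CommGroup A := { (inferInstance : Group A) with
      mul_comm := fun a b => Subtype.ext (hAc a a.2 b b.2) }
    let τ : MulAut A := MulAut.conjNormal σ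
    have hτa : ∀ a : A, (τ a : G) = σ * a * σ⁻¹ := fun a => MulAut.conjNormal_apply σ a
    refine Lib.IrrCyclic.card_irred (V := A) hq hpq τ ?_ ?_ ?_ ?_
    · have : (MulAut.conjNormal σ : MulAut A) ^ p = MulAut.conjNormal (σ ^ p) := (map_pow _ _ _).symm
      show (MulAut.conjNormal σ : MulAut A) ^ p = 1
      rw [this, ← hσ, pow_orderOf_eq_one, map_one]
    · intro hτ1
      apply hab σ hσA
      intro a ha
      have h1 := hτa ⟨a, ha⟩
      rw [hτ1] at h1
      have h2 : a = σ * a * σ⁻¹ := h1
      calc σ * a = (σ * a * σ⁻¹) * σ := by group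
        _ = a * σ := by rw [← h2]
    · intro v
      exact Subtype.ext (hA.2 v v.2)
    · intro B hB
      have hmap : B.map A.subtype ≤ A := Subgroup.map_subtype_le _
      have hn := hnormalB _ hmap σ hσA (by
        rintro _ ⟨b, hb, rfl⟩
        exact ⟨τ b, hB b hb, (hτa b)⟩)
      rcases hmin _ hn hmap with h | h
      · left
        apply Subgroup.map_injective A.subtype_injective
        rw [h, Subgroup.map_bot]
      · right
        apply Subgroup.map_injective A.subtype_injective
        rw [h, ← MonoidHom.range_eq_map, Subgroup.range_subtype]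
  · intro hcl
    obtain ⟨P⟩ : Nonempty (Sylow p G) := inferInstance
    have hPn := hcl P
    have hd : (P : Subgroup G) ⊓ A = ⊥ := by
      have : Disjoint (P : Subgroup G) A := by
        apply Subgroup.disjoint_of_coprime_natCard
        obtain ⟨k, hk⟩ := IsPGroup.iff_card.mp P.2
        rw [hk]
        exact Nat.Coprime.pow_left k hcop.symm
      exact this.eq_bot
    have hb := hN0 _ hPn hd
    have hdvd : p ^ 1 ∣ Nat.card (P : Subgroup G) := P.pow_dvd_card_of_pow_dvd_card (by simpa using hpG)
    rw [hb] at hdvd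
    simp at hdvd
    exact hpp.one_lt.ne' hdvd
  · intro H hH T
    by_cases hHA : H ≤ A
    · have h1 : Nat.card (T : Subgroup H) ∣ Nat.card H := Subgroup.card_subgroup_dvd_card _
      have h2 : Nat.card H ∣ Nat.card A := Subgroup.card_dvd_of_le hHA
      obtain ⟨k, hk⟩ := IsPGroup.iff_card.mp T.2
      have h3 : Nat.card (T : Subgroup H) = 1 := by
        apply Nat.eq_one_of_dvd_coprimes (a := p ^ k) (b := Nat.card A)
        · rw [Nat.coprime_comm]
          exact Nat.Coprime.pow_right k hcop
        · rw [hk]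
        · exact h1.trans h2
      rw [Subgroup.card_eq_one] at h3
      rw [h3]
      infer_instance
    · obtain ⟨τ, hτH, hτA⟩ := Set.not_subset.mp hHA
      have hsup : H ⊔ A = ⊤ := hlt _ le_sup_right τ (Subgroup.mem_sup_left hτH) hτA
      have hNorm : (H ⊓ A).Normal := by
        apply Subgroup.normalizer_eq_top_iff.mp
        rw [eq_top_iff, ← hsup]
        apply sup_le
        · intro h hh
          apply Lib.Herstein.mem_normalizer_of_conj_le
          intro w hw
          exact ⟨H.mul_mem (H.mul_mem hh hw.1) (H.inv_mem hh), ‹A.Normal›.conj_mem w hw.2 h⟩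
        · intro a ha
          apply Lib.Herstein.mem_normalizer_of_conj_le
          intro w hw
          have : a * w * a⁻¹ = w := by rw [hAc a ha w hw.2]; group
          rw [this]; exact hw
      have hbot : H ⊓ A = ⊥ := by
        rcases hmin _ hNorm inf_le_right with h | h
        · exact h
        · exfalso
          have hAH : A ≤ H := by rw [← h]; exact inf_le_left
          exact hH (hlt H hAH τ hτH hτA)
      -- `H` embeds in `G/A`
      have hinj : Function.Injective ((QuotientGroup.mk' A).comp H.subtype) := by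
        rw [injective_iff_map_eq_one]
        intro x hx
        have h1 : (x : G) ∈ A := (QuotientGroup.eq_one_iff _).mp hx
        have h2 : (x : G) ∈ H ⊓ A := ⟨x.2, h1⟩
        rw [hbot] at h2
        exact Subtype.ext h2
      have h2 := Subgroup.card_dvd_of_injective _ hinj
      apply normal_of_card_dvd
      refine h2.trans ?_
      show A.index ∣ p
      rw [hidx]
  · intro N hNn hNne T
    have hne : N ⊓ A ≠ ⊥ := fun h => hNne (hN0 N hNn h)
    have hNA : N ⊓ A = A := by
      rcases hmin (N ⊓ A) (Subgroup.normal_inf_normal N A) inf_le_right with h | h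
      · exact absurd h hne
      · exact h
    have hAN : A ≤ N := by rw [← hNA]; exact inf_le_left
    apply normal_of_card_dvd
    have : N.index ∣ A.index := Subgroup.index_dvd_of_le hAN
    rw [hidx] at this
    exact this

end Cfsg.Agent.S3869
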