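import Cfsg.Statements.S3870
import Cfsg.Agent.Lib.PNilp
import Cfsg.Agent.Lib.FGSBasic
-- import your own Cfsg.Agent.* helpers here

set_option autoImplicit false
open Cfsg

namespace Cfsg.Agent.S3870

theorem mem_of_p_in_closed {H : Type*} [Group H] [Finite H] {p : ℕ} [Fact p.Prime]
    (hH : Cfsg.IsPClosed p H) (S : Sylow p H) (A : Subgroup H) (hA : IsPGroup p A) : A ≤ (S : Subgroup H) := by
  obtain ⟨Q, hQ⟩ := hA.exists_le_sylow
  haveI : (S : Subgroup H).Normal := hH S
  haveI := S.unique_of_normal (hH S)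
  rw [Subsingleton.elim S Q]
  exact hQ

theorem ti_aux {G : Type*} [Group G] [Finite G] [IsSimpleGroup G] {p : ℕ} [Fact p.Prime]
    (hnc : ¬ Cfsg.IsPClosed p G) (hsub : ∀ H : Subgroup G, H ≠ ⊤ → Cfsg.IsPClosed p ↥H) (D : Subgroup G) :
    D ≠ ⊥ → ∀ P Q : Sylow p G, D ≤ (P : Subgroup G) → D ≤ (Q : Subgroup G) → P = Q := by
  induction D using WellFoundedGT.induction with
  | ind D ih =>
    intro hD P Q hP hQ
    have hPtop : ∀ T : Sylow p G, (T : Subgroup G) ≠ ⊤ := by
      intro T hT
      apply hnc
      intro T'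
      have hn : (T : Subgroup G).Normal := by
        rw [hT]
        infer_instance
      haveI := T.unique_of_normal hn
      rw [Subsingleton.elim T' T]
      exact hn
    have hDtop : D ≠ ⊤ := fun h => hPtop P (top_le_iff.1 (h ▸ hP))
    have hNtop : Subgroup.normalizer (D : Set G) ≠ ⊤ := by
      intro h
      have hn : D.Normal := Subgroup.normalizer_eq_top_iff.1 h
      exact (hn.eq_bot_or_eq_top).elim hD hDtop
    let N := Subgroup.normalizer (D : Set G)
    have hcl := hsub N hNtop
    obtain ⟨S⟩ : Nonempty (Sylow p ↥N) := inferInstance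
    let S' : Subgroup G := (S : Subgroup ↥N).map N.subtype
    have hS'p : IsPGroup p S' := S.isPGroup'.map _
    have hincl : ∀ T : Sylow p G, (T : Subgroup G) ⊓ N ≤ S' := by
      intro T x hx
      obtain ⟨hxT, hxN⟩ := Subgroup.mem_inf.1 hx
      have h1 : IsPGroup p ↥((T : Subgroup G).subgroupOf N) := T.isPGroup'.comap_subtype
      have h2 := mem_of_p_in_closed hcl S _ h1
      exact ⟨⟨x, hxN⟩, h2 hxT, rfl⟩
    obtain ⟨T, hT⟩ := hS'p.exists_le_sylow
    have heq : ∀ R : Sylow p G, D ≤ (R : Subgroup G) → R = T := by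
      intro R hR
      by_cases hlt : D < (R : Subgroup G)
      · have h1 := Lib.PNilp.lt_inf_normalizer (p := p) (R : Subgroup G) D R.isPGroup' hlt
        apply ih _ h1 (fun h => hD (le_bot_iff.1 (h ▸ h1.le))) R T inf_le_left
        exact (hincl R).trans hT
      · have hDR : D = (R : Subgroup G) := by
          by_contra hne
          exact hlt (lt_of_le_of_ne hR hne)
        have h1 : (R : Subgroup G) ≤ (T : Subgroup G) := by
          rw [← hDR]
          exact (le_inf hR Subgroup.le_normalizer).trans ((hincl R).trans hT)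
        apply Sylow.ext
        exact (R.is_maximal' T.isPGroup' h1).symm
    exact (heq P hP).trans (heq Q hQ).symm

/-- Let G be a finite simple group whose Sylow p-subgroups are not normal but such that every proper subgroup of G has a normal Sylow p-subgroup. Then any two distinct Sylow p-subgroups of G intersect trivially, and for every Sylow p-subgroup P the normalizer of every non-identity subgroup of P lies in the normalizer of P. -/
theorem result {G : Type*} [Group G] [Finite G] [IsSimpleGroup G] {p : ℕ} [Fact p.Prime]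
    (hnc : ¬ Cfsg.IsPClosed p G) (hsub : ∀ H : Subgroup G, H ≠ ⊤ → Cfsg.IsPClosed p ↥H) :
    (∀ P Q : Sylow p G, P ≠ Q → (P : Subgroup G) ⊓ (Q : Subgroup G) = ⊥) ∧
      ∀ (P : Sylow p G) (R : Subgroup G), R ≤ P → R ≠ ⊥ →
        Subgroup.normalizer (R : Set G) ≤ Subgroup.normalizer ((P : Subgroup G) : Set G) := by
  refine ⟨?_, ?_⟩
  · intro P Q hne
    by_contra hD
    exact hne (ti_aux hnc hsub _ hD P Q inf_le_left inf_le_right)
  · intro P R hRP hR g hg
    have hPtop : ∀ T : Sylow p G, (T : Subgroup G) ≠ ⊤ := by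
      intro T hT
      apply hnc
      intro T'
      have hn : (T : Subgroup G).Normal := by
        rw [hT]
        infer_instance
      haveI := T.unique_of_normal hn
      rw [Subsingleton.elim T' T]
      exact hn
    have hRtop : R ≠ ⊤ := fun h => hPtop P (top_le_iff.1 (h ▸ hRP))
    have hNtop : Subgroup.normalizer (R : Set G) ≠ ⊤ := by
      intro h
      have hn : R.Normal := Subgroup.normalizer_eq_top_iff.1 h
      exact (hn.eq_bot_or_eq_top).elim hR hRtop
    let N := Subgroup.normalizer (R : Set G)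
    have hcl := hsub N hNtop
    obtain ⟨S⟩ : Nonempty (Sylow p ↥N) := inferInstance
    let S' : Subgroup G := (S : Subgroup ↥N).map N.subtype
    have hS'p : IsPGroup p S' := S.isPGroup'.map _
    obtain ⟨T, hT⟩ := hS'p.exists_le_sylow
    have hRp : IsPGroup p R := P.isPGroup'.to_le hRP
    have hRS' : R ≤ S' := by
      intro x hx
      have h1 : IsPGroup p ↥(R.subgroupOf N) := hRp.comap_subtype
      have h2 := mem_of_p_in_closed hcl S _ h1
      exact ⟨⟨x, Subgroup.le_normalizer hx⟩, h2 hx, rfl⟩
    have hTP : T = P := ti_aux hnc hsub R hR T P (hRS'.trans hT) hRP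
    have hS'P : S' ≤ (P : Subgroup G) := hTP ▸ hT
    -- `g` normalizes `S'`
    haveI hSn : (S : Subgroup ↥N).Normal := hcl S
    have hgS : ∀ x ∈ S', g⁻¹ * x * g ∈ S' := by
      rintro _ ⟨y, hy, rfl⟩
      have h1 := hSn.conj_mem y hy (⟨g, hg⟩ : ↥N)⁻¹
      exact ⟨_, h1, by simp⟩
    have hRgP : R ≤ ((g • P : Sylow p G) : Subgroup G) := by
      intro x hx
      rw [Lib.FGSBasic.mem_smul_sylow_iff]
      exact hS'P (hgS x (hRS' hx))
    have hgP := ti_aux hnc hsub R hR (g • P) P hRgP hRP
    exact (Sylow.smul_eq_iff_mem_normalizer).1 hgP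

end Cfsg.Agent.S3870
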