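import Cfsg.Statements.S4209
import Mathlib
import Cfsg.Agent.Lib.FGSBasic
-- import your own Cfsg.Agent.* helpers here

set_option autoImplicit false
open Cfsg

namespace Cfsg.Agent.S4209

open scoped commutatorElement

section LL
variable {𝔾 : Type*} [Group 𝔾] (S : 𝔾 →* 𝔾) (V : ℕ → Subgroup 𝔾)

def D (f : 𝔾) : 𝔾 := f⁻¹ * S f

def R : ℕ → ℕ → 𝔾 → Prop
  | 0, j, f => f ∈ V j
  | n + 1, j, f => f ∈ V j ∧ R n (j + 1) (D S f) ∧ R n (j + 1) (D S (f⁻¹))

def Q (j : ℕ) (f : 𝔾) : Prop := ∀ n, R S V n j f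

variable {S V}

theorem Q_iff {j : ℕ} {f : 𝔾} :
    Q S V j f ↔ f ∈ V j ∧ Q S V (j + 1) (D S f) ∧ Q S V (j + 1) (D S (f⁻¹)) := by
  constructor
  · intro h
    have h1 : f ∈ V j := h 0
    exact ⟨h1, fun n => (h (n + 1)).2.1, fun n => (h (n + 1)).2.2⟩
  · rintro ⟨h1, h2, h3⟩ n
    cases n with
    | zero => exact h1
    | succ n => exact ⟨h1, h2 n, h3 n⟩

theorem Q_mem {j : ℕ} {f : 𝔾} (h : Q S V j f) : f ∈ V j := (Q_iff.1 h).1

theorem Q_D {j : ℕ} {f : 𝔾} (h : Q S V j f) : Q S V (j + 1) (D S f) := (Q_iff.1 h).2.1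

theorem Q_inv {j : ℕ} {f : 𝔾} (h : Q S V j f) : Q S V j f⁻¹ := by
  obtain ⟨h1, h2, h3⟩ := Q_iff.1 h
  refine Q_iff.2 ⟨inv_mem h1, h3, ?_⟩
  rwa [inv_inv]

theorem Q_one {j : ℕ} : Q S V j (1 : 𝔾) := by
  intro n
  induction n generalizing j with
  | zero => exact one_mem _
  | succ n ih =>
    have h1 : D S (1 : 𝔾) = 1 := by simp [D]
    refine ⟨one_mem _, ?_, ?_⟩
    · rw [h1]; exact ih
    · rw [inv_one, h1]; exact ih

theorem R_anti (hV : ∀ j, V (j + 1) ≤ V j) {n i j : ℕ} {f : 𝔾} (hij : i ≤ j) (h : R S V n j f) :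
    R S V n i f := by
  have hanti : Antitone V := antitone_nat_of_succ_le hV
  induction n generalizing i j f with
  | zero => exact hanti hij h
  | succ n ih =>
    exact ⟨hanti hij h.1, ih (by omega) h.2.1, ih (by omega) h.2.2⟩

theorem Q_anti (hV : ∀ j, V (j + 1) ≤ V j) {i j : ℕ} {f : 𝔾} (hij : i ≤ j) (h : Q S V j f) :
    Q S V i f := fun n => R_anti hV hij (h n)

theorem id_comm (a b u v : 𝔾) : ⁅a, b⁆⁻¹ * ⁅a * u, b * v⁆ =
    (b * (a * (b⁻¹ * (a⁻¹ * (a * (⁅u, b⁆ * (b * ⁅u, v⁆ * b⁻¹)) * a⁻¹) * a⁻¹⁻¹) * b⁻¹⁻¹) * a⁻¹) * b⁻¹) *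
      (b * ⁅a, v⁆ * b⁻¹) := by
  simp only [commutatorElement_def]
  group

theorem LL_main (hV : ∀ j, V (j + 1) ≤ V j)
    (hc : ∀ i k x y, x ∈ V i → y ∈ V k → ⁅x, y⁆ ∈ V (i + k)) (N₀ : ℕ)
    (htop : ∀ j, N₀ ≤ j → V j = ⊥) : ∀ d : ℕ,
    (∀ (L : ℕ) (f g : 𝔾), N₀ ≤ L + d → Q S V L f → Q S V L g → Q S V L (f * g)) ∧
    (∀ (i k : ℕ) (f g : 𝔾), N₀ ≤ i + k + d → Q S V i f → Q S V k g → Q S V (i + k) ⁅f, g⁆) := by
  intro d
  induction d with
  | zero =>
    constructor
    · intro L f g hL hf hg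
      have h1 := Q_mem hf
      have h2 := Q_mem hg
      rw [htop L hL, Subgroup.mem_bot] at h1 h2
      rw [h1, h2, mul_one]
      exact Q_one
    · intro i k f g hL hf hg
      have h1 := hc i k f g (Q_mem hf) (Q_mem hg)
      rw [htop (i + k) (by omega), Subgroup.mem_bot] at h1
      rw [h1]
      exact Q_one
  | succ d ih =>
    obtain ⟨M, C⟩ := ih
    have conj : ∀ (i l : ℕ) (a s : 𝔾), N₀ ≤ i + l + d → N₀ ≤ l + d → Q S V i a → Q S V l s →
        Q S V l (a * s * a⁻¹) := by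
      intro i l a s h1 h2 ha hs
      have h3 := C i l a s h1 ha hs
      have h4 : Q S V l ⁅a, s⁆ := Q_anti hV (by omega) h3
      have h5 : a * s * a⁻¹ = ⁅a, s⁆ * s := by
        rw [commutatorElement_def]; group
      rw [h5]
      exact M l _ _ h2 h4 hs
    have key_comm : ∀ (i k : ℕ) (f g : 𝔾), N₀ ≤ i + k + (d + 1) → Q S V i f → Q S V k g →
        Q S V (i + k + 1) (D S ⁅f, g⁆) := by
      intro i k f g hN hf hg
      have hu : Q S V (i + 1) (D S f) := Q_D hf
      have hv : Q S V (k + 1) (D S g) := Q_D hg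
      have hfi := Q_inv hf
      have hgi := Q_inv hg
      set u := D S f with hu_def
      set v := D S g with hv_def
      have c1 : Q S V (i + k + 1) ⁅u, g⁆ := by
        have := C (i + 1) k u g (by omega) hu hg
        rwa [show i + 1 + k = i + k + 1 by omega] at this
      have c2 : Q S V (i + k + 1) ⁅u, v⁆ :=
        Q_anti hV (by omega) (C (i + 1) (k + 1) u v (by omega) hu hv)
      have c3 : Q S V (i + k + 1) ⁅f, v⁆ := C i (k + 1) f v (by omega) hf hv
      have t2 := conj k (i + k + 1) g _ (by omega) (by omega) hg c2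
      have t1 := M (i + k + 1) _ _ (by omega) c1 t2
      have X := conj i (i + k + 1) f _ (by omega) (by omega) hf t1
      have Y := conj k (i + k + 1) g _ (by omega) (by omega) hg c3
      have X1 := conj i (i + k + 1) f⁻¹ _ (by omega) (by omega) hfi X
      have X2 := conj k (i + k + 1) g⁻¹ _ (by omega) (by omega) hgi X1
      have X3 := conj i (i + k + 1) f _ (by omega) (by omega) hf X2
      have X4 := conj k (i + k + 1) g _ (by omega) (by omega) hg X3
      have e1 : S f = f * u := by rw [hu_def, D, mul_inv_cancel_left]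
      have e2 : S g = g * v := by rw [hv_def, D, mul_inv_cancel_left]
      have e3 : D S ⁅f, g⁆ = ⁅f, g⁆⁻¹ * ⁅f * u, g * v⁆ := by
        rw [D, map_commutatorElement, e1, e2]
      rw [e3, id_comm]
      exact M (i + k + 1) _ _ (by omega) X4 Y
    have key_mult : ∀ (L : ℕ) (f g : 𝔾), N₀ ≤ L + (d + 1) → Q S V L f → Q S V L g →
        Q S V (L + 1) (D S (f * g)) := by
      intro L f g hN hf hg
      have hu : Q S V (L + 1) (D S f) := Q_D hf
      have hv : Q S V (L + 1) (D S g) := Q_D hg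
      have h1 := conj L (L + 1) g⁻¹ _ (by omega) (by omega) (Q_inv hg) hu
      have h2 := M (L + 1) _ _ (by omega) h1 hv
      have e : D S (f * g) = g⁻¹ * D S f * g⁻¹⁻¹ * D S g := by
        simp only [D, map_mul]
        group
      rw [e]
      exact h2
    constructor
    · intro L f g hN hf hg
      refine Q_iff.2 ⟨mul_mem (Q_mem hf) (Q_mem hg), key_mult L f g hN hf hg, ?_⟩
      rw [mul_inv_rev]
      exact key_mult L g⁻¹ f⁻¹ hN (Q_inv hg) (Q_inv hf)
    · intro i k f g hN hf hg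
      refine Q_iff.2 ⟨hc i k f g (Q_mem hf) (Q_mem hg), key_comm i k f g hN hf hg, ?_⟩
      rw [commutatorElement_inv]
      have := key_comm k i g f (by omega) hg hf
      rwa [show k + i + 1 = i + k + 1 by omega] at this

end LL

section Seq
variable {K : Type*} [Group K]

def shiftHom (K : Type*) [Group K] : (ℕ → K) →* (ℕ → K) where
  toFun f m := f (m + 1)
  map_one' := rfl
  map_mul' _ _ := rfl

def VV (Γ : ℕ → Subgroup K) (j : ℕ) : Subgroup (ℕ → K) where
  carrier := {f | ∀ m, f m ∈ Γ j}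
  mul_mem' ha hb m := mul_mem (ha m) (hb m)
  one_mem' _ := one_mem _
  inv_mem' ha m := inv_mem (ha m)

theorem mem_VV {Γ : ℕ → Subgroup K} {j : ℕ} {f : ℕ → K} : f ∈ VV Γ j ↔ ∀ m, f m ∈ Γ j := Iff.rfl

def ee (g : K) (r : ℕ) : ℕ → K := fun m => g ^ (m.choose r)

theorem D_apply (f : ℕ → K) (m : ℕ) : D (shiftHom K) f m = (f m)⁻¹ * f (m + 1) := rfl

theorem D_ee (g : K) (r : ℕ) : D (shiftHom K) (ee g (r + 1)) = ee g r := by
  funext m
  rw [D_apply]
  change (g ^ (m.choose (r + 1)))⁻¹ * g ^ ((m + 1).choose (r + 1)) = g ^ (m.choose r)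
  rw [Nat.choose_succ_succ' m r, Nat.add_comm (m.choose r), pow_add, inv_mul_cancel_left]

theorem ee_inv (g : K) (r : ℕ) : (ee g r)⁻¹ = ee g⁻¹ r := by
  funext m
  simp [ee, inv_pow]

theorem ee_Q {Γ : ℕ → Subgroup K} (hΓ : ∀ j, Γ (j + 1) ≤ Γ j) : ∀ (r j : ℕ) (g : K), g ∈ Γ (j + r) →
    Q (shiftHom K) (VV Γ) j (ee g r) := by
  have hanti : Antitone Γ := antitone_nat_of_succ_le hΓ
  intro r
  induction r with
  | zero =>
    intro j g hg
    have h1 : D (shiftHom K) (ee g 0) = 1 := by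
      funext m
      rw [D_apply]
      simp [ee]
    have h2 : D (shiftHom K) ((ee g 0)⁻¹) = 1 := by
      funext m
      rw [D_apply]
      simp [ee]
    refine Q_iff.2 ⟨fun m => ?_, ?_, ?_⟩
    · simpa [ee] using hg
    · rw [h1]; exact Q_one
    · rw [h2]; exact Q_one
  | succ r ih =>
    intro j g hg
    refine Q_iff.2 ⟨fun m => ?_, ?_, ?_⟩
    · exact hanti (by omega) (Subgroup.pow_mem _ hg _)
    · rw [D_ee]
      refine ih (j + 1) g ?_
      rwa [show j + 1 + r = j + (r + 1) by omega]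
    · rw [ee_inv, D_ee]
      refine ih (j + 1) g⁻¹ (inv_mem ?_)
      rwa [show j + 1 + r = j + (r + 1) by omega]

theorem vanish_mem {Γ : ℕ → Subgroup K} : ∀ (r j : ℕ) (f : ℕ → K), Q (shiftHom K) (VV Γ) j f →
    (∀ m < r, f m = 1) → f r ∈ Γ (j + r) := by
  intro r
  induction r with
  | zero =>
    intro j f hf _
    exact (Q_mem hf) 0
  | succ r ih =>
    intro j f hf hv
    have h1 := ih (j + 1) _ (Q_D hf) (by
      intro m hm
      rw [D_apply, hv m (by omega), hv (m + 1) (by omega)]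
      simp)
    rw [D_apply, hv r (by omega), inv_one, one_mul] at h1
    rwa [show j + (r + 1) = j + 1 + r by omega]

theorem all_one {Γ : ℕ → Subgroup K} {p r : ℕ} (hΓp : ∀ j, p ≤ j → Γ j = ⊥) (hr : p ≤ r)
    {f : ℕ → K} (hf : Q (shiftHom K) (VV Γ) 0 f) (hv : ∀ m < r, f m = 1) (m : ℕ) : f m = 1 := by
  induction m using Nat.strong_induction_on with
  | _ m ih =>
    by_cases hm : m < r
    · exact hv m hm
    · have h1 := vanish_mem m 0 f hf ih
      rw [hΓp _ (by omega), Subgroup.mem_bot] at h1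
      exact h1

theorem peel {Γ : ℕ → Subgroup K} (hΓ : ∀ j, Γ (j + 1) ≤ Γ j)
    (hQmul : ∀ (L : ℕ) (f g : ℕ → K), Q (shiftHom K) (VV Γ) L f → Q (shiftHom K) (VV Γ) L g →
      Q (shiftHom K) (VV Γ) L (f * g))
    (Ω : Subgroup K) (M p : ℕ) (hΓp : ∀ j, p ≤ j → Γ j = ⊥)
    (hΩ : ∀ (r : ℕ) (g : K), 2 ≤ r → r < p → g ∈ Γ r → g ^ (M.choose r) ∈ Ω) :
    ∀ (d r : ℕ) (f : ℕ → K), p ≤ r + d → 2 ≤ r → Q (shiftHom K) (VV Γ) 0 f →
      (∀ m < r, f m = 1) → f M ∈ Ω := by
  intro d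
  induction d with
  | zero =>
    intro r f hr _ hf hv
    rw [all_one hΓp (by omega) hf hv M]
    exact one_mem _
  | succ d ih =>
    intro r f hr h2 hf hv
    by_cases hrp : p ≤ r
    · rw [all_one hΓp hrp hf hv M]
      exact one_mem _
    · have hg : f r ∈ Γ r := by
        have := vanish_mem r 0 f hf hv
        rwa [zero_add] at this
      set g := f r with hg_def
      have hee : Q (shiftHom K) (VV Γ) 0 (ee g r) := ee_Q hΓ r 0 g (by rwa [zero_add])
      have hf' := hQmul 0 _ _ (Q_inv hee) hf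
      have h3 := ih (r + 1) _ (by omega) (by omega) hf' (by
        intro m hm
        have e1 : ((ee g r)⁻¹ * f) m = (ee g r m)⁻¹ * f m := rfl
        rw [e1]
        rcases Nat.lt_succ_iff_lt_or_eq.1 hm with h4 | h4
        · simp [ee, hv m h4, Nat.choose_eq_zero_of_lt h4]
        · subst h4
          simp [ee, ← hg_def])
      have e2 : ((ee g r)⁻¹ * f) M = (g ^ M.choose r)⁻¹ * f M := rfl
      rw [e2] at h3
      have h5 := hΩ r g h2 (by omega) hg
      have h6 := mul_mem h5 h3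
      rwa [mul_inv_cancel_left] at h6

end Seq

section Gam
variable (K : Type*) [Group K]

def Gam : ℕ → Subgroup K
  | 0 => ⊤
  | k + 1 => (⊤ : Subgroup K).lowerCentralSeries k

variable {K}

theorem Gam_anti (j : ℕ) : Gam K (j + 1) ≤ Gam K j := by
  cases j with
  | zero => exact le_top
  | succ j => exact Subgroup.lowerCentralSeries_antitone _ (Nat.le_succ j)

instance lcs_normal' (k : ℕ) : ((⊤ : Subgroup K).lowerCentralSeries k).Normal := inferInstance

theorem comm_gamma (i : ℕ) : ∀ k : ℕ, ⁅(⊤ : Subgroup K).lowerCentralSeries i,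
    (⊤ : Subgroup K).lowerCentralSeries k⁆ ≤ (⊤ : Subgroup K).lowerCentralSeries (i + k + 1) := by
  induction i with
  | zero =>
    intro k
    rw [zero_add, Subgroup.lowerCentralSeries_zero, Subgroup.commutator_comm]
    exact le_refl _
  | succ i ih =>
    intro k
    have e : i + 1 + k + 1 = i + (k + 1) + 1 := by omega
    rw [Subgroup.lowerCentralSeries_succ, e]
    refine Cfsg.Agent.Lib.FGSBasic.three_subgroups _ _ _ _ ?_ ?_
    · rw [Subgroup.commutator_comm ⊤, ← Subgroup.lowerCentralSeries_succ, Subgroup.commutator_comm]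
      exact ih (k + 1)
    · rw [Subgroup.commutator_comm ((⊤ : Subgroup K).lowerCentralSeries k)]
      rw [show i + (k + 1) + 1 = (i + k + 1) + 1 by omega, Subgroup.lowerCentralSeries_succ]
      exact Subgroup.commutator_mono (ih k) (le_refl _)

theorem Gam_comm (i k : ℕ) (x y : K) (hx : x ∈ Gam K i) (hy : y ∈ Gam K k) :
    ⁅x, y⁆ ∈ Gam K (i + k) := by
  cases i with
  | zero =>
    cases k with
    | zero => exact Subgroup.mem_top _
    | succ k =>
      haveI : (Gam K (k + 1)).Normal := lcs_normal' k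
      rw [zero_add]
      exact Subgroup.commutator_le_right _ _ (Subgroup.commutator_mem_commutator (Subgroup.mem_top x) hy)
  | succ i =>
    cases k with
    | zero =>
      haveI : (Gam K (i + 1)).Normal := lcs_normal' i
      change ⁅x, y⁆ ∈ Gam K (i + 1)
      exact Subgroup.commutator_le_left _ _ (Subgroup.commutator_mem_commutator hx (Subgroup.mem_top y))
    | succ k =>
      have h1 := comm_gamma i k (Subgroup.commutator_mem_commutator hx hy)
      change ⁅x, y⁆ ∈ (⊤ : Subgroup K).lowerCentralSeries (i + 1 + k)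
      rwa [show i + 1 + k = i + k + 1 by omega]

theorem VV_comm (i k : ℕ) (x y : ℕ → K) (hx : x ∈ VV (Gam K) i) (hy : y ∈ VV (Gam K) k) :
    ⁅x, y⁆ ∈ VV (Gam K) (i + k) := fun m => Gam_comm i k _ _ (hx m) (hy m)

theorem VV_anti (j : ℕ) : VV (Gam K) (j + 1) ≤ VV (Gam K) j := fun _ hf m => Gam_anti j (hf m)

theorem hall_main {p : ℕ} (hp : 2 ≤ p) (n : ℕ) (htop : (⊤ : Subgroup K).lowerCentralSeries (p - 1) = ⊥)
    (hdvd : ∀ r, 2 ≤ r → r < p → p ^ n ∣ (p ^ n).choose r) (x y : K) :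
    (x ^ (p ^ n) * y ^ (p ^ n))⁻¹ * (x * y) ^ (p ^ n) ∈
      Cfsg.powerClosure p n (Gam K 2) := by
  have hΓp : ∀ j, p ≤ j → Gam K j = ⊥ := by
    intro j hj
    have h1 : Gam K p = ⊥ := by
      obtain ⟨q, rfl⟩ : ∃ q, p = q + 1 := ⟨p - 1, by omega⟩
      exact htop
    have hanti : Antitone (Gam K) := antitone_nat_of_succ_le Gam_anti
    exact le_bot_iff.1 (h1 ▸ hanti hj)
  have hVtop : ∀ j, p ≤ j → VV (Gam K) j = ⊥ := by
    intro j hj
    rw [eq_bot_iff]
    intro f hf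
    rw [Subgroup.mem_bot]
    funext m
    have := hf m
    rw [hΓp j hj, Subgroup.mem_bot] at this
    exact this
  have hmul : ∀ (L : ℕ) (f g : ℕ → K), Q (shiftHom K) (VV (Gam K)) L f →
      Q (shiftHom K) (VV (Gam K)) L g → Q (shiftHom K) (VV (Gam K)) L (f * g) := by
    intro L f g hf hg
    exact (LL_main VV_anti VV_comm p hVtop p).1 L f g (by omega) hf hg
  have hΩ : ∀ (r : ℕ) (g : K), 2 ≤ r → r < p → g ∈ Gam K r →
      g ^ ((p ^ n).choose r) ∈ Cfsg.powerClosure p n (Gam K 2) := by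
    intro r g h2 hr hg
    obtain ⟨t, ht⟩ := hdvd r h2 hr
    have hanti : Antitone (Gam K) := antitone_nat_of_succ_le Gam_anti
    have hg2 : g ^ t ∈ Gam K 2 := Subgroup.pow_mem _ (hanti h2 hg) _
    rw [ht, mul_comm, pow_mul]
    exact Subgroup.subset_closure ⟨_, hg2, rfl⟩
  have hQ1 : ∀ g : K, Q (shiftHom K) (VV (Gam K)) 0 (ee g 1) := fun g =>
    ee_Q Gam_anti 1 0 g (Subgroup.mem_top g)
  have hf₀ := hmul 0 _ _ (Q_inv (hmul 0 _ _ (hQ1 x) (hQ1 y))) (hQ1 (x * y))
  have h := peel Gam_anti hmul _ (p ^ n) p hΓp hΩ p 2 _ (by omega) (le_refl _) hf₀ (by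
    intro m hm
    interval_cases m <;> simp [ee])
  simpa [ee] using h

end Gam

theorem dvd_choose {p : ℕ} (hp : p.Prime) (n r : ℕ) (h1 : 1 ≤ r) (h2 : r < p) :
    p ^ n ∣ (p ^ n).choose r := by
  have hpos : 0 < p ^ n := pow_pos hp.pos n
  obtain ⟨M, hM⟩ : ∃ M, p ^ n = M + 1 := ⟨p ^ n - 1, by omega⟩
  obtain ⟨s, rfl⟩ : ∃ s, r = s + 1 := ⟨r - 1, by omega⟩
  have hcop : Nat.Coprime (p ^ n) (s + 1) := by
    refine Nat.Coprime.pow_left n ((Nat.Prime.coprime_iff_not_dvd hp).2 fun h => ?_)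
    have := Nat.le_of_dvd (by omega) h
    omega
  have h3 : (M + 1) * M.choose s = (M + 1).choose (s + 1) * (s + 1) := Nat.add_one_mul_choose_eq M s
  rw [hM] at hcop ⊢
  exact hcop.dvd_of_dvd_mul_right ⟨M.choose s, h3.symm⟩

/-- A finite `p`-group of nilpotency class less than `p` (the term of index `p - 1` of the lower central series of the whole group, indexed from `0`, is trivial) is a regular `p`-group. -/
theorem result {G : Type*} [Group G] [Finite G] {p : ℕ} [Fact p.Prime] (hG : IsPGroup p G) (hcl : (⊤ : Subgroup G).lowerCentralSeries (p - 1) = ⊥) : Cfsg.IsRegularPGroup p G := by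
  haveI hfp := (inferInstance : Fact p.Prime)
  have hp2 : 2 ≤ p := hfp.out.two_le
  refine ⟨hG, fun a b n => ?_⟩
  let H : Subgroup G := Subgroup.closure ({a, b} : Set G)
  have ha : a ∈ H := Subgroup.subset_closure (by simp)
  have hb : b ∈ H := Subgroup.subset_closure (by simp)
  -- the series of `H` embeds in that of `G`
  have hemb : ∀ (i : ℕ) (z : H), z ∈ (⊤ : Subgroup H).lowerCentralSeries i →
      (z : G) ∈ (⊤ : Subgroup G).lowerCentralSeries i := by
    intro i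
    induction i with
    | zero => intro z _; exact Subgroup.mem_top _
    | succ i ih =>
      intro z hz
      have h1 : (⊤ : Subgroup H).lowerCentralSeries (i + 1) ≤
          ((⊤ : Subgroup G).lowerCentralSeries (i + 1)).comap H.subtype := by
        rw [Subgroup.lowerCentralSeries_succ, Subgroup.commutator_le]
        intro g₁ hg₁ g₂ _
        rw [Subgroup.mem_comap, map_commutatorElement]
        exact Subgroup.commutator_mem_commutator (ih g₁ hg₁) (Subgroup.mem_top _)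
      exact h1 hz
  have htop : (⊤ : Subgroup H).lowerCentralSeries (p - 1) = ⊥ := by
    rw [eq_bot_iff]
    intro z hz
    have h1 := hemb _ z hz
    rw [hcl, Subgroup.mem_bot] at h1
    exact Subgroup.mem_bot.2 (Subtype.ext h1)
  have hmain := hall_main hp2 n htop
    (fun r h1 h2 => dvd_choose hfp.out n r (by omega) h2) (⟨a, ha⟩ : H) (⟨b, hb⟩ : H)
  set c' := ((⟨a, ha⟩ : H) ^ (p ^ n) * (⟨b, hb⟩ : H) ^ (p ^ n))⁻¹ * ((⟨a, ha⟩ : H) * ⟨b, hb⟩) ^ (p ^ n)
    with hc'
  have hmap : Cfsg.powerClosure p n (Gam H 2) ≤ (Cfsg.powerClosure p n ⁅H, H⁆).comap H.subtype := by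
    rw [Cfsg.powerClosure, Subgroup.closure_le]
    rintro _ ⟨z, hz, rfl⟩
    have hz' : (z : G) ∈ ⁅H, H⁆ := by
      have h1 : Gam H 2 ≤ (⁅H, H⁆).comap H.subtype := by
        change ⁅(⊤ : Subgroup H).lowerCentralSeries 0, (⊤ : Subgroup H)⁆ ≤ _
        rw [Subgroup.commutator_le]
        intro g₁ _ g₂ _
        rw [Subgroup.mem_comap, map_commutatorElement]
        exact Subgroup.commutator_mem_commutator g₁.2 g₂.2
      exact h1 hz
    have h9 : ((z ^ (p ^ n) : H) : G) ∈ Cfsg.powerClosure p n ⁅H, H⁆ := by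
      rw [Subgroup.coe_pow]
      exact Subgroup.subset_closure ⟨_, hz', rfl⟩
    exact h9
  refine ⟨(c' : G), hmap hmain, ?_⟩
  have e : ((⟨a, ha⟩ : H) * ⟨b, hb⟩) ^ (p ^ n) = (⟨a, ha⟩ : H) ^ (p ^ n) * (⟨b, hb⟩ : H) ^ (p ^ n) * c' := by
    rw [hc', mul_inv_cancel_left]
  have e' := congrArg (Subtype.val) e
  simpa using e'

end Cfsg.Agent.S4209
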