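import Cfsg.Statements.S3872
import Mathlib
import Cfsg.Agent.S4209
import Cfsg.Agent.Lib.H1Quat
import Cfsg.Agent.Lib.PGrp2
import Cfsg.Agent.Lib.FGSBasic
-- import your own Cfsg.Agent.* helpers here

set_option autoImplicit false
open Cfsg

namespace Cfsg.Agent.S3872

open scoped commutatorElement

section
variable {G : Type*} [Group G] [Finite G] {p : ℕ} [hfp : Fact p.Prime]

theorem card_lt (hG : IsPGroup p G) {H K : Subgroup G} (hle : H ≤ K) (hne : H ≠ K) :
    p * Nat.card H ≤ Nat.card K := by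
  obtain ⟨t, ht⟩ := Subgroup.card_dvd_of_le hle
  have hpos : 0 < Nat.card K := Nat.card_pos
  have ht1 : t ≠ 1 := by
    rintro rfl
    rw [mul_one] at ht
    exact hne (Subgroup.eq_of_le_of_card_ge hle ht.le)
  obtain ⟨k, hk⟩ := IsPGroup.iff_card.1 (hG.to_subgroup K)
  have htd : t ∣ p ^ k := by rw [← hk, ht]; exact Dvd.intro_left _ rfl
  obtain ⟨j, -, rfl⟩ := (Nat.dvd_prime_pow hfp.out).1 htd
  have hj : j ≠ 0 := by
    rintro rfl
    exact ht1 (pow_zero p)
  have hle2 : p ≤ p ^ j := by
    calc p = p ^ 1 := (pow_one p).symm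
      _ ≤ p ^ j := Nat.pow_le_pow_right hfp.out.pos (by omega)
  rw [ht, mul_comm]
  exact Nat.mul_le_mul_left _ hle2

theorem closed_sub (hsub : ∀ K : Subgroup G, K ≠ ⊤ →
      (∃ H : Subgroup ↥K, (H : Set ↥K) = {g : ↥K | g ^ p = 1})) {K : Subgroup G} (hK : K ≠ ⊤)
    {x y : G} (hx : x ∈ K) (hy : y ∈ K) (hxp : x ^ p = 1) (hyp : y ^ p = 1) : (x * y) ^ p = 1 := by
  obtain ⟨H, hH⟩ := hsub K hK
  have hmem : ∀ g : K, g ∈ H ↔ g ^ p = 1 := fun g => by
    have := Set.ext_iff.1 hH g
    simpa using this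
  have h1 : (⟨x, hx⟩ : K) ∈ H := (hmem _).2 (Subtype.ext (by simpa using hxp))
  have h2 : (⟨y, hy⟩ : K) ∈ H := (hmem _).2 (Subtype.ext (by simpa using hyp))
  have h3 := (hmem _).1 (mul_mem h1 h2)
  simpa using congrArg Subtype.val h3

theorem exp_of_normalClosure (hsub : ∀ K : Subgroup G, K ≠ ⊤ →
      (∃ H : Subgroup ↥K, (H : Set ↥K) = {g : ↥K | g ^ p = 1})) (x : G) (hx : x ^ p = 1)
    (hne : Subgroup.normalClosure ({x} : Set G) ≠ ⊤) :
    ∀ g ∈ Subgroup.normalClosure ({x} : Set G), g ^ p = 1 := by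
  set M := Subgroup.normalClosure ({x} : Set G) with hM
  obtain ⟨H, hH⟩ := hsub M hne
  have hmem : ∀ g : M, g ∈ H ↔ g ^ p = 1 := fun g => by
    have := Set.ext_iff.1 hH g
    simpa using this
  have h1 : M ≤ H.map M.subtype := by
    change Subgroup.closure (Group.conjugatesOfSet ({x} : Set G)) ≤ _
    rw [Subgroup.closure_le]
    intro y hy
    obtain ⟨b, hb, hby⟩ := Group.mem_conjugatesOfSet_iff.1 hy
    rw [Set.mem_singleton_iff] at hb
    subst hb
    have hyM : y ∈ M := Subgroup.conjugatesOfSet_subset_normalClosure hy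
    have hyp : y ^ p = 1 := by
      obtain ⟨c, rfl⟩ := isConj_iff.1 hby
      rw [conj_pow, hx]
      simp
    exact ⟨⟨y, hyM⟩, (hmem _).2 (Subtype.ext (by simpa using hyp)), rfl⟩
  intro g hg
  obtain ⟨h, hh, rfl⟩ := h1 hg
  have := (hmem h).1 hh
  exact congrArg Subtype.val this

end

/-- Say that a finite group is p-exponent closed when its elements of order dividing p form a subgroup. Let G be a finite p-group that is not p-exponent closed, but all of whose proper subgroups and proper quotients are. Then G is generated by two elements, has nilpotency class at least p, has exponent p², has cyclic center, and has order at least p^(p+1). -/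
theorem result {G : Type*} [Group G] [Finite G] {p : ℕ} [Fact p.Prime] (hG : IsPGroup p G)
    (hnc : ¬ (∃ H : Subgroup G, (H : Set G) = {g : G | g ^ p = 1})) (hsub : ∀ K : Subgroup G, K ≠ ⊤ → (∃ H : Subgroup ↥K, (H : Set ↥K) = {g : ↥K | g ^ p = 1}))
    (hquo : ∀ (N : Subgroup G) [N.Normal], N ≠ ⊥ → (∃ H : Subgroup (G ⧸ N), (H : Set (G ⧸ N)) = {g : (G ⧸ N) | g ^ p = 1})) :
    (∃ x y : G, Subgroup.closure ({x, y} : Set G) = ⊤) ∧ (⊤ : Subgroup G).lowerCentralSeries (p - 1) ≠ ⊥ ∧
      Monoid.exponent G = p ^ 2 ∧ IsCyclic ↥(Subgroup.center G) ∧ p ^ (p + 1) ≤ Nat.card G := by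
  have hp := (inferInstance : Fact p.Prime).out
  obtain ⟨a, b, ha, hb, hab⟩ : ∃ a b : G, a ^ p = 1 ∧ b ^ p = 1 ∧ (a * b) ^ p ≠ 1 := by
    by_contra hno
    push Not at hno
    apply hnc
    refine ⟨{ carrier := {g | g ^ p = 1}
              mul_mem' := fun {x y} hx hy => hno x y hx hy
              one_mem' := one_pow p
              inv_mem' := fun {x} hx => ?_ }, rfl⟩
    change (x⁻¹) ^ p = 1
    have hx' : x ^ p = 1 := hx
    rw [inv_pow, hx', inv_one]
  have hgen : Subgroup.closure ({a, b} : Set G) = ⊤ := by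
    by_contra hne
    exact hab (closed_sub hsub hne (Subgroup.subset_closure (by simp))
      (Subgroup.subset_closure (by simp)) ha hb)
  have hncyc : ¬ IsCyclic G := by
    intro hc
    apply hab
    have h1 : Commute a b := (IsCyclic.commGroup (α := G)).mul_comm a b
    rw [h1.mul_pow, ha, hb, one_mul]
  have hzneq : ∀ x : G, Subgroup.normalClosure ({x} : Set G) ≠ ⊤ := by
    intro x h
    have h1 : Subgroup.zpowers x ≠ ⊤ := fun e => hncyc (isCyclic_iff_exists_zpowers_eq_top.2 ⟨x, e⟩)
    obtain ⟨M, hM, hxM⟩ := (eq_top_or_exists_le_coatom (Subgroup.zpowers x)).resolve_left h1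
    obtain ⟨hn, -, -⟩ := Cfsg.Agent.Lib.PGrp.coatom_index_of_isPGroup hG hM
    have h2 := Subgroup.normalClosure_le_normal (N := M) (s := {x})
      (by simpa using hxM (Subgroup.mem_zpowers x))
    rw [h] at h2
    exact hM.1 (top_le_iff.1 h2)
  set M₁ := Subgroup.normalClosure ({a} : Set G) with hM₁_def
  have hM₁ := exp_of_normalClosure hsub a ha (hzneq a)
  have haM : a ∈ M₁ := Subgroup.subset_normalClosure (by simp)
  let π := QuotientGroup.mk' M₁
  have hπa : π a = 1 := (QuotientGroup.eq_one_iff a).2 haM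
  have hzp : ∀ g, π g ∈ Subgroup.zpowers (π b) := by
    have h1 : Subgroup.closure ({a, b} : Set G) ≤ (Subgroup.zpowers (π b)).comap π := by
      rw [Subgroup.closure_le]
      rintro x (rfl | rfl)
      · have h0 : π x ∈ Subgroup.zpowers (π b) := by rw [hπa]; exact one_mem _
        exact h0
      · exact Subgroup.mem_zpowers (π x)
    intro g
    exact h1 (hgen ▸ Subgroup.mem_top g)
  have hπb : π b ^ p = 1 := by rw [← map_pow, hb, map_one]
  have hgp : ∀ g : G, g ^ p ∈ M₁ := by
    intro g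
    obtain ⟨k, hk⟩ := Subgroup.mem_zpowers_iff.1 (hzp g)
    have h1 : π (g ^ p) = 1 := by
      rw [map_pow, ← hk, ← zpow_natCast, ← zpow_mul, mul_comm, zpow_mul, zpow_natCast, hπb, one_zpow]
    exact (QuotientGroup.eq_one_iff _).1 h1
  have hcomm_le : ∀ x y : G, ⁅x, y⁆ ∈ M₁ := by
    intro x y
    obtain ⟨k, hk⟩ := Subgroup.mem_zpowers_iff.1 (hzp x)
    obtain ⟨l, hl⟩ := Subgroup.mem_zpowers_iff.1 (hzp y)
    have h1 : π ⁅x, y⁆ = 1 := by
      rw [map_commutatorElement, ← hk, ← hl, commutatorElement_eq_one_iff_mul_comm]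
      exact ((Commute.refl (π b)).zpow_zpow k l).eq
    exact (QuotientGroup.eq_one_iff _).1 h1
  have hg2 : ∀ g : G, g ^ (p ^ 2) = 1 := by
    intro g
    rw [pow_two, pow_mul]
    exact hM₁ _ (hgp g)
  have hclass : (⊤ : Subgroup G).lowerCentralSeries (p - 1) ≠ ⊥ := by
    intro hcl
    obtain ⟨-, hreg⟩ := S4209.result hG hcl
    obtain ⟨c, hc, habc⟩ := hreg a b 1
    have hc1 : c = 1 := by
      have h0 : Cfsg.powerClosure p 1 ⁅Subgroup.closure ({a, b} : Set G),
          Subgroup.closure ({a, b} : Set G)⁆ ≤ ⊥ := by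
        rw [Cfsg.powerClosure, Subgroup.closure_le]
        rintro _ ⟨x, hx, rfl⟩
        rw [hgen] at hx
        have h1 : ⁅(⊤ : Subgroup G), (⊤ : Subgroup G)⁆ ≤ M₁ := by
          rw [Subgroup.commutator_le]
          intro g₁ _ g₂ _
          exact hcomm_le g₁ g₂
        have h2 := hM₁ x (h1 hx)
        rw [pow_one, h2]
        exact one_mem (⊥ : Subgroup G)
      exact Subgroup.mem_bot.1 (h0 hc)
    rw [hc1, pow_one, ha, hb] at habc
    simp at habc
    exact hab habc
  -- the central quotient computation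
  have hwz : ∀ z ∈ Subgroup.center G, z ≠ 1 → (a * b) ^ p ∈ Subgroup.zpowers z := by
    intro z hz hz1
    have hN : Subgroup.zpowers z ≤ Subgroup.center G := (Subgroup.zpowers_le).2 hz
    haveI : (Subgroup.zpowers z).Normal := ⟨fun x hx g => by
      have h1 := Subgroup.mem_center_iff.1 (hN hx) g
      rw [h1, mul_inv_cancel_right]
      exact hx⟩
    have hNne : Subgroup.zpowers z ≠ ⊥ := Subgroup.zpowers_ne_bot.2 hz1
    obtain ⟨H, hH⟩ := hquo _ hNne
    have hmem : ∀ g : G ⧸ Subgroup.zpowers z, g ∈ H ↔ g ^ p = 1 := fun g => by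
      have := Set.ext_iff.1 hH g
      simpa using this
    have h1 : ((a : G) : G ⧸ Subgroup.zpowers z) ∈ H := (hmem _).2 (by
      rw [← QuotientGroup.mk_pow, ha, QuotientGroup.mk_one])
    have h2 : ((b : G) : G ⧸ Subgroup.zpowers z) ∈ H := (hmem _).2 (by
      rw [← QuotientGroup.mk_pow, hb, QuotientGroup.mk_one])
    have h3 := (hmem _).1 (mul_mem h1 h2)
    rw [← QuotientGroup.mk_mul, ← QuotientGroup.mk_pow] at h3
    exact (QuotientGroup.eq_one_iff _).1 h3
  have hkey : ∀ H : Subgroup (Subgroup.center G), Nat.card H = p →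
      ∃ hw : (a * b) ^ p ∈ Subgroup.center G, H = Subgroup.zpowers ⟨(a * b) ^ p, hw⟩ := by
    intro H hH
    have hne : H ≠ ⊥ := by
      intro e
      rw [e] at hH
      simp at hH
      exact hp.one_lt.ne hH
    obtain ⟨h, hhH, hh1⟩ := H.bot_or_exists_ne_one.resolve_left hne
    have hh1' : (h : G) ≠ 1 := fun e => hh1 (Subtype.ext e)
    obtain ⟨k, hk⟩ := Subgroup.mem_zpowers_iff.1 (hwz h h.2 hh1')
    have hw : (a * b) ^ p ∈ Subgroup.center G := by
      rw [← hk]
      exact zpow_mem h.2 k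
    refine ⟨hw, ?_⟩
    have hw' : (⟨(a * b) ^ p, hw⟩ : Subgroup.center G) = h ^ k := Subtype.ext (by
      change (a * b) ^ p = ((h ^ k : Subgroup.center G) : G)
      rw [Subgroup.coe_zpow]; exact hk.symm)
    have hwH : (⟨(a * b) ^ p, hw⟩ : Subgroup.center G) ∈ H := by
      rw [hw']; exact zpow_mem hhH k
    have hle : Subgroup.zpowers (⟨(a * b) ^ p, hw⟩ : Subgroup.center G) ≤ H :=
      (Subgroup.zpowers_le).2 hwH
    have hd := Subgroup.card_dvd_of_le hle
    rw [Nat.card_zpowers, hH] at hd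
    have ho : orderOf (⟨(a * b) ^ p, hw⟩ : Subgroup.center G) ≠ 1 := by
      intro e
      rw [orderOf_eq_one_iff] at e
      exact hab (congrArg Subtype.val e)
    have ho2 := (Nat.dvd_prime hp).1 hd |>.resolve_left ho
    refine (Subgroup.eq_of_le_of_card_ge hle ?_).symm
    rw [Nat.card_zpowers, ho2, hH]
  have hZcyc : IsCyclic (Subgroup.center G) := by
    have hZp : IsPGroup p (Subgroup.center G) := hG.to_subgroup _
    haveI : Fact p.Prime := ⟨hp⟩
    rcases Cfsg.Agent.Lib.H1Quat.cyclic_or_quaternion p hZp (by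
      intro H K hH hK
      obtain ⟨hw, h1⟩ := hkey H hH
      obtain ⟨hw', h2⟩ := hkey K hK
      rw [h1, h2]) with h | ⟨-, n, ⟨e⟩⟩
    · exact h
    · cases n with
      | zero =>
        haveI : IsCyclic (QuaternionGroup (2 ^ 0)) := QuaternionGroup.quaternionGroup_one_isCyclic
        exact isCyclic_of_surjective e.symm e.symm.surjective
      | succ n =>
        exfalso
        have hc : ∀ x y : QuaternionGroup (2 ^ (n + 1)), x * y = y * x := by
          intro x y
          have h1 : e.symm x * e.symm y = e.symm y * e.symm x := Subtype.ext (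
            Subgroup.mem_center_iff.1 (e.symm y).2 (e.symm x : G))
          apply e.symm.injective
          rw [map_mul, map_mul, h1]
        have h1 := hc (QuaternionGroup.a 1) (QuaternionGroup.xa 0)
        rw [QuaternionGroup.a_mul_xa, QuaternionGroup.xa_mul_a, QuaternionGroup.xa.injEq] at h1
        have h2 : ((2 : ℕ) : ZMod (2 * 2 ^ (n + 1))) = 0 := by
          have : (1 : ZMod (2 * 2 ^ (n + 1))) + 1 = 0 := by
            have h3 : (0 : ZMod (2 * 2 ^ (n + 1))) - 1 = 0 + 1 := h1
            rw [zero_sub, zero_add] at h3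
            calc (1 : ZMod (2 * 2 ^ (n + 1))) + 1 = -1 + 1 := by rw [h3]
              _ = 0 := neg_add_cancel 1
          push_cast
          rw [← this]; norm_num
        rw [ZMod.natCast_eq_zero_iff] at h2
        have h3 := Nat.le_of_dvd (by norm_num) h2
        have h4 : 2 ≤ 2 ^ (n + 1) := by
          calc 2 = 2 ^ 1 := rfl
            _ ≤ 2 ^ (n + 1) := Nat.pow_le_pow_right (by norm_num) (by omega)
        omega
  -- the order bound
  have hnil : Group.IsNilpotent G := hG.isNilpotent
  obtain ⟨N, hN⟩ := nilpotent_iff_lowerCentralSeries.1 hnil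
  have hanti := Subgroup.lowerCentralSeries_antitone (⊤ : Subgroup G)
  have hstrict : ∀ i, (⊤ : Subgroup G).lowerCentralSeries i ≠ ⊥ →
      (⊤ : Subgroup G).lowerCentralSeries (i + 1) ≠ (⊤ : Subgroup G).lowerCentralSeries i := by
    intro i hi heq
    have h1 : ∀ k, (⊤ : Subgroup G).lowerCentralSeries (i + k) = (⊤ : Subgroup G).lowerCentralSeries i := by
      intro k
      induction k with
      | zero => rfl
      | succ k ih =>
        rw [← add_assoc, Subgroup.lowerCentralSeries_succ, ih, ← Subgroup.lowerCentralSeries_succ, heq]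
    apply hi
    rw [← h1 N]
    exact le_bot_iff.1 (hN ▸ hanti (Nat.le_add_left N i))
  have hne_le : ∀ i, i ≤ p - 1 → (⊤ : Subgroup G).lowerCentralSeries i ≠ ⊥ := by
    intro i hi e
    apply hclass
    exact le_bot_iff.1 (e ▸ hanti hi)
  have hcards : ∀ k i, i + k = p - 1 → p ^ (k + 1) ≤ Nat.card ((⊤ : Subgroup G).lowerCentralSeries i) := by
    intro k
    induction k with
    | zero =>
      intro i hi
      have h1 := card_lt hG (bot_le (a := (⊤ : Subgroup G).lowerCentralSeries i)) (hne_le i (by omega)).symm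
      simpa using h1
    | succ k ih =>
      intro i hi
      have h1 := ih (i + 1) (by omega)
      have h2 := card_lt hG (hanti (Nat.le_succ i)) (hstrict i (hne_le i (by omega)))
      rw [pow_succ, mul_comm]
      exact (Nat.mul_le_mul_left p h1).trans h2
  have hidx : p ^ 2 ≤ ((⊤ : Subgroup G).lowerCentralSeries 1).index := by
    obtain ⟨k, hk⟩ := IsPGroup.iff_card.1 hG
    have hd : ((⊤ : Subgroup G).lowerCentralSeries 1).index ∣ p ^ k := by
      rw [← hk]; exact Subgroup.index_dvd_card _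
    obtain ⟨j, -, hj⟩ := (Nat.dvd_prime_pow hp).1 hd
    rw [hj]
    refine Nat.pow_le_pow_right hp.pos ?_
    by_contra hj2
    have hj01 : j = 0 ∨ j = 1 := by omega
    have h0ne : (⊤ : Subgroup G).lowerCentralSeries 0 ≠ ⊥ := hne_le 0 (by omega)
    rcases hj01 with rfl | rfl
    · rw [pow_zero, Subgroup.index_eq_one] at hj
      exact hstrict 0 h0ne hj
    · rw [pow_one] at hj
      have hco : IsCoatom ((⊤ : Subgroup G).lowerCentralSeries 1) :=
        Cfsg.Agent.Lib.FGSBasic.isCoatom_of_index_prime _ (by rw [hj]; exact hp)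
      obtain ⟨x, hx⟩ : ∃ x, x ∉ (⊤ : Subgroup G).lowerCentralSeries 1 := by
        by_contra hall
        push Not at hall
        exact hco.1 (eq_top_iff.2 fun y _ => hall y)
      have h3 : Subgroup.zpowers x ⊔ (⊤ : Subgroup G).lowerCentralSeries 1 = ⊤ := by
        apply hco.2
        refine lt_of_le_of_ne le_sup_right fun e => hx ?_
        rw [e]
        exact Subgroup.mem_sup_left (Subgroup.mem_zpowers x)
      have h4 : (⊤ : Subgroup G).lowerCentralSeries 1 ≤ frattini G := by
        rw [Subgroup.top_lowerCentralSeries_one]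
        exact Cfsg.Agent.Lib.PGrp.commutator_le_frattini hG
      have h5 : Subgroup.zpowers x ⊔ frattini G = ⊤ :=
        top_le_iff.1 (h3 ▸ sup_le_sup_left h4 _)
      have h6 := frattini_nongenerating h5
      exact hncyc (isCyclic_iff_exists_zpowers_eq_top.2 ⟨x, h6⟩)
  refine ⟨⟨a, b, hgen⟩, hclass, ?_, hZcyc, ?_⟩
  · have h1 : Monoid.exponent G ∣ p ^ 2 := Monoid.exponent_dvd_of_forall_pow_eq_one hg2
    obtain ⟨j, hj, hje⟩ := (Nat.dvd_prime_pow hp).1 h1
    by_contra hne
    have hj1 : j ≤ 1 := by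
      by_contra hj2
      have : j = 2 := by omega
      subst this
      exact hne hje
    apply hab
    have h2 : (a * b) ^ (p ^ j) = 1 := by
      rw [← hje]; exact Monoid.pow_exponent_eq_one _
    have h3 : p ^ j ∣ p := by
      calc p ^ j ∣ p ^ 1 := pow_dvd_pow p hj1
        _ = p := pow_one p
    obtain ⟨t, ht⟩ := h3
    rw [ht, pow_mul, h2, one_pow]
  · have h1 := hcards (p - 2) 1 (by have := hp.two_le; omega)
    have h2 := Subgroup.card_mul_index ((⊤ : Subgroup G).lowerCentralSeries 1)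
    have h3 : p ^ (p + 1) = p ^ (p - 2 + 1) * p ^ 2 := by
      rw [← pow_add]
      congr 1
      have := hp.two_le
      omega
    rw [h3, ← h2]
    exact Nat.mul_le_mul h1 hidx

end Cfsg.Agent.S3872
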