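import Cfsg.Statements.S3873
import Cfsg.Agent.Lib.MinNonClosed
import Cfsg.Agent.Lib.H1Core
import Cfsg.Agent.Lib.FGSBasic
-- import your own Cfsg.Agent.* helpers here

set_option autoImplicit false
open Cfsg

namespace Cfsg.Agent.S3873

open Subgroup

/-- Say that a finite group is p-exponent closed when its elements of order dividing p form a subgroup. Let G be a finite group that is not p-exponent closed, but all of whose proper subgroups and proper quotients are, and suppose G is neither simple nor a p-group. Then there is a prime q ≠ p such that G has order p · q^e, where e is the multiplicative order of q modulo p, and G has a normal elementary abelian subgroup of order q^e that is a minimal normal subgroup of G. -/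
theorem result {G : Type*} [Group G] [Finite G] {p : ℕ} [Fact p.Prime]
    (hnc : ¬ (∃ H : Subgroup G, (H : Set G) = {g : G | g ^ p = 1})) (hsub : ∀ K : Subgroup G, K ≠ ⊤ → (∃ H : Subgroup ↥K, (H : Set ↥K) = {g : ↥K | g ^ p = 1}))
    (hquo : ∀ (N : Subgroup G) [N.Normal], N ≠ ⊥ → (∃ H : Subgroup (G ⧸ N), (H : Set (G ⧸ N)) = {g : (G ⧸ N) | g ^ p = 1}))
    (hns : ¬ IsSimpleGroup G) (hnp : ¬ IsPGroup p G) :
    ∃ q : ℕ, q.Prime ∧ q ≠ p ∧ Nat.card G = p * q ^ orderOf (q : ZMod p) ∧
      ∃ A : Subgroup G, A.Normal ∧ Nat.card ↥A = q ^ orderOf (q : ZMod p) ∧ Cfsg.IsElementaryAbelian q A ∧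
        ∀ B : Subgroup G, B.Normal → B ≤ A → B = ⊥ ∨ B = A := by
  classical
  have hpp : p.Prime := Fact.out
  obtain ⟨x, y, hx, hy, hxy⟩ : ∃ x y : G, x ^ p = 1 ∧ y ^ p = 1 ∧ (x * y) ^ p ≠ 1 := by
    by_contra h
    push Not at h
    apply hnc
    refine ⟨{ carrier := {g | g ^ p = 1}
              one_mem' := one_pow p
              mul_mem' := fun {a b} ha hb => h a b ha hb
              inv_mem' := fun {a} ha => by
                show a⁻¹ ^ p = 1
                rw [inv_pow, show a ^ p = 1 from ha, inv_one] }, rfl⟩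
  have hgen : closure {x, y} = ⊤ := by
    by_contra hne
    obtain ⟨H, hH⟩ := hsub _ hne
    have hxK : x ∈ closure {x, y} := Subgroup.subset_closure (by simp)
    have hyK : y ∈ closure {x, y} := Subgroup.subset_closure (by simp)
    have hx' : (⟨x, hxK⟩ : ↥(closure {x, y})) ∈ H := by
      have : (⟨x, hxK⟩ : ↥(closure {x, y})) ∈ (H : Set _) := by
        rw [hH]; exact Subtype.ext hx
      exact this
    have hy' : (⟨y, hyK⟩ : ↥(closure {x, y})) ∈ H := by
      have : (⟨y, hyK⟩ : ↥(closure {x, y})) ∈ (H : Set _) := by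
        rw [hH]; exact Subtype.ext hy
      exact this
    have h1 := H.mul_mem hx' hy'
    have h2 : (⟨x, hxK⟩ * ⟨y, hyK⟩ : ↥(closure {x, y})) ∈ (H : Set _) := h1
    rw [hH] at h2
    exact hxy (congrArg Subtype.val h2)
  have hstar : ∀ N : Subgroup G, N.Normal → N ≠ ⊥ → ∀ g : G, g ^ p ∈ N := by
    intro N hN hne g
    haveI := hN
    obtain ⟨H, hH⟩ := hquo N hne
    let mk := QuotientGroup.mk' N
    have hxm : mk x ∈ H := by
      have : mk x ∈ (H : Set _) := by
        rw [hH]
        show mk x ^ p = 1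
        rw [← map_pow, hx, map_one]
      exact this
    have hym : mk y ∈ H := by
      have : mk y ∈ (H : Set _) := by
        rw [hH]
        show mk y ^ p = 1
        rw [← map_pow, hy, map_one]
      exact this
    have hle : closure {x, y} ≤ H.comap mk := by
      rw [Subgroup.closure_le]
      intro a ha
      rcases ha with ha | ha
      · rw [ha]; exact hxm
      · rw [Set.mem_singleton_iff.mp ha]; exact hym
    rw [hgen] at hle
    have h1 : mk g ∈ (H : Set _) := hle (mem_top g)
    rw [hH] at h1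
    have h2 : mk g ^ p = 1 := h1
    rw [← map_pow] at h2
    exact (QuotientGroup.eq_one_iff _).mp h2
  have hS4 : ∀ N : Subgroup G, N.Normal → N ≠ ⊥ → N ≠ ⊤ → ∀ n ∈ N, n ^ p = 1 → n = 1 := by
    intro N hN hb ht
    haveI := hN
    obtain ⟨H, hH⟩ := hsub N ht
    have hmem : ∀ n (hn : n ∈ N), n ^ p = 1 → (⟨n, hn⟩ : N) ∈ H := by
      intro n hn h1
      have : (⟨n, hn⟩ : N) ∈ (H : Set _) := by
        rw [hH]; exact Subtype.ext h1
      exact this
    set T := H.map N.subtype with hT
    have hTn : T.Normal := by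
      constructor
      rintro _ ⟨t, ht', rfl⟩ g
      have h0 : t ∈ (H : Set _) := ht'
      rw [hH] at h0
      have h1 : (t : G) ^ p = 1 := congrArg Subtype.val h0
      have hn : g * (t : G) * g⁻¹ ∈ N := hN.conj_mem _ t.2 g
      refine ⟨⟨_, hn⟩, hmem _ hn ?_, rfl⟩
      rw [conj_pow, h1]; group
    by_cases hT0 : T = ⊥
    · intro n hn h1
      have h2 : n ∈ T := ⟨⟨n, hn⟩, hmem n hn h1, rfl⟩
      rw [hT0] at h2
      exact h2
    · exfalso
      apply hnp
      intro g
      refine ⟨2, ?_⟩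
      have h1 := hstar T hTn hT0 (g : G)
      obtain ⟨t, ht', hte⟩ := h1
      have h0 : t ∈ (H : Set _) := ht'
      rw [hH] at h0
      have h2 : (t : G) ^ p = 1 := congrArg Subtype.val h0
      have hte' : (t : G) = g ^ p := hte
      rw [pow_two, pow_mul, ← hte', h2]
  have hC : ∀ N : Subgroup G, N.Normal → N ≠ ⊥ → N ≠ ⊤ → (Nat.card N).Coprime p := by
    intro N hN hb ht
    rw [Nat.coprime_comm, Nat.Prime.coprime_iff_not_dvd hpp]
    intro hd
    obtain ⟨n, hn⟩ := exists_prime_orderOf_dvd_card' p hd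
    have h1 : (n : G) ^ p = 1 := by
      have := pow_orderOf_eq_one n
      rw [hn] at this
      exact congrArg Subtype.val this
    have h2 := hS4 N hN hb ht n n.2 h1
    have h3 : n = 1 := Subtype.ext h2
    rw [h3, orderOf_one] at hn
    exact hpp.one_lt.ne hn
  haveI hGnt : Nontrivial G := by
    by_contra hnt
    rw [not_nontrivial_iff_subsingleton] at hnt
    apply hnp
    intro g
    exact ⟨0, Subsingleton.elim _ _⟩
  obtain ⟨N₀, hN₀n, hN₀b, hN₀t⟩ : ∃ N : Subgroup G, N.Normal ∧ N ≠ ⊥ ∧ N ≠ ⊤ := by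
    by_contra h
    push Not at h
    apply hns
    exact ⟨fun N hN => by
      by_cases hb : N = ⊥
      · exact Or.inl hb
      · exact Or.inr (h N hN hb)⟩
  haveI := hN₀n
  -- an index `p` normal subgroup above a proper nontrivial normal subgroup
  have hK : ∀ N : Subgroup G, N.Normal → N ≠ ⊥ → N ≠ ⊤ →
      ∃ k, N.index = p ^ (k + 1) ∧ ∃ K : Subgroup G, K.Normal ∧ N ≤ K ∧ K.index = p := by
    intro N hN hb ht
    haveI := hN
    have hQp : IsPGroup p (G ⧸ N) := by
      intro g
      refine ⟨1, ?_⟩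
      induction g using QuotientGroup.induction_on with
      | _ g =>
        rw [pow_one, ← QuotientGroup.mk_pow]
        exact (QuotientGroup.eq_one_iff _).mpr (hstar N hN hb g)
    obtain ⟨k, hk⟩ := IsPGroup.iff_card.mp hQp
    have hk' : N.index = p ^ k := hk
    have hk0 : k ≠ 0 := by
      rintro rfl
      rw [pow_zero, Subgroup.index_eq_one] at hk'
      exact ht hk'
    obtain ⟨n, rfl⟩ := Nat.exists_eq_succ_of_ne_zero hk0
    refine ⟨n, hk', ?_⟩
    obtain ⟨M, hM⟩ := Sylow.exists_subgroup_card_pow_prime (G := G ⧸ N) p (n := n)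
      (by rw [hk]; exact pow_dvd_pow p (Nat.le_succ n))
    have hMi : M.index = p := by
      have h2 := M.card_mul_index
      rw [hM, hk, Nat.succ_eq_add_one, pow_succ] at h2
      exact Nat.eq_of_mul_eq_mul_left (pow_pos hpp.pos n) h2
    have hMn : M.Normal := by
      apply Subgroup.normal_of_index_eq_minFac_card
      rw [hMi, hk, Nat.Prime.pow_minFac hpp (Nat.succ_ne_zero n)]
    let mk := QuotientGroup.mk' N
    have hs : Function.Surjective mk := QuotientGroup.mk'_surjective N
    refine ⟨M.comap mk, hMn.comap mk, ?_, ?_⟩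
    · intro u hu
      show mk u ∈ M
      have : mk u = 1 := (QuotientGroup.eq_one_iff u).mpr hu
      rw [this]; exact one_mem _
    · rw [Subgroup.index_comap_of_surjective _ hs, hMi]
  -- a fixed one
  obtain ⟨-, -, K₀, hK₀n, hNK₀, hK₀i⟩ := hK N₀ hN₀n hN₀b hN₀t
  have hK₀b : K₀ ≠ ⊥ := by
    intro h
    rw [h] at hNK₀
    exact hN₀b (le_bot_iff.mp hNK₀)
  have hK₀t : K₀ ≠ ⊤ := by
    intro h
    rw [h, Subgroup.index_top] at hK₀i
    exact hpp.one_lt.ne hK₀i
  have hK₀c := hC K₀ hK₀n hK₀b hK₀t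
  have hK₀card : Nat.card K₀ * p = Nat.card G := by
    rw [← hK₀i]; exact K₀.card_mul_index
  have hcard2 : ∀ N : Subgroup G, N.Normal → N ≠ ⊥ → N ≠ ⊤ → Nat.card N * p = Nat.card G := by
    intro N hN hb ht
    obtain ⟨k, hk, -⟩ := hK N hN hb ht
    have h1 := N.card_mul_index
    rw [hk] at h1
    have hk0 : k = 0 := by
      by_contra hne
      obtain ⟨m, rfl⟩ := Nat.exists_eq_succ_of_ne_zero hne
      have h2 : p * p ∣ Nat.card N * p ^ (m + 1 + 1) := by
        apply Dvd.dvd.mul_left
        exact ⟨p ^ m, by ring⟩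
      rw [h1, ← hK₀card] at h2
      have h3 : p ∣ Nat.card K₀ := by
        rw [mul_comm (Nat.card K₀)] at h2
        exact Nat.dvd_of_mul_dvd_mul_left hpp.pos h2
      exact (Nat.Prime.coprime_iff_not_dvd hpp).mp hK₀c.symm h3
    rw [hk0, zero_add, pow_one] at h1
    exact h1
  have hcopN := hC N₀ hN₀n hN₀b hN₀t
  have hidx : N₀.index = p := by
    have h1 := N₀.card_mul_index
    rw [← hcard2 N₀ hN₀n hN₀b hN₀t] at h1
    exact Nat.eq_of_mul_eq_mul_left Nat.card_pos h1
  have hmin : ∀ B : Subgroup G, B.Normal → B ≤ N₀ → B = ⊥ ∨ B = N₀ := by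
    intro B hBn hBle
    by_cases hBb : B = ⊥
    · exact Or.inl hBb
    · right
      have hBt : B ≠ ⊤ := by
        rintro rfl
        exact hN₀t (top_le_iff.mp hBle)
      have h1 := hcard2 B hBn hBb hBt
      have h2 := hcard2 N₀ hN₀n hN₀b hN₀t
      have h3 : Nat.card B = Nat.card N₀ := Nat.eq_of_mul_eq_mul_right hpp.pos (h1.trans h2.symm)
      exact Subgroup.eq_of_le_of_card_ge hBle h3.ge
  have hna : ¬ IsMulCommutative G := by
    intro hc
    apply hxy
    have : Commute x y := hc.is_comm.comm x y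
    rw [this.mul_pow, hx, hy, one_mul]
  have hsupP : ∀ (P' R : Subgroup G), Nat.card P' = p → R ≤ N₀ → P' ≤ normalizer (R : Set G) →
      Nat.card (R ⊔ P' : Subgroup G) = Nat.card R * p := by
    intro P' R hP' hR hn
    have h1 : (Nat.card P').Coprime (Nat.card R) := by
      rw [hP']
      exact (Nat.Coprime.coprime_dvd_left (Subgroup.card_dvd_of_le hR) hcopN).symm
    rw [Lib.H1Cop.card_sup_of_coprime hn h1, hP']
  have hpowP : ∀ (P' : Subgroup G), Nat.card P' = p → ∀ σ ∈ P', σ ^ p = 1 := by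
    intro P' hP' σ hσ
    have := pow_card_eq_one' (x := (⟨σ, hσ⟩ : P'))
    rw [hP'] at this
    exact congrArg Subtype.val this
  refine Lib.MinNonClosed.assemble N₀ hidx hcopN hN₀b hmin hna ?_ ?_
  · intro P' hP' R hR hne hn
    have hcs := hsupP P' R hP' hR hn
    set K := R ⊔ P' with hKdef
    have hKt : K ≠ ⊤ := by
      intro h
      rw [h, Subgroup.card_top] at hcs
      rw [← hcard2 N₀ hN₀n hN₀b hN₀t] at hcs
      have h3 : Nat.card R = Nat.card N₀ := (Nat.eq_of_mul_eq_mul_right hpp.pos hcs).symm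
      exact hne (Subgroup.eq_of_le_of_card_ge hR h3.ge)
    obtain ⟨H, hH⟩ := hsub K hKt
    have hP'K : P' ≤ K := le_sup_right
    have hRK : R ≤ K := le_sup_left
    have hHn : H.Normal := by
      constructor
      intro t ht g
      have h0 : t ∈ (H : Set _) := ht
      rw [hH] at h0
      have h1 : t ^ p = 1 := h0
      have : g * t * g⁻¹ ∈ (H : Set _) := by
        rw [hH]
        show (g * t * g⁻¹) ^ p = 1
        rw [conj_pow, h1]; group
      exact this
    have hRn : (R.subgroupOf K).Normal := by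
      apply (Subgroup.normal_subgroupOf_iff_le_normalizer hRK).mpr
      exact sup_le Subgroup.le_normalizer hn
    have hd : Disjoint H (R.subgroupOf K) := by
      rw [Subgroup.disjoint_def]
      intro t ht hr
      have h0 : t ∈ (H : Set _) := ht
      rw [hH] at h0
      have h1 : (t : G) ^ p = 1 := congrArg Subtype.val h0
      exact Subtype.ext (hS4 N₀ hN₀n hN₀b hN₀t t (hR hr) h1)
    intro σ hσ
    rw [mem_centralizer_iff]
    intro r hr
    have hσH : (⟨σ, hP'K hσ⟩ : K) ∈ H := by
      have : (⟨σ, hP'K hσ⟩ : K) ∈ (H : Set _) := by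
        rw [hH]; exact Subtype.ext (hpowP P' hP' σ hσ)
      exact this
    have h1 := Subgroup.commute_of_normal_of_disjoint _ _ hHn hRn hd
      (⟨σ, hP'K hσ⟩ : K) (⟨r, hRK hr⟩ : K) hσH hr
    have h2 : σ * r = r * σ := congrArg Subtype.val h1
    exact h2.symm
  · intro P' hP' hle
    have hcs := hsupP P' N₀ hP' le_rfl (by rw [Subgroup.normalizer_eq_top_iff.mpr hN₀n]; exact le_top)
    have hsup : P' ⊔ N₀ = ⊤ := by
      rw [sup_comm, ← Subgroup.card_eq_iff_eq_top, hcs, hcard2 N₀ hN₀n hN₀b hN₀t]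
    apply hnc
    refine ⟨P', ?_⟩
    ext g
    constructor
    · exact hpowP P' hP' g
    · intro hg
      have hg' : g ∈ P' ⊔ N₀ := by rw [hsup]; trivial
      obtain ⟨π, hπ, n, hn, rfl⟩ := Subgroup.mem_sup_of_normal_right.mp hg'
      have hc : Commute π n := (mem_centralizer_iff.mp (hle hπ) n hn).symm
      have h1 : (π * n) ^ p = 1 := hg
      rw [hc.mul_pow, hpowP P' hP' π hπ, one_mul] at h1
      have h2 := hS4 N₀ hN₀n hN₀b hN₀t n hn h1
      rw [h2, mul_one]
      exact hπ

end Cfsg.Agent.S3873
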