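import Cfsg.Statements.S3889
import Mathlib
-- import your own Cfsg.Agent.* helpers here

set_option autoImplicit false
open Cfsg

namespace Cfsg.Agent.S3889

/-- A finite abelian group that is the union of a family of proper subgroups any two of which intersect trivially is elementary abelian: its exponent is a prime. -/
theorem result {G : Type*} [CommGroup G] [Finite G] (𝓑 : Set (Subgroup G)) (hprop : ∀ B ∈ 𝓑, B ≠ ⊤)
    (hcov : ∀ g : G, ∃ B ∈ 𝓑, g ∈ B) (hdisj : ∀ B ∈ 𝓑, ∀ C ∈ 𝓑, B ≠ C → B ⊓ C = ⊥) :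
    (Monoid.exponent G).Prime := by
  classical
  -- elements in different components
  have key : ∀ B ∈ 𝓑, ∀ C ∈ 𝓑, B ≠ C → ∀ u ∈ B, ∀ z ∈ C, u ≠ 1 → z ≠ 1 → orderOf u ∣ orderOf z := by
    intro B hB C hC hBC u hu z hz hu1 hz1
    obtain ⟨D, hD, huz⟩ := hcov (u * z)
    have hDB : D ≠ B := by
      rintro rfl
      have hz' : z ∈ D := (Subgroup.mul_mem_cancel_left D hu).mp huz
      have : z ∈ D ⊓ C := ⟨hz', hz⟩
      rw [hdisj D hB C hC hBC] at this
      exact hz1 (Subgroup.mem_bot.mp this)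
    have h1 : (u * z) ^ orderOf z = u ^ orderOf z := by
      rw [mul_pow, pow_orderOf_eq_one, mul_one]
    have h2 : u ^ orderOf z ∈ D := by rw [← h1]; exact pow_mem huz _
    have h3 : u ^ orderOf z ∈ D ⊓ B := ⟨h2, pow_mem hu _⟩
    rw [hdisj D hD B hB hDB] at h3
    exact orderOf_dvd_of_pow_eq_one (Subgroup.mem_bot.mp h3)
  have key2 : ∀ B ∈ 𝓑, ∀ C ∈ 𝓑, B ≠ C → ∀ u ∈ B, ∀ z ∈ C, u ≠ 1 → z ≠ 1 → orderOf u = orderOf z :=
    fun B hB C hC hBC u hu z hz hu1 hz1 => Nat.dvd_antisymm (key B hB C hC hBC u hu z hz hu1 hz1)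
      (key C hC B hB hBC.symm z hz u hu hz1 hu1)
  -- for each component, there is a nontrivial element outside
  have hout : ∀ B ∈ 𝓑, ∃ z, z ∉ B := by
    intro B hB
    by_contra h
    push_neg at h
    exact hprop B hB (by ext x; simp [h x])
  -- all nontrivial elements have the same order
  have hsame : ∀ u v : G, u ≠ 1 → v ≠ 1 → orderOf u = orderOf v := by
    intro u v hu hv
    obtain ⟨B, hB, huB⟩ := hcov u
    obtain ⟨C, hC, hvC⟩ := hcov v
    by_cases hBC : B = C
    · subst hBC
      obtain ⟨z, hz⟩ := hout B hB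
      obtain ⟨D, hD, hzD⟩ := hcov z
      have hDB : B ≠ D := by rintro rfl; exact hz hzD
      have hz1 : z ≠ 1 := by rintro rfl; exact hz (one_mem _)
      rw [key2 B hB D hD hDB u huB z hzD hu hz1, key2 B hB D hD hDB v hvC z hzD hv hz1]
    · exact key2 B hB C hC hBC u huB v hvC hu hv
  -- pick a nontrivial element
  obtain ⟨B, hB, h1B⟩ := hcov 1
  obtain ⟨u, hu⟩ := hout B hB
  have hu1 : u ≠ 1 := by rintro rfl; exact hu h1B
  set n := orderOf u with hn
  have hn1 : n ≠ 1 := by
    intro h; exact hu1 (orderOf_eq_one_iff.mp h)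
  have hnprime : n.Prime := by
    obtain ⟨q, hq, hqn⟩ := Nat.exists_prime_and_dvd hn1
    obtain ⟨m, hm⟩ := hqn
    have hn0 : n ≠ 0 := (orderOf_pos u).ne'
    have hq1 : u ^ q ≠ 1 ∨ m = 1 := by
      by_cases hm1 : m = 1
      · exact Or.inr hm1
      · left
        intro h
        have := orderOf_dvd_of_pow_eq_one h
        rw [← hn, hm] at this
        have hmq : q * m ≤ q := Nat.le_of_dvd hq.pos this
        have hm0 : 0 < m := Nat.pos_of_ne_zero (by rintro rfl; simp at hm; exact hn0 hm)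
        have : m ≤ 1 := by nlinarith [hq.pos]
        omega
    rcases hq1 with h | h
    · exfalso
      have h1 := hsame (u ^ q) u h hu1
      rw [orderOf_pow' u hq.ne_zero, ← hn, Nat.gcd_eq_right ⟨m, hm⟩] at h1
      rw [hm] at h1
      have hm0 : 0 < m := Nat.pos_of_ne_zero (by rintro rfl; simp at hm; exact hn0 hm)
      rw [Nat.mul_div_cancel_left _ hq.pos] at h1
      have : q * m = m * 1 := by rw [mul_one]; exact h1.symm
      have hq2 := hq.two_le
      nlinarith
    · rw [hm, h, mul_one]; exact hq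
  have hexp : Monoid.exponent G = n := by
    apply Nat.dvd_antisymm
    · apply Monoid.exponent_dvd_of_forall_pow_eq_one
      intro g
      by_cases hg : g = 1
      · simp [hg]
      · rw [hn, ← hsame g u hg hu1]; exact pow_orderOf_eq_one g
    · exact Monoid.order_dvd_exponent u
  rw [hexp]; exact hnprime

end Cfsg.Agent.S3889
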