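import Cfsg.Statements.S3890
import Mathlib
import Cfsg.Agent.Lib.NilCover
-- import your own Cfsg.Agent.* helpers here

set_option autoImplicit false
open Cfsg

namespace Cfsg.Agent.S3890

/-- A cover of a group is a finite set of proper subgroups whose union is the whole group; it is minimal when no cover has fewer members, and nilpotent when all its members are nilpotent. Let G be a finite group with trivial center admitting a nilpotent minimal cover 𝓐, and let P be an abelian Sylow p-subgroup of G that is not normal. Then either P is elementary abelian of order greater than p, or P is a Sylow p-subgroup of some member A of 𝓐, the normalizer N of P is a maximal subgroup of G, N meets each of its conjugates by elements outside N in a subgroup of order prime to p, and the centralizer of P equals A. -/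
theorem result {G : Type*} [Group G] [Finite G] (hZ : Subgroup.center G = ⊥) (𝓐 : Finset (Subgroup G))
    (h𝓐 : ((∀ A ∈ 𝓐, A ≠ ⊤) ∧ (∀ g : G, ∃ A ∈ 𝓐, g ∈ A)) ∧ (∀ 𝓑 : Finset (Subgroup G), (∀ A ∈ 𝓑, A ≠ ⊤) ∧ (∀ g : G, ∃ A ∈ 𝓑, g ∈ A) → 𝓐.card ≤ 𝓑.card) ∧ (∀ A ∈ 𝓐, Group.IsNilpotent ↥A)) {p : ℕ} [Fact p.Prime] (P : Sylow p G) (hab : IsMulCommutative ↥(P : Subgroup G))
    (hnn : ¬ (P : Subgroup G).Normal) :
    (Cfsg.IsElementaryAbelian p (P : Subgroup G) ∧ p < Nat.card ↥(P : Subgroup G)) ∨
    (∃ A ∈ 𝓐, (P : Subgroup G) ≤ A ∧ ¬ p ∣ ((P : Subgroup G).subgroupOf A).index ∧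
      IsCoatom (Subgroup.normalizer ((P : Subgroup G) : Set G)) ∧
      (∀ g : G, g ∉ Subgroup.normalizer ((P : Subgroup G) : Set G) →
        ¬ p ∣ Nat.card ↥(Subgroup.normalizer ((P : Subgroup G) : Set G) ⊓
          (Subgroup.normalizer ((P : Subgroup G) : Set G)).map (MulAut.conj g).toMonoidHom)) ∧
      Subgroup.centralizer ((P : Subgroup G) : Set G) = A) := by
  classical
  obtain ⟨⟨h1, h2⟩, h3, h4⟩ := h𝓐
  have hC : Lib.NilCover.IsNilCover 𝓐 := ⟨h1, h2, h3, h4⟩
  by_cases hel : Cfsg.IsElementaryAbelian p (P : Subgroup G) ∧ p < Nat.card ↥(P : Subgroup G)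
  · exact Or.inl hel
  right
  have hab' : ∀ a ∈ (P : Subgroup G), ∀ b ∈ (P : Subgroup G), a * b = b * a := by
    intro a ha b hb
    have := hab.is_comm.comm (⟨a, ha⟩ : (P : Subgroup G)) ⟨b, hb⟩
    exact congrArg Subtype.val this
  have hne : (P : Subgroup G) ≠ ⊥ := by
    intro h5
    apply hnn
    rw [h5]
    infer_instance
  have hx : (∃ x ∈ (P : Subgroup G), ∀ y ∈ (P : Subgroup G), y ∈ Subgroup.zpowers x) ∨ ∃ x ∈ (P : Subgroup G), x ^ p ≠ 1 := by
    by_cases hexp : ∀ a ∈ (P : Subgroup G), a ^ p = 1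
    · left
      have hel' : Cfsg.IsElementaryAbelian p (P : Subgroup G) := ⟨hab, hexp⟩
      have hle : Nat.card ↥(P : Subgroup G) ≤ p := by
        by_contra hlt
        exact hel ⟨hel', by omega⟩
      obtain ⟨k, hk⟩ := IsPGroup.iff_card.mp P.isPGroup'
      have hcard : Nat.card ↥(P : Subgroup G) = p := by
        have hk0 : k ≠ 0 := by
          rintro rfl
          rw [pow_zero] at hk
          exact hne (Subgroup.card_eq_one.mp hk)
        have hk1 : k = 1 := by
          by_contra hk1
          have h5 : 2 ≤ k := by omega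
          have h6 : p ^ 2 ≤ p ^ k := Nat.pow_le_pow_right (Fact.out : p.Prime).pos h5
          have h7 : p ^ 2 = p * p := pow_two p
          have h8 := (Fact.out : p.Prime).two_le
          rw [hk] at hle
          nlinarith
        rw [hk, hk1, pow_one]
      haveI : Fact (Nat.card ↥(P : Subgroup G)).Prime := by rw [hcard]; infer_instance
      have hcy : IsCyclic ↥(P : Subgroup G) := isCyclic_of_prime_card (p := Nat.card ↥(P : Subgroup G)) rfl
      exact (Lib.NilCover.data_of_cyclic _ hcy).2
    · right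
      push Not at hexp
      exact hexp
  obtain ⟨hC1, hPC, hcoat, hM, hTI⟩ := Lib.NilCover.main hC hZ P hab' hx hnn
  refine ⟨_, hC1, hPC, ?_, hcoat, hTI, rfl⟩
  intro hd
  apply P.not_dvd_index
  have h5 : (P : Subgroup G).relIndex (Subgroup.centralizer ((P : Subgroup G) : Set G)) * (Subgroup.centralizer ((P : Subgroup G) : Set G)).index = (P : Subgroup G).index :=
    Subgroup.relIndex_mul_index hPC
  rw [← h5]
  exact Dvd.dvd.mul_right hd _

end Cfsg.Agent.S3890
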