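import Cfsg.Statements.S3985
import Mathlib
import Cfsg.Agent.S3803
import Cfsg.Agent.Lib.FGSBasic
import Cfsg.Agent.Lib.H1Core
-- import your own Cfsg.Agent.* helpers here

set_option autoImplicit false
open scoped Pointwise
open Cfsg

namespace Cfsg.Agent.S3985

open scoped Pointwise
theorem comm_of_cyclic_fix {X : Type*} [Group X] [Finite X] (p : ℕ) [Fact p.Prime] (z y x : X) (n : ℕ)
    (hz : orderOf z = p ^ n) (hy : y * z * y⁻¹ ∈ Subgroup.zpowers z) (hcop : (orderOf y).Coprime p)
    (hx : x ∈ Subgroup.zpowers z) (hx1 : x ≠ 1) (hyx : y * x * y⁻¹ = x) : y * z = z * y := by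
  have hpp : p.Prime := Fact.out
  have hxo : orderOf x ∣ p ^ n := hz ▸ orderOf_dvd_of_mem_zpowers hx
  obtain ⟨t, ht, hxt⟩ := (Nat.dvd_prime_pow hpp).mp hxo
  have ht0 : t ≠ 0 := by
    rintro rfl
    exact hx1 (orderOf_eq_one_iff.mp (by simpa using hxt))
  have hn0 : n ≠ 0 := by omega
  have hx'o : orderOf (x ^ (p ^ (t - 1))) = p := by
    rw [orderOf_pow_of_dvd (pow_ne_zero _ hpp.ne_zero) (by rw [hxt]; exact pow_dvd_pow _ (by omega)), hxt]
    obtain ⟨s, rfl⟩ : ∃ s, t = s + 1 := ⟨t - 1, by omega⟩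
    simp only [Nat.add_sub_cancel]
    rw [pow_succ, Nat.mul_div_cancel_left _ (pow_pos hpp.pos s)]
  have hwo : orderOf (z ^ (p ^ (n - 1))) = p := by
    rw [orderOf_pow_of_dvd (pow_ne_zero _ hpp.ne_zero) (by rw [hz]; exact pow_dvd_pow _ (by omega)), hz]
    obtain ⟨s, rfl⟩ : ∃ s, n = s + 1 := ⟨n - 1, by omega⟩
    simp only [Nat.add_sub_cancel]
    rw [pow_succ, Nat.mul_div_cancel_left _ (pow_pos hpp.pos s)]
  have hw : z ^ (p ^ (n - 1)) ∈ Subgroup.zpowers (x ^ (p ^ (t - 1))) :=
    Cfsg.Agent.S3803.mem_zpowers_of_cyclic z _ _ (Subgroup.pow_mem _ hx _)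
      (Subgroup.pow_mem _ (Subgroup.mem_zpowers z) _) (hx'o.trans hwo.symm)
  have hyw : y * z ^ (p ^ (n - 1)) * y⁻¹ = z ^ (p ^ (n - 1)) := by
    obtain ⟨i, hi⟩ := Subgroup.mem_zpowers_iff.mp hw
    rw [← hi, ← conj_zpow, ← conj_pow, hyx]
  obtain ⟨m, hm⟩ := Subgroup.mem_zpowers_iff.mp hy
  have hwm : (z ^ (p ^ (n - 1))) ^ m = z ^ (p ^ (n - 1)) := by
    nth_rewrite 2 [← hyw]
    rw [← conj_pow, ← hm, ← zpow_natCast, ← zpow_natCast, ← zpow_mul, ← zpow_mul, mul_comm]
  have hdvd : (p : ℤ) ∣ m - 1 := by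
    have h1 : (z ^ (p ^ (n - 1))) ^ (m - 1) = 1 := by
      rw [zpow_sub, hwm, zpow_one, mul_inv_cancel]
    have h2 := orderOf_dvd_iff_zpow_eq_one.mpr h1
    rwa [hwo] at h2
  have hq := dvd_sub_pow_of_dvd_sub (R := ℤ) (a := m) (b := 1) hdvd (n - 1)
  have hconj : ∀ j : ℕ, y ^ j * z * (y ^ j)⁻¹ = z ^ (m ^ j) := by
    intro j
    induction j with
    | zero => simp
    | succ j ih =>
      have h1 : y ^ (j + 1) * z * (y ^ (j + 1))⁻¹ = y ^ j * (y * z * y⁻¹) * (y ^ j)⁻¹ := by
        rw [pow_succ]; group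
      rw [h1, ← hm, ← conj_zpow, ih, ← zpow_mul, pow_succ]
  have hzq : z ^ (m ^ (p ^ (n - 1))) = z := by
    have h1 : (orderOf z : ℤ) ∣ m ^ (p ^ (n - 1)) - 1 := by
      rw [hz]
      have h2 : n - 1 + 1 = n := by omega
      rw [h2, one_pow] at hq
      exact_mod_cast hq
    have h2 : z ^ (m ^ (p ^ (n - 1)) - 1) = 1 := orderOf_dvd_iff_zpow_eq_one.mp h1
    rw [zpow_sub, zpow_one, mul_inv_eq_one] at h2
    exact h2
  have hc1 : Commute (y ^ (p ^ (n - 1))) z := by
    have h1 := hconj (p ^ (n - 1))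
    rw [hzq, mul_inv_eq_iff_eq_mul] at h1
    exact h1
  have hcop2 : (p ^ (n - 1)).Coprime (orderOf y) := (Nat.Coprime.pow_right _ hcop).symm
  obtain ⟨e, he⟩ := exists_pow_eq_self_of_coprime hcop2
  have h3 : Commute y z := by
    rw [← he]
    exact hc1.pow_left e
  exact h3

/-- Let P be a cyclic Sylow p-subgroup of the finite group G. Then P meets each conjugate g P g⁻¹ with g outside N_G(P) trivially if and only if P is weakly self-centralizing: C_G(x) = C_G(P) for every non-identity x ∈ P. -/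
theorem result {G : Type*} [Group G] [Finite G] (p : ℕ) [Fact p.Prime] (P : Sylow p G) (hcyc : IsCyclic ↥(P : Subgroup G)) : (∀ g : G, g ∉ Subgroup.normalizer ((P : Subgroup G) : Set G) → (P : Subgroup G) ⊓ (MulAut.conj g • (P : Subgroup G)) = ⊥) ↔ ∀ x : G, x ∈ (P : Subgroup G) → x ≠ 1 → Subgroup.centralizer ({x} : Set G) = Subgroup.centralizer ((P : Subgroup G) : Set G) := by
  classical
  haveI hPc : IsMulCommutative ↥(P : Subgroup G) := by
    obtain ⟨gen, hgen⟩ := hcyc
    refine ⟨⟨fun a b => ?_⟩⟩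
    obtain ⟨i, hi⟩ := hgen a
    obtain ⟨j, hj⟩ := hgen b
    have hi' : gen ^ i = a := hi
    have hj' : gen ^ j = b := hj
    rw [← hi', ← hj', ← zpow_add, ← zpow_add, add_comm]
  have hcomP : ∀ u ∈ (P : Subgroup G), ∀ v ∈ (P : Subgroup G), u * v = v * u := by
    intro u hu v hv
    exact congrArg Subtype.val (hPc.is_comm.comm (⟨u, hu⟩ : (P : Subgroup G)) ⟨v, hv⟩)
  constructor
  · intro hti x hxP hx1
    apply le_antisymm
    · intro g hg
      have hgx : g * x = x * g := Subgroup.mem_centralizer_singleton_iff.mp hg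
      have hgN : g ∈ Subgroup.normalizer ((P : Subgroup G) : Set G) := by
        by_contra hn
        have h1 := hti g hn
        have h2 : x ∈ (P : Subgroup G) ⊓ (MulAut.conj g • (P : Subgroup G)) := by
          refine ⟨hxP, ?_⟩
          apply Lib.H1Core.mem_conj_smul.mpr
          have : g⁻¹ * x * g = x := by
            rw [mul_assoc, ← hgx]
            group
          rwa [this]
        rw [h1] at h2
        exact hx1 (Subgroup.mem_bot.mp h2)
      obtain ⟨a, b, ha, hb, hab, ⟨k, hk⟩, hbo⟩ := Lib.FGSBasic.exists_p_decomp p g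
      have hzg : Subgroup.zpowers g ≤ Subgroup.normalizer ((P : Subgroup G) : Set G) := by
        rwa [Subgroup.zpowers_le]
      have haP : a ∈ (P : Subgroup G) := by
        have hQ : IsPGroup p (Subgroup.zpowers a) := by
          rw [IsPGroup.iff_card, Nat.card_zpowers]
          exact ⟨k, hk⟩
        have h1 : Subgroup.zpowers a ⊓ Subgroup.normalizer ((P : Subgroup G) : Set G) = Subgroup.zpowers a ⊓ (P : Subgroup G) :=
          hQ.inf_normalizer_sylow P
        have h2 : a ∈ Subgroup.zpowers a ⊓ Subgroup.normalizer ((P : Subgroup G) : Set G) :=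
          ⟨Subgroup.mem_zpowers a, hzg ha⟩
        rw [h1] at h2
        exact h2.2
      obtain ⟨gen, hgen⟩ := hcyc
      have hPz : (P : Subgroup G) = Subgroup.zpowers (gen : G) := by
        apply le_antisymm
        · intro w hw
          obtain ⟨i, hi⟩ := hgen ⟨w, hw⟩
          have hi' := congrArg Subtype.val hi
          exact ⟨i, by simpa using hi'⟩
        · rw [Subgroup.zpowers_le]
          exact gen.2
      obtain ⟨n, hn⟩ : ∃ n, orderOf (gen : G) = p ^ n := by
        obtain ⟨n, hn⟩ := (IsPGroup.iff_orderOf.mp P.isPGroup') gen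
        exact ⟨n, by rw [← hn, Subgroup.orderOf_coe]⟩
      have hbC : b ∈ Subgroup.centralizer ({x} : Set G) := by
        have : Subgroup.zpowers g ≤ Subgroup.centralizer ({x} : Set G) := by rwa [Subgroup.zpowers_le]
        exact this hb
      have hbx : b * x = x * b := Subgroup.mem_centralizer_singleton_iff.mp hbC
      have hbgen : b * gen = gen * b := by
        apply comm_of_cyclic_fix p (gen : G) b x n hn
        · rw [← hPz]
          exact (Subgroup.mem_normalizer_iff.mp (hzg hb) gen).mp gen.2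
        · exact hbo
        · rw [← hPz]; exact hxP
        · exact hx1
        · rw [hbx]; group
      rw [Subgroup.mem_centralizer_iff]
      intro w hw
      have hwP : w ∈ Subgroup.zpowers (gen : G) := by rw [← hPz]; exact hw
      obtain ⟨i, rfl⟩ := Subgroup.mem_zpowers_iff.mp hwP
      have h1 : Commute (gen : G) b := hbgen.symm
      have h2 : Commute ((gen : G) ^ i) b := h1.zpow_left i
      have h3 : ((gen : G) ^ i) * a = a * ((gen : G) ^ i) := hcomP _ hw _ haP
      rw [← hab, ← mul_assoc, h3, mul_assoc, h2.eq, ← mul_assoc]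
    · intro g hg
      rw [Subgroup.mem_centralizer_singleton_iff]
      exact (Subgroup.mem_centralizer_iff.mp hg x hxP).symm
  · intro hC g hg
    rw [eq_bot_iff]
    rintro x ⟨hx1, hx2⟩
    have hx2' : g⁻¹ * x * g ∈ (P : Subgroup G) := Lib.H1Core.mem_conj_smul.mp hx2
    by_contra hx0
    have hx0' : x ≠ 1 := fun h => hx0 (Subgroup.mem_bot.mpr h)
    apply hg
    -- the conjugate of `P` commutes with `P`
    have hle : ((g • P : Sylow p G) : Subgroup G) ≤ Subgroup.centralizer ((P : Subgroup G) : Set G) := by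
      rw [← hC x hx1 hx0']
      intro w hw
      have hw' : w ∈ MulAut.conj g • (P : Subgroup G) := hw
      have hw2 : g⁻¹ * w * g ∈ (P : Subgroup G) := Lib.H1Core.mem_conj_smul.mp hw'
      rw [Subgroup.mem_centralizer_singleton_iff]
      have h3 := hcomP _ hw2 _ hx2'
      have h4 : g * (g⁻¹ * w * g * (g⁻¹ * x * g)) * g⁻¹ = w * x := by group
      have h5 : g * (g⁻¹ * x * g * (g⁻¹ * w * g)) * g⁻¹ = x * w := by group
      rw [← h4, ← h5, h3]
    have hle2 : ((g • P : Sylow p G) : Subgroup G) ≤ (P : Subgroup G) := by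
      have hn : ((g • P : Sylow p G) : Subgroup G) ≤ Subgroup.normalizer ((P : Subgroup G) : Set G) :=
        hle.trans (Subgroup.centralizer_le_normalizer _)
      have h1 : ((g • P : Sylow p G) : Subgroup G) ⊓ Subgroup.normalizer ((P : Subgroup G) : Set G) =
          ((g • P : Sylow p G) : Subgroup G) ⊓ (P : Subgroup G) := (g • P : Sylow p G).isPGroup'.inf_normalizer_sylow P
      rw [inf_eq_left.mpr hn] at h1
      exact inf_eq_left.mp h1.symm
    have hEq : g • P = P := Sylow.ext (Subgroup.eq_of_le_of_card_ge hle2 (by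
      rw [Sylow.card_eq_multiplicity, Sylow.card_eq_multiplicity]))
    exact Sylow.smul_eq_iff_mem_normalizer.mp hEq

end Cfsg.Agent.S3985
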