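import Cfsg.Statements.S3986
import Mathlib
import Cfsg.Agent.Lib.FGSBasic
-- import your own Cfsg.Agent.* helpers here

set_option autoImplicit false
open Cfsg

namespace Cfsg.Agent.S3986

open Cfsg.Agent.Lib.FGSBasic in
theorem aux_mem {G : Type*} [Group G] [Finite G] (p : ℕ) [hp : Fact p.Prime]
    (P : Sylow p G) (K : Subgroup G) (hPn : (P : Subgroup G).Normal) (hKn : K.Normal)
    (hinf : (P : Subgroup G) ⊓ K = ⊥) (hsup : (P : Subgroup G) ⊔ K = ⊤)
    (y : G) (hy : ∃ q b : ℕ, q.Prime ∧ q ≠ p ∧ orderOf y = q ^ b) :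
    y ∈ K := by
  obtain ⟨q, b, hq, hqp, hy⟩ := hy
  have hyt : y ∈ (P : Subgroup G) ⊔ K := by rw [hsup]; trivial
  have hdis : Disjoint (P : Subgroup G) K := by rw [disjoint_iff]; exact hinf
  rw [← SetLike.mem_coe, Subgroup.mul_normal, Set.mem_mul] at hyt
  obtain ⟨u, hu, k, hk, rfl⟩ := hyt
  have hu : u ∈ (P : Subgroup G) := hu
  have hk : k ∈ K := hk
  have hcomm : Commute u k := Subgroup.commute_of_normal_of_disjoint _ _ hPn hKn hdis u k hu hk
  have hpow : (u * k) ^ q ^ b = 1 := by rw [← hy]; exact pow_orderOf_eq_one _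
  rw [hcomm.mul_pow] at hpow
  have hu1 : u ^ q ^ b = (k ^ q ^ b)⁻¹ := eq_inv_of_mul_eq_one_left hpow
  have hmem : u ^ q ^ b ∈ (P : Subgroup G) ⊓ K :=
    Subgroup.mem_inf.mpr ⟨Subgroup.pow_mem _ hu _, by rw [hu1]; exact Subgroup.inv_mem _ (Subgroup.pow_mem _ hk _)⟩
  rw [hinf, Subgroup.mem_bot] at hmem
  obtain ⟨c, hc⟩ := orderOf_of_mem_sylow P hu
  have hd : orderOf u ∣ q ^ b := orderOf_dvd_of_pow_eq_one hmem
  rw [hc] at hd
  have hcop : (p ^ c).Coprime (q ^ b) :=
    Nat.Coprime.pow _ _ ((Nat.coprime_primes hp.out hq).mpr (Ne.symm hqp))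
  have h1 : p ^ c = 1 := Nat.Coprime.eq_one_of_dvd hcop hd
  have hu' : u = 1 := orderOf_eq_one_iff.mp (by rw [hc, h1])
  subst hu'
  rw [one_mul]
  exact hk

open Cfsg.Agent.Lib.FGSBasic in
theorem aux_forward {G : Type*} [Group G] [Finite G] (p : ℕ) [hp : Fact p.Prime]
    (P : Sylow p G) (K : Subgroup G) (hPn : (P : Subgroup G).Normal) (hKn : K.Normal)
    (hinf : (P : Subgroup G) ⊓ K = ⊥) (hsup : (P : Subgroup G) ⊔ K = ⊤)
    (x y : G) (hx : ∃ a : ℕ, orderOf x = p ^ a) (hy : ∃ q b : ℕ, q.Prime ∧ q ≠ p ∧ orderOf y = q ^ b) :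
    x * y = y * x := by
  have hxP : x ∈ (P : Subgroup G) := mem_sylow_of_normal P hPn hx
  have hk := aux_mem p P K hPn hKn hinf hsup y hy
  have hdis : Disjoint (P : Subgroup G) K := by rw [disjoint_iff]; exact hinf
  exact (Subgroup.commute_of_normal_of_disjoint _ _ hPn hKn hdis x y hxP hk).eq

/-- Let p be a prime and G a finite group. Then some Sylow p-subgroup of G is a direct factor of G (it is normal and has a normal complement) if and only if every element of p-power order commutes with every element whose order is a power of a prime other than p. -/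
theorem result {G : Type*} [Group G] [Finite G] (p : ℕ) [Fact p.Prime] : (∃ (P : Sylow p G) (K : Subgroup G), (P : Subgroup G).Normal ∧ K.Normal ∧ (P : Subgroup G) ⊓ K = ⊥ ∧ (P : Subgroup G) ⊔ K = ⊤) ↔ ∀ x y : G, (∃ a : ℕ, orderOf x = p ^ a) → (∃ q b : ℕ, q.Prime ∧ q ≠ p ∧ orderOf y = q ^ b) → x * y = y * x := by
  classical
  constructor
  · rintro ⟨P, K, hPn, hKn, hinf, hsup⟩ x y hx hy
    exact aux_forward p P K hPn hKn hinf hsup x y hx hy
  · intro h
    have hp : p.Prime := Fact.out
    let A : Set G := {y : G | ∃ q b : ℕ, q.Prime ∧ q ≠ p ∧ orderOf y = q ^ b}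
    let H : Subgroup G := Subgroup.closure A
    have hHn : H.Normal := by
      apply Cfsg.Agent.Lib.FGSBasic.normal_closure_of_conj_inv
      rintro g s ⟨q, b, hq, hqp, hs⟩
      exact ⟨q, b, hq, hqp, by rw [Cfsg.Agent.Lib.FGSBasic.orderOf_conj, hs]⟩
    have hHC : ∀ x : G, (∃ a : ℕ, orderOf x = p ^ a) → H ≤ Subgroup.centralizer {x} := by
      intro x hx
      rw [Subgroup.closure_le]
      intro y hy
      rw [SetLike.mem_coe, Subgroup.mem_centralizer_singleton_iff]
      exact (h x y hx hy).symm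
    obtain ⟨P⟩ : Nonempty (Sylow p G) := inferInstance
    have hPC : H ≤ Subgroup.centralizer (P : Set G) := by
      intro y hy
      rw [Subgroup.mem_centralizer_iff]
      intro x hx
      have := hHC x (Cfsg.Agent.Lib.FGSBasic.orderOf_of_mem_sylow P hx) hy
      rw [Subgroup.mem_centralizer_singleton_iff] at this
      exact this.symm
    have hcommP : ∀ y ∈ H, ∀ z ∈ (P : Subgroup G), y * z * y⁻¹ = z := by
      intro y hy z hz
      have := (Subgroup.mem_centralizer_iff.mp (hPC hy)) z hz
      rw [← this]; simp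
    -- G/H is a p-group
    have hq : IsPGroup p (G ⧸ H) := by
      intro gb
      obtain ⟨g, rfl⟩ := QuotientGroup.mk_surjective gb
      obtain ⟨a, b, -, -, hab, ⟨k, hk⟩, hb⟩ := Cfsg.Agent.Lib.FGSBasic.exists_p_decomp p g
      have hbH : b ∈ H := Cfsg.Agent.Lib.FGSBasic.mem_closure_of_coprime b hb
      refine ⟨k, ?_⟩
      rw [← hab]
      have : ((a * b : G) : G ⧸ H) = (a : G ⧸ H) := by
        rw [QuotientGroup.mk_mul, (QuotientGroup.eq_one_iff b).mpr hbH, mul_one]
      rw [this, ← QuotientGroup.mk_pow, ← hk, pow_orderOf_eq_one, QuotientGroup.mk_one]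
    obtain ⟨n, hn⟩ := IsPGroup.iff_card.mp hq
    have hHidx : H.index = p ^ n := by rw [Subgroup.index_eq_card, hn]
    have hidx1 : ((P : Subgroup G) ⊔ H).index = 1 := by
      have h1 : ((P : Subgroup G) ⊔ H).index ∣ H.index := Subgroup.index_dvd_of_le le_sup_right
      have h2 : ((P : Subgroup G) ⊔ H).index ∣ (P : Subgroup G).index :=
        Subgroup.index_dvd_of_le le_sup_left
      rw [hHidx] at h1
      obtain ⟨j, -, hj⟩ := (Nat.dvd_prime_pow hp).1 h1
      rcases Nat.eq_zero_or_pos j with rfl | hj0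
      · simpa using hj
      · exfalso
        have h3 : p ∣ (P : Subgroup G).index := by
          refine dvd_trans ?_ h2
          rw [hj]; exact dvd_pow_self p hj0.ne'
        exact P.not_dvd_index h3
    have htop : (P : Subgroup G) ⊔ H = ⊤ := Subgroup.index_eq_one.mp hidx1
    have hPn : (P : Subgroup G).Normal := by
      rw [← Subgroup.normalizer_eq_top_iff, eq_top_iff, ← htop]
      apply sup_le Subgroup.le_normalizer
      intro y hy
      rw [Subgroup.mem_normalizer_iff]
      intro x
      constructor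
      · intro hx
        rw [hcommP y hy x hx]; exact hx
      · intro hx
        have := hcommP y⁻¹ (inv_mem hy) _ hx
        have h6 : y⁻¹ * (y * x * y⁻¹) * y⁻¹⁻¹ = x := by group
        rw [h6] at this
        rw [this]; exact hx
    obtain ⟨K, hK⟩ := Subgroup.exists_right_complement'_of_coprime (N := (P : Subgroup G))
      (by haveI := hPn; exact P.card_coprime_index)
    have hKcard : Nat.card K = (P : Subgroup G).index := (hK.symm.index_eq_card).symm
    have hKcop : (Nat.card K).Coprime p := by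
      rw [hKcard, Nat.coprime_comm, Nat.Prime.coprime_iff_not_dvd hp]
      exact P.not_dvd_index
    have hKH : K ≤ H := by
      intro x hx
      apply Cfsg.Agent.Lib.FGSBasic.mem_closure_of_coprime
      have : orderOf x ∣ Nat.card K := by
        have := orderOf_dvd_natCard (⟨x, hx⟩ : K)
        rwa [Subgroup.orderOf_mk] at this
      exact Nat.Coprime.coprime_dvd_left this hKcop
    have hKn : K.Normal := by
      rw [← Subgroup.normalizer_eq_top_iff, eq_top_iff, ← hK.sup_eq_top]
      apply sup_le _ Subgroup.le_normalizer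
      intro y hy
      rw [Subgroup.mem_normalizer_iff]
      intro x
      have hcomm : ∀ (y : G), y ∈ (P : Subgroup G) → ∀ z ∈ K, y * z * y⁻¹ = z := by
        intro y hy z hz
        have := (Subgroup.mem_centralizer_iff.mp (hPC (hKH hz))) y hy
        rw [this]; simp
      constructor
      · intro hx
        rw [hcomm y hy x hx]; exact hx
      · intro hx
        have := hcomm y⁻¹ (inv_mem hy) _ hx
        have h6 : y⁻¹ * (y * x * y⁻¹) * y⁻¹⁻¹ = x := by group
        rw [h6] at this
        rw [this]; exact hx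
    exact ⟨P, K, hPn, hKn, hK.disjoint.eq_bot, hK.sup_eq_top⟩

end Cfsg.Agent.S3986
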