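import Cfsg.Statements.S3987
import Cfsg.Agent.S3986
import Cfsg.Agent.Lib.FGSBasic
-- import your own Cfsg.Agent.* helpers here

set_option autoImplicit false
open Cfsg

namespace Cfsg.Agent.S3987

open Cfsg.Agent.Lib.FGSBasic in
theorem centralizer_mul_eq {G : Type*} [Group G] [Finite G] (x y : G) (hc : x * y = y * x)
    (hcop : (orderOf x).Coprime (orderOf y)) :
    Subgroup.centralizer ({x * y} : Set G) = Subgroup.centralizer ({x} : Set G) ⊓ Subgroup.centralizer ({y} : Set G) := by
  have hcomm : Commute x y := hc
  have h1 : (x * y) ^ orderOf x = y ^ orderOf x := by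
    rw [hcomm.mul_pow, pow_orderOf_eq_one, one_mul]
  have h2 : (x * y) ^ orderOf y = x ^ orderOf y := by
    rw [hcomm.mul_pow, pow_orderOf_eq_one, mul_one]
  obtain ⟨u1, v1, h3⟩ := exists_zpow_bezout x hcop
  obtain ⟨u2, v2, h4⟩ := exists_zpow_bezout y hcop
  simp only [pow_orderOf_eq_one, one_zpow, one_mul, mul_one] at h3 h4
  ext g
  simp only [Subgroup.mem_inf, Subgroup.mem_centralizer_singleton_iff]
  constructor
  · intro hg
    have hg' : Commute g (x * y) := hg
    constructor
    · have := (hg'.pow_right (orderOf y)).zpow_right v1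
      rw [h2, h3] at this
      exact this
    · have := (hg'.pow_right (orderOf x)).zpow_right u2
      rw [h1, h4] at this
      exact this
  · rintro ⟨h5, h6⟩
    have h5' : Commute g x := h5
    have h6' : Commute g y := h6
    exact h5'.mul_right h6'

/-- Let p be a prime and G a finite group. Then some Sylow p-subgroup of G is a direct factor of G (normal with a normal complement) if and only if for every element x of p-power order and every element y whose order is a power of a prime other than p, the conjugacy class of x y has as many elements as the product of the sizes of the classes of x and of y. -/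
theorem result {G : Type*} [Group G] [Finite G] (p : ℕ) [Fact p.Prime] : (∃ (P : Sylow p G) (K : Subgroup G), (P : Subgroup G).Normal ∧ K.Normal ∧ (P : Subgroup G) ⊓ K = ⊥ ∧ (P : Subgroup G) ⊔ K = ⊤) ↔ ∀ x y : G, (∃ a : ℕ, orderOf x = p ^ a) → (∃ q b : ℕ, q.Prime ∧ q ≠ p ∧ orderOf y = q ^ b) → (Subgroup.centralizer ({x * y} : Set G)).index = (Subgroup.centralizer ({x} : Set G)).index * (Subgroup.centralizer ({y} : Set G)).index := by
  classical
  have hp : p.Prime := Fact.out
  constructor
  · rintro ⟨P, K, hPn, hKn, hinf, hsup⟩ x y hx hy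
    have hxP : x ∈ (P : Subgroup G) := Cfsg.Agent.Lib.FGSBasic.mem_sylow_of_normal P hPn hx
    have hyK : y ∈ K := Cfsg.Agent.S3986.aux_mem p P K hPn hKn hinf hsup y hy
    have hdis : Disjoint (P : Subgroup G) K := by rw [disjoint_iff]; exact hinf
    have hcomm : ∀ u ∈ (P : Subgroup G), ∀ k ∈ K, Commute u k := fun u hu k hk =>
      Subgroup.commute_of_normal_of_disjoint _ _ hPn hKn hdis u k hu hk
    have hcop : (orderOf x).Coprime (orderOf y) := by
      obtain ⟨a, ha⟩ := hx
      obtain ⟨q, b, hq, hqp, hb⟩ := hy
      rw [ha, hb]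
      exact Nat.Coprime.pow _ _ ((Nat.coprime_primes hp hq).mpr (Ne.symm hqp))
    rw [centralizer_mul_eq x y (hcomm x hxP y hyK) hcop]
    apply Cfsg.Agent.Lib.FGSBasic.index_inf_of_factorization
    intro g
    have hg : g ∈ K ⊔ (P : Subgroup G) := by rw [sup_comm, hsup]; trivial
    rw [← SetLike.mem_coe, Subgroup.normal_mul K (P : Subgroup G), Set.mem_mul] at hg
    obtain ⟨k, hk, u, hu, rfl⟩ := hg
    refine ⟨k, ?_, u, ?_, rfl⟩
    · rw [Subgroup.mem_centralizer_singleton_iff]
      exact ((hcomm x hxP k hk).symm).eq
    · rw [Subgroup.mem_centralizer_singleton_iff]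
      exact (hcomm u hu y hyK).eq
  · intro h
    apply (Cfsg.Agent.S3986.result p).mpr
    intro x y hx hy
    have hle : Subgroup.centralizer ({x} : Set G) ⊓ Subgroup.centralizer ({y} : Set G) ≤
        Subgroup.centralizer ({x * y} : Set G) := by
      intro g hg
      have h5 := (Subgroup.mem_inf.mp hg).1
      have h6 := (Subgroup.mem_inf.mp hg).2
      rw [Subgroup.mem_centralizer_singleton_iff] at h5 h6 ⊢
      have h5' : Commute g x := h5
      have h6' : Commute g y := h6
      exact h5'.mul_right h6'
    have hidx := h x y hx hy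
    have h1 := Subgroup.index_inf_le (H := Subgroup.centralizer ({x} : Set G)) (K := Subgroup.centralizer ({y} : Set G))
    have heq : Subgroup.centralizer ({x * y} : Set G) = Subgroup.centralizer ({x} : Set G) ⊓ Subgroup.centralizer ({y} : Set G) := by
      symm
      apply SetLike.coe_injective
      apply Set.eq_of_subset_of_ncard_le hle
      · have h2 := Subgroup.card_mul_index (Subgroup.centralizer ({x * y} : Set G))
        have h3 := Subgroup.card_mul_index (Subgroup.centralizer ({x} : Set G) ⊓ Subgroup.centralizer ({y} : Set G))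
        rw [← Nat.card_coe_set_eq, ← Nat.card_coe_set_eq]
        have h4 : Nat.card (Subgroup.centralizer ({x * y} : Set G)) * (Subgroup.centralizer ({x * y} : Set G)).index ≤ Nat.card (Subgroup.centralizer ({x} : Set G) ⊓ Subgroup.centralizer ({y} : Set G) : Subgroup G) * (Subgroup.centralizer ({x * y} : Set G)).index := by
          rw [h2, ← h3]
          apply Nat.mul_le_mul_left
          rw [hidx]; exact h1
        have hpos : 0 < (Subgroup.centralizer ({x * y} : Set G)).index := Nat.pos_of_ne_zero (Subgroup.index_ne_zero_of_finite)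
        exact Nat.le_of_mul_le_mul_right h4 hpos
    have hmem : x * y ∈ Subgroup.centralizer ({x * y} : Set G) := by
      rw [Subgroup.mem_centralizer_singleton_iff]
    rw [heq] at hmem
    have h7 := (Subgroup.mem_inf.mp hmem).1
    rw [Subgroup.mem_centralizer_singleton_iff] at h7
    have : x * (y * x) = x * (x * y) := by rw [← mul_assoc]; exact h7
    exact (mul_left_cancel this).symm

end Cfsg.Agent.S3987
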