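import Cfsg.Statements.S3992
import Mathlib
import Cfsg.Agent.Lib.PrimeGraph
import Cfsg.Agent.Lib.SigGen
import Cfsg.Agent.Lib.FGS4
import Cfsg.Agent.Lib.H1Core
import Cfsg.Agent.Lib.H1Hall
import Cfsg.Agent.Lib.H1FC
-- import your own Cfsg.Agent.* helpers here

set_option autoImplicit false
open Cfsg

namespace Cfsg.Agent.S3992

theorem no_pq {G : Type*} [Group G] (hpp : ∀ g : G, g ≠ 1 → IsPrimePow (orderOf g)) (g : G) {p r : ℕ}
    (hp : p.Prime) (hr : r.Prime) (hpr : p ≠ r) (ho : orderOf g = p * r) : False := by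
  have hne : g ≠ 1 := by
    intro h
    rw [h, orderOf_one] at ho
    have h1 := hp.one_lt
    have h2 := hr.one_lt
    nlinarith
  obtain ⟨s, k, hs, hk, hsk⟩ := (isPrimePow_nat_iff _).mp (hpp _ hne)
  rw [ho] at hsk
  have h1 : p = s := by
    have : p ∣ s ^ k := by rw [hsk]; exact dvd_mul_right _ _
    exact (Nat.prime_dvd_prime_iff_eq hp hs).mp (hp.dvd_of_dvd_pow this)
  have h2 : r = s := by
    have : r ∣ s ^ k := by rw [hsk]; exact dvd_mul_left _ _
    exact (Nat.prime_dvd_prime_iff_eq hr hs).mp (hr.dvd_of_dvd_pow this)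
  exact hpr (h1.trans h2.symm)

theorem no_mixed {G : Type*} [Group G] (hpp : ∀ g : G, g ≠ 1 → IsPrimePow (orderOf g)) {a b : G} (hab : Commute a b)
    {p r : ℕ} (hp : p.Prime) (hr : r.Prime) (hpr : p ≠ r) (ha : orderOf a = p) (hb : orderOf b = r) : False := by
  have hco : (orderOf a).Coprime (orderOf b) := by
    rw [ha, hb]; exact (Nat.coprime_primes hp hr).mpr hpr
  exact no_pq hpp (a * b) hp hr hpr (by rw [hab.orderOf_mul_eq_mul_orderOf_of_coprime hco, ha, hb])

/-- a non-solvable subgroup has elements of two different prime orders -/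
theorem two_primes {G : Type*} [Group G] [Finite G] (X : Subgroup G) (hX : ¬ Group.IsSolvable X) :
    ∃ p r : ℕ, p.Prime ∧ r.Prime ∧ p ≠ r ∧ (∃ a ∈ X, orderOf a = p) ∧ (∃ b ∈ X, orderOf b = r) := by
  have h1 : Nat.card X ≠ 1 := by
    intro h
    haveI : Subsingleton X := (Nat.card_eq_one_iff_unique.mp h).1
    exact hX (by infer_instance)
  obtain ⟨p, hp, hpd⟩ := Nat.exists_prime_and_dvd h1
  haveI : Fact p.Prime := ⟨hp⟩
  by_cases hall : ∀ r : ℕ, r.Prime → r ∣ Nat.card X → r = p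
  · exfalso
    have hk := Nat.eq_prime_pow_of_unique_prime_dvd (n := Nat.card X) (p := p) Nat.card_pos.ne'
      (fun {d} hd hd2 => hall d hd hd2)
    have hP : IsPGroup p X := IsPGroup.of_card hk
    haveI := hP.isNilpotent
    exact hX (by infer_instance)
  · push Not at hall
    obtain ⟨r, hr, hrd, hrp⟩ := hall
    haveI : Fact r.Prime := ⟨hr⟩
    obtain ⟨a, ha⟩ := exists_prime_orderOf_dvd_card' (G := X) p hpd
    obtain ⟨b, hb⟩ := exists_prime_orderOf_dvd_card' (G := X) r hrd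
    exact ⟨p, r, hp, hr, Ne.symm hrp, ⟨a, a.2, by rw [Subgroup.orderOf_coe, ha]⟩, ⟨b, b.2, by rw [Subgroup.orderOf_coe, hb]⟩⟩

/-- an element of prime order other than `q` in a non-solvable subgroup -/
theorem other_prime {G : Type*} [Group G] [Finite G] (X : Subgroup G) (hX : ¬ Group.IsSolvable X) (q : ℕ) :
    ∃ r : ℕ, r.Prime ∧ r ≠ q ∧ ∃ a ∈ X, orderOf a = r := by
  obtain ⟨p, r, hp, hr, hpr, ha, hb⟩ := two_primes X hX
  by_cases h : p = q
  · exact ⟨r, hr, fun h' => hpr (h.trans h'.symm), hb⟩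
  · exact ⟨p, hp, h, ha⟩

/-- abelian normal subgroup of prime exponent in a solvable normal subgroup -/
theorem exists_el_in {G : Type*} [Group G] [Finite G] (R : Subgroup G) (hRn : R.Normal) (hRs : Group.IsSolvable R) (hne : R ≠ ⊥) :
    ∃ (q : ℕ) (A : Subgroup G), q.Prime ∧ A.Normal ∧ A ≠ ⊥ ∧ A ≤ R ∧ (∀ a ∈ A, a ^ q = 1) ∧
      (∀ a ∈ A, ∀ b ∈ A, a * b = b * a) := by
  classical
  obtain ⟨D, hDn, hDne, hDR, hmin⟩ := Lib.FGS4.exists_minimal_normal_le R hRn hne
  haveI := hDn
  have hDs : Group.IsSolvable D := solvable_of_solvable_injective (Subgroup.inclusion_injective hDR)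
  have hcomm : ⁅D, D⁆ = ⊥ := by
    rcases hmin ⁅D, D⁆ (Subgroup.commutator_normal D D) (Subgroup.commutator_le_self D) with h | h
    · exact h
    · exfalso
      haveI : Nontrivial D := (Subgroup.nontrivial_iff_ne_bot D).mpr hDne
      have h1 := IsSolvable.commutator_lt_top_of_nontrivial D
      have h2 : commutator D = ⊤ := by
        apply Subgroup.map_injective D.subtype_injective
        rw [Subgroup.map_subtype_commutator, h, ← MonoidHom.range_eq_map, Subgroup.range_subtype]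
      exact h1.ne h2
  have hab : ∀ a ∈ D, ∀ b ∈ D, a * b = b * a := by
    intro a ha b hb
    have := (Subgroup.commutator_eq_bot_iff_le_centralizer.mp hcomm) hb
    exact (Subgroup.mem_centralizer_iff.mp this a ha)
  have h1 : Nat.card D ≠ 1 := fun h => hDne (Subgroup.card_eq_one.mp h)
  obtain ⟨q, hq, hqd⟩ := Nat.exists_prime_and_dvd h1
  haveI : Fact q.Prime := ⟨hq⟩
  let A : Subgroup G :=
    { carrier := {a | a ∈ D ∧ a ^ q = 1}
      mul_mem' := by
        rintro a b ⟨ha, ha'⟩ ⟨hb, hb'⟩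
        refine ⟨mul_mem ha hb, ?_⟩
        have hc : Commute a b := hab a ha b hb
        rw [hc.mul_pow, ha', hb', one_mul]
      one_mem' := ⟨one_mem _, one_pow _⟩
      inv_mem' := by
        rintro a ⟨ha, ha'⟩
        exact ⟨inv_mem ha, by rw [inv_pow, ha', inv_one]⟩ }
  refine ⟨q, A, hq, ⟨?_⟩, ?_, fun a ha => hDR ha.1, fun a ha => ha.2, fun a ha b hb => hab a ha.1 b hb.1⟩
  · rintro a ⟨ha, ha'⟩ g
    refine ⟨hDn.conj_mem a ha g, ?_⟩
    rw [conj_pow, ha']; group
  · intro hA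
    obtain ⟨x, hx⟩ := exists_prime_orderOf_dvd_card' (G := D) q hqd
    have hxo : orderOf (x : G) = q := by rw [Subgroup.orderOf_coe, hx]
    have hx1 : (x : G) ^ q = 1 := by rw [← hxo, pow_orderOf_eq_one]
    have hxA : (x : G) ∈ A := ⟨x.2, hx1⟩
    rw [hA, Subgroup.mem_bot] at hxA
    rw [hxA, orderOf_one] at hxo
    exact hq.one_lt.ne hxo

/-- The statement about `G/R`. -/
theorem part2 {K : Type*} [Group K] [Finite K] [Nontrivial K] (hpp : ∀ g : K, g ≠ 1 → IsPrimePow (orderOf g))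
    (hrad : ∀ N : Subgroup K, N.Normal → Group.IsSolvable N → N = ⊥) :
    ∃ M : Subgroup K, M.Normal ∧ IsSimpleGroup M ∧ ¬ IsMulCommutative M ∧ ∀ N : Subgroup K, N.Normal → N ≠ ⊥ → M ≤ N := by
  classical
  obtain ⟨M, hMn, hMne, -, hMmin⟩ := Lib.FGS4.exists_minimal_normal_le (⊤ : Subgroup K) inferInstance top_ne_bot
  haveI := hMn
  have hMns : ¬ Group.IsSolvable M := fun h => hMne (hrad M hMn h)
  -- conjugates
  let cj : K → Subgroup K → Subgroup K := fun g X => X.map (MulAut.conj g).toMonoidHom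
  have hcj_mem : ∀ (g : K) (X : Subgroup K) (x : K), x ∈ X → g * x * g⁻¹ ∈ cj g X := by
    intro g X x hx
    exact ⟨x, hx, rfl⟩
  have hcj_mem' : ∀ (g : K) (X : Subgroup K) (y : K), y ∈ cj g X → g⁻¹ * y * g ∈ X := by
    rintro g X _ ⟨x, hx, rfl⟩
    have : g⁻¹ * ((MulAut.conj g).toMonoidHom x) * g = x := by
      simp only [MulEquiv.coe_toMonoidHom, MulAut.conj_apply]
      group
    rwa [this]
  have hcj_le : ∀ (g : K) (X : Subgroup K), X ≤ M → cj g X ≤ M := by
    rintro g X hX _ ⟨x, hx, rfl⟩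
    exact hMn.conj_mem x (hX hx) g
  have hcj_inv : ∀ (g : K) (X : Subgroup K), (∀ m ∈ M, ∀ x ∈ X, m * x * m⁻¹ ∈ X) → ∀ m ∈ M, ∀ x ∈ cj g X, m * x * m⁻¹ ∈ cj g X := by
    rintro g X hX m hm _ ⟨x, hx, rfl⟩
    have hm' : g⁻¹ * m * g ∈ M := by
      have := hMn.conj_mem m hm g⁻¹
      simpa using this
    refine ⟨_, hX _ hm' x hx, ?_⟩
    simp only [MulEquiv.coe_toMonoidHom, MulAut.conj_apply]
    group
  have hcj_card : ∀ (g : K) (X : Subgroup K), Nat.card (cj g X) = Nat.card X := by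
    intro g X
    exact (Nat.card_congr (Subgroup.equivMapOfInjective X _ (MulAut.conj g).injective).toEquiv).symm
  have hcj_solv : ∀ (g : K) (X : Subgroup K), Group.IsSolvable X → Group.IsSolvable (cj g X) := by
    intro g X hX
    exact solvable_of_surjective (((MulAut.conj g).toMonoidHom).subgroupMap_surjective X)
  -- the solvable radical of `M`
  have hsolvrad : ∀ X : Subgroup K, X ≤ M → (∀ m ∈ M, ∀ x ∈ X, m * x * m⁻¹ ∈ X) → Group.IsSolvable X → X = ⊥ := by
    intro X hXM hXinv hXs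
    obtain ⟨Y, hXY, hY⟩ := (Set.toFinite {Y : Subgroup K | Y ≤ M ∧ (∀ m ∈ M, ∀ x ∈ Y, m * x * m⁻¹ ∈ Y) ∧ Group.IsSolvable Y}).exists_le_maximal
      (a := X) ⟨hXM, hXinv, hXs⟩
    obtain ⟨hYM, hYinv, hYs⟩ := hY.prop
    have hYn : Y.Normal := by
      refine ⟨fun y hy g => ?_⟩
      have hzM := hcj_le g Y hYM
      have hn : cj g Y ≤ Subgroup.normalizer (Y : Set K) := by
        rw [Subgroup.le_normalizer_iff]
        intro h hh k hk
        exact hYinv h (hzM hh) k hk
      have hsup : Y ⊔ cj g Y ∈ {Y : Subgroup K | Y ≤ M ∧ (∀ m ∈ M, ∀ x ∈ Y, m * x * m⁻¹ ∈ Y) ∧ Group.IsSolvable Y} := by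
        refine ⟨sup_le hYM hzM, ?_, Lib.SigGen.isSolvable_sup_of_normalizes hn hYs (hcj_solv g Y hYs)⟩
        intro m hm x hx
        exact Lib.SigGen.conj_mem_sup (hYinv m hm) (hcj_inv g Y hYinv m hm) hx
      have hle : Y ⊔ cj g Y ≤ Y := hY.le_of_ge hsup le_sup_left
      exact hle (Subgroup.mem_sup_right (hcj_mem g Y y hy))
    have := hrad Y hYn hYs
    rw [eq_bot_iff, ← this]
    exact hXY
  -- every nontrivial `M`-invariant subgroup is `M`
  have hall : ∀ S₀ : Subgroup K, S₀ ≠ ⊥ → S₀ ≤ M → (∀ m ∈ M, ∀ x ∈ S₀, m * x * m⁻¹ ∈ S₀) → S₀ = M := by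
    intro S₀ hS₀ne hS₀M hS₀inv
    obtain ⟨S, hSS₀, hS⟩ := (Set.toFinite {S : Subgroup K | S ≠ ⊥ ∧ S ≤ M ∧ (∀ m ∈ M, ∀ x ∈ S, m * x * m⁻¹ ∈ S)}).exists_le_minimal
      (a := S₀) ⟨hS₀ne, hS₀M, hS₀inv⟩
    obtain ⟨hSne, hSM, hSinv⟩ := hS.prop
    have hSns : ¬ Group.IsSolvable S := fun h => hSne (hsolvrad S hSM hSinv h)
    have hconjle : ∀ g : K, S ≤ cj g S := by
      intro g
      by_cases hinf : S ⊓ cj g S = ⊥
      · exfalso
        obtain ⟨p, r, hp, hr, hpr, ⟨a, haS, hao⟩, ⟨b, hbS, hbo⟩⟩ := two_primes S hSns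
        have hc : g * b * g⁻¹ ∈ cj g S := hcj_mem g S b hbS
        have hco : orderOf (g * b * g⁻¹) = r := by rw [Lib.FGSBasic.orderOf_conj]; exact hbo
        have hcomm : Commute a (g * b * g⁻¹) := by
          set c := g * b * g⁻¹ with hcdef
          have h1 : a * c * a⁻¹ * c⁻¹ ∈ S := by
            have : a * (c * a⁻¹ * c⁻¹) ∈ S := mul_mem haS (hSinv c (hcj_le g S hSM hc) a⁻¹ (inv_mem haS))
            simpa [mul_assoc] using this
          have h2 : a * c * a⁻¹ * c⁻¹ ∈ cj g S :=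
            mul_mem (hcj_inv g S hSinv a (hSM haS) c hc) (inv_mem hc)
          have h3 : a * c * a⁻¹ * c⁻¹ ∈ S ⊓ cj g S := ⟨h1, h2⟩
          rw [hinf, Subgroup.mem_bot] at h3
          have h4 : a * c * a⁻¹ = c := by
            rwa [mul_inv_eq_one] at h3
          show a * c = c * a
          rwa [mul_inv_eq_iff_eq_mul] at h4
        exact no_mixed hpp hcomm hp hr hpr hao hco
      · have hmem : S ⊓ cj g S ∈ {S : Subgroup K | S ≠ ⊥ ∧ S ≤ M ∧ (∀ m ∈ M, ∀ x ∈ S, m * x * m⁻¹ ∈ S)} :=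
          ⟨hinf, inf_le_left.trans hSM, fun m hm x hx => ⟨hSinv m hm x hx.1, hcj_inv g S hSinv m hm x hx.2⟩⟩
        have := hS.le_of_le hmem inf_le_left
        exact this.trans inf_le_right
    have hSn : S.Normal := by
      refine ⟨fun x hx g => ?_⟩
      have := hcj_mem' g⁻¹ S x (hconjle g⁻¹ hx)
      simpa using this
    rcases hMmin S hSn hSM with h | h
    · exact absurd h hSne
    · exact le_antisymm hS₀M (h ▸ hSS₀)
  refine ⟨M, hMn, ?_, ?_, ?_⟩
  · haveI : Nontrivial M := (Subgroup.nontrivial_iff_ne_bot M).mpr hMne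
    refine ⟨fun H hH => ?_⟩
    by_cases hHb : H = ⊥
    · exact Or.inl hHb
    · right
      have hne : H.map M.subtype ≠ ⊥ := by
        intro h
        exact hHb ((Subgroup.map_eq_bot_iff_of_injective H M.subtype_injective).mp h)
      have hle : H.map M.subtype ≤ M := Subgroup.map_subtype_le H
      have hinv : ∀ m ∈ M, ∀ x ∈ H.map M.subtype, m * x * m⁻¹ ∈ H.map M.subtype := by
        rintro m hm _ ⟨x, hx, rfl⟩
        exact ⟨⟨m, hm⟩ * x * ⟨m, hm⟩⁻¹, hH.conj_mem x hx _, rfl⟩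
      have heq := hall _ hne hle hinv
      rw [eq_top_iff]
      rintro ⟨x, hx⟩ -
      rw [← heq] at hx
      obtain ⟨y, hy, hyx⟩ := hx
      have : y = ⟨x, by rw [← heq]; exact ⟨y, hy, hyx⟩⟩ := Subtype.ext hyx
      rw [this] at hy
      exact hy
  · intro hc
    apply hMns
    haveI := hc
    exact Group.isSolvable_of_comm (fun x y => mul_comm' x y)
  · intro N hNn hNne
    rcases hMmin (M ⊓ N) (inferInstanceAs (M ⊓ N).Normal) inf_le_left with h | h
    · exfalso
      haveI := hNn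
      have hcomm := Subgroup.commute_of_normal_of_disjoint M N hMn hNn (by
        rw [Subgroup.disjoint_def']
        intro a b ha hb hab
        have : a ∈ M ⊓ N := ⟨ha, hab ▸ hb⟩
        rw [h, Subgroup.mem_bot] at this
        exact this)
      have h1 : Nat.card N ≠ 1 := fun h => hNne (Subgroup.card_eq_one.mp h)
      obtain ⟨q, hq, hqd⟩ := Nat.exists_prime_and_dvd h1
      haveI : Fact q.Prime := ⟨hq⟩
      obtain ⟨y, hy⟩ := exists_prime_orderOf_dvd_card' (G := N) q hqd
      obtain ⟨r, hr, hrq, a, haM, hao⟩ := other_prime M hMns q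
      exact no_mixed hpp (hcomm a y haM y.2) hr hq hrq hao (by rw [Subgroup.orderOf_coe, hy])
    · exact inf_eq_left.mp h

theorem part1 {G : Type*} [Group G] [Finite G] (hns : ¬ Group.IsSolvable G) (hpp : ∀ g : G, g ≠ 1 → IsPrimePow (orderOf g))
    (R : Subgroup G) [R.Normal] (hRs : Group.IsSolvable ↥R) (hRmax : ∀ N : Subgroup G, N.Normal → Group.IsSolvable ↥N → N ≤ R) :
    ∃ p : ℕ, p.Prime ∧ IsPGroup p ↥R := by
  classical
  by_contra hcon
  push Not at hcon
  have hRne : R ≠ ⊥ := by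
    rintro rfl
    exact hcon 2 Nat.prime_two (IsPGroup.of_bot)
  obtain ⟨p, A, hp, hAn, hAne, -, hAe, -⟩ := exists_el_in R inferInstance hRs hRne
  haveI : Fact p.Prime := ⟨hp⟩
  have hAp : IsPGroup p A := fun x => ⟨1, by
    apply Subtype.ext
    simpa using hAe x x.2⟩
  set F : Subgroup G := Cfsg.pCore p G with hF
  haveI hFn : F.Normal := Lib.H1Core.pCore_normal p G
  have hFp : IsPGroup p F := Lib.H1Core.pCore_isPGroup p
  have hAF : A ≤ F := Lib.H1Core.le_pCore hAn hAp
  have hFne : F ≠ ⊥ := fun h => hAne (le_bot_iff.mp (h ▸ hAF))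
  have hFs : Group.IsSolvable F := by
    haveI := hFp.isNilpotent
    infer_instance
  have hFR : F ≤ R := hRmax F hFn hFs
  have hFRne : ¬ R ≤ F := fun h => hcon p hp (hFp.to_le h)
  let φ := QuotientGroup.mk' F
  have hφs : Function.Surjective φ := QuotientGroup.mk'_surjective F
  have hRbn : (R.map φ).Normal := Subgroup.Normal.map inferInstance φ hφs
  have hRbs : Group.IsSolvable (R.map φ) := solvable_of_surjective (φ.subgroupMap_surjective R)
  have hRbne : R.map φ ≠ ⊥ := by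
    intro h
    apply hFRne
    intro x hx
    have : φ x ∈ R.map φ := ⟨x, hx, rfl⟩
    rw [h, Subgroup.mem_bot] at this
    exact (QuotientGroup.eq_one_iff x).mp this
  obtain ⟨q, B, hq, hBn, hBne, -, hBe, hBab⟩ := exists_el_in (R.map φ) hRbn hRbs hRbne
  haveI : Fact q.Prime := ⟨hq⟩
  have hBq : IsPGroup q B := fun x => ⟨1, by
    apply Subtype.ext
    simpa using hBe x x.2⟩
  set T : Subgroup G := B.comap φ with hT
  haveI hTn : T.Normal := hBn.comap φ
  have hFT : F ≤ T := by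
    intro x hx
    show φ x ∈ B
    rw [show φ x = 1 from (QuotientGroup.eq_one_iff x).mpr hx]
    exact one_mem _
  have hTcard : Nat.card T = Nat.card B * Nat.card F := Lib.H1Hall.card_comap_mk F B
  obtain ⟨b, hb⟩ := IsPGroup.iff_card.mp hBq
  obtain ⟨a, ha⟩ := IsPGroup.iff_card.mp hFp
  have hb0 : b ≠ 0 := by
    rintro rfl
    exact hBne (Subgroup.card_eq_one.mp (by simpa using hb))
  have hqp : q ≠ p := by
    rintro rfl
    have hTp : IsPGroup q T := IsPGroup.of_card (n := b + a) (by rw [hTcard, hb, ha, pow_add])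
    have hTF : T ≤ F := Lib.H1Core.le_pCore hTn hTp
    apply hBne
    rw [eq_bot_iff]
    intro y hy
    obtain ⟨x, rfl⟩ := hφs y
    rw [Subgroup.mem_bot]
    exact (QuotientGroup.eq_one_iff x).mpr (hTF hy)
  -- a Sylow subgroup
  obtain Q₀ : Sylow q T := default
  set Q : Subgroup G := (Q₀ : Subgroup T).map T.subtype with hQ
  have hQT : Q ≤ T := Subgroup.map_subtype_le _
  have hQcard : Nat.card Q = Nat.card Q₀ :=
    (Nat.card_congr (Subgroup.equivMapOfInjective _ _ T.subtype_injective).toEquiv).symm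
  have hQp : IsPGroup q Q := by
    have := Q₀.isPGroup'
    exact IsPGroup.of_card (n := (IsPGroup.iff_card.mp this).choose) (by rw [hQcard]; exact (IsPGroup.iff_card.mp this).choose_spec)
  have hQF : Q ⊓ F = ⊥ := Subgroup.inf_eq_bot_of_coprime (by
    exact IsPGroup.coprime_card_of_ne (p₁ := q) (p₂ := p) (hne := hqp) (hH₁ := hQp) (hH₂ := hFp))
  have hφinj : ∀ x ∈ Q, φ x = 1 → x = 1 := by
    intro x hx h
    have : x ∈ Q ⊓ F := ⟨hx, (QuotientGroup.eq_one_iff x).mp h⟩
    rwa [hQF, Subgroup.mem_bot] at this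
  have hQe : ∀ x ∈ Q, x ^ q = 1 := by
    intro x hx
    apply hφinj _ (pow_mem hx q)
    rw [map_pow]
    exact hBe (φ x) (hQT hx)
  have hQab : ∀ x ∈ Q, ∀ y ∈ Q, x * y = y * x := by
    intro x hx y hy
    have h : φ (x * y * x⁻¹ * y⁻¹) = 1 := by
      simp only [map_mul, map_inv]
      rw [hBab (φ x) (hQT hx) (φ y) (hQT hy)]
      group
    have h' := hφinj _ (mul_mem (mul_mem (mul_mem hx hy) (inv_mem hx)) (inv_mem hy)) h
    rw [mul_inv_eq_one, mul_inv_eq_iff_eq_mul] at h'
    exact h'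
  -- the order of `Q`
  have hqidx : ¬ q ∣ (Q₀ : Subgroup T).index := Q₀.not_dvd_index
  have hcardT : Nat.card Q * (Q₀ : Subgroup T).index = q ^ b * p ^ a := by
    rw [hQcard, Subgroup.card_mul_index, hTcard, hb, ha]
  have hdvd : q ^ b ∣ Nat.card Q := by
    have h1 : (q ^ b).Coprime (Q₀ : Subgroup T).index :=
      Nat.Coprime.pow_left _ ((Nat.Prime.coprime_iff_not_dvd hq).mpr hqidx)
    apply h1.dvd_of_dvd_mul_right
    rw [hcardT]
    exact dvd_mul_right _ _
  have hQne : Q ≠ ⊥ := by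
    intro h
    rw [h, Subgroup.card_bot] at hdvd
    have := Nat.le_of_dvd one_pos hdvd
    have h2 : 1 < q ^ b := Nat.one_lt_pow hb0 hq.one_lt
    omega
  have hmapB : Q.map φ = B := by
    apply Subgroup.eq_of_le_of_card_ge
    · rintro _ ⟨x, hx, rfl⟩
      exact hQT hx
    · have hinj : Function.Injective (φ.comp Q.subtype) := by
        rw [injective_iff_map_eq_one]
        rintro ⟨x, hx⟩ h
        exact Subtype.ext (hφinj x hx h)
      have h1 : Nat.card (Q.map φ) = Nat.card Q := by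
        have h2 : Q.map φ = (φ.comp Q.subtype).range := by
          rw [MonoidHom.range_comp, Subgroup.range_subtype]
        rw [h2]
        exact Nat.card_congr (MonoidHom.ofInjective hinj).toEquiv.symm
      rw [h1, hb]
      exact Nat.le_of_dvd Nat.card_pos hdvd
  have hTsup : T ≤ F ⊔ Q := by
    intro t ht
    have h1 : φ t ∈ Q.map φ := by
      rw [hmapB]; exact ht
    obtain ⟨x, hx, hxt⟩ := h1
    have h2 : t * x⁻¹ ∈ F := by
      apply (QuotientGroup.eq_one_iff _).mp
      show φ (t * x⁻¹) = 1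
      rw [map_mul, map_inv, hxt]
      group
    have : t = (t * x⁻¹) * x := by group
    rw [this]
    exact mul_mem (Subgroup.mem_sup_left h2) (Subgroup.mem_sup_right hx)
  -- fixed-point-freeness
  have hQfpf : ∀ x ∈ Q, x ≠ 1 → orderOf x = q := fun x hx hx1 => orderOf_eq_prime (hQe x hx) hx1
  have hfpf : ∀ x ∈ Q, x ≠ 1 → F ⊓ Subgroup.centralizer {x} = ⊥ := by
    intro x hx hx1
    rw [eq_bot_iff]
    rintro v ⟨hvF, hvc⟩
    rw [Subgroup.mem_bot]
    by_contra hv1
    obtain ⟨k, hk⟩ := IsPGroup.iff_orderOf.mp hFp ⟨v, hvF⟩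
    have hvo : orderOf v = p ^ k := by rw [← hk, Subgroup.orderOf_mk]
    have hk0 : k ≠ 0 := by
      rintro rfl
      rw [pow_zero] at hvo
      exact hv1 (orderOf_eq_one_iff.mp hvo)
    have hpd : p ∣ orderOf v := by rw [hvo]; exact dvd_pow_self p hk0
    have hwo : orderOf (v ^ (orderOf v / p)) = p := orderOf_pow_orderOf_div (orderOf_pos v).ne' hpd
    have hvc' : v ∈ Subgroup.centralizer {x} := hvc
    rw [Subgroup.mem_centralizer_singleton_iff] at hvc'
    have hvx : Commute v x := hvc'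
    exact no_mixed hpp (hvx.pow_left _) hp hq (Ne.symm hqp) hwo (hQfpf x hx hx1)
  have hQab' : IsMulCommutative Q := ⟨⟨fun a b => Subtype.ext (hQab a a.2 b b.2)⟩⟩
  have hQs : Group.IsSolvable Q := Group.isSolvable_of_comm (fun x y => mul_comm' x y)
  have hnF : Q ≤ Subgroup.normalizer (F : Set G) := by
    rw [Subgroup.normalizer_eq_top_iff.mpr hFn]; exact le_top
  have hQc : IsCyclic Q := Lib.H1FC.cyclic_of_fpf' hFne hnF hfpf hQs (Or.inl hQab')
  -- the normalizer
  have hNsup : Subgroup.normalizer (Q : Set G) ⊔ F = ⊤ := by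
    have h1 := Sylow.normalizer_sup_eq_top Q₀
    rw [eq_top_iff, ← h1]
    refine sup_le le_sup_left ?_
    refine hTsup.trans (sup_le le_sup_right ?_)
    exact Subgroup.le_normalizer.trans le_sup_left
  have hNns : ¬ Group.IsSolvable (Subgroup.normalizer (Q : Set G)) := by
    intro hN
    apply hns
    have hsurj : Function.Surjective (φ.comp (Subgroup.normalizer (Q : Set G)).subtype) := by
      intro y
      obtain ⟨g, rfl⟩ := hφs y
      have hg : g ∈ Subgroup.normalizer (Q : Set G) ⊔ F := by rw [hNsup]; trivial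
      rw [← SetLike.mem_coe, Subgroup.mul_normal, Set.mem_mul] at hg
      obtain ⟨n, hn, f, hf, rfl⟩ := hg
      refine ⟨⟨n, hn⟩, ?_⟩
      show φ n = φ (n * f)
      rw [map_mul, show φ f = 1 from (QuotientGroup.eq_one_iff f).mpr hf, mul_one]
    haveI : Group.IsSolvable (G ⧸ F) := solvable_of_surjective hsurj
    exact solvable_of_ker_le_range F.subtype φ (by
      intro x hx
      exact ⟨⟨x, (QuotientGroup.eq_one_iff x).mp hx⟩, rfl⟩)
  have hCns : ¬ Group.IsSolvable (Subgroup.centralizer (Q : Set G)) := by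
    intro hC
    apply hNns
    haveI : Group.IsSolvable (MulAut Q) :=
      solvable_of_solvable_injective (f := (IsCyclic.mulAutMulEquiv Q).toMonoidHom) (MulEquiv.injective _)
    haveI : Group.IsSolvable ((Subgroup.centralizer (Q : Set G)).subgroupOf (Subgroup.normalizer (Q : Set G))) :=
      solvable_of_solvable_injective (f := Subgroup.subgroupOfEquivOfLe (Subgroup.centralizer_le_normalizer _) |>.toMonoidHom) (MulEquiv.injective _)
    refine solvable_of_ker_le_range ((Subgroup.centralizer (Q : Set G)).subgroupOf (Subgroup.normalizer (Q : Set G))).subtype Q.normalizerMonoidHom ?_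
    rw [Subgroup.normalizerMonoidHom_ker]
    intro x hx
    exact ⟨⟨x, hx⟩, rfl⟩
  obtain ⟨r, hr, hrq, y, hyC, hyo⟩ := other_prime _ hCns q
  obtain ⟨x, hxQ, hx1⟩ := Q.bot_or_exists_ne_one.resolve_left hQne
  have hyx : Commute y x := (Subgroup.mem_centralizer_iff.mp hyC x hxQ).symm
  exact no_mixed hpp hyx hr hq hrq hyo (hQfpf x hxQ hx1)

/-- Let G be a finite non-solvable group in which every element has prime-power order, and let R be its largest solvable normal subgroup. Then R is a p-group for some prime p; G/R has a non-abelian simple normal subgroup contained in every nontrivial normal subgroup of G/R (its unique minimal normal subgroup); and the order of every solvable subgroup of G has at most two prime divisors. -/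
theorem result {G : Type*} [Group G] [Finite G] (hns : ¬ Group.IsSolvable G) (hpp : ∀ g : G, g ≠ 1 → IsPrimePow (orderOf g))
    (R : Subgroup G) [R.Normal] (hRs : Group.IsSolvable ↥R) (hRmax : ∀ N : Subgroup G, N.Normal → Group.IsSolvable ↥N → N ≤ R) :
    (∃ p : ℕ, p.Prime ∧ IsPGroup p ↥R) ∧
      (∃ M : Subgroup (G ⧸ R), M.Normal ∧ IsSimpleGroup ↥M ∧ ¬ IsMulCommutative ↥M ∧
        ∀ N : Subgroup (G ⧸ R), N.Normal → N ≠ ⊥ → M ≤ N) ∧
      ∀ H : Subgroup G, Group.IsSolvable ↥H → (Nat.card ↥H).primeFactors.card ≤ 2 := by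
  classical
  refine ⟨part1 hns hpp R hRs hRmax, ?_, ?_⟩
  · have hRtop : R ≠ ⊤ := by
      rintro rfl
      exact hns (solvable_of_surjective (f := (⊤ : Subgroup G).subtype) (fun g => ⟨⟨g, trivial⟩, rfl⟩))
    haveI : Nontrivial (G ⧸ R) := QuotientGroup.nontrivial_iff.mpr hRtop
    apply part2
    · intro y hy
      obtain ⟨x, rfl⟩ := QuotientGroup.mk_surjective y
      have hx1 : x ≠ 1 := by
        rintro rfl
        exact hy rfl
      obtain ⟨s, k, hs, hk, hsk⟩ := (isPrimePow_nat_iff _).mp (hpp x hx1)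
      have hd : orderOf ((x : G ⧸ R)) ∣ s ^ k := by
        rw [hsk]
        exact orderOf_map_dvd (QuotientGroup.mk' R) x
      obtain ⟨j, -, hj⟩ := (Nat.dvd_prime_pow hs).mp hd
      have hj0 : j ≠ 0 := by
        rintro rfl
        rw [pow_zero] at hj
        exact hy (orderOf_eq_one_iff.mp hj)
      rw [hj]
      exact (isPrimePow_nat_iff _).mpr ⟨s, j, hs, Nat.pos_of_ne_zero hj0, rfl⟩
    · intro N hNn hNs
      have hcn : (N.comap (QuotientGroup.mk' R)).Normal := hNn.comap _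
      have hcs : Group.IsSolvable (N.comap (QuotientGroup.mk' R)) := by
        have hle : R ≤ N.comap (QuotientGroup.mk' R) := by
          intro x hx
          show (QuotientGroup.mk' R) x ∈ N
          rw [show (QuotientGroup.mk' R) x = 1 from (QuotientGroup.eq_one_iff x).mpr hx]
          exact one_mem _
        refine solvable_of_ker_le_range (Subgroup.inclusion hle) ((QuotientGroup.mk' R).subgroupComap N) ?_
        rintro ⟨x, hx⟩ hx1
        have h2 : (QuotientGroup.mk' R) x = 1 := congrArg Subtype.val hx1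
        exact ⟨⟨x, (QuotientGroup.eq_one_iff x).mp h2⟩, rfl⟩
      have hle := hRmax _ hcn hcs
      rw [eq_bot_iff]
      intro y hy
      obtain ⟨x, rfl⟩ := QuotientGroup.mk_surjective y
      rw [Subgroup.mem_bot]
      exact (QuotientGroup.eq_one_iff x).mpr (hle hy)
  · intro H hHs
    by_contra hcon
    push Not at hcon
    obtain ⟨p, hp, q, hq, r, hr, hpq, hpr, hqr⟩ := Finset.two_lt_card.mp hcon
    have hp' := Nat.mem_primeFactors.mp hp
    have hq' := Nat.mem_primeFactors.mp hq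
    have hr' := Nat.mem_primeFactors.mp hr
    rcases Lib.PrimeGraph.three_primes hp'.1 hq'.1 hr'.1 hpq hpr hqr hp'.2.1 hq'.2.1 hr'.2.1 with
      ⟨g, hg⟩ | ⟨g, hg⟩ | ⟨g, hg⟩
    · exact no_pq hpp (g : G) hp'.1 hq'.1 hpq (by rw [Subgroup.orderOf_coe, hg])
    · exact no_pq hpp (g : G) hp'.1 hr'.1 hpr (by rw [Subgroup.orderOf_coe, hg])
    · exact no_pq hpp (g : G) hq'.1 hr'.1 hqr (by rw [Subgroup.orderOf_coe, hg])

end Cfsg.Agent.S3992
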