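import Cfsg.Statements.S4027
import Cfsg.Agent.S3861
-- import your own Cfsg.Agent.* helpers here

set_option autoImplicit false
open Cfsg

namespace Cfsg.Agent.S4027

/-- Let G be a finite group in which every element x of odd order satisfies N_G(⟨x⟩) = C_G(x). Then the Sylow 2-subgroups of G are normal. -/
theorem result {G : Type*} [Group G] [Finite G]
    (hirr : ∀ x : G, (∀ r : ℕ, r.Prime → r ∣ orderOf x → r ≠ 2) →
      Subgroup.normalizer ((Subgroup.zpowers x : Subgroup G) : Set G) ≤ Subgroup.centralizer {x}) (P : Sylow 2 G) :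
    (P : Subgroup G).Normal := by
  classical
  rw [← Cfsg.Agent.S3861.result]
  intro x hx1 hodd hconj
  obtain ⟨g, hg⟩ := isConj_iff.mp hconj
  have hodd' : ∀ r : ℕ, r.Prime → r ∣ orderOf x → r ≠ 2 := by
    rintro r - hr rfl
    rcases hodd with ⟨m, hm⟩
    omega
  have hgN : g ∈ Subgroup.normalizer ((Subgroup.zpowers x : Subgroup G) : Set G) := by
    apply Cfsg.Agent.Lib.Herstein.mem_normalizer_of_conj_le
    intro w hw
    obtain ⟨n, rfl⟩ := Subgroup.mem_zpowers_iff.mp hw
    have h1 := map_zpow (MulAut.conj g).toMonoidHom x n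
    have h2 : (MulAut.conj g).toMonoidHom x = g * x * g⁻¹ := rfl
    have h3 : (MulAut.conj g).toMonoidHom (x ^ n) = g * x ^ n * g⁻¹ := rfl
    rw [h2, h3, hg] at h1
    rw [h1]
    exact Subgroup.zpow_mem _ (Subgroup.inv_mem _ (Subgroup.mem_zpowers x)) n
  have h1 := Subgroup.mem_centralizer_singleton_iff.mp (hirr x hodd' hgN)
  have h2 : x⁻¹ = x := by
    rw [← hg, h1]; group
  have h3 : x * x = 1 := by
    nth_rw 1 [← h2]; simp
  have h8 : orderOf x ∣ 2 := orderOf_dvd_of_pow_eq_one (by rw [pow_two, h3])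
  have h9 : orderOf x = 1 := by
    rcases (Nat.dvd_prime Nat.prime_two).mp h8 with h | h
    · exact h
    · rw [h] at hodd
      exact absurd hodd (by decide)
  exact hx1 (orderOf_eq_one_iff.mp h9)

end Cfsg.Agent.S4027
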