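import Cfsg.Statements.S4214
import Mathlib
import Cfsg.Agent.Lib.SylNum
import Cfsg.Agent.Lib.H1Hall
import Cfsg.Agent.Lib.Herstein
import Cfsg.Agent.Lib.H1Conj
import Cfsg.Agent.Lib.ExtraIdx
import Cfsg.Agent.Lib.FGSBasic
import Cfsg.Agent.Lib.H1Core
-- import your own Cfsg.Agent.* helpers here

set_option autoImplicit false
open Cfsg

namespace Cfsg.Agent.S4214

open Subgroup
open scoped Pointwise commutatorElement
universe u

/-- A nontrivial solvable group has a nontrivial abelian normal subgroup of prime power order. -/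
theorem exists_normal_ab {G : Type*} [Group G] [Finite G] (hG : Group.IsSolvable G) (hne : Nontrivial G) :
    ∃ (q : ℕ) (K : Subgroup G), q.Prime ∧ K.Normal ∧ K ≠ ⊥ ∧ IsPGroup q K ∧ ∀ x ∈ K, ∀ y ∈ K, x * y = y * x := by
  classical
  obtain ⟨n, hn⟩ := (isSolvable_def G).mp hG
  have hex : ∃ n, derivedSeries G n = ⊥ := ⟨n, hn⟩
  set m := Nat.find hex with hm
  have hm1 : derivedSeries G m = ⊥ := Nat.find_spec hex
  have hm0 : m ≠ 0 := by
    intro h
    rw [h] at hm1
    simp only [derivedSeries_zero] at hm1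
    exact top_ne_bot hm1
  obtain ⟨k, hk⟩ := Nat.exists_eq_succ_of_ne_zero hm0
  have hA : derivedSeries G k ≠ ⊥ := Nat.find_min hex (m := k) (by omega)
  set A := derivedSeries G k with hAdef
  have hAn : A.Normal := derivedSeries_normal G k
  have hcomm : ∀ x ∈ A, ∀ y ∈ A, x * y = y * x := by
    intro x hx y hy
    have h1 : ⁅x, y⁆ ∈ derivedSeries G (k + 1) := by
      rw [derivedSeries_succ]
      exact Subgroup.commutator_mem_commutator hx hy
    rw [← Nat.succ_eq_add_one, ← hk, hm1, Subgroup.mem_bot] at h1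
    exact commutatorElement_eq_one_iff_mul_comm.mp h1
  obtain ⟨a, ha⟩ := (Subgroup.ne_bot_iff_exists_ne_one).mp hA
  have hc1 : Nat.card A ≠ 1 := by
    intro h
    haveI := (Nat.card_eq_one_iff_unique.mp h).1
    exact ha (Subsingleton.elim _ _)
  obtain ⟨q, hq, hqd⟩ := Nat.exists_prime_and_dvd hc1
  haveI : Fact q.Prime := ⟨hq⟩
  obtain ⟨x, hx⟩ := exists_prime_orderOf_dvd_card' q hqd
  let K : Subgroup G :=
    { carrier := {y | y ∈ A ∧ y ^ q = 1}
      mul_mem' := by
        rintro u v ⟨hu, hu1⟩ ⟨hv, hv1⟩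
        refine ⟨A.mul_mem hu hv, ?_⟩
        have : Commute u v := hcomm u hu v hv
        rw [this.mul_pow, hu1, hv1, one_mul]
      one_mem' := ⟨A.one_mem, one_pow _⟩
      inv_mem' := by
        rintro u ⟨hu, hu1⟩
        exact ⟨A.inv_mem hu, by rw [inv_pow, hu1, inv_one]⟩ }
  refine ⟨q, K, hq, ?_, ?_, ?_, fun x hx y hy => hcomm x hx.1 y hy.1⟩
  · constructor
    rintro u ⟨hu, hu1⟩ g
    refine ⟨hAn.conj_mem u hu g, ?_⟩
    rw [conj_pow, hu1]
    simp
  · intro hbot
    have h1 : (x : G) ∈ K := ⟨x.2, by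
      have := pow_orderOf_eq_one x
      rw [hx] at this
      have h2 := congrArg Subtype.val this
      simpa using h2⟩
    rw [hbot, Subgroup.mem_bot] at h1
    have hord : orderOf x = 1 := by
      rw [← Subgroup.orderOf_coe, h1, orderOf_one]
    rw [hord] at hx
    exact hq.one_lt.ne hx
  · rintro ⟨u, hu⟩
    exact ⟨1, Subtype.ext (by simpa using hu.2)⟩

/-- A `q`-group acting on `W`: congruence with the fixed points. -/
theorem card_modEq_centralizer {G : Type*} [Group G] [Finite G] (q : ℕ) [Fact q.Prime] (E W : Subgroup G)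
    (hE : IsPGroup q E) (hW : E ≤ normalizer (W : Set G)) :
    Nat.card W ≡ Nat.card (W ⊓ centralizer (E : Set G) : Subgroup G) [MOD q] := by
  classical
  have hconj : ∀ x ∈ E, ∀ u ∈ W, x * u * x⁻¹ ∈ W := fun x hx u hu =>
    (Subgroup.mem_normalizer_iff.mp (hW hx) u).mp hu
  letI act : MulAction E W :=
    { smul := fun x u => ⟨(x : G) * u * (x : G)⁻¹, hconj x x.2 u u.2⟩
      one_smul := fun u => by
        apply Subtype.ext
        show ((1 : E) : G) * u * ((1 : E) : G)⁻¹ = u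
        simp
      mul_smul := fun x y u => by
        apply Subtype.ext
        show ((x * y : E) : G) * u * ((x * y : E) : G)⁻¹ =
          (x : G) * ((y : G) * u * (y : G)⁻¹) * (x : G)⁻¹
        simp only [Subgroup.coe_mul]
        group }
  have hsm : ∀ (x : E) (u : W), ((x • u : W) : G) = (x : G) * u * (x : G)⁻¹ := fun _ _ => rfl
  have hmod := hE.card_modEq_card_fixedPoints (α := W)
  have hfix : Nat.card (MulAction.fixedPoints E W) = Nat.card (W ⊓ centralizer (E : Set G) : Subgroup G) := by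
    apply Nat.card_congr
    refine
      { toFun := fun u => ⟨u.1.1, u.1.2, ?_⟩
        invFun := fun r => ⟨⟨r.1, r.2.1⟩, ?_⟩
        left_inv := fun u => rfl
        right_inv := fun r => rfl }
    · show (u.1 : G) ∈ centralizer (E : Set G)
      rw [Subgroup.mem_centralizer_iff]
      intro y hy
      have h6 := u.2 ⟨y, hy⟩
      have h7 := congrArg (Subtype.val) h6
      rw [hsm] at h7
      simp only at h7
      rw [mul_inv_eq_iff_eq_mul] at h7
      exact h7
    · intro x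
      apply Subtype.ext
      rw [hsm]
      have hc : (r : G) ∈ centralizer (E : Set G) := r.2.2
      have h8 := Subgroup.mem_centralizer_iff.mp hc x x.2
      show (x : G) * (r : G) * (x : G)⁻¹ = r
      rw [h8]
      simp
  rwa [hfix] at hmod

/-- The prime for one factor. -/
theorem exists_q {G : Type*} [Group G] [Finite G] (K H W W' : Subgroup G)
    (hKab : ∀ x ∈ K, ∀ y ∈ K, x * y = y * x) (hHK : H ≤ normalizer (K : Set G))
    (hcop : (Nat.card H).Coprime (Nat.card K)) (hsolv : Group.IsSolvable H)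
    (hWK : W ≤ K) (hW'W : W' ≤ W) (hne : W' ≠ W) (hHW : H ≤ normalizer (W : Set G))
    (hHW' : H ≤ normalizer (W' : Set G)) (hCW' : K ⊓ centralizer (H : Set G) ≤ W')
    (hmax : ∀ X : Subgroup G, W' ≤ X → X ≤ W → H ≤ normalizer (X : Set G) → X = W' ∨ X = W) :
    ∃ q : ℕ, q.Prime ∧ q ∣ Nat.card H ∧ W'.relIndex W ≡ 1 [MOD q] := by
  classical
  have hc : ∀ {X : Subgroup G}, H ≤ normalizer (X : Set G) → ∀ h ∈ H, ∀ w ∈ X, h * w * h⁻¹ ∈ X := by
    intro X hX h hh w hw
    exact (Subgroup.mem_normalizer_iff.mp (hX hh) w).mp hw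
  -- the kernel of the action on `W / W'`
  let D₀ : Subgroup H :=
    { carrier := {h | ∀ w ∈ W, (h : G) * w * (h : G)⁻¹ * w⁻¹ ∈ W'}
      mul_mem' := by
        intro a b ha hb w hw
        have h1 := ha _ (hc hHW b b.2 w hw)
        have h2 := hb w hw
        have e : ((a * b : H) : G) * w * ((a * b : H) : G)⁻¹ * w⁻¹ =
            ((a : G) * ((b : G) * w * (b : G)⁻¹) * (a : G)⁻¹ * ((b : G) * w * (b : G)⁻¹)⁻¹) *
            ((b : G) * w * (b : G)⁻¹ * w⁻¹) := by
          simp only [Subgroup.coe_mul]; group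
        rw [e]
        exact W'.mul_mem h1 h2
      one_mem' := by
        intro w hw
        simp only [Subgroup.coe_one, one_mul, inv_one, mul_one, mul_inv_cancel]
        exact W'.one_mem
      inv_mem' := by
        intro a ha w hw
        have hw2 := hc hHW _ (H.inv_mem a.2) w hw
        have h1 := ha _ hw2
        have e : ((a⁻¹ : H) : G) * w * ((a⁻¹ : H) : G)⁻¹ * w⁻¹ =
            ((a : G) * ((a : G)⁻¹ * w * ((a : G)⁻¹)⁻¹) * (a : G)⁻¹ * ((a : G)⁻¹ * w * ((a : G)⁻¹)⁻¹)⁻¹)⁻¹ := by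
          simp only [Subgroup.coe_inv]; group
        rw [e]
        exact W'.inv_mem h1 }
  have hD₀mem : ∀ h : H, h ∈ D₀ ↔ ∀ w ∈ W, (h : G) * w * (h : G)⁻¹ * w⁻¹ ∈ W' := fun h => Iff.rfl
  haveI hD₀n : D₀.Normal := by
    constructor
    intro d hd g w hw
    have hw2 := hc hHW _ (H.inv_mem g.2) w hw
    have h1 := hd _ hw2
    have h2 := hc hHW' g g.2 _ h1
    have e : ((g * d * g⁻¹ : H) : G) * w * ((g * d * g⁻¹ : H) : G)⁻¹ * w⁻¹ =
        (g : G) * ((d : G) * ((g : G)⁻¹ * w * ((g : G)⁻¹)⁻¹) * (d : G)⁻¹ * ((g : G)⁻¹ * w * ((g : G)⁻¹)⁻¹)⁻¹) * (g : G)⁻¹ := by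
      simp only [Subgroup.coe_mul, Subgroup.coe_inv]; group
    rw [e]
    exact h2
  -- `D₀` is proper
  have hD₀top : D₀ ≠ ⊤ := by
    intro htop
    obtain ⟨w, hw, hwW'⟩ : ∃ w ∈ W, w ∉ W' := by
      by_contra hno
      push_neg at hno
      exact hne (le_antisymm hW'W hno)
    have hall : ∀ a ∈ H, a * w * a⁻¹ * w⁻¹ ∈ W' := by
      intro a ha
      have : (⟨a, ha⟩ : H) ∈ D₀ := by rw [htop]; trivial
      exact this w hw
    have hcopW : (Nat.card H).Coprime (Nat.card W) :=
      Nat.Coprime.coprime_dvd_right (Subgroup.card_dvd_of_le hWK) hcop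
    obtain ⟨n, hn, hn'⟩ := Cfsg.Agent.Lib.H1Cop.fixed_of_coset hHW hW'W hHW' hcopW (Or.inl hsolv) hw hall
    have h1 : n * w ∈ W' := hCW' ⟨hWK hn'.1, hn'.2⟩
    have h2 : w = n⁻¹ * (n * w) := by group
    rw [h2] at hwW'
    exact hwW' (W'.mul_mem (W'.inv_mem hn) h1)
  -- a prime and a normal `q`-subgroup of `H / D₀`
  have hYnt : Nontrivial (H ⧸ D₀) := by
    rw [QuotientGroup.nontrivial_iff]
    exact hD₀top
  haveI : Group.IsSolvable (H ⧸ D₀) := inferInstance
  obtain ⟨q, Eb, hq, hEbn, hEbne, hEbq⟩ := Lib.SylNum.exists_normal_pgroup (G := H ⧸ D₀) inferInstance hYnt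
  haveI : Fact q.Prime := ⟨hq⟩
  have hqH : q ∣ Nat.card H := by
    obtain ⟨e, he⟩ := IsPGroup.iff_card.mp hEbq
    have he0 : e ≠ 0 := by
      intro h
      rw [h, pow_zero] at he
      exact hEbne (Subgroup.card_eq_one.mp he)
    have h1 : q ∣ Nat.card Eb := by
      rw [he]; exact dvd_pow_self q he0
    have h2 : Nat.card Eb ∣ Nat.card (H ⧸ D₀) := Subgroup.card_subgroup_dvd_card Eb
    have h3 : Nat.card (H ⧸ D₀) ∣ Nat.card H := by
      rw [← Subgroup.index_eq_card]
      exact Subgroup.index_dvd_card D₀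
    exact h1.trans (h2.trans h3)
  refine ⟨q, hq, hqH, ?_⟩
  obtain ⟨P₀⟩ : Nonempty (Sylow q H) := inferInstance
  have hsurj : Function.Surjective (QuotientGroup.mk' D₀) := QuotientGroup.mk'_surjective D₀
  have hEbS : Eb ≤ (P₀ : Subgroup H).map (QuotientGroup.mk' D₀) :=
    hEbq.le_sylow_of_normal (P₀.mapSurjective hsurj)
  let E : Subgroup H := Eb.comap (QuotientGroup.mk' D₀)
  haveI hEn : E.Normal := hEbn.comap _
  let W'' : Subgroup G :=
    { carrier := {w | w ∈ W ∧ ∀ e ∈ E, (e : G) * w * (e : G)⁻¹ * w⁻¹ ∈ W'}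
      mul_mem' := by
        rintro u v ⟨hu, hu'⟩ ⟨hv, hv'⟩
        refine ⟨W.mul_mem hu hv, fun e he => ?_⟩
        have h1 := W'.mul_mem (hu' e he) (hv' e he)
        have hea := hc hHW e e.2 u hu
        have heb := hc hHW e e.2 v hv
        have e1 : (e : G) * (u * v) * (e : G)⁻¹ * (u * v)⁻¹ =
            ((e : G) * u * (e : G)⁻¹) * (((e : G) * v * (e : G)⁻¹) * v⁻¹ * u⁻¹) := by group
        have e2 : ((e : G) * v * (e : G)⁻¹) * v⁻¹ * u⁻¹ = u⁻¹ * (((e : G) * v * (e : G)⁻¹) * v⁻¹) := by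
          have : u⁻¹ * (((e : G) * v * (e : G)⁻¹) * v⁻¹) = (((e : G) * v * (e : G)⁻¹) * v⁻¹) * u⁻¹ :=
            hKab _ (K.inv_mem (hWK hu)) _ (K.mul_mem (hWK heb) (K.inv_mem (hWK hv)))
          rw [this]
        rw [e1, e2]
        have e3 : ((e : G) * u * (e : G)⁻¹) * (u⁻¹ * (((e : G) * v * (e : G)⁻¹) * v⁻¹)) =
            ((e : G) * u * (e : G)⁻¹ * u⁻¹) * ((e : G) * v * (e : G)⁻¹ * v⁻¹) := by group
        rw [e3]
        exact h1
      one_mem' := ⟨W.one_mem, fun e _ => by simp [W'.one_mem]⟩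
      inv_mem' := by
        rintro u ⟨hu, hu'⟩
        refine ⟨W.inv_mem hu, fun e he => ?_⟩
        have h1 := W'.inv_mem (hu' e he)
        have hea := hc hHW e e.2 u hu
        have e1 : (e : G) * u⁻¹ * (e : G)⁻¹ * u⁻¹⁻¹ = ((e : G) * u * (e : G)⁻¹)⁻¹ * u := by group
        have e2 : ((e : G) * u * (e : G)⁻¹ * u⁻¹)⁻¹ = u * ((e : G) * u * (e : G)⁻¹)⁻¹ := by group
        rw [e2] at h1
        rw [e1, ← hKab _ (hWK hu) _ (K.inv_mem (hWK hea))]
        exact h1 }
  have hW'W'' : W' ≤ W'' := by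
    intro w hw
    refine ⟨hW'W hw, fun e _ => ?_⟩
    exact W'.mul_mem (hc hHW' e e.2 w hw) (W'.inv_mem hw)
  have hHW'' : H ≤ normalizer (W'' : Set G) := by
    intro h hh
    apply Cfsg.Agent.Lib.Herstein.mem_normalizer_of_conj_le
    rintro w ⟨hw, hw'⟩
    refine ⟨hc hHW h hh w hw, fun e he => ?_⟩
    have he' : (⟨h, hh⟩ : H)⁻¹ * e * ((⟨h, hh⟩ : H)⁻¹)⁻¹ ∈ E := hEn.conj_mem e he _
    have h1 := hw' _ he'
    have h2 := hc hHW' h hh _ h1
    have e1 : (e : G) * (h * w * h⁻¹) * (e : G)⁻¹ * (h * w * h⁻¹)⁻¹ =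
        h * ((((⟨h, hh⟩ : H)⁻¹ * e * ((⟨h, hh⟩ : H)⁻¹)⁻¹ : H) : G) * w *
          (((⟨h, hh⟩ : H)⁻¹ * e * ((⟨h, hh⟩ : H)⁻¹)⁻¹ : H) : G)⁻¹ * w⁻¹) * h⁻¹ := by
      simp only [Subgroup.coe_mul, Subgroup.coe_inv]
      group
    rw [e1]
    exact h2
  have hW''eq : W'' = W' := by
    rcases hmax W'' hW'W'' (fun w hw => hw.1) hHW'' with h | h
    · exact h
    · exfalso
      obtain ⟨y, hy⟩ := (Subgroup.ne_bot_iff_exists_ne_one).mp hEbne
      obtain ⟨e, he⟩ := hsurj (y : H ⧸ D₀)
      have heE : e ∈ E := by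
        show QuotientGroup.mk' D₀ e ∈ Eb
        rw [he]; exact y.2
      have heD : e ∈ D₀ := by
        intro w hw
        have : w ∈ W'' := by rw [h]; exact hw
        exact this.2 e heE
      apply hy
      apply Subtype.ext
      rw [← he]
      exact (QuotientGroup.eq_one_iff e).mpr heD
  let E₀ : Subgroup G := (P₀ : Subgroup H).map H.subtype
  have hE₀H : E₀ ≤ H := by
    rintro _ ⟨x, _, rfl⟩
    exact x.2
  have hE₀q : IsPGroup q E₀ := P₀.isPGroup'.map H.subtype
  have hcent : W ⊓ centralizer (E₀ : Set G) ≤ W' := by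
    rintro w ⟨hw, hwc⟩
    rw [← hW''eq]
    refine ⟨hw, fun e he => ?_⟩
    have h1 := hEbS he
    obtain ⟨e₀, he₀, hee⟩ := h1
    have hd : e₀⁻¹ * e ∈ D₀ := by
      have := (QuotientGroup.eq).mp (show (e₀ : H ⧸ D₀) = (e : H ⧸ D₀) from hee)
      exact this
    have h2 := hd w hw
    have hc₀ : (e₀ : G) * w = w * (e₀ : G) := by
      have hc' : w ∈ centralizer (E₀ : Set G) := hwc
      exact Subgroup.mem_centralizer_iff.mp hc' _ ⟨e₀, he₀, rfl⟩
    have h3 := hc hHW' e₀ e₀.2 _ h2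
    have e1 : (e : G) * w * (e : G)⁻¹ * w⁻¹ =
        (e₀ : G) * (((e₀⁻¹ * e : H) : G) * w * ((e₀⁻¹ * e : H) : G)⁻¹ * w⁻¹) * (e₀ : G)⁻¹ := by
      simp only [Subgroup.coe_mul, Subgroup.coe_inv]
      have e2 : w⁻¹ * (e₀ : G)⁻¹ = (e₀ : G)⁻¹ * w⁻¹ := by
        rw [← mul_inv_rev, ← mul_inv_rev, hc₀]
      calc (e : G) * w * (e : G)⁻¹ * w⁻¹ = (e : G) * w * (e : G)⁻¹ * (e₀ : G) * ((e₀ : G)⁻¹ * w⁻¹) := by group
        _ = (e : G) * w * (e : G)⁻¹ * (e₀ : G) * (w⁻¹ * (e₀ : G)⁻¹) := by rw [e2]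
        _ = _ := by group
    rw [e1]
    exact h3
  have heq : W ⊓ centralizer (E₀ : Set G) = W' ⊓ centralizer (E₀ : Set G) :=
    le_antisymm (le_inf hcent inf_le_right) (inf_le_inf_right _ hW'W)
  have h1 := card_modEq_centralizer q E₀ W hE₀q (hE₀H.trans hHW)
  have h2 := card_modEq_centralizer q E₀ W' hE₀q (hE₀H.trans hHW')
  rw [heq] at h1
  have h3 : Nat.card W ≡ Nat.card W' [MOD q] := h1.trans h2.symm
  have h4 : Nat.card W' * W'.relIndex W = Nat.card W := by
    have := Cfsg.Agent.Lib.ExtraIdx.card_inf_mul_relIndex W' W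
    rwa [inf_of_le_left hW'W] at this
  have hcq : Nat.gcd q (Nat.card W') = 1 := by
    have h5 : (Nat.card H).Coprime (Nat.card W') :=
      Nat.Coprime.coprime_dvd_right (Subgroup.card_dvd_of_le (hW'W.trans hWK)) hcop
    exact Nat.Coprime.coprime_dvd_left hqH h5
  apply Nat.ModEq.cancel_left_of_coprime hcq
  rw [h4, mul_one]
  exact h3
/-- Decomposition of `|W : C_K(H)|` into factors. -/
theorem decomp {G : Type*} [Group G] [Finite G] (K H : Subgroup G)
    (hKab : ∀ x ∈ K, ∀ y ∈ K, x * y = y * x) (hHK : H ≤ normalizer (K : Set G))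
    (hcop : (Nat.card H).Coprime (Nat.card K)) (hsolv : Group.IsSolvable H) :
    ∀ (N : ℕ) (W : Subgroup G), Nat.card W = N → K ⊓ centralizer (H : Set G) ≤ W → W ≤ K →
      H ≤ normalizer (W : Set G) →
      ∃ l : List ℕ, l.prod = (K ⊓ centralizer (H : Set G)).relIndex W ∧
        ∀ f ∈ l, f ∣ Nat.card K ∧ ∃ q : ℕ, q.Prime ∧ q ∣ Nat.card H ∧ f ≡ 1 [MOD q] := by
  intro N
  induction N using Nat.strong_induction_on with
  | _ N ih =>
  intro W hN hCW hWK hHW
  set C := K ⊓ centralizer (H : Set G) with hC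
  by_cases hWC : W ≤ C
  · exact ⟨[], by simp [Subgroup.relIndex_eq_one.mpr hWC], by simp⟩
  · have hHC : H ≤ normalizer (C : Set G) := by
      intro h hh
      apply Cfsg.Agent.Lib.Herstein.mem_normalizer_of_conj_le
      rintro w ⟨hw1, hw2⟩
      have hw2' : w ∈ centralizer (H : Set G) := hw2
      refine ⟨(Subgroup.mem_normalizer_iff.mp (hHK hh) w).mp hw1, ?_⟩
      have e : h * w * h⁻¹ = w := by
        rw [(Subgroup.mem_centralizer_iff.mp hw2' h hh)]
        simp
      show h * w * h⁻¹ ∈ centralizer (H : Set G)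
      rwa [e]
    have hCne : C ≠ W := fun h => hWC (h ▸ le_rfl)
    obtain ⟨W', hle, hmax⟩ := (Set.toFinite {X : Subgroup G | C ≤ X ∧ X ≤ W ∧ X ≠ W ∧ H ≤ normalizer (X : Set G)}).exists_le_maximal
      (a := C) ⟨le_rfl, hCW, hCne, hHC⟩
    obtain ⟨hW'1, hW'2, hW'3, hW'4⟩ := hmax.prop
    have hcard : Nat.card W' < N := by
      rw [← hN]
      have h1 : Nat.card W' ≤ Nat.card W := Nat.le_of_dvd Nat.card_pos (Subgroup.card_dvd_of_le hW'2)
      have h2 : Nat.card W' ≠ Nat.card W := fun h => hW'3 (Subgroup.eq_of_le_of_card_ge hW'2 h.ge)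
      omega
    obtain ⟨l, hl, hl'⟩ := ih _ hcard W' rfl hW'1 (hW'2.trans hWK) hW'4
    obtain ⟨q, hq, hqH, hqf⟩ := exists_q K H W W' hKab hHK hcop hsolv hWK hW'2 hW'3 hHW hW'4 hW'1
      (by
        intro X hX hXW hHX
        by_cases hXe : X = W
        · exact Or.inr hXe
        · left
          exact le_antisymm (hmax.le_of_ge ⟨hW'1.trans hX, hXW, hXe, hHX⟩ hX) hX)
    refine ⟨W'.relIndex W :: l, ?_, ?_⟩
    · rw [List.prod_cons, hl, mul_comm]
      exact Subgroup.relIndex_mul_relIndex C W' W hW'1 hW'2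
    · intro f hf
      rw [List.mem_cons] at hf
      rcases hf with rfl | hf
      · refine ⟨(Subgroup.relIndex_dvd_card _ _).trans (Subgroup.card_dvd_of_le hWK), q, hq, hqH, hqf⟩
      · exact hl' f hf

/-- The number of subgroups conjugate to `H` is the index of its normalizer. -/
theorem count_eq {G : Type*} [Group G] [Finite G] (H : Subgroup G) (m : ℕ) (hH : Nat.card H = m)
    (hconj : ∀ T : Subgroup G, Nat.card T = m → ∃ g : G, MulAut.conj g • H = T) :
    Nat.card {T : Subgroup G // Nat.card T = m} = (normalizer (H : Set G)).index := by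
  classical
  letI act : MulAction G (Subgroup G) := MulAction.compHom (Subgroup G) (MulAut.conj : G →* MulAut G)
  have hsm : ∀ (g : G) (T : Subgroup G), g • T = MulAut.conj g • T := fun _ _ => rfl
  have h1 := MulAction.index_stabilizer G H
  have hst : MulAction.stabilizer G H = normalizer (H : Set G) := by
    ext g
    rw [MulAction.mem_stabilizer_iff, hsm, Subgroup.mem_normalizer_iff]
    constructor
    · intro hg h
      constructor
      · intro hh
        rw [← hg, Cfsg.Agent.Lib.H1Core.mem_conj_smul]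
        simpa [mul_assoc] using hh
      · intro hh
        rw [← hg, Cfsg.Agent.Lib.H1Core.mem_conj_smul] at hh
        simpa [mul_assoc] using hh
    · intro hg
      ext x
      rw [Cfsg.Agent.Lib.H1Core.mem_conj_smul]
      have := hg (g⁻¹ * x * g)
      rw [this]
      simp [mul_assoc]
  rw [hst] at h1
  rw [h1, ← Nat.card_coe_set_eq]
  apply Nat.card_congr
  refine Equiv.subtypeEquivRight ?_
  intro T
  constructor
  · intro hT
    obtain ⟨g, hg⟩ := hconj T hT
    exact ⟨g, hg⟩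
  · rintro ⟨g, rfl⟩
    rw [← hH]
    show Nat.card (MulAut.conj g • H : Subgroup G) = Nat.card H
    exact Cfsg.Agent.Lib.H1Conj.card_conj_smul g H

/-- The properties of a factor. -/
def Good {G : Type*} [Group G] (m f : ℕ) : Prop :=
  (∃ q e : ℕ, q.Prime ∧ f = q ^ e) ∧ (∃ K L : Subgroup G, K.Normal ∧ L.Normal ∧ K < L ∧
    (∀ M : Subgroup G, M.Normal → K ≤ M → M ≤ L → M = K ∨ M = L) ∧ f ∣ K.relIndex L) ∧
    (∃ q : ℕ, q.Prime ∧ q ∣ m ∧ f ≡ 1 [MOD q])

theorem Good.lift {G : Type*} [Group G] (K : Subgroup G) [hK : K.Normal] {m m' f : ℕ} (hm : m' ∣ m)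
    (h : Good (G := G ⧸ K) m' f) : Good (G := G) m f := by
  obtain ⟨h1, ⟨A, B, hA, hB, hAB, hmin, hd⟩, ⟨q, hq, hqm, hqf⟩⟩ := h
  have hs : Function.Surjective (QuotientGroup.mk' K) := QuotientGroup.mk'_surjective K
  refine ⟨h1, ⟨A.comap (QuotientGroup.mk' K), B.comap (QuotientGroup.mk' K), hA.comap _, hB.comap _, ?_, ?_, ?_⟩,
    ⟨q, hq, hqm.trans hm, hqf⟩⟩
  · exact (Subgroup.comap_lt_comap_of_surjective hs).mpr hAB
  · intro M hM hAM hMB
    have hKM : K ≤ M := by
      intro x hx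
      apply hAM
      show QuotientGroup.mk' K x ∈ A
      have h0 : QuotientGroup.mk' K x = 1 := (QuotientGroup.eq_one_iff x).mpr hx
      rw [h0]
      exact A.one_mem
    have hMn : (M.map (QuotientGroup.mk' K)).Normal := hM.map _ hs
    have hker : (QuotientGroup.mk' K).ker ≤ M := by
      rw [QuotientGroup.ker_mk']; exact hKM
    have hcm : (M.map (QuotientGroup.mk' K)).comap (QuotientGroup.mk' K) = M := by
      rw [Subgroup.comap_map_eq, sup_of_le_left hker]
    rcases hmin _ hMn ((Subgroup.map_comap_eq_self_of_surjective hs A).symm.le.trans (Subgroup.map_mono hAM))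
      ((Subgroup.map_mono hMB).trans (Subgroup.map_comap_eq_self_of_surjective hs B).le) with h2 | h2
    · left
      rw [← hcm, h2]
    · right
      rw [← hcm, h2]
  · rw [Subgroup.relIndex_comap, Subgroup.map_comap_eq_self_of_surjective hs]
    exact hd

theorem main_ind : ∀ (N : ℕ) (G : Type u) [Group G] [Finite G] [Group.IsSolvable G] (m n : ℕ), Nat.card G = N →
    Nat.card G = m * n → m.Coprime n →
    ∃ l : List ℕ, l.prod = Nat.card {H : Subgroup G // Nat.card H = m} ∧ ∀ f ∈ l, Good (G := G) m f := by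
  intro N
  induction N using Nat.strong_induction_on with
  | _ N ih =>
  intro G _ _ _ m n hN hG hmn
  classical
  rcases subsingleton_or_nontrivial G with hs | hnt
  · have hc1 : Nat.card G = 1 := Nat.card_unique
    have hm : m = 1 := by
      rw [hc1] at hG
      exact Nat.dvd_one.mp (Dvd.intro n hG.symm)
    have h1 : Nat.card {H : Subgroup G // Nat.card H = m} = 1 := by
      haveI : Unique {H : Subgroup G // Nat.card H = m} :=
        { default := ⟨⊥, by rw [hm]; exact Subgroup.card_bot⟩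
          uniq := fun a => Subtype.ext (Subsingleton.elim _ _) }
      exact Nat.card_unique
    exact ⟨[], by rw [h1, List.prod_nil], by simp⟩
  obtain ⟨r, K₀, hr, hK₀n, hK₀ne, hK₀p, hK₀ab⟩ := exists_normal_ab (G := G) inferInstance hnt
  haveI : Fact r.Prime := ⟨hr⟩
  -- a minimal normal subgroup in `K₀`
  obtain ⟨K, hKle, hKmin⟩ := (Set.toFinite {X : Subgroup G | X.Normal ∧ X ≠ ⊥ ∧ X ≤ K₀}).exists_le_minimal
    (a := K₀) ⟨hK₀n, hK₀ne, le_rfl⟩
  obtain ⟨hKn, hKne, hKK₀⟩ := hKmin.prop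
  haveI := hKn
  have hKp : IsPGroup r K := hK₀p.to_le hKK₀
  have hKab : ∀ x ∈ K, ∀ y ∈ K, x * y = y * x := fun x hx y hy => hK₀ab x (hKK₀ hx) y (hKK₀ hy)
  have hKchief : ∀ M : Subgroup G, M.Normal → ⊥ ≤ M → M ≤ K → M = ⊥ ∨ M = K := by
    intro M hM _ hMK
    by_cases hb : M = ⊥
    · exact Or.inl hb
    · right
      exact le_antisymm hMK (hKmin.le_of_le ⟨hM, hb, hMK.trans hKK₀⟩ hMK)
  obtain ⟨H, hH⟩ := Cfsg.Agent.Lib.H1Hall.hall_exists m n hG hmn
  have hHidx : H.index = n := by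
    have h1 := Subgroup.card_mul_index H
    rw [hH, hG] at h1
    have hm0 : 0 < m := by
      rcases Nat.eq_zero_or_pos m with h | h
      · rw [h, zero_mul] at hG
        exact absurd hG Nat.card_pos.ne'
      · exact h
    exact Nat.eq_of_mul_eq_mul_left hm0 h1
  have hcount := count_eq H m hH (fun T hT => Cfsg.Agent.Lib.H1Hall.hall_conj m n hG hmn H T hH hT)
  set mk := QuotientGroup.mk' K with hmk
  have hsurj : Function.Surjective mk := QuotientGroup.mk'_surjective K
  set Hb : Subgroup (G ⧸ K) := H.map mk with hHb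
  set m' := Nat.card Hb with hm'
  set n' := Hb.index with hn'
  have hG' : Nat.card (G ⧸ K) = m' * n' := (Subgroup.card_mul_index Hb).symm
  have hm'm : m' ∣ m := by
    rw [← hH]; exact Subgroup.card_map_dvd _ _
  have hn'n : n' ∣ n := by
    rw [← hHidx, hn']
    exact Subgroup.index_map_dvd _ hsurj
  have hcop' : m'.Coprime n' := Nat.Coprime.coprime_dvd_left hm'm (Nat.Coprime.coprime_dvd_right hn'n hmn)
  have hcardQ : Nat.card (G ⧸ K) < N := by
    rw [← hN, ← Subgroup.index_eq_card]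
    have h1 := Subgroup.card_mul_index K
    have h2 : 1 < Nat.card K := by
      obtain ⟨a, ha⟩ := (Subgroup.ne_bot_iff_exists_ne_one).mp hKne
      have : Nontrivial K := ⟨⟨a, 1, ha⟩⟩
      exact Finite.one_lt_card
    have h3 : 0 < K.index := Nat.pos_of_ne_zero Subgroup.index_ne_zero_of_finite
    rw [← h1]
    nlinarith
  obtain ⟨l₁, hl₁, hl₁'⟩ := ih _ hcardQ (G ⧸ K) m' n' rfl hG' hcop'
  have hcount' := count_eq Hb m' rfl (fun T hT => Cfsg.Agent.Lib.H1Hall.hall_conj m' n' hG' hcop' Hb T rfl hT)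
  set L : Subgroup G := comap mk (normalizer (Hb : Set (G ⧸ K))) with hL
  have hLidx : L.index = (normalizer (Hb : Set (G ⧸ K))).index := Subgroup.index_comap_of_surjective _ hsurj
  have hKL : K ≤ L := by
    intro k hk
    have : mk k = 1 := (QuotientGroup.eq_one_iff _).mpr hk
    rw [hL, Subgroup.mem_comap, this]
    exact Subgroup.one_mem _
  have hNL : normalizer (H : Set G) ≤ L := by
    intro x hx
    exact Subgroup.le_normalizer_map (H := H) mk ⟨x, hx, rfl⟩
  -- Frattini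
  have hFr : ∀ g ∈ L, ∃ a ∈ K, ∃ b ∈ normalizer (H : Set G), g = a * b := by
    intro g hg
    set R : Subgroup G := H ⊔ K with hR
    have hHR : H ≤ R := le_sup_left
    have hgHR : (MulAut.conj g • H : Subgroup G) ≤ R := by
      intro x hx
      rw [Cfsg.Agent.Lib.H1Core.mem_conj_smul] at hx
      have h1 : mk (g⁻¹ * x * g) ∈ H.map mk := ⟨_, hx, rfl⟩
      have hg' : mk g ∈ normalizer (Hb : Set (G ⧸ K)) := hg
      rw [Subgroup.mem_normalizer_iff] at hg'
      have h2 := (hg' _).mp h1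
      obtain ⟨y, hy, hyw⟩ := h2
      have h3 : y⁻¹ * x ∈ K := by
        rw [← QuotientGroup.eq_one_iff]
        have : ((y : G) : G ⧸ K) = (x : G ⧸ K) := by
          simpa [hmk, mul_assoc] using hyw
        rw [QuotientGroup.mk_mul, QuotientGroup.mk_inv, this]
        simp
      have h4 : y * (y⁻¹ * x) ∈ R := R.mul_mem (hHR hy) ((le_sup_right : K ≤ R) h3)
      simpa using h4
    have hcardR : Nat.card R = m * H.relIndex R := by
      have := Cfsg.Agent.Lib.ExtraIdx.card_inf_mul_relIndex H R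
      rwa [inf_of_le_left hHR, hH, eq_comm] at this
    have hidxR : H.relIndex R ∣ n := by
      rw [← hHidx, ← Subgroup.relIndex_mul_index hHR]
      exact dvd_mul_right _ _
    have hcopR : m.Coprime (H.relIndex R) := Nat.Coprime.coprime_dvd_right hidxR hmn
    have hcard1 : Nat.card (H.subgroupOf R) = m := by
      rw [← hH]
      exact Nat.card_congr (Subgroup.subgroupOfEquivOfLe hHR).toEquiv
    have hcard2 : Nat.card ((MulAut.conj g • H : Subgroup G).subgroupOf R) = m := by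
      rw [← hH, ← Cfsg.Agent.Lib.H1Conj.card_conj_smul g H]
      exact Nat.card_congr (Subgroup.subgroupOfEquivOfLe hgHR).toEquiv
    obtain ⟨r₀, hr₀⟩ := Cfsg.Agent.Lib.H1Hall.hall_conj (G := R) m (H.relIndex R) hcardR hcopR _ _ hcard1 hcard2
    have hw : g⁻¹ * (r₀ : G) ∈ normalizer (H : Set G) := by
      apply Cfsg.Agent.Lib.Herstein.mem_normalizer_of_conj_le
      intro y hy
      have hy' : (r₀ * ⟨y, hHR hy⟩ * r₀⁻¹ : R) ∈ (MulAut.conj r₀ • H.subgroupOf R : Subgroup R) := by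
        rw [Cfsg.Agent.Lib.H1Core.mem_conj_smul]
        have : r₀⁻¹ * (r₀ * ⟨y, hHR hy⟩ * r₀⁻¹) * r₀ = (⟨y, hHR hy⟩ : R) := by group
        rw [this]
        exact hy
      rw [hr₀, Subgroup.mem_subgroupOf, Cfsg.Agent.Lib.H1Core.mem_conj_smul] at hy'
      have e : g⁻¹ * (r₀ : G) * y * (g⁻¹ * (r₀ : G))⁻¹ = g⁻¹ * ((r₀ : G) * y * (r₀ : G)⁻¹) * g := by group
      rw [e]
      exact hy'
    have hr3 : (r₀ : G) ∈ K ⊔ H := by
      rw [sup_comm]; exact r₀.2
    rw [← SetLike.mem_coe, Subgroup.normal_mul, Set.mem_mul] at hr3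
    obtain ⟨k, hk, u, hu, hku⟩ := hr3
    refine ⟨k, hk, k⁻¹ * g, ?_, by group⟩
    have h5 := (normalizer (H : Set G)).mul_mem hw ((normalizer (H : Set G)).inv_mem (Subgroup.le_normalizer hu))
    rw [← hku] at h5
    have h6 : g⁻¹ * (k * u) * u⁻¹ = g⁻¹ * k := by group
    rw [h6] at h5
    have h7 := (normalizer (H : Set G)).inv_mem h5
    simpa using h7
  have e1 := Subgroup.relIndex_mul_index hNL
  have e2 := Cfsg.Agent.S4341.relIndex_of_fact K _ L hKL hNL hFr
  -- factors from `K`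
  obtain ⟨e, he⟩ := IsPGroup.iff_card.mp hKp
  have hKlt : (⊥ : Subgroup G) < K := bot_lt_iff_ne_bot.mpr hKne
  have hgoodK : ∀ f : ℕ, f ∣ Nat.card K → (∃ q : ℕ, q.Prime ∧ q ∣ m ∧ f ≡ 1 [MOD q]) → Good (G := G) m f := by
    intro f hf hq
    refine ⟨?_, ⟨⊥, K, inferInstance, hKn, hKlt, hKchief, ?_⟩, hq⟩
    · rw [he] at hf
      obtain ⟨t, -, ht⟩ := (Nat.dvd_prime_pow hr).mp hf
      exact ⟨r, t, hr, ht⟩
    · rw [Subgroup.relIndex_bot_left]
      exact hf
  have hl₂ : ∃ l₂ : List ℕ, l₂.prod = (normalizer (H : Set G)).relIndex K ∧ ∀ f ∈ l₂, Good (G := G) m f := by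
    by_cases hrm : r ∣ m
    · -- `K ≤ H`
      have h1 : H.relIndex (H ⊔ K) ∣ n := by
        rw [← hHidx, ← Subgroup.relIndex_mul_index (le_sup_left : H ≤ H ⊔ K)]
        exact dvd_mul_right _ _
      have h2 : H.relIndex (H ⊔ K) ∣ Nat.card K := by
        rw [sup_comm, ← Cfsg.Agent.Lib.FGSBasic.relIndex_eq_relIndex_sup K H]
        exact Subgroup.relIndex_dvd_card _ _
      rw [he] at h2
      obtain ⟨t, -, ht⟩ := (Nat.dvd_prime_pow hr).mp h2
      have ht0 : t = 0 := by
        by_contra hne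
        have h3 : r ∣ n := (dvd_pow_self r hne).trans (ht ▸ h1)
        have h4 := Nat.dvd_gcd hrm h3
        rw [hmn] at h4
        exact hr.one_lt.ne' (Nat.dvd_one.mp h4)
      rw [ht0, pow_zero] at ht
      have hKH : K ≤ H := by
        have := Subgroup.relIndex_eq_one.mp ht
        exact le_sup_right.trans this
      have h5 : (normalizer (H : Set G)).relIndex K = 1 :=
        Subgroup.relIndex_eq_one.mpr (hKH.trans Subgroup.le_normalizer)
      exact ⟨[], by simp [h5], by simp⟩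
    · have hcopHK : (Nat.card H).Coprime (Nat.card K) := by
        rw [hH, he]
        exact Nat.Coprime.pow_right _ ((Nat.Prime.coprime_iff_not_dvd hr).mpr hrm).symm
      have hHKn : H ≤ normalizer (K : Set G) := by
        rw [Subgroup.normalizer_eq_top_iff.mpr hKn]; exact le_top
      have hinf : H ⊓ K = ⊥ := Subgroup.inf_eq_bot_of_coprime hcopHK
      have hCeq : normalizer (H : Set G) ⊓ K = K ⊓ centralizer (H : Set G) := by
        apply le_antisymm
        · rintro x ⟨hx1, hx2⟩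
          exact ⟨hx2, Cfsg.Agent.Lib.H1Cop.mem_centralizer_of_normalizes hHKn hinf hx2 hx1⟩
        · rintro x ⟨hx1, hx2⟩
          refine ⟨?_, hx1⟩
          have hx2' : x ∈ centralizer (H : Set G) := hx2
          show x ∈ normalizer (H : Set G)
          rw [Subgroup.mem_normalizer_iff]
          intro y
          constructor
          · intro hy
            rw [← (Subgroup.mem_centralizer_iff.mp hx2' y hy)]
            simpa using hy
          · intro hy
            have hxy : x * y * x⁻¹ ∈ H := hy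
            have h8 := Subgroup.mem_centralizer_iff.mp hx2' _ hxy
            have h9 : y = x * y * x⁻¹ := mul_left_cancel (a := x) (by rw [← h8]; group)
            rw [h9]
            exact hxy
      have hsolvH : Group.IsSolvable H := inferInstance
      obtain ⟨l₂, hl₂, hl₂'⟩ := decomp K H hKab hHKn hcopHK hsolvH _ K rfl inf_le_left le_rfl hHKn
      refine ⟨l₂, ?_, fun f hf => ?_⟩
      · rw [hl₂, ← hCeq, Subgroup.inf_relIndex_right]
      · obtain ⟨h1, q, hq, hqH, hqf⟩ := hl₂' f hf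
        exact hgoodK f h1 ⟨q, hq, hH ▸ hqH, hqf⟩
  obtain ⟨l₂, hl₂, hl₂'⟩ := hl₂
  refine ⟨l₁ ++ l₂, ?_, ?_⟩
  · rw [List.prod_append, hl₁, hl₂, hcount, hcount', ← e1, e2, hLidx, mul_comm]
  · intro f hf
    rw [List.mem_append] at hf
    rcases hf with hf | hf
    · exact Good.lift K hm'm (hl₁' f hf)
    · exact hl₂' f hf

/-- Let `G` be a finite solvable group of order `mn` with `gcd(m, n) = 1`. Then the number of subgroups of order `m` is a product of natural numbers each of which is a power of a prime, divides the order of some chief factor of `G` (a quotient `L/K` of normal subgroups `K < L` of `G` with no normal subgroup of `G` strictly between them), and is congruent to `1` modulo some prime divisor of `m`. -/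
theorem result {G : Type*} [Group G] [Finite G] [Group.IsSolvable G] (m n : ℕ) (hG : Nat.card G = m * n) (hmn : Nat.Coprime m n) : ∃ (k : ℕ) (f : Fin k → ℕ), Nat.card {H : Subgroup G // Nat.card H = m} = ∏ i, f i ∧ ∀ i, (∃ q e : ℕ, q.Prime ∧ f i = q ^ e) ∧ (∃ K L : Subgroup G, K.Normal ∧ L.Normal ∧ K < L ∧ (∀ M : Subgroup G, M.Normal → K ≤ M → M ≤ L → M = K ∨ M = L) ∧ f i ∣ K.relIndex L) ∧ (∃ q : ℕ, q.Prime ∧ q ∣ m ∧ f i ≡ 1 [MOD q]) := by
  classical
  obtain ⟨l, hl, hl'⟩ := main_ind _ G m n rfl hG hmn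
  refine ⟨l.length, fun i => l[i.1], ?_, fun i => hl' _ (List.getElem_mem _)⟩
  rw [Fin.prod_univ_getElem, hl]

end Cfsg.Agent.S4214
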