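import Cfsg.Statements.S4043
import Mathlib
import Cfsg.Agent.S4214
import Cfsg.Agent.Lib.FGS3
import Cfsg.Agent.Lib.PNilp
-- import your own Cfsg.Agent.* helpers here

set_option autoImplicit false
open Cfsg

namespace Cfsg.Agent.S4043

open Subgroup
open scoped Pointwise

theorem norm_of_normal {G : Type*} [Group G] [Finite G] (A : Subgroup G) (B₀ : Subgroup A) [hB : B₀.Normal] :
    A ≤ normalizer ((B₀.map A.subtype : Subgroup G) : Set G) := by
  intro a ha
  apply Cfsg.Agent.Lib.Herstein.mem_normalizer_of_conj_le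
  rintro _ ⟨b, hb, rfl⟩
  exact ⟨_, hB.conj_mem b hb ⟨a, ha⟩, rfl⟩

/-- Let G be a finite group that is the semidirect product of a normal p-subgroup N by a subgroup A, and also of N by a subgroup A₁, where p is a prime and A and A₁ both have normal p-complements. If C_N(A) = C_N(A₁) = 1, then A₁ is conjugate to A by an element of N. -/
theorem result {G : Type*} [Group G] [Finite G] {p : ℕ}
    [Fact p.Prime] (N : Subgroup G) [N.Normal] (hN : IsPGroup p N) (A A₁ : Subgroup G)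
    (hA : A.IsComplement' N) (hA₁ : A₁.IsComplement' N)
    (hAp : Cfsg.HasNormalPComplement p A) (hA₁p : Cfsg.HasNormalPComplement p A₁)
    (hC : ∀ n : G, n ∈ N → (∀ a : G, a ∈ A → a * n * a⁻¹ = n) → n = 1)
    (hC₁ : ∀ n : G, n ∈ N → (∀ a : G, a ∈ A₁ → a * n * a⁻¹ = n) → n = 1) :
    ∃ n : G, n ∈ N ∧ A₁ = A.map (MulAut.conj n).toMonoidHom := by
  classical
  obtain ⟨P, B₀, hB₀n, hB₀⟩ := hAp
  obtain ⟨P₁, B₁₀, hB₁₀n, hB₁₀⟩ := hA₁p
  set B : Subgroup G := B₀.map A.subtype with hB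
  set T : Subgroup G := (P : Subgroup A).map A.subtype with hT
  set B₁ : Subgroup G := B₁₀.map A₁.subtype with hB₁
  set T₁ : Subgroup G := (P₁ : Subgroup A₁).map A₁.subtype with hT₁
  have hBA : B ≤ A := by rintro _ ⟨x, _, rfl⟩; exact x.2
  have hB₁A : B₁ ≤ A₁ := by rintro _ ⟨x, _, rfl⟩; exact x.2
  have hT₁A : T₁ ≤ A₁ := by rintro _ ⟨x, _, rfl⟩; exact x.2
  have hcardB : Nat.card B = Nat.card B₀ := Subgroup.card_map_of_injective A.subtype_injective
  have hcardB₁ : Nat.card B₁ = Nat.card B₁₀ := Subgroup.card_map_of_injective A₁.subtype_injective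
  have hcB : (Nat.card B).Coprime p := by
    rw [hcardB]; exact Cfsg.Agent.Lib.PNilp.coprime_card_of_isComplement P B₀ hB₀
  have hcB₁ : (Nat.card B₁).Coprime p := by
    rw [hcardB₁]; exact Cfsg.Agent.Lib.PNilp.coprime_card_of_isComplement P₁ B₁₀ hB₁₀
  obtain ⟨a, ha⟩ := IsPGroup.iff_card.mp P.isPGroup'
  obtain ⟨b, hb⟩ := IsPGroup.iff_card.mp P₁.isPGroup'
  have hcA : Nat.card A = Nat.card A₁ := by
    have h1 := hA.card_mul
    have h2 := hA₁.card_mul
    have h3 : 0 < Nat.card N := Nat.card_pos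
    exact Nat.eq_of_mul_eq_mul_right h3 (h1.trans h2.symm)
  have hcardEq : Nat.card B₁ = Nat.card B := by
    have h1 := hB₀.card_mul
    have h2 := hB₁₀.card_mul
    rw [← hcardB, ha] at h1
    rw [← hcardB₁, hb] at h2
    rw [← h2] at hcA
    rw [← h1] at hcA
    have hd1 : Nat.card B ∣ Nat.card B₁ := by
      have : Nat.card B ∣ Nat.card B₁ * p ^ b := Dvd.intro _ hcA
      exact (Nat.Coprime.pow_right b hcB).dvd_of_dvd_mul_right this
    have hd2 : Nat.card B₁ ∣ Nat.card B := by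
      have : Nat.card B₁ ∣ Nat.card B * p ^ a := Dvd.intro _ hcA.symm
      exact (Nat.Coprime.pow_right a hcB₁).dvd_of_dvd_mul_right this
    exact Nat.dvd_antisymm hd2 hd1
  -- decompositions
  have hGA : ∀ g : G, ∃ n ∈ N, ∃ x ∈ A, g = n * x := by
    intro g
    have hg : g ∈ N ⊔ A := by rw [sup_comm, hA.sup_eq_top]; trivial
    rw [← SetLike.mem_coe, Subgroup.normal_mul, Set.mem_mul] at hg
    obtain ⟨n, hn, x, hx, rfl⟩ := hg
    exact ⟨n, hn, x, hx, rfl⟩
  have hGA₁ : ∀ g : G, ∃ n ∈ N, ∃ x ∈ A₁, g = n * x := by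
    intro g
    have hg : g ∈ N ⊔ A₁ := by rw [sup_comm, hA₁.sup_eq_top]; trivial
    rw [← SetLike.mem_coe, Subgroup.normal_mul, Set.mem_mul] at hg
    obtain ⟨n, hn, x, hx, rfl⟩ := hg
    exact ⟨n, hn, x, hx, rfl⟩
  -- `K = N B` is normal with `p`-power index
  have hAnormB : A ≤ normalizer (B : Set G) := norm_of_normal A B₀
  have hA₁normB₁ : A₁ ≤ normalizer (B₁ : Set G) := norm_of_normal A₁ B₁₀
  set K : Subgroup G := N ⊔ B with hK
  haveI hKn : K.Normal := by
    have hKeq : K = (B.map (QuotientGroup.mk' N)).comap (QuotientGroup.mk' N) := by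
      rw [Subgroup.comap_map_eq, QuotientGroup.ker_mk', sup_comm]
    rw [hKeq]
    apply Subgroup.Normal.comap
    constructor
    rintro _ ⟨y, hy, rfl⟩ g
    obtain ⟨g₀, rfl⟩ := QuotientGroup.mk'_surjective N g
    obtain ⟨n, hn, x, hx, rfl⟩ := hGA g₀
    have hn1 : QuotientGroup.mk' N n = 1 := (QuotientGroup.eq_one_iff n).mpr hn
    refine ⟨x * y * x⁻¹, (Subgroup.mem_normalizer_iff.mp (hAnormB hx) y).mp hy, ?_⟩
    simp [map_mul, hn1]
  have hKp : IsPGroup p (G ⧸ K) := by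
    intro g
    obtain ⟨g₀, rfl⟩ := QuotientGroup.mk'_surjective K g
    obtain ⟨n, hn, x, hx, rfl⟩ := hGA g₀
    have hdec : (⟨x, hx⟩ : A) ∈ B₀ ⊔ (P : Subgroup A) := by
      rw [hB₀.sup_eq_top]; trivial
    rw [← SetLike.mem_coe, Subgroup.normal_mul, Set.mem_mul] at hdec
    obtain ⟨y, hy, t, ht, hyt⟩ := hdec
    refine ⟨a, ?_⟩
    have hn1 : QuotientGroup.mk' K n = 1 :=
      (QuotientGroup.eq_one_iff n).mpr ((le_sup_left : N ≤ K) hn)
    have hy1 : QuotientGroup.mk' K (y : G) = 1 :=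
      (QuotientGroup.eq_one_iff _).mpr ((le_sup_right : B ≤ K) ⟨y, hy, rfl⟩)
    have hx' : x = (y : G) * (t : G) := by
      have := congrArg Subtype.val hyt
      exact this.symm
    have ht1 : (t : G) ^ p ^ a = 1 := by
      have h1 : t ^ Nat.card (P : Subgroup A) = 1 :=
        orderOf_dvd_iff_pow_eq_one.mp (Subgroup.orderOf_dvd_natCard _ ht)
      rw [ha] at h1
      have h2 := congrArg Subtype.val h1
      simpa using h2
    rw [map_mul, hn1, one_mul, hx', map_mul, hy1, one_mul, ← map_pow, ht1, map_one]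
  have hB₁K : B₁ ≤ N ⊔ B := by
    intro x hx
    apply Cfsg.Agent.Lib.PNilp.mem_of_coprime_of_isPGroup_quotient K hKp
    have h1 : orderOf x ∣ Nat.card B₁ := by
      have := Subgroup.orderOf_dvd_natCard B₁ hx
      exact this
    exact Nat.Coprime.coprime_dvd_left h1 hcB₁
  have hcNB : (Nat.card N).Coprime (Nat.card B) := by
    obtain ⟨e, he⟩ := IsPGroup.iff_card.mp hN
    rw [he]
    exact (Nat.Coprime.pow_right e hcB).symm
  have hsolvN : Group.IsSolvable N ∨ Group.IsSolvable B := by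
    left
    haveI : Group.IsNilpotent N := hN.isNilpotent
    infer_instance
  obtain ⟨m, hm, hmB⟩ := Cfsg.Agent.Lib.FGS3.sz_conj_in_sup N B B₁ hcNB hsolvN hB₁K hcardEq
  refine ⟨m, hm, ?_⟩
  set A' : Subgroup G := A.map (MulAut.conj m).toMonoidHom with hA'
  have hA'norm : A' ≤ normalizer (B₁ : Set G) := by
    rintro _ ⟨x, hx, rfl⟩
    rw [Subgroup.mem_normalizer_iff]
    intro y
    rw [← hmB, Cfsg.Agent.Lib.H1Core.mem_conj_smul, Cfsg.Agent.Lib.H1Core.mem_conj_smul]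
    have h1 := Subgroup.mem_normalizer_iff.mp (hAnormB hx) (m⁻¹ * y * m)
    rw [h1]
    have e : m⁻¹ * ((MulAut.conj m).toMonoidHom x * y * ((MulAut.conj m).toMonoidHom x)⁻¹) * m =
        x * (m⁻¹ * y * m) * x⁻¹ := by
      show m⁻¹ * ((m * x * m⁻¹) * y * (m * x * m⁻¹)⁻¹) * m = _
      group
    rw [e]
  -- the centralizer `C = N ∩ N(B₁)` is trivial
  set C : Subgroup G := N ⊓ normalizer (B₁ : Set G) with hC'
  have hinfNB₁ : N ⊓ B₁ = ⊥ := by
    apply Subgroup.inf_eq_bot_of_coprime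
    obtain ⟨e, he⟩ := IsPGroup.iff_card.mp hN
    rw [he]
    exact (Nat.Coprime.pow_right e hcB₁).symm
  have hT₁q : IsPGroup p T₁ := P₁.isPGroup'.map A₁.subtype
  have hT₁C : T₁ ≤ normalizer (C : Set G) := by
    intro t ht
    apply Cfsg.Agent.Lib.Herstein.mem_normalizer_of_conj_le
    rintro x ⟨hx1, hx2⟩
    refine ⟨‹N.Normal›.conj_mem x hx1 t, ?_⟩
    have h1 := hA₁normB₁ (hT₁A ht)
    exact Subgroup.mul_mem _ (Subgroup.mul_mem _ h1 hx2) (Subgroup.inv_mem _ h1)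
  haveI : Fact p.Prime := inferInstance
  have hmod := Cfsg.Agent.S4214.card_modEq_centralizer p T₁ C hT₁q hT₁C
  have hfix : C ⊓ centralizer (T₁ : Set G) = ⊥ := by
    rw [eq_bot_iff]
    rintro x ⟨⟨hx1, hx2⟩, hx3⟩
    have hx3' : x ∈ centralizer (T₁ : Set G) := hx3
    rw [Subgroup.mem_bot]
    apply hC₁ x hx1
    intro y hy
    have hdec : (⟨y, hy⟩ : A₁) ∈ B₁₀ ⊔ (P₁ : Subgroup A₁) := by
      rw [hB₁₀.sup_eq_top]; trivial
    rw [← SetLike.mem_coe, Subgroup.normal_mul, Set.mem_mul] at hdec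
    obtain ⟨u, hu, t, ht, hut⟩ := hdec
    have hy' : y = (u : G) * (t : G) := (congrArg Subtype.val hut).symm
    have hcomm_t : (t : G) * x = x * (t : G) :=
      Subgroup.mem_centralizer_iff.mp hx3' _ ⟨t, ht, rfl⟩
    have hcomm_u : (u : G) * x = x * (u : G) := by
      -- `[x, u] ∈ N ∩ B₁`
      have hu' : (u : G) ∈ B₁ := ⟨u, hu, rfl⟩
      have h1 : x * (u : G) * x⁻¹ ∈ B₁ := (Subgroup.mem_normalizer_iff.mp hx2 _).mp hu'
      have h2 : x * (u : G) * x⁻¹ * (u : G)⁻¹ ∈ B₁ := B₁.mul_mem h1 (B₁.inv_mem hu')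
      have h3 : x * (u : G) * x⁻¹ * (u : G)⁻¹ ∈ N :=
        N.mul_mem hx1 (‹N.Normal›.conj_mem _ (N.inv_mem hx1) _)
          |> fun h => by
            have e : x * ((u : G) * x⁻¹ * (u : G)⁻¹) = x * (u : G) * x⁻¹ * (u : G)⁻¹ := by group
            rwa [e] at h
      have h4 : x * (u : G) * x⁻¹ * (u : G)⁻¹ ∈ N ⊓ B₁ := ⟨h3, h2⟩
      rw [hinfNB₁, Subgroup.mem_bot] at h4
      have h5 : x * (u : G) * x⁻¹ = (u : G) := mul_inv_eq_one.mp h4
      rw [mul_inv_eq_iff_eq_mul] at h5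
      exact h5.symm
    rw [hy']
    have : (u : G) * (t : G) * x = x * ((u : G) * (t : G)) := by
      rw [mul_assoc, hcomm_t, ← mul_assoc, hcomm_u, mul_assoc]
    rw [this]
    group
  rw [hfix, Subgroup.card_bot] at hmod
  have hCbot : C = ⊥ := by
    have hCN : C ≤ N := inf_le_left
    obtain ⟨e, he⟩ := IsPGroup.iff_card.mp (hN.to_le hCN)
    rw [he] at hmod
    have he0 : e = 0 := by
      by_contra hne
      have h1 : p ∣ p ^ e := dvd_pow_self p hne
      have h2 := (Nat.modEq_iff_dvd' (Nat.one_le_pow _ _ (Fact.out : p.Prime).pos)).mp hmod.symm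
      have h3 : p ∣ 1 := (Nat.dvd_sub_iff_right (Nat.one_le_pow _ _ (Fact.out : p.Prime).pos) h1).mp h2
      exact (Fact.out : p.Prime).one_lt.ne' (Nat.dvd_one.mp h3)
    rw [he0, pow_zero] at he
    exact Subgroup.card_eq_one.mp he
  -- conclusion
  have hle : A' ≤ A₁ := by
    intro y hy
    obtain ⟨n, hn, x, hx, rfl⟩ := hGA₁ y
    have h1 := hA'norm hy
    have h2 : n ∈ normalizer (B₁ : Set G) := by
      have h3 := Subgroup.mul_mem _ h1 (Subgroup.inv_mem _ (hA₁normB₁ hx))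
      simpa using h3
    have h4 : n ∈ C := ⟨hn, h2⟩
    rw [hCbot, Subgroup.mem_bot] at h4
    rw [h4, one_mul]
    exact hx
  have hcardA' : Nat.card A' = Nat.card A :=
    Subgroup.card_map_of_injective (MulEquiv.injective _)
  exact (Subgroup.eq_of_le_of_card_ge hle (by rw [hcardA', hcA])).symm

end Cfsg.Agent.S4043
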