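import Cfsg.Statements.S4049
import Cfsg.Agent.S3861
-- import your own Cfsg.Agent.* helpers here

set_option autoImplicit false
open Cfsg

namespace Cfsg.Agent.S4049

/-- Let G be a finite group such that N_G(H)/C_G(H) has odd order for every nontrivial subgroup H of odd order. Then the Sylow 2-subgroups of G are normal. -/
theorem result {G : Type*} [Group G] [Finite G]
    (hhom : ∀ H : Subgroup G, H ≠ ⊥ → ¬ 2 ∣ Nat.card ↥H →
        ¬ 2 ∣ (Subgroup.centralizer (H : Set G)).relIndex (Subgroup.normalizer (H : Set G))) (P : Sylow 2 G) :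
    (P : Subgroup G).Normal := by
  classical
  rw [← Cfsg.Agent.S3861.result]
  intro x hx1 hodd hconj
  obtain ⟨g, hg⟩ := isConj_iff.mp hconj
  set H := Subgroup.zpowers x with hH
  have hHne : H ≠ ⊥ := by
    intro h
    apply hx1
    have : x ∈ H := Subgroup.mem_zpowers x
    rw [h] at this
    simpa using this
  have hHodd : ¬ 2 ∣ Nat.card H := by
    rw [hH, Nat.card_zpowers]
    intro hd
    rcases hodd with ⟨m, hm⟩
    omega
  have hgN : g ∈ Subgroup.normalizer ((H : Subgroup G) : Set G) := by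
    apply Cfsg.Agent.Lib.Herstein.mem_normalizer_of_conj_le
    intro w hw
    obtain ⟨n, rfl⟩ := Subgroup.mem_zpowers_iff.mp hw
    have h1 := map_zpow (MulAut.conj g).toMonoidHom x n
    have h2 : (MulAut.conj g).toMonoidHom x = g * x * g⁻¹ := rfl
    have h3 : (MulAut.conj g).toMonoidHom (x ^ n) = g * x ^ n * g⁻¹ := rfl
    rw [h2, h3, hg] at h1
    rw [h1]
    exact Subgroup.zpow_mem _ (Subgroup.inv_mem _ (Subgroup.mem_zpowers x)) n
  -- the image of `g` in `N(H)/C(H)` has order two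
  set f := H.normalizerMonoidHom with hf
  have hfg : f ⟨g, hgN⟩ ≠ 1 := by
    intro h
    have h1 := DFunLike.congr_fun h ⟨x, Subgroup.mem_zpowers x⟩
    have h2 : g * x * g⁻¹ = x := congrArg Subtype.val h1
    rw [hg] at h2
    have h3 : x * x = 1 := by
      nth_rw 1 [← h2]; simp
    have h8 : orderOf x ∣ 2 := orderOf_dvd_of_pow_eq_one (by rw [pow_two, h3])
    have h9 : orderOf x = 1 := by
      rcases (Nat.dvd_prime Nat.prime_two).mp h8 with h | h
      · exact h
      · rw [h] at hodd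
        exact absurd hodd (by decide)
    exact hx1 (orderOf_eq_one_iff.mp h9)
  have hfg2 : f ⟨g, hgN⟩ ^ 2 = 1 := by
    ext ⟨w, hw⟩
    obtain ⟨n, rfl⟩ := Subgroup.mem_zpowers_iff.mp hw
    have h1 := map_zpow (MulAut.conj g).toMonoidHom x n
    have h2 : (MulAut.conj g).toMonoidHom x = g * x * g⁻¹ := rfl
    have h3 : (MulAut.conj g).toMonoidHom (x ^ n) = g * x ^ n * g⁻¹ := rfl
    rw [h2, h3, hg] at h1
    show g * (g * x ^ n * g⁻¹) * g⁻¹ = x ^ n
    rw [h1]
    have h4 := map_zpow (MulAut.conj g).toMonoidHom (x⁻¹) n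
    have h5 : (MulAut.conj g).toMonoidHom (x⁻¹) = g * x⁻¹ * g⁻¹ := rfl
    have h6 : (MulAut.conj g).toMonoidHom (x⁻¹ ^ n) = g * x⁻¹ ^ n * g⁻¹ := rfl
    have h7 : g * x⁻¹ * g⁻¹ = x := by
      have : g * x⁻¹ * g⁻¹ = (g * x * g⁻¹)⁻¹ := by group
      rw [this, hg, inv_inv]
    rw [h5, h6, h7] at h4
    exact h4
  have hord : orderOf (f ⟨g, hgN⟩) = 2 := orderOf_eq_prime hfg2 hfg
  have hdvd : 2 ∣ Nat.card f.range := by
    rw [← hord]
    exact Subgroup.orderOf_dvd_natCard f.range (MonoidHom.mem_range.mpr ⟨_, rfl⟩)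
  apply hhom H hHne hHodd
  have hidx : (Subgroup.centralizer (H : Set G)).relIndex (Subgroup.normalizer (H : Set G)) = Nat.card f.range := by
    have h1 : Nat.card f.range = f.ker.index := by
      rw [Subgroup.index_ker]
    rw [h1, Subgroup.normalizerMonoidHom_ker]
    rfl
  rw [hidx]
  exact hdvd

end Cfsg.Agent.S4049
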