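import Cfsg.Statements.S4075
import Mathlib
import Cfsg.Agent.S3939
import Cfsg.Agent.Lib.FGSBasic
-- import your own Cfsg.Agent.* helpers here

set_option autoImplicit false
open Cfsg

namespace Cfsg.Agent.S4075

/-- Let G be a finite nilpotent group. Every non-abelian subgroup of G is self-normalizing if and only if G is abelian or G is a minimal non-abelian p-group for some prime p (non-abelian of prime-power order with every proper subgroup abelian). -/
theorem result {G : Type*} [Group G] [Finite G]
    [Group.IsNilpotent G] :
    (∀ H : Subgroup G, ¬ IsMulCommutative H → Subgroup.normalizer (H : Set G) = H) ↔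
    (IsMulCommutative G ∨ (IsPrimePow (Nat.card G) ∧ ¬ IsMulCommutative G ∧ ∀ H : Subgroup G, H ≠ ⊤ → IsMulCommutative H)) := by
  classical
  constructor
  · intro h
    by_cases hab : IsMulCommutative G
    · exact Or.inl hab
    · right
      have hprop : ∀ H : Subgroup G, H ≠ ⊤ → IsMulCommutative H := by
        intro H hH
        by_contra hna
        have h1 := normalizerCondition_of_isNilpotent (G := G) H (lt_top_iff_ne_top.mpr hH)
        have h2 := h H hna
        rw [h2] at h1
        exact lt_irrefl _ h1
      refine ⟨?_, hab, hprop⟩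
      by_contra hpp
      apply hab
      -- every Sylow subgroup is proper, so abelian
      have hSyl : ∀ (p : ℕ) [Fact p.Prime] (P : Sylow p G), IsMulCommutative (P : Subgroup G) := by
        intro p _ P
        apply hprop
        intro htop
        apply hpp
        have h1 : Nat.card G = Nat.card (P : Subgroup G) := by rw [htop]; simp
        obtain ⟨n, hn⟩ := IsPGroup.iff_card.mp P.isPGroup'
        rw [h1, hn]
        have hn0 : n ≠ 0 := by
          rintro rfl
          apply hab
          have h2 : Nat.card G = 1 := by rw [h1, hn, pow_zero]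
          have h3 : Subsingleton G := (Nat.card_eq_one_iff_unique.mp h2).1
          exact ⟨⟨fun a b => Subsingleton.elim _ _⟩⟩
        exact ⟨p, n, (Fact.out : p.Prime).prime, Nat.pos_of_ne_zero hn0, rfl⟩
      let S : Set G := {y | ∃ (q k : ℕ), q.Prime ∧ orderOf y = q ^ k}
      have hS : ∀ x ∈ S, ∀ y ∈ S, x * y = y * x := by
        rintro x ⟨p, a, hp, hx⟩ y ⟨q, b, hq, hy⟩
        by_cases hpq : p = q
        · subst hpq
          haveI : Fact p.Prime := ⟨hp⟩
          obtain ⟨P⟩ : Nonempty (Sylow p G) := inferInstance
          have hPn : (P : Subgroup G).Normal := inferInstance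
          have hxP := Lib.FGSBasic.mem_sylow_of_normal P hPn ⟨a, hx⟩
          have hyP := Lib.FGSBasic.mem_sylow_of_normal P hPn ⟨b, hy⟩
          exact congrArg Subtype.val ((hSyl p P).is_comm.comm (⟨x, hxP⟩ : (P : Subgroup G)) ⟨y, hyP⟩)
        · exact Cfsg.Agent.S3939.comm_of_nilp x y hp hq hpq hx hy
      have hmem : ∀ g : G, g ∈ Subgroup.closure S := by
        intro g
        refine (Subgroup.closure_mono ?_) (Lib.FGSBasic.mem_closure_primePow_parts g)
        rintro y ⟨-, q, k, hq, hk⟩
        exact ⟨q, k, hq, hk⟩
      refine ⟨⟨fun a b => ?_⟩⟩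
      have h4 := (Subgroup.closureCommGroupOfComm hS).mul_comm ⟨a, hmem a⟩ ⟨b, hmem b⟩
      exact congrArg Subtype.val h4
  · rintro (hab | ⟨-, -, hmin⟩) H hna
    · exfalso
      apply hna
      exact ⟨⟨fun a b => Subtype.ext (hab.is_comm.comm a.1 b.1)⟩⟩
    · have hH : H = ⊤ := by
        by_contra hne
        exact hna (hmin H hne)
      subst hH
      exact Subgroup.normalizer_eq_top_iff.mpr inferInstance

end Cfsg.Agent.S4075
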