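import Cfsg.Statements.S4082
import Mathlib
import Cfsg.Agent.Lib.H1FC
import Cfsg.Agent.Lib.LeadDihedral
import Cfsg.Agent.Lib.FGSBasic
import Cfsg.Agent.S3858
-- import your own Cfsg.Agent.* helpers here

set_option autoImplicit false
open Cfsg

namespace Cfsg.Agent.S4082

open Subgroup DihedralGroup
open scoped commutatorElement

section dih
variable {H : Type*} [Group H] {m : ℕ}

theorem dih1 (e : H ≃* DihedralGroup m) (y g : H) (hy : ¬ 2 ∣ orderOf y) (hc : g * y ≠ y * g) : ∃ b, e g = sr b := by
  have hy' : ∃ a, e y = r a := by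
    rcases h : e y with a | a
    · exact ⟨a, rfl⟩
    · exfalso
      apply hy
      rw [← MulEquiv.orderOf_eq e y, h, orderOf_sr]
  obtain ⟨a, ha⟩ := hy'
  rcases h : e g with b | b
  · exfalso
    apply hc
    apply e.injective
    rw [map_mul, map_mul, h, ha, r_mul_r, r_mul_r, add_comm]
  · exact ⟨b, rfl⟩

theorem dih2 (e : H ≃* DihedralGroup m) (y g : H) (hy : ¬ 2 ∣ orderOf y) (b : ZMod m) (hg : e g = sr b) :
    g * g = 1 ∧ g * y * g⁻¹ = y⁻¹ := by
  have hy' : ∃ a, e y = r a := by
    rcases h : e y with a | a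
    · exact ⟨a, rfl⟩
    · exfalso
      apply hy
      rw [← MulEquiv.orderOf_eq e y, h, orderOf_sr]
  obtain ⟨a, ha⟩ := hy'
  constructor
  · apply e.injective
    rw [map_mul, hg, sr_mul_self, map_one]
  · apply e.injective
    simp only [map_mul, map_inv, hg, ha, inv_sr, inv_r, sr_mul_r, sr_mul_sr, r_mul_sr]
    congr 1
    ring

end dih

section main
variable {G : Type*} [Group G] [Finite G] {p : ℕ} [Fact p.Prime]

abbrev Restr (p : ℕ) [Fact p.Prime] (G : Type*) [Group G] [Finite G] : Prop :=
  ∀ H : Subgroup G, (∀ S : Sylow p ↥H, (S : Subgroup ↥H).Normal) →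
        (∀ (S : Sylow p ↥H) [(S : Subgroup ↥H).Normal], IsCyclic (↥H ⧸ (S : Subgroup ↥H))) →
        IsCyclic H ∨ (∃ n : ℕ, Nonempty (H ≃* DihedralGroup (p ^ n)))

theorem app (R : Restr p G) (Y : Subgroup G) (hY : IsPGroup p Y) (g : G) (hg : g ∈ normalizer (Y : Set G)) :
    IsCyclic ↥(Y ⊔ zpowers g) ∨ ∃ n : ℕ, Nonempty (↥(Y ⊔ zpowers g) ≃* DihedralGroup (p ^ n)) := by
  set H := Y ⊔ zpowers g with hH
  have hle : H ≤ normalizer (Y : Set G) := sup_le le_normalizer ((zpowers_le).mpr hg)
  have hzle : zpowers g ≤ normalizer (Y : Set G) := (zpowers_le).mpr hg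
  haveI hYn : (Y.subgroupOf H).Normal := Subgroup.normal_subgroupOf_of_le_normalizer hle
  let ĝ : H := ⟨g, (le_sup_right : zpowers g ≤ H) (mem_zpowers g)⟩
  have hdec : ∀ h : H, ∃ y ∈ Y.subgroupOf H, ∃ k : ℤ, h = y * ĝ ^ k := by
    rintro ⟨h, hh⟩
    have h1 : h ∈ ((Y ⊔ zpowers g : Subgroup G) : Set G) := hh
    rw [Subgroup.coe_mul_of_right_le_normalizer_left Y (zpowers g) hzle, Set.mem_mul] at h1
    obtain ⟨y, hy, w, hw, rfl⟩ := h1
    obtain ⟨k, rfl⟩ := hw
    refine ⟨⟨y, (le_sup_left : Y ≤ H) hy⟩, hy, k, ?_⟩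
    apply Subtype.ext
    simp [ĝ]
  have hcyc : ∀ S : Subgroup H, Y.subgroupOf H ≤ S → ∀ [S.Normal], IsCyclic (H ⧸ S) := by
    intro S hS _
    refine ⟨⟨(ĝ : H ⧸ S), fun q => ?_⟩⟩
    obtain ⟨h, rfl⟩ := QuotientGroup.mk_surjective q
    obtain ⟨y, hy, k, rfl⟩ := hdec h
    refine ⟨k, ?_⟩
    have h2 : ((y * ĝ ^ k : H) : H ⧸ S) = ((y : H) : H ⧸ S) * ((ĝ : H) : H ⧸ S) ^ k := rfl
    have h3 : ((y : H) : H ⧸ S) = 1 := (QuotientGroup.eq_one_iff y).mpr (hS hy)
    simp only [h2, h3, one_mul]
  have hcomm : commutator H ≤ Y.subgroupOf H := by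
    rw [← Subgroup.Normal.quotient_commutative_iff_commutator_le]
    haveI := hcyc (Y.subgroupOf H) le_rfl
    exact IsCyclic.commutative
  have hYS : ∀ S : Sylow p H, Y.subgroupOf H ≤ S := by
    intro S
    have hpY : IsPGroup p (Y.subgroupOf H) := by
      apply IsPGroup.comap_of_injective hY
      exact Subgroup.subtype_injective _
    exact hpY.le_sylow_of_normal S
  have hSn : ∀ S : Sylow p H, (S : Subgroup H).Normal := by
    intro S
    constructor
    intro s hs h
    have h1 : h * s * h⁻¹ = ⁅h, s⁆ * s := by rw [commutatorElement_def]; group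
    rw [h1]
    exact mul_mem (hYS S (hcomm (Subgroup.commutator_mem_commutator (mem_top _) (mem_top _)))) hs
  exact R H hSn (fun S _ => hcyc S (hYS S))

theorem odd_of_p (hp2 : p ≠ 2) {Y : Subgroup G} (hY : IsPGroup p Y) {y : G} (hy : y ∈ Y) : ¬ 2 ∣ orderOf y := by
  intro h
  obtain ⟨k, hk⟩ := (IsPGroup.iff_orderOf.mp hY) ⟨y, hy⟩
  rw [Subgroup.orderOf_mk] at hk
  rw [hk] at h
  have hp : p.Prime := Fact.out
  exact hp2 ((Nat.prime_dvd_prime_iff_eq Nat.prime_two hp).mp (Nat.prime_two.dvd_of_dvd_pow h)).symm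

theorem noncomm (hp2 : p ≠ 2) (R : Restr p G) (Y : Subgroup G) (hY : IsPGroup p Y) (g : G) (hg : g ∈ normalizer (Y : Set G))
    (y : G) (hy : y ∈ Y) (hgy : g * y ≠ y * g) : g * g = 1 ∧ ∀ y' ∈ Y, g * y' * g⁻¹ = y'⁻¹ := by
  rcases app R Y hY g hg with hc | ⟨n, ⟨e⟩⟩
  · exfalso
    apply hgy
    have h1 := (IsCyclic.commutative (α := ↥(Y ⊔ zpowers g))).is_comm.comm
      ⟨g, (le_sup_right : zpowers g ≤ Y ⊔ zpowers g) (mem_zpowers g)⟩ ⟨y, (le_sup_left : Y ≤ Y ⊔ zpowers g) hy⟩
    exact congrArg Subtype.val h1
  · let ĝ : ↥(Y ⊔ zpowers g) := ⟨g, (le_sup_right : zpowers g ≤ Y ⊔ zpowers g) (mem_zpowers g)⟩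
    have hodd : ∀ y' (hy' : y' ∈ Y), ¬ 2 ∣ orderOf (⟨y', (le_sup_left : Y ≤ Y ⊔ zpowers g) hy'⟩ : ↥(Y ⊔ zpowers g)) := by
      intro y' hy'
      rw [Subgroup.orderOf_mk]
      exact odd_of_p hp2 hY hy'
    obtain ⟨b, hb⟩ := dih1 e ⟨y, (le_sup_left : Y ≤ Y ⊔ zpowers g) hy⟩ ĝ (hodd y hy) (fun h => hgy (congrArg Subtype.val h))
    constructor
    · have := (dih2 e ⟨y, (le_sup_left : Y ≤ Y ⊔ zpowers g) hy⟩ ĝ (hodd y hy) b hb).1
      exact congrArg Subtype.val this
    · intro y' hy'
      have := (dih2 e ⟨y', (le_sup_left : Y ≤ Y ⊔ zpowers g) hy'⟩ ĝ (hodd y' hy') b hb).2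
      exact congrArg Subtype.val this

theorem norm_of_conj_le (Q : Subgroup G) (x : G) (h : ∀ q ∈ Q, x * q * x⁻¹ ∈ Q) : x ∈ normalizer (Q : Set G) := by
  rw [Subgroup.mem_normalizer_iff]
  intro q
  refine ⟨h q, fun hq => ?_⟩
  let φ : Q → Q := fun w => ⟨x * w * x⁻¹, h w w.2⟩
  have hinj : Function.Injective φ := by
    intro a b hab
    apply Subtype.ext
    have h1 := congrArg Subtype.val hab
    exact mul_left_cancel (mul_right_cancel h1)
  obtain ⟨w, hw⟩ := Finite.injective_iff_surjective.mp hinj ⟨_, hq⟩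
  have h1 := congrArg Subtype.val hw
  have h2 : (w : G) = q := mul_left_cancel (mul_right_cancel h1)
  rw [← h2]; exact w.2

theorem pcyc (P : Sylow p G) (hPc : IsCyclic P) {X : Type*} [Group X] [Finite X] (hX : IsPGroup p X) (f : X →* G) (hf : Function.Injective f) : IsCyclic X := by
  have hT : IsPGroup p f.range := hX.of_surjective f.rangeRestrict f.rangeRestrict_surjective
  obtain ⟨u, hu⟩ := S3858.exists_conj_le f.range hT (P : Subgroup G) P.not_dvd_index
  have hmem : ∀ x : X, (MulAut.conj u⁻¹).toMonoidHom (f x) ∈ (P : Subgroup G) := by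
    intro x
    obtain ⟨y, hy, hye⟩ := Subgroup.mem_map.mp (hu ⟨x, rfl⟩)
    have h1 : (MulAut.conj u⁻¹).toMonoidHom (f x) = y := by
      rw [← hye]; simp; group
    rw [h1]; exact hy
  let φ : X →* (P : Subgroup G) := ((MulAut.conj u⁻¹).toMonoidHom.comp f).codRestrict _ hmem
  apply isCyclic_of_injective φ
  intro a b hab
  apply hf
  exact (MulAut.conj u⁻¹).injective (congrArg Subtype.val hab)

theorem cyc_of_comm {H : Type*} [Group H] [Finite H] (S : Sylow p H) [hSn : (S : Subgroup H).Normal] (hc : IsCyclic S)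
    (hq : IsCyclic (H ⧸ (S : Subgroup H))) (hcomm : ∀ a b : H, a * b = b * a) : IsCyclic H := by
  have hZ : IsZGroup H := by
    apply isZGroup_of_coprime (f := (S : Subgroup H).subtype) (f' := QuotientGroup.mk' (S : Subgroup H))
    · rw [QuotientGroup.ker_mk', Subgroup.range_subtype]
    · rw [← Subgroup.index_eq_card]
      exact S.card_coprime_index
  haveI : Group.IsNilpotent H := by
    letI : CommGroup H := { (inferInstance : Group H) with mul_comm := hcomm }
    exact CommGroup.isNilpotent
  infer_instance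

end main

/-- Let p be an odd prime and G a finite group with Sylow p-subgroup P. Say that G has restricted p-by-cyclic subgroups when every subgroup H of G whose Sylow p-subgroup is normal in H with cyclic quotient is itself cyclic or dihedral of order 2pⁿ for some n. Then G has restricted p-by-cyclic subgroups if and only if P is cyclic and one of the following holds: (1) N_G(P) = C_G(P); or (2) N_G(P)/C_G(P) has order 2 and, for the subgroup Q of order p of P, the centralizer C_G(Q) is abelian and every element of N_G(Q) outside C_G(Q) is an involution inverting every element of C_G(Q). -/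
theorem result {G : Type*} [Group G] [Finite G] {p : ℕ}
    [Fact p.Prime] (hp : p ≠ 2) (P : Sylow p G) :
    (∀ H : Subgroup G, (∀ S : Sylow p ↥H, (S : Subgroup ↥H).Normal) →
        (∀ (S : Sylow p ↥H) [(S : Subgroup ↥H).Normal], IsCyclic (↥H ⧸ (S : Subgroup ↥H))) →
        IsCyclic H ∨ (∃ n : ℕ, Nonempty (H ≃* DihedralGroup (p ^ n)))) ↔
    (IsCyclic P ∧
      (Subgroup.normalizer ((P : Subgroup G) : Set G) = Subgroup.centralizer ((P : Subgroup G) : Set G) ∨
       ((Subgroup.centralizer ((P : Subgroup G) : Set G)).relIndex (Subgroup.normalizer ((P : Subgroup G) : Set G)) = 2 ∧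
        ∀ Q : Subgroup G, Q ≤ P → Nat.card Q = p →
          IsMulCommutative ↥(Subgroup.centralizer (Q : Set G)) ∧
          ∀ x : G, x ∈ Subgroup.normalizer (Q : Set G) → x ∉ Subgroup.centralizer (Q : Set G) →
            orderOf x = 2 ∧ ∀ c : G, c ∈ Subgroup.centralizer (Q : Set G) → x * c * x⁻¹ = c⁻¹))) := by
  have hpr : p.Prime := Fact.out
  constructor
  · intro R
    have hPg : IsPGroup p (P : Subgroup G) := P.isPGroup'
    have hPc : IsCyclic (P : Subgroup G) := by
      have hH : (P : Subgroup G) ⊔ zpowers (1 : G) = P := by simp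
      rcases app R (P : Subgroup G) hPg 1 (one_mem _) with hc | ⟨n, ⟨e⟩⟩
      · exact isCyclic_of_injective (Subgroup.inclusion (le_sup_left : (P : Subgroup G) ≤ (P : Subgroup G) ⊔ zpowers (1 : G))) (Subgroup.inclusion_injective _)
      · exfalso
        let d := e.symm (sr 0)
        have hd : orderOf d = 2 := by
          rw [MulEquiv.orderOf_eq, orderOf_sr]
        have hdP : (d : G) ∈ (P : Subgroup G) := hH.le d.2
        apply odd_of_p hp hPg hdP
        rw [Subgroup.orderOf_coe, hd]
    refine ⟨hPc, ?_⟩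
    by_cases hNC : normalizer ((P : Subgroup G) : Set G) = centralizer ((P : Subgroup G) : Set G)
    · exact Or.inl hNC
    right
    have hle := centralizer_le_normalizer ((P : Subgroup G) : Set G)
    obtain ⟨g₀, hg₀, hg₀c⟩ : ∃ g₀ ∈ normalizer ((P : Subgroup G) : Set G), g₀ ∉ centralizer ((P : Subgroup G) : Set G) := by
      by_contra hcon
      push Not at hcon
      exact hNC (le_antisymm hcon hle)
    have hinv : ∀ g ∈ normalizer ((P : Subgroup G) : Set G), g ∉ centralizer ((P : Subgroup G) : Set G) →
        g * g = 1 ∧ ∀ y ∈ (P : Subgroup G), g * y * g⁻¹ = y⁻¹ := by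
      intro g hg hgc
      rw [Subgroup.mem_centralizer_iff] at hgc
      push Not at hgc
      obtain ⟨y, hy, hyg⟩ := hgc
      exact noncomm hp R _ hPg g hg y hy (fun h => hyg h.symm)
    refine ⟨?_, ?_⟩
    · show ((centralizer ((P : Subgroup G) : Set G)).subgroupOf (normalizer ((P : Subgroup G) : Set G))).index = 2
      rw [Subgroup.index_eq_two_iff]
      refine ⟨⟨g₀, hg₀⟩, fun b => ?_⟩
      rw [Subgroup.mem_subgroupOf, Subgroup.mem_subgroupOf]
      by_cases hb : (b : G) ∈ centralizer ((P : Subgroup G) : Set G)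
      · right
        refine ⟨hb, fun h => hg₀c ?_⟩
        have h1 := mul_mem (inv_mem hb) h
        simpa using h1
      · left
        refine ⟨?_, hb⟩
        rw [Subgroup.mem_centralizer_iff]
        intro y hy
        obtain ⟨hb1, hb2⟩ := hinv b b.2 hb
        obtain ⟨ha1, ha2⟩ := hinv g₀ hg₀ hg₀c
        have h3 := ha2 y hy
        have h4 : (y⁻¹ : G) ∈ (P : Subgroup G) := inv_mem hy
        have h5 := hb2 _ h4
        rw [inv_inv] at h5
        have h6 : ((b * ⟨g₀, hg₀⟩ : normalizer ((P : Subgroup G) : Set G)) : G) = b * g₀ := rfl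
        rw [h6]
        have h7 : (b : G) * g₀ * y * ((b : G) * g₀)⁻¹ = y := by
          have : (b : G) * g₀ * y * ((b : G) * g₀)⁻¹ = b * (g₀ * y * g₀⁻¹) * (b : G)⁻¹ := by group
          rw [this, h3, h5]
        rw [mul_inv_eq_iff_eq_mul] at h7
        exact h7.symm
    · intro Q hQP hQc
      have hQp : IsPGroup p Q := hPg.to_le hQP
      obtain ⟨ha1, ha2⟩ := hinv g₀ hg₀ hg₀c
      have hg₀i : g₀⁻¹ = g₀ := inv_eq_of_mul_eq_one_left ha1
      have hg₀Q : g₀ ∈ normalizer (Q : Set G) := by
        apply norm_of_conj_le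
        intro q hq
        rw [ha2 q (hQP hq)]
        exact inv_mem hq
      have hg₀Qc : g₀ ∉ centralizer (Q : Set G) := by
        intro hc
        rw [Subgroup.mem_centralizer_iff] at hc
        have h1 : 1 < Nat.card Q := by rw [hQc]; exact hpr.one_lt
        haveI : Nontrivial Q := Finite.one_lt_card_iff_nontrivial.mp h1
        obtain ⟨⟨q, hq⟩, hq1⟩ := exists_ne (1 : Q)
        have h2 := hc q hq
        have h3 := ha2 q (hQP hq)
        have h4 : g₀ * q * g₀⁻¹ = q := by rw [← h2]; group
        rw [h4] at h3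
        have h5 : q ^ 2 = 1 := by
          rw [pow_two]
          nth_rewrite 1 [h3]
          group
        have h6 := odd_of_p hp hQp hq
        have h7 := orderOf_dvd_of_pow_eq_one h5
        rcases (Nat.dvd_prime Nat.prime_two).mp h7 with h8 | h8
        · apply hq1
          apply Subtype.ext
          exact orderOf_eq_one_iff.mp h8
        · exact h6 (h8 ▸ dvd_rfl)
      have hx : ∀ x ∈ normalizer (Q : Set G), x ∉ centralizer (Q : Set G) → x * x = 1 ∧ orderOf x = 2 := by
        intro x hx hxc
        rw [Subgroup.mem_centralizer_iff] at hxc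
        push Not at hxc
        obtain ⟨q, hq, hqx⟩ := hxc
        have h1 := (noncomm hp R Q hQp x hx q hq (fun h => hqx h.symm)).1
        refine ⟨h1, ?_⟩
        haveI : Fact (Nat.Prime 2) := ⟨Nat.prime_two⟩
        apply orderOf_eq_prime
        · rw [pow_two, h1]
        · rintro rfl
          apply hqx
          simp
      have hCN := centralizer_le_normalizer (Q : Set G)
      have hinvC : ∀ x ∈ normalizer (Q : Set G), x ∉ centralizer (Q : Set G) → ∀ c ∈ centralizer (Q : Set G), x * c * x⁻¹ = c⁻¹ := by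
        intro x hx' hxc c hc
        have h1 : x * c ∉ centralizer (Q : Set G) := by
          intro h
          apply hxc
          have h2 := mul_mem h (inv_mem hc)
          simpa using h2
        have h2 := (hx (x * c) (mul_mem hx' (hCN hc)) h1).1
        have h3 := (hx x hx' hxc).1
        have hi : x⁻¹ = x := inv_eq_of_mul_eq_one_left h3
        rw [hi]
        have h4 : (x * c * x) * c = 1 := by rw [← h2]; group
        exact eq_inv_of_mul_eq_one_left h4
      refine ⟨?_, fun x hx' hxc => ⟨(hx x hx' hxc).2, hinvC x hx' hxc⟩⟩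
      refine ⟨⟨fun c d => Subtype.ext ?_⟩⟩
      have h1 := hinvC g₀ hg₀Q hg₀Qc c c.2
      have h2 := hinvC g₀ hg₀Q hg₀Qc d d.2
      have h3 := hinvC g₀ hg₀Q hg₀Qc _ (mul_mem c.2 d.2)
      have h4 : g₀ * ((c : G) * d) * g₀⁻¹ = (g₀ * c * g₀⁻¹) * (g₀ * d * g₀⁻¹) := by group
      rw [h4, h1, h2, mul_inv_rev] at h3
      have h5 := congrArg (fun w => w⁻¹) h3
      simp only [mul_inv_rev, inv_inv] at h5
      show (c : G) * d = d * c
      exact h5.symm
  · rintro ⟨hPc, hcase⟩ H hSn hq
    obtain ⟨S⟩ : Nonempty (Sylow p H) := inferInstance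
    haveI hSN := hSn S
    haveI hqS := hq S
    have hScyc : IsCyclic S := pcyc P hPc S.isPGroup' (H.subtype.comp (S : Subgroup H).subtype)
      ((Subgroup.subtype_injective _).comp (Subgroup.subtype_injective _))
    have hScomm : ∀ a ∈ (S : Subgroup H), ∀ b ∈ (S : Subgroup H), a * b = b * a := by
      intro a ha b hb
      have := hScyc.commutative.is_comm.comm ⟨a, ha⟩ ⟨b, hb⟩
      exact congrArg Subtype.val this
    have hcommS : commutator H ≤ (S : Subgroup H) := by
      rw [← Subgroup.Normal.quotient_commutative_iff_commutator_le]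
      exact IsCyclic.commutative
    rcases hcase with h1 | ⟨h2idx, hQ⟩
    · left
      apply cyc_of_comm S hScyc hqS
      have hP' : normalizer ((P : Subgroup G) : Set G) ≤ centralizer ((P : Subgroup G) : Set G) := h1.le
      let K : Subgroup G := (MonoidHom.transferSylow P hP').ker
      have hKc : ¬ p ∣ Nat.card K := MonoidHom.not_dvd_card_ker_transferSylow P hP'
      have hKi : K.index = Nat.card (P : Subgroup G) := (MonoidHom.ker_transferSylow_isComplement' P hP').symm.index_eq_card
      haveI hKn : K.Normal := MonoidHom.normal_ker _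
      let W : Subgroup H := K.comap H.subtype
      haveI hWn : W.Normal := Subgroup.Normal.comap hKn _
      have hdisj : Disjoint (S : Subgroup H) W := by
        rw [Subgroup.disjoint_def]
        intro v hvS hvW
        obtain ⟨t, ht⟩ := (IsPGroup.iff_orderOf.mp S.isPGroup') ⟨v, hvS⟩
        rw [Subgroup.orderOf_mk] at ht
        have h3 : orderOf v ∣ Nat.card K := by
          have h4 : orderOf ((⟨(v : G), hvW⟩ : K) : G) ∣ Nat.card K := by
            rw [Subgroup.orderOf_coe]; exact orderOf_dvd_natCard _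
          rw [← Subgroup.orderOf_coe v]
          exact h4
        rcases Nat.eq_zero_or_pos t with rfl | ht0
        · rw [pow_zero] at ht
          exact orderOf_eq_one_iff.mp ht
        · exfalso
          apply hKc
          rw [ht] at h3
          exact (dvd_pow_self p (by omega)).trans h3
      have htop : (S : Subgroup H) ⊔ W = ⊤ := by
        obtain ⟨t, ht⟩ := IsPGroup.iff_card.mp P.isPGroup'
        have h3 : W.index ∣ p ^ t := by
          show (K.comap H.subtype).index ∣ _
          rw [Subgroup.index_comap, ← ht, ← hKi]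
          exact Subgroup.relIndex_dvd_index_of_normal _ _
        have h4 : ((S : Subgroup H) ⊔ W).index ∣ p ^ t := (Subgroup.index_dvd_of_le le_sup_right).trans h3
        have h5 : ((S : Subgroup H) ⊔ W).index ∣ (S : Subgroup H).index := Subgroup.index_dvd_of_le le_sup_left
        obtain ⟨j, -, hj⟩ := (Nat.dvd_prime_pow hpr).mp h4
        rcases Nat.eq_zero_or_pos j with rfl | hj0
        · rw [pow_zero] at hj
          exact Subgroup.index_eq_one.mp hj
        · exfalso
          apply S.not_dvd_index
          rw [hj] at h5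
          exact (dvd_pow_self p (by omega)).trans h5
      have hWcomm : ∀ a ∈ W, ∀ b ∈ W, a * b = b * a := by
        intro a ha b hb
        have h3 : ⁅a, b⁆ ∈ (S : Subgroup H) := hcommS (Subgroup.commutator_mem_commutator (mem_top _) (mem_top _))
        have h4 : ⁅a, b⁆ ∈ W := by
          rw [commutatorElement_def]
          exact mul_mem (mul_mem (mul_mem ha hb) (inv_mem ha)) (inv_mem hb)
        have h5 := Subgroup.disjoint_def.mp hdisj h3 h4
        exact commutatorElement_eq_one_iff_mul_comm.mp h5
      have hSW := Subgroup.commute_of_normal_of_disjoint (S : Subgroup H) W hSN hWn hdisj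
      intro a b
      have hdec : ∀ c : H, ∃ s ∈ (S : Subgroup H), ∃ w ∈ W, s * w = c := by
        intro c
        have h3 : c ∈ (((S : Subgroup H) ⊔ W : Subgroup H) : Set H) := by rw [htop]; trivial
        rw [Subgroup.mul_normal, Set.mem_mul] at h3
        exact h3
      obtain ⟨s, hs, w, hw, rfl⟩ := hdec a
      obtain ⟨s', hs', w', hw', rfl⟩ := hdec b
      have c1 : Commute s s' := hScomm s hs s' hs'
      have c2 : Commute s w' := hSW s w' hs hw'
      have c3 : Commute w s' := (hSW s' w hs' hw).symm
      have c4 : Commute w w' := hWcomm w hw w' hw'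
      exact Commute.mul_right (Commute.mul_left c1 c3) (Commute.mul_left c2 c4)
    · by_cases hcomm : ∀ a b : H, a * b = b * a
      · left; exact cyc_of_comm S hScyc hqS hcomm
      right
      push Not at hcomm
      obtain ⟨a₀, b₀, hab⟩ := hcomm
      have hSne : (S : Subgroup H) ≠ ⊥ := by
        intro hbot
        have h3 : ⁅a₀, b₀⁆ ∈ (S : Subgroup H) := hcommS (Subgroup.commutator_mem_commutator (mem_top _) (mem_top _))
        rw [hbot, Subgroup.mem_bot] at h3
        exact hab (commutatorElement_eq_one_iff_mul_comm.mp h3)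
      have hdvd : p ∣ Nat.card S := by
        obtain ⟨t, ht⟩ := IsPGroup.iff_card.mp S.isPGroup'
        rcases Nat.eq_zero_or_pos t with rfl | ht0
        · exfalso
          apply hSne
          rw [pow_zero] at ht
          exact Subgroup.eq_bot_of_card_eq _ ht
        · rw [ht]
          exact dvd_pow_self p (by omega)
      obtain ⟨z, hz⟩ := exists_prime_orderOf_dvd_card' (G := S) p hdvd
      let zz : H := z
      have hzz : orderOf zz = p := by
        rw [← hz]; exact Subgroup.orderOf_coe z
      have hzS : zz ∈ (S : Subgroup H) := z.2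
      let zg : G := zz
      have hzg : orderOf zg = p := by
        rw [← hzz]; exact Subgroup.orderOf_coe zz
      have hpz : IsPGroup p (zpowers zg) := by
        rw [IsPGroup.iff_card, Nat.card_zpowers, hzg]
        exact ⟨1, (pow_one p).symm⟩
      obtain ⟨t, ht⟩ := S3858.exists_conj_le (zpowers zg) hpz (P : Subgroup G) P.not_dvd_index
      obtain ⟨y, hyP, hye⟩ := Subgroup.mem_map.mp (ht (mem_zpowers zg))
      have hye' : t * y * t⁻¹ = zg := by simpa using hye
      have hoy : orderOf y = p := by
        rw [← hzg, ← hye']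
        have := MulEquiv.orderOf_eq (MulAut.conj t) y
        simpa using this.symm
      have hQP : zpowers y ≤ (P : Subgroup G) := (zpowers_le).mpr hyP
      obtain ⟨hI1, hI2⟩ := hQ (zpowers y) hQP (by rw [Nat.card_zpowers, hoy])
      have mem_cz : ∀ c : G, c ∈ centralizer (zpowers y : Set G) ↔ c * y = y * c := by
        intro c
        rw [Subgroup.mem_centralizer_iff]
        constructor
        · intro h3
          exact (h3 y (mem_zpowers y)).symm
        · rintro h3 _ ⟨k, rfl⟩
          have h4 : Commute c y := h3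
          exact (h4.zpow_right k).symm
      have hconjc : ∀ c : G, c * zg = zg * c → (t⁻¹ * c * t) * y = y * (t⁻¹ * c * t) := by
        intro c hc
        rw [← hye'] at hc
        have h3 : t⁻¹ * (c * (t * y * t⁻¹)) * t = t⁻¹ * (t * y * t⁻¹ * c) * t := by rw [hc]
        calc (t⁻¹ * c * t) * y = t⁻¹ * (c * (t * y * t⁻¹)) * t := by group
          _ = t⁻¹ * (t * y * t⁻¹ * c) * t := h3
          _ = y * (t⁻¹ * c * t) := by group
      have hI1' : ∀ c d : G, c * zg = zg * c → d * zg = zg * d → c * d = d * c := by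
        intro c d hc hd
        have h3 := hI1.is_comm.comm ⟨_, (mem_cz _).mpr (hconjc c hc)⟩ ⟨_, (mem_cz _).mpr (hconjc d hd)⟩
        have h4 := congrArg Subtype.val h3
        have h5 : t⁻¹ * c * t * (t⁻¹ * d * t) = t⁻¹ * d * t * (t⁻¹ * c * t) := h4
        have h6 : t * (t⁻¹ * c * t * (t⁻¹ * d * t)) * t⁻¹ = t * (t⁻¹ * d * t * (t⁻¹ * c * t)) * t⁻¹ := by rw [h5]
        simpa [mul_assoc] using h6
      have hI2' : ∀ x c : G, x * zg * x⁻¹ ∈ zpowers zg → x * zg ≠ zg * x → c * zg = zg * c → x * x = 1 ∧ x * c * x⁻¹ = c⁻¹ := by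
        intro x c hx hxc hc
        set x' := t⁻¹ * x * t with hx'
        have hx1 : x' * y * x'⁻¹ ∈ zpowers y := by
          obtain ⟨k, hk⟩ := hx
          refine ⟨k, ?_⟩
          have h3 : x' * y * x'⁻¹ = t⁻¹ * (x * zg * x⁻¹) * t := by
            rw [hx', ← hye']; group
          rw [h3, ← hk, ← hye']
          simp only []
          rw [conj_zpow]
          group
        have hx2 : x' ∈ normalizer (zpowers y : Set G) := by
          apply norm_of_conj_le
          rintro _ ⟨k, rfl⟩
          simp only []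
          rw [← conj_zpow]
          exact zpow_mem hx1 k
        have hx3 : x' ∉ centralizer (zpowers y : Set G) := by
          rw [mem_cz]
          intro h3
          apply hxc
          have h4 : t * (x' * y) * t⁻¹ = t * (y * x') * t⁻¹ := by rw [h3]
          rw [← hye']
          calc x * (t * y * t⁻¹) = t * (x' * y) * t⁻¹ := by rw [hx']; group
            _ = t * (y * x') * t⁻¹ := h4
            _ = t * y * t⁻¹ * x := by rw [hx']; group
        obtain ⟨h3, h4⟩ := hI2 x' hx2 hx3
        have h5 := h4 _ ((mem_cz _).mpr (hconjc c hc))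
        constructor
        · have h6 : x' ^ 2 = 1 := by rw [← h3]; exact pow_orderOf_eq_one x'
          have h7 : t⁻¹ * (x * x) * t = 1 := by
            rw [← h6, hx', pow_two]; group
          have h8 : t * (t⁻¹ * (x * x) * t) * t⁻¹ = 1 := by rw [h7]; group
          simpa [mul_assoc] using h8
        · have h8 : t * (x' * (t⁻¹ * c * t) * x'⁻¹) * t⁻¹ = t * (t⁻¹ * c * t)⁻¹ * t⁻¹ := by rw [h5]
          calc x * c * x⁻¹ = t * (x' * (t⁻¹ * c * t) * x'⁻¹) * t⁻¹ := by rw [hx']; group
            _ = t * (t⁻¹ * c * t)⁻¹ * t⁻¹ := h8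
            _ = c⁻¹ := by group
      have hnorm : ∀ h : H, ((h : G) * zg * (h : G)⁻¹) ∈ zpowers zg := by
        intro h
        have h3 : h * zz * h⁻¹ ∈ (S : Subgroup H) := hSN.conj_mem _ hzS h
        have h4 : (h * zz * h⁻¹) ^ p = 1 := by
          rw [conj_pow, ← hzz, pow_orderOf_eq_one]; group
        obtain ⟨k, hk⟩ := Lib.H1FC.mem_zpowers_of_cyclic hScyc hpr hzS h3 hzz h4
        refine ⟨k, ?_⟩
        have h5 := congrArg (Subtype.val) hk
        simpa using h5
      have hI2H : ∀ x c : H, x * zz ≠ zz * x → c * zz = zz * c → x * x = 1 ∧ x * c * x⁻¹ = c⁻¹ := by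
        intro x c hx hc
        have h3 := hI2' x c (hnorm x) (fun h => hx (Subtype.ext h)) (congrArg Subtype.val hc)
        exact ⟨Subtype.ext h3.1, Subtype.ext h3.2⟩
      obtain ⟨x, hx⟩ : ∃ x : H, x * zz ≠ zz * x := by
        by_contra hcon
        push Not at hcon
        apply hab
        apply Subtype.ext
        exact hI1' a₀ b₀ (congrArg Subtype.val (hcon a₀)) (congrArg Subtype.val (hcon b₀))
      have hSz : ∀ s ∈ (S : Subgroup H), s * zz = zz * s := fun s hs => hScomm s hs zz hzS
      have hxS : x ∉ (S : Subgroup H) := fun h => hx (hSz x h)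
      obtain ⟨hxx, -⟩ := hI2H x zz hx rfl
      have hqcomm : ∀ a b : H ⧸ (S : Subgroup H), a * b = b * a := hqS.commutative.is_comm.comm
      have hA : ∀ a : H, a * zz = zz * a → a ∈ (S : Subgroup H) := by
        intro a ha
        by_contra haS
        classical
        haveI := Fintype.ofFinite (H ⧸ (S : Subgroup H))
        let q : H ⧸ (S : Subgroup H) := (a : H ⧸ (S : Subgroup H))
        let qx : H ⧸ (S : Subgroup H) := (x : H ⧸ (S : Subgroup H))
        have hq1 : q ≠ 1 := fun h => haS ((QuotientGroup.eq_one_iff a).mp h)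
        have hqx1 : qx ≠ 1 := fun h => hxS ((QuotientGroup.eq_one_iff x).mp h)
        have hinv := (hI2H x a hx ha).2
        have hq2 : q ^ 2 = 1 := by
          have h3 : qx * q * qx⁻¹ = q⁻¹ := by
            show ((x * a * x⁻¹ : H) : H ⧸ (S : Subgroup H)) = ((a⁻¹ : H) : H ⧸ (S : Subgroup H))
            rw [hinv]
          rw [hqcomm qx q, mul_assoc, mul_inv_cancel, mul_one] at h3
          rw [pow_two]
          nth_rewrite 1 [h3]
          exact inv_mul_cancel q
        have hqx2 : qx ^ 2 = 1 := by
          rw [pow_two]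
          show ((x * x : H) : H ⧸ (S : Subgroup H)) = 1
          rw [hxx]; rfl
        have hne : q ≠ qx := by
          intro heq
          have h3 : a⁻¹ * x ∈ (S : Subgroup H) := QuotientGroup.eq.mp heq
          have h4 := hSz _ h3
          apply hx
          have h5 : x = a * (a⁻¹ * x) := by group
          rw [h5]
          calc a * (a⁻¹ * x) * zz = a * ((a⁻¹ * x) * zz) := by group
            _ = a * (zz * (a⁻¹ * x)) := by rw [h4]
            _ = (a * zz) * (a⁻¹ * x) := by group
            _ = zz * a * (a⁻¹ * x) := by rw [ha]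
            _ = zz * (a * (a⁻¹ * x)) := by group
        have h3 := IsCyclic.card_pow_eq_one_le (α := H ⧸ (S : Subgroup H)) (n := 2) (by norm_num)
        have hsub : ({1, q, qx} : Finset (H ⧸ (S : Subgroup H))) ⊆ Finset.univ.filter (fun a => a ^ 2 = 1) := by
          intro w hw
          simp only [Finset.mem_insert, Finset.mem_singleton] at hw
          rcases hw with rfl | rfl | rfl
          · simp
          · simpa using hq2
          · simpa using hqx2
        have h4 := Finset.card_le_card hsub
        have h5 : ({1, q, qx} : Finset (H ⧸ (S : Subgroup H))).card = 3 :=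
          Finset.card_eq_three.mpr ⟨1, q, qx, hq1.symm, hqx1.symm, hne, rfl⟩
        omega
      have hcover : ∀ h : H, h ∈ (S : Subgroup H) ∨ x * h ∈ (S : Subgroup H) := by
        intro h
        by_cases hc : h * zz = zz * h
        · left; exact hA h hc
        · right
          apply hA
          have h3 := (hI2H h zz hc rfl).2
          have h4 := (hI2H x zz hx rfl).2
          have h5 : x * h * zz * (x * h)⁻¹ = zz := by
            calc x * h * zz * (x * h)⁻¹ = x * (h * zz * h⁻¹) * x⁻¹ := by group
              _ = x * zz⁻¹ * x⁻¹ := by rw [h3]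
              _ = (x * zz * x⁻¹)⁻¹ := by group
              _ = zz := by rw [h4]; group
          rw [mul_inv_eq_iff_eq_mul] at h5
          exact h5
      obtain ⟨s₀, hs₀⟩ := IsCyclic.exists_generator (α := S)
      let s : H := s₀
      have hsS : s ∈ (S : Subgroup H) := s₀.2
      have hxs := (hI2H x s hx (hSz s hsS)).2
      have hxi : x⁻¹ = x := inv_eq_of_mul_eq_one_left hxx
      rw [hxi] at hxs
      have hvv : (x * s) * (x * s) = 1 := by
        calc (x * s) * (x * s) = (x * s * x) * s := by group
          _ = 1 := by rw [hxs]; group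
      have hx1 : x ≠ 1 := by
        rintro rfl
        apply hx
        simp
      have hv1 : x * s ≠ 1 := by
        intro h3
        apply hxS
        have h4 : x = s⁻¹ := eq_inv_of_mul_eq_one_left h3
        rw [h4]
        exact inv_mem hsS
      have hs1 : s ≠ 1 := by
        intro h3
        have h4 : s₀ = 1 := Subtype.ext h3
        have h5 := hs₀ z
        rw [h4, Subgroup.zpowers_one_eq_bot, Subgroup.mem_bot] at h5
        rw [h5] at hz
        rw [orderOf_one] at hz
        exact hpr.one_lt.ne hz
      have huv : x ≠ x * s := by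
        intro h3
        exact hs1 (mul_eq_left.mp h3.symm)
      have hgen : Subgroup.closure ({x, x * s} : Set H) = ⊤ := by
        rw [eq_top_iff]
        intro h _
        have hxm : x ∈ Subgroup.closure ({x, x * s} : Set H) := Subgroup.subset_closure (by simp)
        have hvm : x * s ∈ Subgroup.closure ({x, x * s} : Set H) := Subgroup.subset_closure (by simp)
        have hsm : s ∈ Subgroup.closure ({x, x * s} : Set H) := by
          have h3 := mul_mem (inv_mem hxm) hvm
          simpa using h3
        have hSm : ∀ w ∈ (S : Subgroup H), w ∈ Subgroup.closure ({x, x * s} : Set H) := by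
          intro w hw
          obtain ⟨k, hk⟩ := hs₀ ⟨w, hw⟩
          have h3 := congrArg Subtype.val hk
          have h4 : s ^ k = w := by simpa using h3
          rw [← h4]
          exact zpow_mem hsm k
        rcases hcover h with h3 | h3
        · exact hSm h h3
        · have h4 := mul_mem (inv_mem hxm) (hSm _ h3)
          simpa using h4
      obtain ⟨e⟩ := Lib.LeadDihedral.dihedral_of_two_involutions hxx hvv hx1 hv1 huv hgen
      have hord : x * (x * s) = s := by rw [← mul_assoc, hxx, one_mul]
      rw [hord] at e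
      obtain ⟨n, hn⟩ := (IsPGroup.iff_orderOf.mp S.isPGroup') s₀
      have hos : orderOf s = p ^ n := by
        rw [← hn]; exact Subgroup.orderOf_coe s₀
      rw [hos] at e
      exact ⟨n, ⟨e.symm⟩⟩

end Cfsg.Agent.S4082
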