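import Cfsg.Statements.S4083
import Mathlib
import Cfsg.Agent.S4082
import Cfsg.Agent.S0228
import Cfsg.Agent.S3858
import Cfsg.Agent.Lib.LeadDihedral
import Cfsg.Agent.Lib.FGSBasic
import Cfsg.Agent.Lib.DihKlein
-- import your own Cfsg.Agent.* helpers here

set_option autoImplicit false
open Cfsg

namespace Cfsg.Agent.S4083

universe u

open DihedralGroup

section Dih

theorem two_ne {k : ℕ} (hk : 2 ≤ k) : (1 : ZMod (2 ^ k)) + 1 ≠ 0 := by
  intro h
  have h2 : ((2 : ℕ) : ZMod (2 ^ k)) = 0 := by
    push_cast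
    rw [← h]; norm_num
  rw [ZMod.natCast_eq_zero_iff] at h2
  have h3 := Nat.le_of_dvd (by norm_num) h2
  have h4 : 2 ^ 2 ≤ 2 ^ k := Nat.pow_le_pow_right (by norm_num) hk
  omega

theorem sr_not_comm {k : ℕ} (hk : 2 ≤ k) (i : ZMod (2 ^ k)) :
    (sr i : DihedralGroup (2 ^ k)) * r 1 ≠ r 1 * sr i := by
  intro h
  rw [sr_mul_r, r_mul_sr, sr.injEq] at h
  apply two_ne hk
  have h1 : i + 1 + 1 = i - 1 + 1 := by rw [h]
  rw [sub_add_cancel, add_assoc] at h1
  simpa using h1

def zz (k : ℕ) : DihedralGroup (2 ^ k) := r (((2 ^ (k - 1) : ℕ)) : ZMod (2 ^ k))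

theorem zz_central {k : ℕ} (hk : 2 ≤ k) (y : DihedralGroup (2 ^ k)) : zz k * y = y * zz k := by
  have h0 : (((2 ^ (k - 1) : ℕ)) : ZMod (2 ^ k)) + ((2 ^ (k - 1) : ℕ) : ZMod (2 ^ k)) = 0 := by
    have e : ((2 ^ (k - 1) + 2 ^ (k - 1) : ℕ)) = 2 ^ k := by
      obtain ⟨t, rfl⟩ : ∃ t, k = t + 1 := ⟨k - 1, by omega⟩
      simp [pow_succ]; ring
    rw [← Nat.cast_add, e]
    exact ZMod.natCast_self _
  cases y with
  | r a => simp [zz, r_mul_r, add_comm]
  | sr a =>
    rw [zz, r_mul_sr, sr_mul_r, sr.injEq]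
    have : a - ((2 ^ (k - 1) : ℕ) : ZMod (2 ^ k)) = a + ((2 ^ (k - 1) : ℕ) : ZMod (2 ^ k)) := by
      rw [sub_eq_iff_eq_add, add_assoc, h0, add_zero]
    exact this

theorem zz_sq {k : ℕ} (hk : 2 ≤ k) : zz k * zz k = 1 := by
  have h0 : (((2 ^ (k - 1) : ℕ)) : ZMod (2 ^ k)) + ((2 ^ (k - 1) : ℕ) : ZMod (2 ^ k)) = 0 := by
    have e : ((2 ^ (k - 1) + 2 ^ (k - 1) : ℕ)) = 2 ^ k := by
      obtain ⟨t, rfl⟩ : ∃ t, k = t + 1 := ⟨k - 1, by omega⟩
      simp [pow_succ]; ring
    rw [← Nat.cast_add, e]
    exact ZMod.natCast_self _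
  rw [zz, r_mul_r, h0]
  rfl

theorem zz_ne_one {k : ℕ} (hk : 2 ≤ k) : zz k ≠ 1 := by
  intro h
  rw [zz, one_def, r.injEq, ZMod.natCast_eq_zero_iff] at h
  have h3 := Nat.le_of_dvd (by positivity) h
  have h4 : 2 ^ (k - 1) < 2 ^ k := Nat.pow_lt_pow_right (by norm_num) (by omega)
  omega

theorem central_eq {k : ℕ} (hk : 2 ≤ k) (x : DihedralGroup (2 ^ k)) (hx : ∀ y, x * y = y * x) :
    x = 1 ∨ x = zz k := by
  cases x with
  | sr i => exact absurd (hx (r 1)) (sr_not_comm hk i)
  | r a =>
    have h1 := hx (sr 0)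
    rw [r_mul_sr, sr_mul_r, sr.injEq, zero_sub, zero_add] at h1
    have h2 : a + a = 0 := by
      nth_rewrite 1 [← h1]
      simp
    have hpos : 0 < 2 ^ (k - 1) := by positivity
    have hm : 2 ^ k = 2 * 2 ^ (k - 1) := by
      obtain ⟨t, rfl⟩ : ∃ t, k = t + 1 := ⟨k - 1, by omega⟩
      simp [pow_succ]; ring
    rcases Cfsg.Agent.Lib.DihKlein.two_mul_eq_zero hpos hm h2 with h3 | h3
    · left; rw [h3, one_def]
    · right; rw [h3, zz]

theorem beta_zz {k : ℕ} (hk : 2 ≤ k) (β : MulAut (DihedralGroup (2 ^ k))) : β (zz k) = zz k := by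
  have hc : ∀ y, β (zz k) * y = y * β (zz k) := by
    intro y
    obtain ⟨w, rfl⟩ := β.surjective y
    rw [← map_mul, ← map_mul, zz_central hk]
  rcases central_eq hk _ hc with h | h
  · exact absurd ((map_eq_one_iff β β.injective).1 h) (zz_ne_one hk)
  · exact h

theorem refl_pres {k : ℕ} (hk : 2 ≤ k) (β : MulAut (DihedralGroup (2 ^ k))) (i : ZMod (2 ^ k)) :
    ∃ j, β (sr i) = sr j := by
  cases hb : β (sr i) with
  | sr j => exact ⟨j, rfl⟩
  | r a =>
    exfalso
    have h1 : (sr i : DihedralGroup (2 ^ k)) * sr i = 1 := by rw [sr_mul_sr, sub_self]; rfl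
    have h2 : (r a : DihedralGroup (2 ^ k)) * r a = 1 := by
      rw [← hb, ← map_mul, h1, map_one]
    rw [r_mul_r, one_def, r.injEq] at h2
    have hpos : 0 < 2 ^ (k - 1) := by positivity
    have hm : 2 ^ k = 2 * 2 ^ (k - 1) := by
      obtain ⟨t, rfl⟩ : ∃ t, k = t + 1 := ⟨k - 1, by omega⟩
      simp [pow_succ]; ring
    rcases Cfsg.Agent.Lib.DihKlein.two_mul_eq_zero hpos hm h2 with h3 | h3
    · have h4 : β (sr i) = 1 := by rw [hb, h3, one_def]
      have h5 := (map_eq_one_iff β β.injective).1 h4
      rw [one_def] at h5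
      cases h5
    · have h4 : β (sr i) = zz k := by rw [hb, h3, zz]
      have h5 : β (sr i) = β (zz k) := by rw [h4, beta_zz hk]
      have h6 := β.injective h5
      rw [zz] at h6
      cases h6

theorem dih_fix {k q : ℕ} (hk : 2 ≤ k) [hq : Fact q.Prime] (hq2 : q ≠ 2)
    (β : MulAut (DihedralGroup (2 ^ k))) (hβ : β ^ q = 1) : ∃ i, β (sr i) = sr i := by
  classical
  choose f hf using refl_pres hk β
  choose g hg using refl_pres hk β⁻¹
  have h1 : ∀ i, g (f i) = i := by
    intro i
    have h2 := hg (f i)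
    rw [← hf i] at h2
    have h3 : (β⁻¹ : MulAut _) (β (sr i)) = sr i := by
      rw [← MulAut.mul_apply, inv_mul_cancel]; rfl
    rw [h3, sr.injEq] at h2
    exact h2.symm
  have h2 : ∀ i, f (g i) = i := by
    intro i
    have h2 := hf (g i)
    rw [← hg i] at h2
    have h3 : β ((β⁻¹ : MulAut _) (sr i)) = sr i := by
      rw [← MulAut.mul_apply, mul_inv_cancel]; rfl
    rw [h3, sr.injEq] at h2
    exact h2.symm
  let σ : Equiv.Perm (ZMod (2 ^ k)) := ⟨f, g, h1, h2⟩
  have hσ : ∀ (t : ℕ) (i : ZMod (2 ^ k)), (β ^ t) (sr i) = sr ((σ ^ t) i) := by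
    intro t
    induction t with
    | zero => intro i; simp
    | succ t ih =>
      intro i
      rw [pow_succ, pow_succ, MulAut.mul_apply, Equiv.Perm.mul_apply]
      have h3 : β (sr i) = sr (σ i) := hf i
      rw [h3, ih]
  haveI : NeZero (2 ^ k) := ⟨by positivity⟩
  have hnd : ¬ q ∣ Fintype.card (ZMod (2 ^ k)) := by
    rw [ZMod.card]
    intro h
    have := hq.out.dvd_of_dvd_pow h
    exact hq2 ((Nat.prime_dvd_prime_iff_eq hq.out Nat.prime_two).1 this)
  have h5 : σ ^ q ^ 1 = 1 := by
    rw [pow_one]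
    ext i
    have h6 := hσ q i
    rw [hβ] at h6
    have h7 : (sr i : DihedralGroup (2 ^ k)) = sr ((σ ^ q) i) := h6
    rw [sr.injEq] at h7
    rw [← h7]
    rfl
  obtain ⟨i, hi⟩ := Equiv.Perm.exists_fixed_point_of_prime hnd h5
  refine ⟨i, ?_⟩
  have h3 : β (sr i) = sr (σ i) := hf i
  rw [h3, hi]

/-- non-cyclic subgroups of dihedral `2`-groups are dihedral -/
theorem dih_of_sub {X : Type*} [Group X] [Finite X] {n : ℕ} (j : X →* DihedralGroup (2 ^ n))
    (hj : Function.Injective j) (hX : ¬ IsCyclic X) :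
    ∃ k, 1 ≤ k ∧ Nonempty (DihedralGroup (2 ^ k) ≃* X) := by
  have hone : (1 : DihedralGroup (2 ^ n)) = r 0 := rfl
  let Rot : Subgroup (DihedralGroup (2 ^ n)) :=
    { carrier := {g | ∃ i, g = r i}
      mul_mem' := by
        rintro _ _ ⟨a, rfl⟩ ⟨b, rfl⟩
        exact ⟨a + b, r_mul_r a b⟩
      one_mem' := ⟨0, rfl⟩
      inv_mem' := by
        rintro _ ⟨a, rfl⟩
        exact ⟨-a, inv_r a⟩ }
  have hRotZ : Rot ≤ Subgroup.zpowers (r 1) := by
    rintro _ ⟨a, rfl⟩
    haveI : NeZero (2 ^ n) := ⟨by positivity⟩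
    have h1 : (r 1 : DihedralGroup (2 ^ n)) ^ (a.val) = r a := by
      rw [r_one_pow, ZMod.natCast_zmod_val]
    rw [← h1]
    exact pow_mem (Subgroup.mem_zpowers _) _
  let A : Subgroup X := Rot.comap j
  have hA : ∀ y, y ∈ A ↔ ∃ i, j y = r i := fun y => Iff.rfl
  have hAcyc : IsCyclic A := by
    let φ : A →* Subgroup.zpowers (r 1 : DihedralGroup (2 ^ n)) :=
      (j.comp A.subtype).codRestrict _ (fun y => hRotZ y.2)
    refine isCyclic_of_injective φ ?_
    intro a b hab
    apply Subtype.ext
    apply hj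
    exact congrArg Subtype.val hab
  have hAne : ∃ y₀, y₀ ∉ A := by
    by_contra hall
    push Not at hall
    apply hX
    have : A = ⊤ := eq_top_iff.2 fun y _ => hall y
    exact isCyclic_of_surjective (A.subtype) (fun y => ⟨⟨y, hall y⟩, rfl⟩)
  obtain ⟨u, hu⟩ := hAne
  obtain ⟨c, hc⟩ : ∃ c, j u = sr c := by
    cases h : j u with
    | r a => exact absurd ((hA u).2 ⟨a, h⟩) hu
    | sr c => exact ⟨c, rfl⟩
  have huu : u * u = 1 := by
    apply hj
    rw [map_mul, hc, map_one, sr_mul_sr, sub_self]
    rfl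
  obtain ⟨ρ, hρ⟩ := (inferInstance : IsCyclic A).exists_generator
  have hρ1 : (ρ : X) ≠ 1 := by
    intro h
    have hρ' : ρ = 1 := Subtype.ext h
    have hA1 : ∀ y ∈ A, y = 1 := by
      intro y hy
      have h2 := hρ ⟨y, hy⟩
      rw [hρ', Subgroup.zpowers_one_eq_bot, Subgroup.mem_bot] at h2
      exact congrArg Subtype.val h2
    apply hX
    have h3 : Subgroup.zpowers u = ⊤ := by
      rw [eq_top_iff]
      intro w _
      by_cases hw : w ∈ A
      · rw [hA1 w hw]; exact one_mem _
      · have h4 : u * w ∈ A := by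
          cases h : j w with
          | r a => exact absurd ((hA w).2 ⟨a, h⟩) hw
          | sr d => exact (hA _).2 ⟨d - c, by rw [map_mul, hc, h, sr_mul_sr]⟩
        have h5 : w = u := by
          have h6 := hA1 _ h4
          have h7 : w = u⁻¹ := eq_inv_of_mul_eq_one_right h6
          rw [h7]
          exact inv_eq_of_mul_eq_one_left huu
        rw [h5]
        exact Subgroup.mem_zpowers u
    exact isCyclic_iff_exists_zpowers_eq_top.2 ⟨u, h3⟩
  obtain ⟨e₀, he₀⟩ := (hA ρ.1).1 ρ.2
  let v : X := u * ρ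
  have hv : j v = sr (c + e₀) := by
    change j (u * (ρ : X)) = _
    rw [map_mul, hc, he₀, sr_mul_r]
  have hvv : v * v = 1 := by
    apply hj
    rw [map_mul, hv, map_one, sr_mul_sr, sub_self]
    rfl
  have hu1 : u ≠ 1 := by
    rintro rfl
    rw [map_one] at hc
    cases hc
  have hv1 : v ≠ 1 := by
    intro h
    rw [h, map_one] at hv
    cases hv
  have huv : u ≠ v := by
    intro h
    apply hρ1
    have h2 : u * 1 = u * (ρ : X) := by rw [mul_one]; exact h
    exact (mul_left_cancel h2).symm
  have hprod : u * v = ρ := by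
    change u * (u * (ρ : X)) = ρ
    rw [← mul_assoc, huu, one_mul]
  have hgen : Subgroup.closure ({u, v} : Set X) = ⊤ := by
    have hu' : u ∈ Subgroup.closure ({u, v} : Set X) := Subgroup.subset_closure (by simp)
    have hv' : v ∈ Subgroup.closure ({u, v} : Set X) := Subgroup.subset_closure (by simp)
    have hρ' : (ρ : X) ∈ Subgroup.closure ({u, v} : Set X) := by
      rw [← hprod]; exact mul_mem hu' hv'
    have hAle : ∀ w ∈ A, w ∈ Subgroup.closure ({u, v} : Set X) := by
      intro w hw
      obtain ⟨t, ht⟩ := Subgroup.mem_zpowers_iff.1 (hρ ⟨w, hw⟩)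
      have h2 := congrArg Subtype.val ht
      simp only [Subgroup.coe_zpow] at h2
      rw [← h2]
      exact zpow_mem hρ' t
    rw [eq_top_iff]
    intro w _
    by_cases hw : w ∈ A
    · exact hAle w hw
    · have h4 : u * w ∈ A := by
        cases h : j w with
        | r a => exact absurd ((hA w).2 ⟨a, h⟩) hw
        | sr d => exact (hA _).2 ⟨d - c, by rw [map_mul, hc, h, sr_mul_sr]⟩
      have h5 : w = u * (u * w) := by rw [← mul_assoc, huu, one_mul]
      rw [h5]
      exact mul_mem hu' (hAle _ h4)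
  obtain ⟨d⟩ := Cfsg.Agent.Lib.LeadDihedral.dihedral_of_two_involutions huu hvv hu1 hv1 huv hgen
  -- the order of `ρ` is a power of two
  have hp : IsPGroup 2 X := by
    have h1 : IsPGroup 2 (DihedralGroup (2 ^ n)) := IsPGroup.of_card (n := n + 1) (by
      rw [DihedralGroup.nat_card, pow_succ]; ring)
    exact h1.of_injective j hj
  obtain ⟨k, hk⟩ := IsPGroup.iff_orderOf.1 hp (u * v)
  have hk1 : 1 ≤ k := by
    by_contra hk0
    have : k = 0 := by omega
    subst this
    rw [pow_zero, orderOf_eq_one_iff, hprod] at hk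
    exact hρ1 hk
  rw [hk] at d
  exact ⟨k, hk1, ⟨d⟩⟩

end Dih

section Gp
variable {G : Type*} [Group G] [Finite G]

theorem four_exists {a b : G} (ha : a * a = 1) (hb : b * b = 1) (hab : a * b = b * a) (ha1 : a ≠ 1)
    (hb1 : b ≠ 1) (hne : a ≠ b) : ∃ K : Subgroup G, (∀ x, x ∈ K ↔ x = 1 ∨ x = a ∨ x = b ∨ x = a * b) ∧
      Nat.card K = 4 := by
  classical
  have ha' : ∀ y, a * (a * y) = y := fun y => by rw [← mul_assoc, ha, one_mul]
  have hb' : ∀ y, b * (b * y) = y := fun y => by rw [← mul_assoc, hb, one_mul]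
  have hba : b * a = a * b := hab.symm
  have hba' : ∀ y, b * (a * y) = a * (b * y) := fun y => by rw [← mul_assoc, hba, mul_assoc]
  have hai : a⁻¹ = a := inv_eq_of_mul_eq_one_left ha
  have hbi : b⁻¹ = b := inv_eq_of_mul_eq_one_left hb
  let K : Subgroup G :=
    { carrier := {x | x = 1 ∨ x = a ∨ x = b ∨ x = a * b}
      mul_mem' := by
        rintro x y (rfl | rfl | rfl | rfl) (rfl | rfl | rfl | rfl) <;>
          simp [mul_assoc, ha, hb, ha', hb', hba, hba']
      one_mem' := Or.inl rfl
      inv_mem' := by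
        rintro x (rfl | rfl | rfl | rfl)
        · simp
        · right; left; exact hai
        · right; right; left; exact hbi
        · right; right; right
          rw [mul_inv_rev, hai, hbi, hba] }
  have hmem : ∀ x, x ∈ K ↔ x = 1 ∨ x = a ∨ x = b ∨ x = a * b := fun x => Iff.rfl
  refine ⟨K, hmem, ?_⟩
  haveI : Fintype K := Fintype.ofFinite _
  rw [Nat.card_eq_fintype_card, Fintype.card_of_subtype (p := fun x => x ∈ K) ({1, a, b, a * b} : Finset G)
    (by intro x; simp [hmem])]
  have h1 : a * b ≠ 1 := by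
    intro h
    apply hne
    calc a = a * (b * b) := by rw [hb, mul_one]
      _ = (a * b) * b := by rw [mul_assoc]
      _ = b := by rw [h, one_mul]
  have h2 : a * b ≠ a := fun h => hb1 (mul_eq_left.1 h)
  have h3 : a * b ≠ b := fun h => ha1 (mul_eq_right.1 h)
  rw [Finset.card_insert_of_notMem (by simp [ha1.symm, hb1.symm, h1.symm]),
    Finset.card_insert_of_notMem (by simp [hne, h2.symm]), Finset.card_insert_of_notMem (by simp [h3.symm]),
    Finset.card_singleton]

theorem hcent (P : Sylow 2 G) (hK : ∀ K : Subgroup G, K ≤ P → Nat.card K = 4 → (∀ k ∈ K, k ^ 2 = 1) →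
      Subgroup.centralizer (K : Set G) = K) {u v w g : G} (hu : u * u = 1) (hv : v * v = 1)
    (huv : u * v = v * u) (hu1 : u ≠ 1) (hv1 : v ≠ 1) (hne : u ≠ v)
    (hgu : g * u * g⁻¹ ∈ (P : Subgroup G)) (hgv : g * v * g⁻¹ ∈ (P : Subgroup G))
    (hwu : w * u = u * w) (hwv : w * v = v * w) : w * w = 1 := by
  set a := g * u * g⁻¹ with ha_def
  set b := g * v * g⁻¹ with hb_def
  have haa : a * a = 1 := by
    calc a * a = g * (u * u) * g⁻¹ := by rw [ha_def]; group
      _ = 1 := by rw [hu]; group
  have hbb : b * b = 1 := by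
    calc b * b = g * (v * v) * g⁻¹ := by rw [hb_def]; group
      _ = 1 := by rw [hv]; group
  have hab : a * b = b * a := by
    rw [ha_def, hb_def]
    calc g * u * g⁻¹ * (g * v * g⁻¹) = g * (u * v) * g⁻¹ := by group
      _ = g * (v * u) * g⁻¹ := by rw [huv]
      _ = _ := by group
  have ha1 : a ≠ 1 := by
    intro h
    apply hu1
    have : u = g⁻¹ * a * g := by rw [ha_def]; group
    rw [this, h]; group
  have hb1 : b ≠ 1 := by
    intro h
    apply hv1
    have : v = g⁻¹ * b * g := by rw [hb_def]; group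
    rw [this, h]; group
  have hab1 : a ≠ b := by
    intro h
    apply hne
    have e1 : u = g⁻¹ * a * g := by rw [ha_def]; group
    have e2 : v = g⁻¹ * b * g := by rw [hb_def]; group
    rw [e1, e2, h]
  obtain ⟨K, hmem, hcard⟩ := four_exists haa hbb hab ha1 hb1 hab1
  have hKP : K ≤ (P : Subgroup G) := by
    intro x hx
    rcases (hmem x).1 hx with rfl | rfl | rfl | rfl
    · exact one_mem _
    · exact hgu
    · exact hgv
    · exact mul_mem hgu hgv
  have hexp : ∀ k ∈ K, k ^ 2 = 1 := by
    intro k hk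
    rw [pow_two]
    rcases (hmem k).1 hk with rfl | rfl | rfl | rfl
    · simp
    · exact haa
    · exact hbb
    · calc a * b * (a * b) = a * (b * a) * b := by simp only [mul_assoc]
        _ = (a * a) * (b * b) := by rw [← hab]; simp only [mul_assoc]
        _ = 1 := by rw [haa, hbb, one_mul]
  have hc := hK K hKP hcard hexp
  have hwc : g * w * g⁻¹ ∈ Subgroup.centralizer (K : Set G) := by
    rw [Subgroup.mem_centralizer_iff]
    have h1 : a * (g * w * g⁻¹) = (g * w * g⁻¹) * a := by
      rw [ha_def]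
      calc g * u * g⁻¹ * (g * w * g⁻¹) = g * (u * w) * g⁻¹ := by group
        _ = g * (w * u) * g⁻¹ := by rw [hwu]
        _ = _ := by group
    have h2 : b * (g * w * g⁻¹) = (g * w * g⁻¹) * b := by
      rw [hb_def]
      calc g * v * g⁻¹ * (g * w * g⁻¹) = g * (v * w) * g⁻¹ := by group
        _ = g * (w * v) * g⁻¹ := by rw [hwv]
        _ = _ := by group
    intro k hk
    rcases (hmem k).1 hk with rfl | rfl | rfl | rfl
    · simp
    · exact h1
    · exact h2
    · rw [mul_assoc, h2, ← mul_assoc, h1, mul_assoc]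
  rw [hc] at hwc
  have h1 := hexp _ hwc
  rw [pow_two] at h1
  have h2 : g * (w * w) * g⁻¹ = 1 := by
    rw [← h1]; group
  have h3 : w * w = g⁻¹ * (g * (w * w) * g⁻¹) * g := by group
  rw [h3, h2]; group

theorem emb_exists (P : Sylow 2 G) {X : Type*} [Group X] [Finite X] (hX : IsPGroup 2 X) (f : X →* G) :
    ∃ g : G, ∀ x : X, g * f x * g⁻¹ ∈ (P : Subgroup G) := by
  have hT : IsPGroup 2 f.range := hX.of_surjective f.rangeRestrict f.rangeRestrict_surjective
  obtain ⟨u, hu⟩ := S3858.exists_conj_le f.range hT (P : Subgroup G) P.not_dvd_index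
  refine ⟨u⁻¹, fun x => ?_⟩
  obtain ⟨y, hy, hye⟩ := Subgroup.mem_map.mp (hu ⟨x, rfl⟩)
  have h1 : u⁻¹ * f x * u⁻¹⁻¹ = y := by
    rw [← hye]; simp; group
  rw [h1]; exact hy

/-- cyclic case: a cyclic normal Sylow `2`-subgroup with cyclic quotient gives a cyclic group. -/
theorem cyclic_case {H : Type*} [Group H] [Finite H] (S : Sylow 2 H) [hSn : (S : Subgroup H).Normal]
    (hc : IsCyclic S) (hq : IsCyclic (H ⧸ (S : Subgroup H))) : IsCyclic H := by
  haveI : Fact (Nat.Prime 2) := ⟨Nat.prime_two⟩
  have hSp : IsPGroup 2 S := S.isPGroup'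
  obtain ⟨t, ht⟩ := IsPGroup.iff_card.1 hSp
  let α : H →* MulAut (S : Subgroup H) := MulAut.conjNormal
  have hcomm_S : ∀ a b : S, a * b = b * a := (IsCyclic.commGroup (α := S)).mul_comm
  -- `MulAut S` has `2`-power exponent
  have hauto : ∃ e : ℕ, ∀ β : MulAut (S : Subgroup H), β ^ (2 ^ e) = 1 := by
    refine ⟨t, fun β => ?_⟩
    have h1 : Nat.card (MulAut (S : Subgroup H)) = Nat.totient (2 ^ t) := by
      rw [Nat.card_congr (IsCyclic.mulAutMulEquiv (S : Subgroup H)).toEquiv, ht, Nat.card_eq_fintype_card]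
      haveI : NeZero (2 ^ t) := ⟨by positivity⟩
      rw [ZMod.card_units_eq_totient]
    have h2 : Nat.totient (2 ^ t) ∣ 2 ^ t := by
      cases t with
      | zero => simp
      | succ t =>
        rw [Nat.totient_prime_pow_succ Nat.prime_two]
        simp [pow_succ]
    obtain ⟨w, hw⟩ := h2
    rw [hw, pow_mul, ← h1, pow_card_eq_one']
    simp
  obtain ⟨e, he⟩ := hauto
  have hcenter : ∀ h : H, α h = 1 := by
    intro h
    obtain ⟨a, t', ht', hm⟩ : ∃ a t' : ℕ, Odd t' ∧ orderOf h = 2 ^ a * t' := by
      have hpos : orderOf h ≠ 0 := (orderOf_pos h).ne'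
      obtain ⟨a, t', h1, h2⟩ := Nat.exists_eq_pow_mul_and_not_dvd hpos 2 (by norm_num)
      exact ⟨a, t', Nat.odd_iff.2 (by omega), by rw [h2]⟩
    have h1 : (α h) ^ (2 ^ a * t') = 1 := by
      rw [← map_pow, ← hm, pow_orderOf_eq_one, map_one]
    -- the `2`-part lies in `S`, which is abelian
    have h2 : (α h) ^ t' = 1 := by
      have hb : (h ^ t') ∈ (S : Subgroup H) := by
        refine Cfsg.Agent.Lib.FGSBasic.mem_sylow_of_normal S hSn ?_
        have h3 : orderOf (h ^ t') ∣ 2 ^ a := by
          apply orderOf_dvd_of_pow_eq_one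
          rw [← pow_mul, mul_comm, ← hm, pow_orderOf_eq_one]
        obtain ⟨b, -, hb⟩ := (Nat.dvd_prime_pow Nat.prime_two).1 h3
        exact ⟨b, hb⟩
      rw [← map_pow]
      ext s
      have h4 : ((α (h ^ t') s : S) : H) = h ^ t' * (s : H) * (h ^ t')⁻¹ := MulAut.conjNormal_apply _ _
      rw [h4]
      have h5 := congrArg Subtype.val (hcomm_S ⟨h ^ t', hb⟩ s)
      change h ^ t' * (s : H) = (s : H) * h ^ t' at h5
      rw [h5, mul_inv_cancel_right]
      rfl
    have h3 : (α h) ^ (2 ^ e) = 1 := he _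
    have hg : (α h) ^ Nat.gcd t' (2 ^ e) = 1 := pow_gcd_eq_one.2 ⟨h2, h3⟩
    have hcop : Nat.gcd t' (2 ^ e) = 1 := by
      refine Nat.Coprime.pow_right e ?_
      exact (Nat.coprime_two_right).2 ht'
    rwa [hcop, pow_one] at hg
  have hle : (QuotientGroup.mk' (S : Subgroup H)).ker ≤ Subgroup.center H := by
    rw [QuotientGroup.ker_mk']
    intro s hs
    rw [Subgroup.mem_center_iff]
    intro h
    have h1 : ((α h ⟨s, hs⟩ : S) : H) = h * s * h⁻¹ := MulAut.conjNormal_apply _ _
    rw [hcenter h] at h1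
    have h2 : s = h * s * h⁻¹ := h1
    calc h * s = h * s * h⁻¹ * h := by group
      _ = s * h := by rw [← h2]
  have hcomm := commutative_of_cyclic_center_quotient (QuotientGroup.mk' (S : Subgroup H)) hle
  exact S4082.cyc_of_comm S hc hq hcomm

theorem sylow_top {X : Type*} [Group X] [Finite X] (hX : IsPGroup 2 X) (S : Sylow 2 X) :
    (S : Subgroup X).index = 1 := by
  haveI : Fact (Nat.Prime 2) := ⟨Nat.prime_two⟩
  obtain ⟨t, ht⟩ := IsPGroup.iff_card.1 hX
  have h1 : (S : Subgroup X).index ∣ 2 ^ t := ht ▸ Subgroup.index_dvd_card _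
  obtain ⟨i, -, hi⟩ := (Nat.dvd_prime_pow Nat.prime_two).1 h1
  have h2 := S.not_dvd_index
  cases i with
  | zero => simpa using hi
  | succ i =>
    exfalso
    apply h2
    rw [hi, pow_succ]
    exact Dvd.intro_left _ rfl

end Gp

theorem hVa : ∀ x y : DihedralGroup 2, x * x = 1 ∧ x * y = y * x := by decide

theorem hVb : ∀ z c x : DihedralGroup 2, z ≠ 1 → c ≠ 1 → c ≠ z → x = 1 ∨ x = z ∨ x = c ∨ x = z * c := by
  decide

theorem hVc : ∀ z : DihedralGroup 2, ∃ c : DihedralGroup 2, c ≠ 1 ∧ c ≠ z := by decide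

theorem hVd : (sr 0 : DihedralGroup 2) ≠ 1 ∧ (sr 1 : DihedralGroup 2) ≠ 1 ∧
    (sr 0 : DihedralGroup 2) ≠ sr 1 := by decide

theorem main_back {G : Type u} [Group G] [Finite G] (P : Sylow 2 G)
    (hR : IsCyclic P ∨
      ((∃ n : ℕ, 1 ≤ n ∧ Nonempty ((P : Subgroup G) ≃* DihedralGroup (2 ^ n))) ∧
        ∀ K : Subgroup G, K ≤ P → Nat.card K = 4 → (∀ k ∈ K, k ^ 2 = 1) → Subgroup.centralizer (K : Set G) = K))
    (H : Subgroup G) (hS : ∀ S : Sylow 2 ↥H, (S : Subgroup ↥H).Normal)
    (hc : ∀ (S : Sylow 2 ↥H) [(S : Subgroup ↥H).Normal], IsCyclic (↥H ⧸ (S : Subgroup ↥H))) :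
    IsCyclic H ∨ (∃ n : ℕ, Nonempty (H ≃* DihedralGroup (2 ^ n))) ∨ Nonempty (H ≃* alternatingGroup (Fin 4)) := by
  haveI h2p : Fact (Nat.Prime 2) := ⟨Nat.prime_two⟩
  obtain ⟨S⟩ : Nonempty (Sylow 2 H) := inferInstance
  haveI hSn := hS S
  have hqc := hc S
  let f : S →* G := H.subtype.comp (S : Subgroup H).subtype
  have hf : Function.Injective f := fun a b h => Subtype.ext (Subtype.ext h)
  have hSp : IsPGroup 2 S := S.isPGroup'
  by_cases hcyc : IsCyclic S
  · exact Or.inl (cyclic_case S hcyc hqc)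
  rcases hR with hPc | ⟨⟨n, -, ⟨e⟩⟩, hK⟩
  · exact absurd (S4082.pcyc P hPc hSp f hf) hcyc
  obtain ⟨g, hg⟩ := emb_exists P hSp f
  let φ : S →* (P : Subgroup G) := ((MulAut.conj g).toMonoidHom.comp f).codRestrict _ (fun x => hg x)
  have hφ : Function.Injective φ := by
    intro a b hab
    apply hf
    exact (MulAut.conj g).injective (congrArg Subtype.val hab)
  obtain ⟨k, hk, ⟨d⟩⟩ := dih_of_sub (e.toMonoidHom.comp φ) (e.injective.comp hφ) hcyc
  have hC : ∀ (u v : S) (w : H), u * u = 1 → v * v = 1 → u * v = v * u → u ≠ 1 → v ≠ 1 → u ≠ v →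
      w * ((u : H)) = (u : H) * w → w * ((v : H)) = (v : H) * w → w * w = 1 := by
    intro u v w hu hv huv hu1 hv1 hne hwu hwv
    have h1 := hcent P hK (u := f u) (v := f v) (w := (w : G)) (g := g)
      (by rw [← map_mul, hu, map_one]) (by rw [← map_mul, hv, map_one])
      (by rw [← map_mul, huv, map_mul]) (fun h => hu1 (hf (by rw [h, map_one])))
      (fun h => hv1 (hf (by rw [h, map_one]))) (fun h => hne (hf h)) (hg u) (hg v)
      (congrArg Subtype.val hwu) (congrArg Subtype.val hwv)
    exact Subtype.ext h1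
  have hconj_eq : ∀ (y : H) (s : S), (MulAut.conjNormal y s : S) = s → y * (s : H) = (s : H) * y := by
    intro y s hs
    have h1 : ((MulAut.conjNormal y s : S) : H) = y * (s : H) * y⁻¹ := MulAut.conjNormal_apply _ _
    rw [hs] at h1
    calc y * (s : H) = y * (s : H) * y⁻¹ * y := by group
      _ = (s : H) * y := by rw [← h1]
  by_cases hk2 : 2 ≤ k
  · -- `H = S`
    right; left
    have htop : (S : Subgroup H).index = 1 := by
      by_contra hne
      obtain ⟨q, hq, hqd⟩ := Nat.exists_prime_and_dvd hne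
      haveI : Fact q.Prime := ⟨hq⟩
      have hq2 : q ≠ 2 := by
        rintro rfl
        exact S.not_dvd_index hqd
      have hqH : q ∣ Nat.card H := hqd.trans (Subgroup.index_dvd_card _)
      obtain ⟨y, hy⟩ := exists_prime_orderOf_dvd_card' q hqH
      let α : MulAut S := MulAut.conjNormal y
      have hα : α ^ q = 1 := by
        change (MulAut.conjNormal y) ^ q = 1
        rw [← map_pow, ← hy, pow_orderOf_eq_one, map_one]
      let β : MulAut (DihedralGroup (2 ^ k)) := MulAut.congr d.symm α
      have hβa : ∀ w, β w = d.symm (α (d w)) := fun _ => rfl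
      have hβ : β ^ q = 1 := by
        change (MulAut.congr d.symm) α ^ q = 1
        rw [← map_pow, hα, map_one]
      obtain ⟨i, hi⟩ := dih_fix hk2 (q := q) hq2 β hβ
      have hz := beta_zz hk2 β
      have hfix : ∀ w, β w = w → y * ((d w : S) : H) = ((d w : S) : H) * y := by
        intro w hw
        apply hconj_eq
        have h1 := congrArg d hw
        rw [hβa, d.apply_symm_apply] at h1
        exact h1
      have hsr1 : (sr i : DihedralGroup (2 ^ k)) ≠ 1 := by
        intro h; rw [one_def] at h; cases h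
      have hne2 : (sr i : DihedralGroup (2 ^ k)) ≠ zz k := by
        intro h; rw [zz] at h; cases h
      have hww := hC (d (sr i)) (d (zz k)) y
        (by rw [← map_mul, sr_mul_sr, sub_self]; exact map_one d)
        (by rw [← map_mul, zz_sq hk2, map_one])
        (by rw [← map_mul, ← map_mul, zz_central hk2])
        (fun h => hsr1 ((map_eq_one_iff d d.injective).1 h))
        (fun h => zz_ne_one hk2 ((map_eq_one_iff d d.injective).1 h))
        (fun h => hne2 (d.injective h)) (hfix _ hi) (hfix _ hz)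
      have h5 : orderOf y ∣ 2 := orderOf_dvd_of_pow_eq_one (by rw [pow_two]; exact hww)
      rw [hy] at h5
      exact hq2 ((Nat.prime_dvd_prime_iff_eq hq Nat.prime_two).1 h5)
    have hStop : (S : Subgroup H) = ⊤ := Subgroup.index_eq_one.1 htop
    have e2 : S ≃* H := (MulEquiv.subgroupCongr hStop).trans Subgroup.topEquiv
    exact ⟨k, ⟨e2.symm.trans d.symm⟩⟩
  · -- `k = 1`
    obtain rfl : k = 1 := by omega
    let d' : DihedralGroup 2 ≃* S := d
    have hV := hVa
    have hsq : ∀ x : DihedralGroup 2, x * x = 1 := fun x => (hVa x 1).1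
    have hcm : ∀ x y : DihedralGroup 2, x * y = y * x := fun x y => (hVa x y).2
    have hV3 := hVb
    have hV2 := hVc
    have hV4 := hVd
    have hS4 : Nat.card S = 4 := by
      rw [← Nat.card_congr d'.toEquiv, DihedralGroup.nat_card]
    have hfix : ∀ (y : H) (w : DihedralGroup 2),
        (MulAut.congr d'.symm (MulAut.conjNormal y : MulAut S)) w = w →
        y * ((d' w : S) : H) = ((d' w : S) : H) * y := by
      intro y w hw
      apply hconj_eq
      have h1 := congrArg d' hw
      have h2 : d' ((MulAut.congr d'.symm (MulAut.conjNormal y : MulAut S)) w) =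
          (MulAut.conjNormal y : MulAut S) (d' w) := d'.apply_symm_apply _
      rw [h2] at h1
      exact h1
    have hodd : ∀ y : H, Odd (orderOf y) → y ^ 3 = 1 := by
      intro y hy
      classical
      haveI : Fintype S := Fintype.ofFinite _
      have h1 : Nat.card (Equiv.Perm S) = 24 := by
        rw [Nat.card_eq_fintype_card, Fintype.card_perm, ← Nat.card_eq_fintype_card, hS4]
        rfl
      let α : MulAut S := MulAut.conjNormal y
      have h2 : (MulAut.toPerm (S : Subgroup H) α) ^ (Nat.card (Equiv.Perm S)) = 1 := pow_card_eq_one'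
      rw [h1] at h2
      have h3 : (MulAut.conjNormal (y ^ 24) : MulAut S) = 1 := by
        have h4 : MulAut.toPerm (S : Subgroup H) (α ^ 24) = 1 := by
          rw [map_pow]
          exact h2
        have h5 : α ^ 24 = 1 := by
          apply MulEquiv.ext
          intro s
          exact Equiv.congr_fun h4 s
        rw [map_pow]
        exact h5
      have hcom : ∀ s : S, (y ^ 24) * (s : H) = (s : H) * y ^ 24 := by
        intro s
        apply hconj_eq
        rw [h3]
        rfl
      have h4 := hC (d' (sr 0)) (d' (sr 1)) (y ^ 24)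
        (by rw [← map_mul, hsq _, map_one]) (by rw [← map_mul, hsq _, map_one])
        (by rw [← map_mul, ← map_mul, hcm _ _])
        (fun h => hV4.1 ((map_eq_one_iff d' d'.injective).1 h))
        (fun h => hV4.2.1 ((map_eq_one_iff d' d'.injective).1 h))
        (fun h => hV4.2.2 (d'.injective h)) (hcom _) (hcom _)
      have h5 : y ^ 48 = 1 := by
        rw [show 48 = 24 + 24 by norm_num, pow_add]; exact h4
      have h6 : orderOf y ∣ 16 * 3 := orderOf_dvd_of_pow_eq_one h5
      have hcop : Nat.Coprime (orderOf y) 16 := by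
        have : Nat.Coprime (orderOf y) (2 ^ 4) := Nat.Coprime.pow_right 4 (Nat.coprime_two_right.2 hy)
        simpa using this
      have h7 : orderOf y ∣ 3 := hcop.dvd_of_dvd_mul_left h6
      exact orderOf_dvd_iff_pow_eq_one.1 h7
    have hidx : (S : Subgroup H).index ∣ 3 := by
      obtain ⟨gb, hgb⟩ := hqc.exists_generator
      obtain ⟨g', rfl⟩ := QuotientGroup.mk'_surjective (S : Subgroup H) gb
      have hpos : orderOf g' ≠ 0 := (orderOf_pos g').ne'
      obtain ⟨a, t', h1, h2⟩ := Nat.exists_eq_pow_mul_and_not_dvd hpos 2 (by norm_num)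
      have ht' : Odd t' := Nat.odd_iff.2 (by omega)
      have h3 : (g' ^ (2 ^ a)) ^ t' = 1 := by
        rw [← pow_mul, ← h2, pow_orderOf_eq_one]
      have h4 : orderOf (g' ^ (2 ^ a)) ∣ t' := orderOf_dvd_of_pow_eq_one h3
      have h5 : Odd (orderOf (g' ^ (2 ^ a))) := Odd.of_dvd_nat ht' h4
      have h6 := hodd _ h5
      have h7 : (QuotientGroup.mk' (S : Subgroup H) g') ^ (2 ^ a * 3) = 1 := by
        rw [← map_pow, pow_mul, h6, map_one]
      have h8 : orderOf (QuotientGroup.mk' (S : Subgroup H) g') = (S : Subgroup H).index :=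
        orderOf_eq_card_of_forall_mem_zpowers hgb
      have h9 : (S : Subgroup H).index ∣ 2 ^ a * 3 := h8 ▸ orderOf_dvd_of_pow_eq_one h7
      have hcop : Nat.Coprime (S : Subgroup H).index (2 ^ a) := by
        refine Nat.Coprime.pow_right a ?_
        exact (Nat.Prime.coprime_iff_not_dvd Nat.prime_two).2 S.not_dvd_index |>.symm
      exact hcop.dvd_of_dvd_mul_left h9
    rcases (Nat.dvd_prime Nat.prime_three).1 hidx with h1 | h3
    · right; left
      have hStop : (S : Subgroup H) = ⊤ := Subgroup.index_eq_one.1 h1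
      have e2 : S ≃* H := (MulEquiv.subgroupCongr hStop).trans Subgroup.topEquiv
      exact ⟨1, ⟨e2.symm.trans d.symm⟩⟩
    · right; right
      have hcard : Nat.card H = 12 := by
        rw [← Subgroup.card_mul_index (S : Subgroup H), h3]
        change Nat.card S * 3 = 12
        rw [hS4]
      refine S0228.result hcard ?_
      intro z hz hzc
      have hzS : z ∈ (S : Subgroup H) :=
        Cfsg.Agent.Lib.FGSBasic.mem_sylow_of_normal S hSn ⟨1, by rw [hz, pow_one]⟩
      haveI : Fact (Nat.Prime 3) := ⟨Nat.prime_three⟩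
      obtain ⟨y, hy⟩ := exists_prime_orderOf_dvd_card' 3 (by rw [hcard]; norm_num : 3 ∣ Nat.card H)
      have hy3 : y ^ 3 = 1 := by rw [← hy]; exact pow_orderOf_eq_one y
      set z₁ : DihedralGroup 2 := d'.symm ⟨z, hzS⟩ with hz₁
      have hz₁d : d' z₁ = ⟨z, hzS⟩ := d'.apply_symm_apply _
      have hz₁1 : z₁ ≠ 1 := by
        intro h
        rw [h, map_one] at hz₁d
        have h2 : z = 1 := (congrArg Subtype.val hz₁d).symm
        rw [h2, orderOf_one] at hz
        omega
      obtain ⟨c₁, hc1, hcz⟩ := hV2 z₁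
      let β : MulAut (DihedralGroup 2) := MulAut.congr d'.symm (MulAut.conjNormal y : MulAut S)
      have hβ3 : β ^ 3 = 1 := by
        change (MulAut.congr d'.symm) (MulAut.conjNormal y : MulAut S) ^ 3 = 1
        rw [← map_pow, ← map_pow, hy3, map_one, map_one]
      have hβz : β z₁ = z₁ := by
        have h2 : (MulAut.conjNormal y : MulAut S) ⟨z, hzS⟩ = ⟨z, hzS⟩ := by
          apply Subtype.ext
          rw [MulAut.conjNormal_apply]
          have h3 := Subgroup.mem_center_iff.1 hzc y
          change y * z * y⁻¹ = z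
          rw [h3, mul_inv_cancel_right]
        change d'.symm ((MulAut.conjNormal y : MulAut S) (d' z₁)) = z₁
        rw [hz₁d, h2]
      have hβc : β c₁ = c₁ := by
        rcases hV3 z₁ c₁ (β c₁) hz₁1 hc1 hcz with h | h | h | h
        · exact absurd ((map_eq_one_iff β β.injective).1 h) hc1
        · exact absurd (β.injective (h.trans hβz.symm)) hcz
        · exact h
        · exfalso
          have step1 : β (β c₁) = c₁ := by
            rw [h, map_mul, hβz, h, ← mul_assoc, hsq z₁, one_mul]
          have h2 : (β ^ 3) c₁ = z₁ * c₁ := by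
            change β (β (β c₁)) = _
            rw [step1, h]
          rw [hβ3] at h2
          have h3 : c₁ = z₁ * c₁ := h2
          exact hz₁1 (mul_eq_right.1 h3.symm)
      have hww := hC (d' z₁) (d' c₁) y
        (by rw [← map_mul, hsq _, map_one]) (by rw [← map_mul, hsq _, map_one])
        (by rw [← map_mul, ← map_mul, hcm _ _])
        (fun h => hz₁1 ((map_eq_one_iff d' d'.injective).1 h))
        (fun h => hc1 ((map_eq_one_iff d' d'.injective).1 h))
        (fun h => hcz (d'.injective h).symm) (hfix y _ hβz) (hfix y _ hβc)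
      have h5 : orderOf y ∣ 2 := orderOf_dvd_of_pow_eq_one (by rw [pow_two]; exact hww)
      rw [hy] at h5
      have := Nat.le_of_dvd (by norm_num) h5
      omega

/-- Let G be a finite group with Sylow 2-subgroup P. Every subgroup H of G whose Sylow 2-subgroup is normal in H with cyclic quotient is cyclic, dihedral of 2-power order, or isomorphic to the alternating group of degree 4, if and only if either P is cyclic, or P is dihedral (of order at least 4) and every elementary abelian subgroup K of order 4 of P satisfies C_G(K) = K. -/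
theorem result {G : Type*} [Group G] [Finite G] (P : Sylow 2 G) :
    (∀ H : Subgroup G, (∀ S : Sylow 2 ↥H, (S : Subgroup ↥H).Normal) →
        (∀ (S : Sylow 2 ↥H) [(S : Subgroup ↥H).Normal], IsCyclic (↥H ⧸ (S : Subgroup ↥H))) →
        IsCyclic H ∨ (∃ n : ℕ, Nonempty (H ≃* DihedralGroup (2 ^ n))) ∨ Nonempty (H ≃* alternatingGroup (Fin 4))) ↔
    (IsCyclic P ∨
      ((∃ n : ℕ, 1 ≤ n ∧ Nonempty ((P : Subgroup G) ≃* DihedralGroup (2 ^ n))) ∧
        ∀ K : Subgroup G, K ≤ P → Nat.card K = 4 → (∀ k ∈ K, k ^ 2 = 1) → Subgroup.centralizer (K : Set G) = K)) := by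
  haveI h2p : Fact (Nat.Prime 2) := ⟨Nat.prime_two⟩
  have hA4 : ¬ ∀ a b : alternatingGroup (Fin 4), a * b = b * a := by decide +kernel
  have hA4card : Nat.card (alternatingGroup (Fin 4)) = 12 := by
    have hcA := nat_card_alternatingGroup (α := Fin 4)
    rw [Nat.card_fin] at hcA
    rw [hcA]
    rfl
  constructor
  · intro hL
    have hPp : IsPGroup 2 (P : Subgroup G) := P.isPGroup'
    have hP := hL P (fun S => by
        have h := sylow_top hPp S
        rw [Subgroup.index_eq_one.1 h]
        infer_instance)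
      (fun S _ => by
        have h := sylow_top hPp S
        haveI := (Nat.card_eq_one_iff_unique.1 h).1
        exact isCyclic_of_subsingleton)
    rcases hP with h | ⟨n, ⟨e⟩⟩ | hA₄
    · exact Or.inl h
    · cases n with
      | zero =>
        left
        have h1 : Nat.card (P : Subgroup G) = 2 := by
          rw [Nat.card_congr e.toEquiv, DihedralGroup.nat_card]; rfl
        exact isCyclic_of_prime_card (p := 2) h1
      | succ n =>
        right
        refine ⟨⟨n + 1, by omega, ⟨e⟩⟩, ?_⟩
        intro K hKP h4 hexp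
        have hcomK : ∀ a ∈ K, ∀ b ∈ K, a * b = b * a := by
          intro a ha b hb
          have h1 := hexp _ (mul_mem ha hb)
          have h2 := hexp a ha
          have h3 := hexp b hb
          rw [pow_two] at h1 h2 h3
          have h4 : (a * b)⁻¹ = a * b := inv_eq_of_mul_eq_one_left h1
          rw [mul_inv_rev, inv_eq_of_mul_eq_one_left h2, inv_eq_of_mul_eq_one_left h3] at h4
          exact h4.symm
        apply le_antisymm
        · intro x hx
          have hxc := Subgroup.mem_centralizer_iff.1 hx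
          have hgen : ∀ p ∈ ((K : Set G) ∪ {x}), ∀ q ∈ ((K : Set G) ∪ {x}), p * q = q * p := by
            rintro p (hp | rfl) q (hq | rfl)
            · exact hcomK p hp q hq
            · exact hxc p hp
            · exact (hxc q hq).symm
            · rfl
          let H : Subgroup G := Subgroup.closure ((K : Set G) ∪ {x})
          have hHc : ∀ a b : H, a * b = b * a := (Subgroup.closureCommGroupOfComm hgen).mul_comm
          have hKH : K ≤ H := fun k hk => Subgroup.subset_closure (Or.inl hk)
          have hxH : x ∈ H := Subgroup.subset_closure (Or.inr rfl)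
          have hres := hL H (fun S => ⟨fun n hn g => by
              rw [hHc g n, mul_inv_cancel_right]; exact hn⟩) (fun S inst => by
              let π := QuotientGroup.mk' (S : Subgroup H)
              have hall : ∀ h : H, π h ∈ Subgroup.zpowers (π ⟨x, hxH⟩) := by
                rintro ⟨g, hg⟩
                refine Subgroup.closure_induction (p := fun g hg => π ⟨g, hg⟩ ∈ Subgroup.zpowers (π ⟨x, hxH⟩))
                  ?_ ?_ ?_ ?_ hg
                · rintro y hy
                  rcases hy with hy | rfl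
                  · have hmemS : (⟨y, hKH hy⟩ : H) ∈ (S : Subgroup H) := by
                      refine Cfsg.Agent.Lib.FGSBasic.mem_sylow_of_normal S inst ?_
                      have h3 : orderOf (⟨y, hKH hy⟩ : H) ∣ 2 ^ 1 := by
                        apply orderOf_dvd_of_pow_eq_one
                        apply Subtype.ext
                        simpa using hexp y hy
                      obtain ⟨b, -, hb⟩ := (Nat.dvd_prime_pow Nat.prime_two).1 h3
                      exact ⟨b, hb⟩
                    have h5 : π ⟨y, hKH hy⟩ = 1 := (QuotientGroup.eq_one_iff _).2 hmemS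
                    rw [h5]; exact one_mem _
                  · exact Subgroup.mem_zpowers _
                · have h5 : π (⟨1, one_mem _⟩ : H) = 1 := map_one π
                  rw [h5]; exact one_mem _
                · intro a b ha hb hpa hpb
                  have h5 := mul_mem hpa hpb
                  rwa [← map_mul] at h5
                · intro a ha hpa
                  have h5 := inv_mem hpa
                  rwa [← map_inv] at h5
              exact isCyclic_iff_exists_zpowers_eq_top.2 ⟨π ⟨x, hxH⟩, eq_top_iff.2 fun y _ => by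
                obtain ⟨h, rfl⟩ := QuotientGroup.mk'_surjective (S : Subgroup H) y
                exact hall h⟩)
          rcases hres with h | ⟨m, ⟨e'⟩⟩ | hA₄
          · exfalso
            haveI := h
            obtain ⟨g, hg⟩ := IsCyclic.exists_ofOrder_eq_natCard (α := K.subgroupOf H)
            have h5 : Nat.card (K.subgroupOf H) = 4 := by
              rw [← h4]
              exact Nat.card_congr (Subgroup.subgroupOfEquivOfLe hKH).toEquiv
            rw [h5] at hg
            have h6 : g ^ 2 = 1 := by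
              apply Subtype.ext
              apply Subtype.ext
              simpa using hexp _ (Subgroup.mem_subgroupOf.1 g.2)
            have h7 := orderOf_dvd_of_pow_eq_one h6
            rw [hg] at h7
            have := Nat.le_of_dvd (by norm_num) h7
            omega
          · have hm : m ≤ 1 := by
              by_contra hm2
              have h5 := hHc (e'.symm (sr 0)) (e'.symm (r 1))
              rw [← map_mul, ← map_mul] at h5
              exact sr_not_comm (k := m) (by omega) 0 (e'.symm.injective h5)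
            have h6 : Nat.card H ≤ Nat.card K := by
              rw [Nat.card_congr e'.toEquiv, DihedralGroup.nat_card, h4]
              have : 2 ^ m ≤ 2 ^ 1 := Nat.pow_le_pow_right (by norm_num) hm
              omega
            have h7 : K = H := Subgroup.eq_of_le_of_card_ge hKH h6
            rw [h7]
            exact hxH
          · exfalso
            obtain ⟨e'⟩ := hA₄
            apply hA4
            intro a b
            have h5 := hHc (e'.symm a) (e'.symm b)
            rw [← map_mul, ← map_mul] at h5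
            exact e'.symm.injective h5
        · intro a ha
          rw [Subgroup.mem_centralizer_iff]
          intro b hb
          exact hcomK b hb a ha
    · exfalso
      obtain ⟨e⟩ := hA₄
      obtain ⟨t, ht⟩ := IsPGroup.iff_card.1 hPp
      rw [Nat.card_congr e.toEquiv, hA4card] at ht
      have h1 : 3 ∣ 2 ^ t := by rw [← ht]; norm_num
      have h2 := Nat.prime_three.dvd_of_dvd_pow h1
      omega
  · intro hR H hS hc
    exact main_back P hR H hS hc

end Cfsg.Agent.S4083
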