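import Cfsg.Statements.S4331
import Mathlib
import Cfsg.Agent.Lib.H1Core
import Cfsg.Agent.S4023
-- import your own Cfsg.Agent.* helpers here

set_option autoImplicit false
open Cfsg

namespace Cfsg.Agent.S4331

open Subgroup

theorem subnormal_of_nilpotent {N : Type*} [Group N] [Finite N] [Group.IsNilpotent N] (H : Subgroup N) : H.IsSubnormal := by
  classical
  induction' hn : H.index using Nat.strong_induction_on with n ih generalizing H
  by_cases htop : H = ⊤
  · rw [htop]
    exact IsSubnormal.top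
  · have hlt : H < Subgroup.normalizer (H : Set N) := by
      have := (normalizerCondition_of_isNilpotent (G := N)) H (lt_top_iff_ne_top.mpr htop)
      exact this
    have hidx : (Subgroup.normalizer (H : Set N)).index < H.index := by
      have h1 := Subgroup.relIndex_mul_index hlt.le
      have h2 : H.relIndex (Subgroup.normalizer (H : Set N)) ≠ 1 := by
        intro h3
        rw [Subgroup.relIndex_eq_one] at h3
        exact absurd h3 (not_le_of_gt hlt)
      have h0 : H.index ≠ 0 := Subgroup.index_ne_zero_of_finite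
      have h4 : H.relIndex (Subgroup.normalizer (H : Set N)) ≠ 0 := by
        intro h7
        rw [h7, zero_mul] at h1
        exact h0 h1.symm
      have h5 : (Subgroup.normalizer (H : Set N)).index ≠ 0 := Subgroup.index_ne_zero_of_finite
      rw [← h1]
      have h6 : 2 ≤ H.relIndex (Subgroup.normalizer (H : Set N)) := by omega
      nlinarith [Nat.pos_of_ne_zero h5]
    refine IsSubnormal.step H _ hlt.le (ih _ (hn ▸ hidx) _ rfl) ?_
    exact Subgroup.normal_in_normalizer

section exm
variable {V T : Type} [CommGroup V] [Group T] [Finite V] [Finite T] (φ : T →* MulAut V)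

open SemidirectProduct in
theorem example_of_action (hT : IsPGroup 2 T) (h3 : ∀ v : V, v ^ 3 = 1) (v₀ : V) 
    (htrans : ∀ v : V, v ≠ 1 → ∃ x : T, φ x v = v₀) (t : T) (ht1 : t ≠ 1) (htv : φ t v₀ = v₀)
    (ht2 : t ^ 2 = 1) (hstab : ∀ s : T, φ s v₀ = v₀ → s = 1 ∨ s = t) (hfaith : ∃ v, φ t v ≠ v) :
    Finite (V ⋊[φ] T) ∧ Group.IsSolvable (V ⋊[φ] T) ∧ Nat.card (zpowers (inr t : V ⋊[φ] T)) = 2 ∧
      (∀ c : V ⋊[φ] T, ∃ g : V ⋊[φ] T, IsConj c g ∧ ((zpowers (inr t : V ⋊[φ] T)).subgroupOf (zpowers (inr t : V ⋊[φ] T) ⊔ Subgroup.zpowers g)).IsSubnormal) ∧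
      ¬ zpowers (inr t : V ⋊[φ] T) ≤ Cfsg.pCore 2 (V ⋊[φ] T) := by
  classical
  haveI hfin : Finite (V ⋊[φ] T) := Finite.of_equiv _ SemidirectProduct.equivProd.symm
  haveI : Fact (Nat.Prime 2) := ⟨Nat.prime_two⟩
  have hord : orderOf t = 2 := orderOf_eq_prime ht2 ht1
  set A : Subgroup (V ⋊[φ] T) := zpowers (inr t) with hA
  -- the subnormality cases
  have hSN1 : ∀ s : T, (A.subgroupOf (A ⊔ Subgroup.zpowers (inr s : V ⋊[φ] T))).IsSubnormal := by
    intro s
    set X : Subgroup (V ⋊[φ] T) := A ⊔ Subgroup.zpowers (inr s : V ⋊[φ] T) with hX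
    have hXle : X ≤ (inr : T →* V ⋊[φ] T).range := by
      refine sup_le ?_ ?_
      · exact (Subgroup.zpowers_le).mpr ⟨t, rfl⟩
      · exact (Subgroup.zpowers_le).mpr ⟨s, rfl⟩
    have h2 : IsPGroup 2 X := by
      intro x
      obtain ⟨y, hy⟩ := hXle x.2
      obtain ⟨k, hk⟩ := hT y
      refine ⟨k, ?_⟩
      apply Subtype.ext
      show (x : V ⋊[φ] T) ^ 2 ^ k = 1
      rw [← hy, ← map_pow, hk, map_one]
    haveI : Group.IsNilpotent X := h2.isNilpotent
    exact subnormal_of_nilpotent _
  have hSN2 : ∀ g : V ⋊[φ] T, g * inr t = inr t * g → (A.subgroupOf (A ⊔ Subgroup.zpowers g)).IsSubnormal := by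
    intro g hg
    have hcomm : ∀ a ∈ A ⊔ Subgroup.zpowers g, ∀ b ∈ A ⊔ Subgroup.zpowers g, a * b = b * a :=
      S4023.comm_sup (S4023.comm_zpowers _) (S4023.comm_zpowers g) (S4023.comm_zpowers2 hg.symm)
    apply Subgroup.Normal.isSubnormal
    constructor
    intro n hn x
    have h1 : ((x : V ⋊[φ] T) * (n : V ⋊[φ] T) * (x : V ⋊[φ] T)⁻¹) = n := by
      rw [hcomm _ x.2 _ n.2]
      group
    rw [Subgroup.mem_subgroupOf] at hn ⊢
    have h2 : (((x * n * x⁻¹ : ↥(A ⊔ Subgroup.zpowers g))) : V ⋊[φ] T) = n := h1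
    rw [h2]
    exact hn
  have hconjcomm : ∀ a : V, φ t a = a → (inl a * inr t : V ⋊[φ] T) * inr t = inr t * (inl a * inr t) := by
    intro a ha
    apply SemidirectProduct.ext <;> simp [ha]
  refine ⟨hfin, ?_, ?_, ?_, ?_⟩
  · -- solvable
    haveI : Group.IsNilpotent T := hT.isNilpotent
    exact solvable_of_ker_le_range (inl : V →* V ⋊[φ] T) (rightHom : V ⋊[φ] T →* T) (by
      rw [SemidirectProduct.range_inl_eq_ker_rightHom])
  · rw [Nat.card_zpowers, orderOf_injective _ SemidirectProduct.inr_injective, hord]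
  · intro c
    by_cases hs1 : c.right = 1
    · by_cases hw1 : c.left = 1
      · refine ⟨inr 1, ?_, hSN1 1⟩
        have : c = inr 1 := by
          apply SemidirectProduct.ext <;> simp [hw1, hs1]
        rw [this]
      · obtain ⟨x, hx⟩ := htrans _ hw1
        refine ⟨inl v₀, isConj_iff.mpr ⟨inr x, ?_⟩, ?_⟩
        · apply SemidirectProduct.ext
          · simp [hs1, hx]
          · simp [hs1]
        · apply hSN2
          apply SemidirectProduct.ext <;> simp [htv]
    · by_cases hfix : ∃ w₀ : V, w₀ ≠ 1 ∧ φ c.right w₀ = w₀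
      · obtain ⟨w₀, hw₀, hfix₀⟩ := hfix
        obtain ⟨x, hx⟩ := htrans _ hw₀
        have hs' : x * c.right * x⁻¹ = t := by
          have h1 : φ (x * c.right * x⁻¹) v₀ = v₀ := by
            have hinvx : φ x⁻¹ (φ x w₀) = w₀ := by
              rw [← MulAut.mul_apply, ← map_mul, inv_mul_cancel, map_one, MulAut.one_apply]
            rw [← hx, map_mul, map_mul, MulAut.mul_apply, MulAut.mul_apply, hinvx, hfix₀]
          rcases hstab _ h1 with h2 | h2
          · exfalso
            apply hs1
            have h3 : c.right = x⁻¹ * (x * c.right * x⁻¹) * x := by group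
            rw [h3, h2]
            group
          · exact h2
        set w' := φ x c.left with hw'
        set a := w' * w' * (φ t w')⁻¹ with ha
        have hat : φ t a = a := by
          have h1 : φ t (φ t w') = w' := by
            rw [← MulAut.mul_apply, ← map_mul, ← sq, ht2, map_one, MulAut.one_apply]
          have h2 : ∀ u : V, u * u = u⁻¹ := by
            intro u
            have h4 := h3 u
            rw [pow_succ, sq] at h4
            exact eq_inv_of_mul_eq_one_left h4
          rw [ha, map_mul, map_mul, map_inv, h1, h2 (φ t w'), h2 w', mul_comm]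
        refine ⟨inl a * inr t, ?_, hSN2 _ (hconjcomm a hat)⟩
        refine isConj_iff.mpr ⟨inl w' * inr x, ?_⟩
        apply SemidirectProduct.ext
        · simp [ha, hs', hw']
          have hinvx : φ x⁻¹ (φ x c.left) = c.left := by
            rw [← MulAut.mul_apply, ← map_mul, inv_mul_cancel, map_one, MulAut.one_apply]
          rw [← hs', map_mul, map_mul, MulAut.mul_apply, MulAut.mul_apply, hinvx]
        · simp [hs']
      · push Not at hfix
        have hinj : Function.Injective (fun y : V => y * (φ c.right y)⁻¹) := by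
          intro y y' hyy
          have h1 : y * (φ c.right y)⁻¹ = y' * (φ c.right y')⁻¹ := hyy
          by_contra hne
          have h2 : y * y'⁻¹ ≠ 1 := fun h => hne (mul_inv_eq_one.mp h)
          apply hfix _ h2
          rw [map_mul, map_inv]
          have h3 : φ c.right y = (y * y'⁻¹) * φ c.right y' := by
            have h4 : (φ c.right y)⁻¹ = y⁻¹ * (y' * (φ c.right y')⁻¹) := by rw [← h1]; group
            have h5 := congrArg (·⁻¹) h4
            simp only [inv_inv, mul_inv_rev] at h5
            rw [h5]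
            simp only [mul_comm, mul_left_comm, mul_assoc]
          rw [h3]
          group
        obtain ⟨y, hy⟩ := (Finite.injective_iff_surjective.mp hinj) (c.left)⁻¹
        have hy' : y * (φ c.right y)⁻¹ = (c.left)⁻¹ := hy
        refine ⟨inr c.right, isConj_iff.mpr ⟨inl y, ?_⟩, hSN1 _⟩
        apply SemidirectProduct.ext
        · simp
          rw [mul_right_comm, hy', inv_mul_cancel]
        · simp
  · intro hle
    obtain ⟨v, hv⟩ := hfaith
    have hPn := Lib.H1Core.pCore_normal 2 (V ⋊[φ] T)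
    have h1 : (inr t : V ⋊[φ] T) ∈ Cfsg.pCore 2 (V ⋊[φ] T) := hle (mem_zpowers _)
    have h2 := hPn.conj_mem _ h1 (inl v)
    have h4 := mul_mem h2 (inv_mem h1)
    have h5 : (inl v : V ⋊[φ] T) * inr t * (inl v)⁻¹ * (inr t)⁻¹ = inl (v * (φ t v)⁻¹) := by
      apply SemidirectProduct.ext <;> simp
    rw [h5] at h4
    have hP := Lib.H1Core.pCore_isPGroup (G := V ⋊[φ] T) 2
    obtain ⟨k, hk⟩ := IsPGroup.iff_orderOf.mp hP ⟨_, h4⟩
    rw [Subgroup.orderOf_mk] at hk
    have h6 : (inl (v * (φ t v)⁻¹) : V ⋊[φ] T) ^ 3 = 1 := by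
      rw [← map_pow, h3, map_one]
    have h7 := orderOf_dvd_of_pow_eq_one h6
    rw [hk] at h7
    have h8 : Nat.Coprime (2 ^ k) 3 := Nat.Coprime.pow_left k (by norm_num)
    have h9 : 2 ^ k = 1 := Nat.Coprime.eq_one_of_dvd h8 h7
    rw [h9, orderOf_eq_one_iff] at hk
    have h10 : v * (φ t v)⁻¹ = 1 := SemidirectProduct.inl_injective (by rw [hk, map_one])
    exact hv (mul_inv_eq_one.mp h10).symm

end exm

abbrev W3 : Type := Fin 2 → ZMod 3
abbrev V3 : Type := Multiplicative W3
abbrev GL3 : Type := Matrix.GeneralLinearGroup (Fin 2) (ZMod 3)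

def act3 : GL3 →* MulAut V3 where
  toFun g := AddEquiv.toMultiplicative
    { toFun := fun v => (g : Matrix (Fin 2) (Fin 2) (ZMod 3)).mulVec v
      invFun := fun v => ((g⁻¹ : GL3) : Matrix (Fin 2) (Fin 2) (ZMod 3)).mulVec v
      left_inv := fun v => by
        show Matrix.mulVec _ (Matrix.mulVec _ v) = v
        rw [Matrix.mulVec_mulVec, ← Units.val_mul, inv_mul_cancel, Units.val_one, Matrix.one_mulVec]
      right_inv := fun v => by
        show Matrix.mulVec _ (Matrix.mulVec _ v) = v
        rw [Matrix.mulVec_mulVec, ← Units.val_mul, mul_inv_cancel, Units.val_one, Matrix.one_mulVec]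
      map_add' := fun a b => Matrix.mulVec_add _ a b }
  map_one' := by
    refine MulEquiv.ext fun v => ?_
    exact Matrix.one_mulVec (Multiplicative.toAdd v)
  map_mul' a b := by
    refine MulEquiv.ext fun v => ?_
    show ((a * b : GL3) : Matrix (Fin 2) (Fin 2) (ZMod 3)).mulVec _ = (a : Matrix (Fin 2) (Fin 2) (ZMod 3)).mulVec ((b : Matrix (Fin 2) (Fin 2) (ZMod 3)).mulVec _)
    rw [Units.val_mul, Matrix.mulVec_mulVec]

theorem act3_apply (g : GL3) (v : V3) : Multiplicative.toAdd (act3 g v) = (g : Matrix (Fin 2) (Fin 2) (ZMod 3)).mulVec (Multiplicative.toAdd v) := rfl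

set_option maxRecDepth 100000 in
theorem key_dec : ∀ a b c d x y : ZMod 3, a * x + b * y = x → c * x + d * y = y → (x ≠ 0 ∨ y ≠ 0) → a * d - b * c = 1 →
    ((a * a + b * c) * a + (a * b + b * d) * c = 1 ∧ (a * a + b * c) * b + (a * b + b * d) * d = 0 ∧
     (c * a + d * c) * a + (c * b + d * d) * c = 0 ∧ (c * a + d * c) * b + (c * b + d * d) * d = 1) := by
  decide

theorem det1fix (M : Matrix (Fin 2) (Fin 2) (ZMod 3)) (v : W3) (hv : v ≠ 0) (hfix : M.mulVec v = v) (hdet : M.det = 1) :
    M * M * M = 1 := by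
  have h0 : M 0 0 * v 0 + M 0 1 * v 1 = v 0 := by
    have := congrFun hfix 0
    simpa [Matrix.mulVec, dotProduct, Fin.sum_univ_two] using this
  have h1 : M 1 0 * v 0 + M 1 1 * v 1 = v 1 := by
    have := congrFun hfix 1
    simpa [Matrix.mulVec, dotProduct, Fin.sum_univ_two] using this
  have hv' : v 0 ≠ 0 ∨ v 1 ≠ 0 := by
    by_contra hcon
    push Not at hcon
    apply hv
    funext i
    fin_cases i
    · exact hcon.1
    · exact hcon.2
  rw [Matrix.det_fin_two] at hdet
  obtain ⟨k1, k2, k3, k4⟩ := key_dec _ _ _ _ _ _ h0 h1 hv' hdet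
  ext i j
  fin_cases i <;> fin_cases j
  · simpa [Matrix.mul_apply, Fin.sum_univ_two] using k1
  · simpa [Matrix.mul_apply, Fin.sum_univ_two] using k2
  · simpa [Matrix.mul_apply, Fin.sum_univ_two] using k3
  · simpa [Matrix.mul_apply, Fin.sum_univ_two] using k4

theorem three_smul_z3 : ∀ a : ZMod 3, 3 • a = 0 := by decide

/-- There is a finite solvable group G with a subgroup A of order 2 such that every conjugacy class of G contains an element g for which A is subnormal in the subgroup generated by A and g, and yet A is not contained in O_2(G). (So the corresponding criteria for odd primes fail at the prime 2, even for solvable groups.) -/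
theorem result :
    ∃ (G : Type) (_ : Group G) (_ : Finite G) (A : Subgroup G), Group.IsSolvable G ∧ Nat.card A = 2 ∧
      (∀ c : G, ∃ g : G, IsConj c g ∧ (A.subgroupOf (A ⊔ Subgroup.zpowers g)).IsSubnormal) ∧
      ¬ A ≤ Cfsg.pCore 2 G := by
  classical
  haveI : Fact (Nat.Prime 2) := ⟨Nat.prime_two⟩
  haveI : Fact (Nat.Prime 3) := ⟨Nat.prime_three⟩
  have hcard : Nat.card GL3 = 48 := by
    rw [Matrix.card_GL_field]
    simp [Fin.prod_univ_two, ZMod.card]
  obtain ⟨K, hK⟩ := Sylow.exists_subgroup_card_pow_prime (G := GL3) 2 (n := 4) (by rw [hcard]; norm_num)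
  have hKp : IsPGroup 2 K := IsPGroup.of_card hK
  let φ : K →* MulAut V3 := act3.comp K.subtype
  have hφ : ∀ (s : K) (v : V3), Multiplicative.toAdd (φ s v) = ((s : GL3) : Matrix (Fin 2) (Fin 2) (ZMod 3)).mulVec (Multiplicative.toAdd v) := fun _ _ => rfl
  let D : GL3 →* (ZMod 3)ˣ := Matrix.GeneralLinearGroup.det
  have hstabInj : ∀ (v : V3), v ≠ 1 → ∀ s s' : K, φ s v = v → φ s' v = v → D s = D s' → s = s' := by
    intro v hv s s' hs hs' hD
    have hfix : φ (s⁻¹ * s') v = v := by
      rw [map_mul, MulAut.mul_apply, hs']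
      have h1 : φ s⁻¹ (φ s v) = v := by
        rw [← MulAut.mul_apply, ← map_mul, inv_mul_cancel, map_one, MulAut.one_apply]
      rw [hs] at h1
      exact h1
    set M : K := s⁻¹ * s' with hM
    have hdet : ((M : GL3) : Matrix (Fin 2) (Fin 2) (ZMod 3)).det = 1 := by
      have h1 : D (M : GL3) = 1 := by
        rw [hM, Subgroup.coe_mul, map_mul, Subgroup.coe_inv, map_inv, hD, inv_mul_cancel]
      have h2 := congrArg Units.val h1
      simpa [D, Matrix.GeneralLinearGroup.val_det_apply] using h2
    have h3 := det1fix _ (Multiplicative.toAdd v) hv (by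
      have := congrArg Multiplicative.toAdd hfix
      rw [hφ] at this
      exact this) hdet
    have h4 : M ^ 3 = 1 := by
      apply Subtype.ext
      apply Units.ext
      show ((M : GL3) : Matrix (Fin 2) (Fin 2) (ZMod 3)) ^ 3 = 1
      rw [pow_succ, pow_two]
      exact h3
    have h5 : orderOf M ∣ 3 := orderOf_dvd_of_pow_eq_one h4
    have h6 : orderOf M ∣ 2 ^ 4 := by rw [← hK]; exact orderOf_dvd_natCard M
    have h7 : orderOf M = 1 := Nat.eq_one_of_dvd_coprimes (by norm_num : Nat.Coprime 3 (2 ^ 4)) h5 h6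
    have h8 : M = 1 := orderOf_eq_one_iff.mp h7
    have h9 : s⁻¹ * s' = 1 := h8
    exact (inv_mul_eq_one.mp h9)
  letI : MulAction K V3 := MulAction.compHom V3 φ
  have hsmul : ∀ (s : K) (v : V3), s • v = φ s v := fun _ _ => rfl
  have hunits : Nat.card (ZMod 3)ˣ = 2 := by
    rw [Nat.card_eq_fintype_card, ZMod.card_units 3]
  have hstabcard : ∀ v : V3, v ≠ 1 → Nat.card (MulAction.stabilizer K v) ≤ 2 := by
    intro v hv
    refine (Nat.card_le_card_of_injective (fun s : MulAction.stabilizer K v => D ((s : K) : GL3)) ?_).trans hunits.le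
    intro s s' hss
    exact Subtype.ext (hstabInj v hv s s' s.2 s'.2 hss)
  have hV : Nat.card V3 = 9 := by
    show Nat.card (Multiplicative (Fin 2 → ZMod 3)) = 9
    rw [Nat.card_congr Multiplicative.toAdd, Nat.card_eq_fintype_card, Fintype.card_fun, ZMod.card]
    simp
  have hcompl : ({1} : Set V3)ᶜ.ncard = 8 := by
    have h1 := Set.ncard_add_ncard_compl ({1} : Set V3)
    rw [Set.ncard_singleton, hV] at h1
    omega
  have horbit : ∀ v : V3, v ≠ 1 → MulAction.orbit K v = ({1} : Set V3)ᶜ := by
    intro v hv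
    have h1 : MulAction.orbit K v ⊆ ({1} : Set V3)ᶜ := by
      rintro _ ⟨s, rfl⟩
      intro h2
      apply hv
      have h3 : φ s v = 1 := h2
      exact (map_eq_one_iff (φ s) (φ s).injective).mp h3
    apply Set.eq_of_subset_of_ncard_le h1 _ (Set.toFinite _)
    rw [hcompl, ← MulAction.index_stabilizer]
    have h2 := (MulAction.stabilizer K v).card_mul_index
    rw [hK] at h2
    have h3 := hstabcard v hv
    by_contra h4
    push Not at h4
    have h5 : Nat.card (MulAction.stabilizer K v) * (MulAction.stabilizer K v).index ≤ 2 * 7 :=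
      Nat.mul_le_mul h3 (by omega)
    rw [h2] at h5
    norm_num at h5
  let v₀ : V3 := Multiplicative.ofAdd ![1, 0]
  have hv₀ : v₀ ≠ 1 := by
    intro h
    have h1 : (1 : ZMod 3) = 0 := congrFun (congrArg Multiplicative.toAdd h) 0
    exact one_ne_zero h1
  have hS : Nat.card (MulAction.stabilizer K v₀) = 2 := by
    have h2 := (MulAction.stabilizer K v₀).card_mul_index
    rw [hK, MulAction.index_stabilizer, horbit v₀ hv₀, hcompl] at h2
    omega
  obtain ⟨t, ht1, htu⟩ := (Nat.card_eq_two_iff' (1 : MulAction.stabilizer K v₀)).mp hS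
  have ht1' : (t : K) ≠ 1 := fun h => ht1 (Subtype.ext h)
  have htv : φ (t : K) v₀ = v₀ := t.2
  have ht2 : (t : K) ^ 2 = 1 := by
    have h1 : t ^ Nat.card (MulAction.stabilizer K v₀) = 1 := pow_card_eq_one'
    rw [hS] at h1
    exact congrArg Subtype.val h1
  have hstab : ∀ s : K, φ s v₀ = v₀ → s = 1 ∨ s = t := by
    intro s hs
    by_cases h1 : s = 1
    · exact Or.inl h1
    · right
      have h2 := htu ⟨s, hs⟩ (fun h => h1 (congrArg Subtype.val h))
      exact congrArg Subtype.val h2
  have hfaith : ∃ v, φ (t : K) v ≠ v := by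
    by_contra hcon
    push Not at hcon
    apply ht1'
    apply Subtype.ext
    apply Units.ext
    apply Matrix.mulVec_injective
    funext w
    have := congrArg Multiplicative.toAdd (hcon (Multiplicative.ofAdd w))
    rw [hφ] at this
    simpa using this
  have h3 : ∀ v : V3, v ^ 3 = 1 := by
    intro v
    apply Multiplicative.toAdd.injective
    funext i
    exact three_smul_z3 _
  have htrans : ∀ v : V3, v ≠ 1 → ∃ x : K, φ x v = v₀ := by
    intro v hv
    have h1 : v₀ ∈ MulAction.orbit K v := by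
      rw [horbit v hv]
      exact hv₀
    obtain ⟨x, hx⟩ := h1
    exact ⟨x, hx⟩
  obtain ⟨g1, g2, g3, g4, g5⟩ := example_of_action φ hKp h3 v₀ htrans (t : K) ht1' htv ht2 hstab hfaith
  exact ⟨_, inferInstance, g1, _, g2, g3, g4, g5⟩

end Cfsg.Agent.S4331
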