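import Cfsg.Statements.S4088
import Mathlib
import Cfsg.Agent.S4331
import Cfsg.Agent.Lib.Comp2
import Cfsg.Agent.Lib.H1Core
import Cfsg.Agent.Lib.Comp
-- import your own Cfsg.Agent.* helpers here

set_option autoImplicit false
open Cfsg

namespace Cfsg.Agent.S4088

universe u

open Subgroup

section mob

open scoped Classical in
theorem exists_mu {α : Type*} [Lattice α] [Fintype α] (a : α) :
    ∃ μ : α → ℤ, μ a = 1 ∧ ∀ J, a < J →
      ∑ K ∈ Finset.univ.filter (fun K => a ≤ K ∧ K ≤ J), μ K = 0 := by
  letI : LocallyFiniteOrder α := Fintype.toLocallyFiniteOrder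
  refine ⟨fun K => IncidenceAlgebra.mu ℤ a K, IncidenceAlgebra.mu_self a, ?_⟩
  intro J hJ
  have h := IncidenceAlgebra.sum_Icc_mu_right (𝕜 := ℤ) a J
  rw [if_neg hJ.ne] at h
  rw [← h]
  apply Finset.sum_congr _ (fun _ _ => rfl)
  ext K
  simp [Finset.mem_Icc]

open scoped Classical in
theorem weisner {α : Type*} [Lattice α] [Fintype α] (μ : α → ℤ) (a e : α) (hae : a < e)
    (hμ : ∀ J, a < J → ∑ K ∈ Finset.univ.filter (fun K => a ≤ K ∧ K ≤ J), μ K = 0)
    (W : Finset α) (h1 : ∀ K ∈ W, a ≤ K) (h2 : ∀ K ∈ W, ∀ K', a ≤ K' → K' ≤ K → K' ∈ W)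
    (h3 : ∀ K ∈ W, K ⊔ e ∈ W) : ∑ K ∈ W, μ K = 0 := by
  have hf : ∀ J, e ≤ J → ∑ K ∈ Finset.univ.filter (fun K => a ≤ K ∧ K ⊔ e = J), μ K = 0 := by
    intro J
    induction J using WellFoundedLT.induction with
    | ind J ih =>
      intro hJ
      have h0 := hμ J (lt_of_lt_of_le hae hJ)
      have h4 := Finset.sum_fiberwise_of_maps_to
        (s := Finset.univ.filter (fun K => a ≤ K ∧ K ≤ J))
        (t := Finset.univ.filter (fun K => e ≤ K ∧ K ≤ J))
        (g := fun K => K ⊔ e) (by
          intro K hK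
          simp only [Finset.mem_filter, Finset.mem_univ, true_and] at hK ⊢
          exact ⟨le_sup_right, sup_le hK.2 hJ⟩) (fun K => μ K)
      rw [h0] at h4
      rw [Finset.sum_eq_single J] at h4
      · rw [← h4]
        apply Finset.sum_congr _ (fun _ _ => rfl)
        ext K
        simp only [Finset.mem_filter, Finset.mem_univ, true_and]
        constructor
        · rintro ⟨ha, hK⟩
          exact ⟨⟨ha, hK ▸ le_sup_left⟩, hK⟩
        · rintro ⟨⟨ha, _⟩, hK⟩
          exact ⟨ha, hK⟩
      · intro J' hJ' hne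
        simp only [Finset.mem_filter, Finset.mem_univ, true_and] at hJ'
        have hlt : J' < J := lt_of_le_of_ne hJ'.2 hne
        have := ih J' hlt hJ'.1
        rw [← this]
        apply Finset.sum_congr _ (fun _ _ => rfl)
        ext K
        simp only [Finset.mem_filter, Finset.mem_univ, true_and]
        constructor
        · rintro ⟨⟨ha, _⟩, hK⟩
          exact ⟨ha, hK⟩
        · rintro ⟨ha, hK⟩
          exact ⟨⟨ha, (hK ▸ le_sup_left : K ≤ J').trans hJ'.2⟩, hK⟩
      · intro hnot
        exfalso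
        apply hnot
        simp [hJ]
  have h4 := Finset.sum_fiberwise_of_maps_to
    (s := W) (t := W.filter (fun J => e ≤ J)) (g := fun K => K ⊔ e) (by
      intro K hK
      simp only [Finset.mem_filter]
      exact ⟨h3 K hK, le_sup_right⟩) (fun K => μ K)
  rw [← h4]
  apply Finset.sum_eq_zero
  intro J hJ
  simp only [Finset.mem_filter] at hJ
  rw [← hf J hJ.2]
  apply Finset.sum_congr _ (fun _ _ => rfl)
  ext K
  simp only [Finset.mem_filter, Finset.mem_univ, true_and]
  constructor
  · rintro ⟨hK, hK2⟩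
    exact ⟨h1 K hK, hK2⟩
  · rintro ⟨ha, hK2⟩
    exact ⟨h2 J hJ.1 K ha (hK2 ▸ le_sup_left), hK2⟩

open scoped Classical in
theorem dc {I α : Type*} [Fintype I] (S : Finset α) (μ : α → ℤ) (R : I → α → Prop) :
    ∑ K ∈ S, μ K * (Nat.card {x // R x K} : ℤ) = ∑ x : I, ∑ K ∈ S.filter (fun K => R x K), μ K := by
  have h1 : ∀ K, (Nat.card {x // R x K} : ℤ) = ∑ x : I, if R x K then 1 else 0 := by
    intro K
    rw [Nat.card_eq_fintype_card, Fintype.card_subtype, Finset.card_filter]
    push_cast
    rfl
  simp_rw [h1, Finset.mul_sum]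
  rw [Finset.sum_comm]
  apply Finset.sum_congr rfl
  intro x _
  rw [Finset.sum_filter]
  apply Finset.sum_congr rfl
  intro K _
  split_ifs <;> simp

end mob

section grp

variable {G : Type u} [Group G]

def Good (p : ℕ) (H : Subgroup G) (g : G) : Prop :=
  ∃ U : Subgroup G, IsPGroup p U ∧ H ≤ U ∧ g ∈ normalizer (U : Set G)

def Om (H P : Subgroup G) (x : G) : Prop := ∀ h ∈ H, x * h * x⁻¹ ∈ P

theorem Good.mono {p : ℕ} {H K : Subgroup G} {g : G} (hle : H ≤ K) (h : Good p K g) : Good p H g := by
  obtain ⟨U, h1, h2, h3⟩ := h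
  exact ⟨U, h1, hle.trans h2, h3⟩

theorem sn_iff [Finite G] {p : ℕ} [Fact p.Prime] (H : Subgroup G) (hH : IsPGroup p H) (g : G) :
    ((H).subgroupOf (H ⊔ zpowers g)).IsSubnormal ↔ Good p H g := by
  constructor
  · intro hsn
    set J := H ⊔ zpowers g with hJ
    have h1 : IsPGroup p (H.subgroupOf J) := hH.comap_of_injective J.subtype J.subtype_injective
    have h2 := Lib.Comp2.pgroup_subnormal_le hsn h1
    refine ⟨(Cfsg.pCore p J).map J.subtype, ?_, ?_, ?_⟩
    · exact (Lib.H1Core.pCore_isPGroup (G := J) p).of_equiv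
        ((Cfsg.pCore p J).equivMapOfInjective _ J.subtype_injective)
    · intro x hx
      have hxJ : x ∈ J := (le_sup_left : H ≤ J) hx
      exact ⟨⟨x, hxJ⟩, h2 hx, rfl⟩
    · have hgJ : g ∈ J := (le_sup_right : zpowers g ≤ J) (mem_zpowers g)
      haveI := Lib.H1Core.pCore_normal p J
      have h3 : (⟨g, hgJ⟩ : J) ∈ normalizer ((Cfsg.pCore p J : Subgroup J) : Set J) := by
        rw [normalizer_eq_top (Cfsg.pCore p J)]
        trivial
      exact (Cfsg.pCore p J).le_normalizer_map J.subtype ⟨⟨g, hgJ⟩, h3, rfl⟩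
  · rintro ⟨U, hU, hHU, hg⟩
    set J := H ⊔ zpowers g with hJ
    have hJN : J ≤ normalizer (U : Set G) :=
      sup_le (fun x hx => le_normalizer (hHU hx)) ((zpowers_le).2 hg)
    have hW : (U.subgroupOf J).Normal := normal_subgroupOf_of_le_normalizer hJN
    have hle : H.subgroupOf J ≤ U.subgroupOf J := subgroupOf_mono J hHU
    have hp : IsPGroup p (U.subgroupOf J) := hU.comap_of_injective J.subtype J.subtype_injective
    haveI : Group.IsNilpotent (U.subgroupOf J) := hp.isNilpotent
    exact IsSubnormal.trans hle (S4331.subnormal_of_nilpotent _) hW.isSubnormal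

theorem grow [Finite G] {p : ℕ} [Fact p.Prime] {H U : Subgroup G} (hU : IsPGroup p U) (hlt : H < U) :
    ∃ y ∈ U, y ∉ H ∧ y ∈ normalizer (H : Set G) := by
  haveI : Group.IsNilpotent U := hU.isNilpotent
  have hne : H.subgroupOf U ≠ ⊤ := by
    intro h
    rw [subgroupOf_eq_top] at h
    exact absurd h (not_le_of_gt hlt)
  have h1 := (normalizerCondition_of_isNilpotent (G := U)) (H.subgroupOf U) (lt_top_iff_ne_top.mpr hne)
  obtain ⟨y, hy, hny⟩ := SetLike.exists_of_lt h1
  refine ⟨y, y.2, fun h => hny (by rwa [mem_subgroupOf]), ?_⟩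
  rw [mem_normalizer_iff] at hy ⊢
  intro h
  by_cases hhU : h ∈ U
  · have := hy ⟨h, hhU⟩
    simpa [mem_subgroupOf] using this
  · constructor
    · intro hh
      exact absurd (hlt.le hh) hhU
    · intro hh
      exfalso
      apply hhU
      have h2 := hlt.le hh
      have h3 : (y : G)⁻¹ * ((y : G) * h * (y : G)⁻¹) * (y : G) ∈ U :=
        U.mul_mem (U.mul_mem (U.inv_mem y.2) h2) y.2
      simpa [mul_assoc] using h3

end grp

section mainsec

variable {G : Type u} [Group G] [Finite G] {p : ℕ} [Fact p.Prime]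

theorem case_normal (H : Subgroup G) (hH : IsPGroup p H) (P : Sylow p G)
    (hn : normalizer (H : Set G) = ⊤) :
    Nat.card {g : G // Good p H g} = Nat.card {x : G // Om H P x} := by
  haveI hN : H.Normal := normalizer_eq_top_iff.1 hn
  have h1 : ∀ g, Good p H g := fun g => ⟨H, hH, le_rfl, by rw [hn]; trivial⟩
  have hHP : H ≤ P := by
    obtain ⟨Q, hQ⟩ := hH.exists_le_sylow
    obtain ⟨z, hz⟩ := MulAction.exists_smul_eq G Q P
    intro h hh
    rw [← hz, Lib.H1Core.mem_sylow_smul]
    exact hQ (by simpa using hN.conj_mem h hh z⁻¹)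
  have h2 : ∀ x, Om H P x := fun x h hh => hHP (hN.conj_mem h hh x)
  exact Nat.card_congr ((Equiv.subtypeUnivEquiv h1).trans (Equiv.subtypeUnivEquiv h2).symm)

theorem case_sylow (Q : Sylow p G) (P : Sylow p G) :
    Nat.card {g : G // Good p (Q : Subgroup G) g} = Nat.card {x : G // Om (Q : Subgroup G) P x} := by
  obtain ⟨z, hz⟩ := MulAction.exists_smul_eq G Q P
  have hgood : ∀ g, Good p (Q : Subgroup G) g ↔ g ∈ normalizer ((Q : Subgroup G) : Set G) := by
    intro g
    constructor
    · rintro ⟨U, hU, hQU, hg⟩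
      have : U = Q := Q.is_maximal' hU hQU
      rwa [this] at hg
    · intro hg
      exact ⟨Q, Q.isPGroup', le_rfl, hg⟩
  have hom : ∀ x, Om (Q : Subgroup G) P x ↔ z⁻¹ * x ∈ normalizer ((Q : Subgroup G) : Set G) := by
    intro x
    have hcard : Nat.card ((x • Q : Sylow p G) : Subgroup G) = Nat.card (P : Subgroup G) := by
      rw [Sylow.card_eq_multiplicity, Sylow.card_eq_multiplicity]
    have h1 : Om (Q : Subgroup G) P x ↔ x • Q = P := by
      constructor
      · intro h
        apply Sylow.ext
        apply Subgroup.eq_of_le_of_card_ge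
        · intro y hy
          rw [Lib.H1Core.mem_sylow_smul] at hy
          have := h _ hy
          simpa [mul_assoc] using this
        · exact hcard.ge
      · intro h y hy
        rw [← h, Lib.H1Core.mem_sylow_smul]
        simpa [mul_assoc] using hy
    rw [h1, ← hz]
    have h2 : x • Q = z • Q ↔ (z⁻¹ * x) • Q = Q := by
      rw [mul_smul, inv_smul_eq_iff]
    rw [h2]
    constructor
    · intro h
      rw [mem_normalizer_iff]
      intro y
      constructor
      · intro hy
        have : (z⁻¹ * x) * y * (z⁻¹ * x)⁻¹ ∈ (((z⁻¹ * x) • Q : Sylow p G) : Subgroup G) := by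
          rw [Lib.H1Core.mem_sylow_smul]
          simpa [mul_assoc] using hy
        rwa [h] at this
      · intro hy
        rw [← h, Lib.H1Core.mem_sylow_smul] at hy
        simpa [mul_assoc] using hy
    · intro h
      apply Sylow.ext
      apply Subgroup.eq_of_le_of_card_ge
      · intro y hy
        rw [Lib.H1Core.mem_sylow_smul] at hy
        have := (mem_normalizer_iff.1 h _).1 hy
        simpa [mul_assoc] using this
      · have : Nat.card (((z⁻¹ * x) • Q : Sylow p G) : Subgroup G) = Nat.card (Q : Subgroup G) := by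
          rw [Sylow.card_eq_multiplicity, Sylow.card_eq_multiplicity]
        exact this.ge
  refine Nat.card_congr ?_
  refine (Equiv.subtypeEquivRight hgood).trans ?_
  refine Equiv.trans ?_ (Equiv.subtypeEquivRight hom).symm
  exact (Equiv.mulLeft z).subtypeEquiv (fun a => by simp)

open scoped Classical in
theorem step (H : Subgroup G) (hH : IsPGroup p H) (P : Sylow p G)
    (hnorm : normalizer (H : Set G) ≠ ⊤) (hsyl : ¬ ∃ Q : Sylow p G, (Q : Subgroup G) = H)
    (ih : ∀ K, H < K → IsPGroup p K → ∀ P : Sylow p G,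
      Nat.card {g : G // Good p K g} = Nat.card {x : G // Om K P x})
    (IHL : ∀ K : Subgroup (normalizer (H : Set G)), IsPGroup p K →
      ∀ P₁ : Sylow p (normalizer (H : Set G)),
      Nat.card {g : (normalizer (H : Set G)) // Good p K g} =
        Nat.card {x : (normalizer (H : Set G)) // Om K (P₁ : Subgroup (normalizer (H : Set G))) x}) :
    Nat.card {g : G // Good p H g} = Nat.card {x : G // Om H P x} := by
  letI : Fintype G := Fintype.ofFinite G
  set N := normalizer (H : Set G) with hNdef
  have hHN : H ≤ N := le_normalizer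
  letI : Fintype N := Fintype.ofFinite N
  letI : Fintype (Subgroup N) := Fintype.ofFinite _
  set HL := H.subgroupOf N with hHL
  obtain ⟨μ, hμ1, hμ0⟩ := exists_mu HL
  set PP : Finset (Subgroup N) := Finset.univ.filter (fun K => HL ≤ K ∧ IsPGroup p K) with hPP
  let hat : Subgroup N → Subgroup G := fun K => K.map N.subtype
  have hhatHL : hat HL = H := map_subgroupOf_eq_of_le hHN
  have hhat_le : ∀ K, HL ≤ K → H ≤ hat K := by
    intro K hK
    rw [← hhatHL]
    exact map_mono hK
  have hhatp : ∀ K : Subgroup N, IsPGroup p K → IsPGroup p (hat K) := fun K hK =>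
    hK.of_equiv (K.equivMapOfInjective _ N.subtype_injective)
  have hsubp : ∀ U : Subgroup G, IsPGroup p U → IsPGroup p (U.subgroupOf N) := fun U hU =>
    hU.comap_of_injective N.subtype N.subtype_injective
  -- inner sums
  have inner : ∀ (J : Subgroup N) (R : Subgroup N → Prop), IsPGroup p J → HL ≠ J → (∀ K, R K ↔ K ≤ J) →
      ∑ K ∈ PP.filter R, μ K = 0 := by
    intro J R hJ hne hR
    by_cases hHJ : HL ≤ J
    · have hlt : HL < J := lt_of_le_of_ne hHJ hne
      rw [← hμ0 J hlt]
      apply Finset.sum_congr _ (fun _ _ => rfl)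
      ext K
      simp only [hPP, Finset.mem_filter, Finset.mem_univ, true_and, hR]
      constructor
      · rintro ⟨⟨h1, _⟩, h2⟩
        exact ⟨h1, h2⟩
      · rintro ⟨h1, h2⟩
        exact ⟨⟨h1, hJ.to_le h2⟩, h2⟩
    · apply Finset.sum_eq_zero
      intro K hK
      exfalso
      simp only [hPP, Finset.mem_filter, Finset.mem_univ, true_and, hR] at hK
      exact hHJ (hK.1.1.trans hK.2)
  -- not Sylow
  have hnotsyl : ∀ Q : Sylow p G, H ≤ Q → H < Q := fun Q hQ =>
    lt_of_le_of_ne hQ (fun h => hsyl ⟨Q, h.symm⟩)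
  have E1 : ∑ K ∈ PP, μ K * (Nat.card {x : G // Om (hat K) P x} : ℤ) = 0 := by
    rw [dc PP μ (fun x K => Om (hat K) (P : Subgroup G) x)]
    apply Finset.sum_eq_zero
    intro x _
    set Q : Sylow p G := x⁻¹ • P with hQ
    have hmem : ∀ y, y ∈ (Q : Subgroup G) ↔ x * y * x⁻¹ ∈ (P : Subgroup G) := by
      intro y
      rw [hQ, Lib.H1Core.mem_sylow_smul]
      simp
    apply inner ((Q : Subgroup G).subgroupOf N) _ (hsubp _ Q.isPGroup')
    · intro hEq
      have hle : H ≤ Q := by
        intro h hh
        have : (⟨h, hHN hh⟩ : N) ∈ (Q : Subgroup G).subgroupOf N := by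
          rw [← hEq, hHL, mem_subgroupOf]
          exact hh
        rwa [mem_subgroupOf] at this
      obtain ⟨y, hyQ, hyH, hyN⟩ := grow Q.isPGroup' (hnotsyl Q hle)
      have : (⟨y, hyN⟩ : N) ∈ (Q : Subgroup G).subgroupOf N := by
        rw [mem_subgroupOf]
        exact hyQ
      rw [← hEq, hHL, mem_subgroupOf] at this
      exact hyH this
    · intro K
      constructor
      · intro h k hk
        rw [mem_subgroupOf, hmem]
        exact h _ ⟨k, hk, rfl⟩
      · rintro h _ ⟨k, hk, rfl⟩
        have := h hk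
        rw [mem_subgroupOf, hmem] at this
        exact this
  -- Good inside the normalizer
  have hgoodL : ∀ (K : Subgroup N) (y : N), Good p (hat K) (y : G) ↔ Good p K y := by
    intro K y
    constructor
    · rintro ⟨U, hU, hKU, hy⟩
      refine ⟨U.subgroupOf N, hsubp U hU, ?_, ?_⟩
      · intro k hk
        rw [mem_subgroupOf]
        exact hKU ⟨k, hk, rfl⟩
      · exact le_normalizer_comap N.subtype hy
    · rintro ⟨U, hU, hKU, hy⟩
      refine ⟨U.map N.subtype, hhatp U hU, map_mono hKU, ?_⟩
      exact U.le_normalizer_map N.subtype ⟨y, hy, rfl⟩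
  -- the part outside the normalizer vanishes
  have hout : ∀ g : G, g ∉ N → ∑ K ∈ PP.filter (fun K => Good p (hat K) g), μ K = 0 := by
    intro g hgN
    by_cases hgood : Good p H g
    · obtain ⟨U, hU, hHU, hg⟩ := hgood
      set F : Set (Subgroup G) := {V | H ≤ V ∧ g ∈ normalizer (V : Set G)} with hF
      set U₀ := sInf F with hU₀
      have hU₀U : U₀ ≤ U := sInf_le ⟨hHU, hg⟩
      have hU₀p : IsPGroup p U₀ := hU.to_le hU₀U
      have hHU₀ : H ≤ U₀ := le_sInf (fun V hV => hV.1)
      have hgU₀ : g ∈ normalizer (U₀ : Set G) := by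
        rw [mem_normalizer_iff]
        intro y
        simp only [hU₀, mem_sInf]
        constructor
        · intro h V hV
          exact (mem_normalizer_iff.1 hV.2 y).1 (h V hV)
        · intro h V hV
          exact (mem_normalizer_iff.1 hV.2 y).2 (h V hV)
      have hlt : H < U₀ := by
        refine lt_of_le_of_ne hHU₀ ?_
        intro h
        apply hgN
        have h5 : g ∈ normalizer (H : Set G) := by
          rw [h]
          exact hgU₀
        exact h5
      obtain ⟨y, hyU, hyH, hyN⟩ := grow hU₀p hlt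
      have hE : HL < U₀.subgroupOf N := by
        refine lt_of_le_of_ne (subgroupOf_mono N hHU₀) ?_
        intro h
        have : (⟨y, hyN⟩ : N) ∈ U₀.subgroupOf N := by
          rw [mem_subgroupOf]
          exact hyU
        rw [← h, hHL, mem_subgroupOf] at this
        exact hyH this
      apply weisner μ HL (U₀.subgroupOf N) hE hμ0
      · intro K hK
        simp only [hPP, Finset.mem_filter, Finset.mem_univ, true_and] at hK
        exact hK.1.1
      · intro K hK K' hK' hle
        simp only [hPP, Finset.mem_filter, Finset.mem_univ, true_and] at hK ⊢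
        exact ⟨⟨hK', hK.1.2.to_le hle⟩, Good.mono (map_mono hle) hK.2⟩
      · intro K hK
        simp only [hPP, Finset.mem_filter, Finset.mem_univ, true_and] at hK ⊢
        obtain ⟨⟨hK1, hK2⟩, U₁, hU₁, hKU₁, hgU₁⟩ := hK
        have hHU₁ : H ≤ U₁ := (hhat_le K hK1).trans hKU₁
        have hU₀U₁ : U₀ ≤ U₁ := sInf_le ⟨hHU₁, hgU₁⟩
        have hle : K ⊔ U₀.subgroupOf N ≤ U₁.subgroupOf N := by
          apply sup_le
          · intro k hk
            rw [mem_subgroupOf]
            exact hKU₁ ⟨k, hk, rfl⟩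
          · exact subgroupOf_mono N hU₀U₁
        refine ⟨⟨hK1.trans le_sup_left, (hsubp U₁ hU₁).to_le hle⟩, U₁, hU₁, ?_, hgU₁⟩
        rintro _ ⟨k, hk, rfl⟩
        have := hle hk
        rwa [mem_subgroupOf] at this
    · apply Finset.sum_eq_zero
      intro K hK
      exfalso
      simp only [hPP, Finset.mem_filter, Finset.mem_univ, true_and] at hK
      exact hgood (Good.mono (hhat_le K hK.1.1) hK.2)
  -- no Sylow subgroup of N equals HL
  have hnotsylL : ∀ T : Sylow p N, (T : Subgroup N) ≠ HL := by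
    intro T hT
    obtain ⟨Q, hQ⟩ := hH.exists_le_sylow
    obtain ⟨y, hyQ, hyH, hyN⟩ := grow Q.isPGroup' (hnotsyl Q hQ)
    obtain ⟨Q₁, hQ₁⟩ := (hsubp _ Q.isPGroup').exists_le_sylow
    obtain ⟨z, hz⟩ := MulAction.exists_smul_eq N T Q₁
    have h1 : (⟨y, hyN⟩ : N) ∈ (Q₁ : Subgroup N) := hQ₁ (by rw [mem_subgroupOf]; exact hyQ)
    rw [← hz, Lib.H1Core.mem_sylow_smul, hT, hHL, mem_subgroupOf] at h1
    have h2 : (z : G)⁻¹ * y * z ∈ H := by simpa using h1
    apply hyH
    have h3 := (mem_normalizer_iff.1 z.2 _).1 h2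
    simpa [mul_assoc] using h3
  have E2 : ∑ K ∈ PP, μ K * (Nat.card {g : G // Good p (hat K) g} : ℤ) = 0 := by
    rw [dc PP μ (fun g K => Good p (hat K) g)]
    have h1 : ∑ g : G, ∑ K ∈ PP.filter (fun K => Good p (hat K) g), μ K =
        ∑ y : N, ∑ K ∈ PP.filter (fun K => Good p K y), μ K := by
      have h2 : ∑ g : G, ∑ K ∈ PP.filter (fun K => Good p (hat K) g), μ K =
          ∑ g ∈ Finset.univ.filter (fun g : G => g ∈ N), ∑ K ∈ PP.filter (fun K => Good p (hat K) g), μ K := by
        symm
        apply Finset.sum_subset (Finset.filter_subset _ _)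
        intro g _ hg
        simp only [Finset.mem_filter, Finset.mem_univ, true_and] at hg
        exact hout g hg
      rw [h2, Finset.sum_subtype (p := fun g : G => g ∈ N)
        (Finset.univ.filter (fun g : G => g ∈ N)) (by simp)]
      apply Finset.sum_congr rfl
      intro y _
      apply Finset.sum_congr _ (fun _ _ => rfl)
      ext K
      simp only [Finset.mem_filter, hgoodL]
    rw [h1, ← dc PP μ (fun (y : N) K => Good p K y)]
    obtain ⟨P₁⟩ : Nonempty (Sylow p N) := inferInstance
    have h3 : ∑ K ∈ PP, μ K * (Nat.card {y : N // Good p K y} : ℤ) =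
        ∑ K ∈ PP, μ K * (Nat.card {y : N // Om K (P₁ : Subgroup N) y} : ℤ) := by
      apply Finset.sum_congr rfl
      intro K hK
      simp only [hPP, Finset.mem_filter, Finset.mem_univ, true_and] at hK
      rw [IHL K hK.2 P₁]
    rw [h3, dc PP μ (fun (y : N) K => Om K (P₁ : Subgroup N) y)]
    apply Finset.sum_eq_zero
    intro y _
    apply inner ((y⁻¹ • P₁ : Sylow p N) : Subgroup N) _ (y⁻¹ • P₁ : Sylow p N).isPGroup'
      (fun h => hnotsylL _ h.symm)
    intro K
    constructor
    · intro h k hk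
      rw [Lib.H1Core.mem_sylow_smul]
      simpa using h k hk
    · intro h k hk
      have := h hk
      rw [Lib.H1Core.mem_sylow_smul] at this
      simpa using this
  have hfinal : ∑ K ∈ PP, μ K * ((Nat.card {g : G // Good p (hat K) g} : ℤ) - (Nat.card {x : G // Om (hat K) P x} : ℤ)) = 0 := by
    simp_rw [mul_sub]
    rw [Finset.sum_sub_distrib, E1, E2, sub_zero]
  rw [Finset.sum_eq_single HL] at hfinal
  · rw [hμ1, hhatHL, one_mul] at hfinal
    have := sub_eq_zero.1 hfinal
    exact_mod_cast this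
  · intro K hK hne
    simp only [hPP, Finset.mem_filter, Finset.mem_univ, true_and] at hK
    have hlt : H < hat K := by
      refine lt_of_le_of_ne (hhat_le K hK.1) ?_
      intro h
      apply hne
      apply le_antisymm _ hK.1
      intro k hk
      rw [hHL, mem_subgroupOf, h]
      exact ⟨k, hk, rfl⟩
    rw [ih _ hlt (hhatp K hK.2) P, sub_self, mul_zero]
  · intro hnot
    exfalso
    apply hnot
    simp only [hPP, Finset.mem_filter, Finset.mem_univ, true_and]
    exact ⟨le_rfl, hH.comap_of_injective N.subtype N.subtype_injective⟩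

end mainsec

theorem main (p : ℕ) [Fact p.Prime] (n : ℕ) : ∀ (G : Type u) [Group G] [Finite G], Nat.card G = n →
    ∀ (H : Subgroup G), IsPGroup p H → ∀ P : Sylow p G,
      Nat.card {g : G // Good p H g} = Nat.card {x : G // Om H P x} := by
  induction n using Nat.strong_induction_on with
  | _ n IH =>
  intro G _ _ hn H
  induction H using WellFoundedGT.induction with
  | ind H ih =>
  intro hH P
  by_cases hnorm : normalizer (H : Set G) = ⊤
  · exact case_normal H hH P hnorm
  by_cases hsyl : ∃ Q : Sylow p G, (Q : Subgroup G) = H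
  · obtain ⟨Q, rfl⟩ := hsyl
    exact case_sylow Q P
  refine step H hH P hnorm hsyl (fun K hK hKp P₁ => ih K hK hKp P₁) ?_
  intro K hK P₁
  have hlt : Nat.card (normalizer (H : Set G)) < n := by
    rw [← hn]
    exact Lib.Comp.card_lt_of_ne_top hnorm
  exact IH _ hlt _ rfl K hK P₁


theorem card_fib {A B : Type*} [Finite A] [Finite B] (f : A → B) (c : ℕ)
    (h : ∀ b, Nat.card {a // f a = b} = c) : Nat.card A = Nat.card B * c := by
  classical
  letI := Fintype.ofFinite A
  letI := Fintype.ofFinite B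
  rw [Nat.card_congr (Equiv.sigmaFiberEquiv f).symm, Nat.card_sigma]
  simp_rw [h]
  simp [Nat.card_eq_fintype_card]

section final

variable {G : Type u} [Group G] [Finite G] {p : ℕ} [Fact p.Prime]

theorem count1 (H : Subgroup G) (P : Sylow p G) :
    Nat.card {x : G // Om H P x} = Nat.card {Q : Sylow p G // H ≤ (Q : Subgroup G)} *
      Nat.card (normalizer ((P : Subgroup G) : Set G)) := by
  have hm : ∀ x, Om H P x ↔ H ≤ ((x⁻¹ • P : Sylow p G) : Subgroup G) := by
    intro x
    constructor
    · intro h y hy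
      rw [Lib.H1Core.mem_sylow_smul]
      simpa using h y hy
    · intro h y hy
      have := h hy
      rw [Lib.H1Core.mem_sylow_smul] at this
      simpa using this
  apply card_fib (fun x : {x : G // Om H P x} => (⟨x.1⁻¹ • P, (hm x.1).1 x.2⟩ : {Q : Sylow p G // H ≤ (Q : Subgroup G)}))
  rintro ⟨Q, hQ⟩
  obtain ⟨z, hz⟩ := MulAction.exists_smul_eq G P Q
  have hz2 : Om H P z⁻¹ := by
    rw [hm, inv_inv, hz]
    exact hQ
  have key : ∀ x : G, x⁻¹ • P = Q ↔ x * z ∈ normalizer ((P : Subgroup G) : Set G) := by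
    intro x
    have h2 : x⁻¹ • P = z • P ↔ (x * z)⁻¹ • P = P := by
      rw [mul_inv_rev, mul_smul]
      constructor
      · intro h
        rw [h, inv_smul_smul]
      · intro h
        have h3 := congrArg (fun T => z • T) h
        simpa using h3
    rw [← hz, h2]
    exact Sylow.smul_eq_iff_mem_normalizer.trans inv_mem_iff
  refine Nat.card_congr (?_ : _ ≃ _)
  refine ⟨fun a => ⟨a.1.1 * z, (key _).1 (congrArg Subtype.val a.2)⟩, fun n => ⟨⟨(n : G) * z⁻¹, ?_⟩, ?_⟩, ?_, ?_⟩
  · have h1 : ((n : G) * z⁻¹)⁻¹ • P = Q := (key _).2 (by simpa using n.2)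
    rw [hm, h1]
    exact hQ
  · exact Subtype.ext ((key _).2 (by simpa using n.2))
  · intro a
    apply Subtype.ext
    apply Subtype.ext
    simp
  · intro n
    apply Subtype.ext
    simp

theorem count2 (H : Subgroup G) (P : Subgroup G) :
    Nat.card {x : G // Om H P x} =
      Nat.card {K : Subgroup G // K ≤ P ∧ ∃ g : G, K = H.map (MulAut.conj g).toMonoidHom} *
      Nat.card (normalizer (H : Set G)) := by
  have hm : ∀ x, Om H P x ↔ H.map (MulAut.conj x).toMonoidHom ≤ P := by
    intro x
    constructor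
    · rintro h _ ⟨y, hy, rfl⟩
      exact h y hy
    · intro h y hy
      exact h ⟨y, hy, rfl⟩
  apply card_fib (fun x : {x : G // Om H P x} => (⟨H.map (MulAut.conj x.1).toMonoidHom, (hm x.1).1 x.2, x.1, rfl⟩ :
    {K : Subgroup G // K ≤ P ∧ ∃ g : G, K = H.map (MulAut.conj g).toMonoidHom}))
  rintro ⟨K, hK, g, rfl⟩
  have hmm : ∀ (x y : G), y ∈ H.map (MulAut.conj x).toMonoidHom ↔ x⁻¹ * y * x ∈ H := by
    intro x y
    constructor
    · rintro ⟨h, hh, rfl⟩
      simpa [mul_assoc] using hh
    · intro h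
      exact ⟨_, h, by simp [mul_assoc]⟩
  have key : ∀ a : G, H.map (MulAut.conj a).toMonoidHom = H.map (MulAut.conj g).toMonoidHom ↔
      g⁻¹ * a ∈ normalizer (H : Set G) := by
    intro a
    constructor
    · intro h
      rw [mem_normalizer_iff]
      intro y
      have h1 := hmm a (a * y * a⁻¹)
      have h2 := hmm g (a * y * a⁻¹)
      rw [h, h2] at h1
      have e1 : a⁻¹ * (a * y * a⁻¹) * a = y := by group
      have e2 : g⁻¹ * (a * y * a⁻¹) * g = g⁻¹ * a * y * (g⁻¹ * a)⁻¹ := by group
      rw [e1, e2] at h1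
      exact h1.symm
    · intro h
      ext y
      rw [hmm, hmm]
      have h1 := (mem_normalizer_iff.1 h) (a⁻¹ * y * a)
      have e2 : g⁻¹ * a * (a⁻¹ * y * a) * (g⁻¹ * a)⁻¹ = g⁻¹ * y * g := by group
      rw [e2] at h1
      exact h1
  refine Nat.card_congr (?_ : _ ≃ _)
  refine ⟨fun a => ⟨g⁻¹ * a.1.1, (key _).1 (congrArg Subtype.val a.2)⟩, fun n => ⟨⟨g * (n : G), ?_⟩, ?_⟩, ?_, ?_⟩
  · have h1 := (key (g * (n : G))).2 (by simpa using n.2)
    rw [hm, h1]
    exact hK
  · exact Subtype.ext ((key _).2 (by simpa using n.2))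
  · intro a
    apply Subtype.ext
    apply Subtype.ext
    simp
  · intro n
    apply Subtype.ext
    simp

end final

/-- Let G be a finite group, p a prime dividing the order of G, H a p-subgroup of G and P a Sylow p-subgroup of G. Call the subnormalizer of H the set of elements g of G such that H is subnormal in the subgroup generated by H and g. Then the number of elements of the subnormalizer of H equals the number of Sylow p-subgroups of G containing H times the order of N_G(P), and also equals the number of conjugates of H contained in P times the order of N_G(H). -/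
theorem result {G : Type*} [Group G] [Finite G] (p : ℕ) [Fact p.Prime]
    (hp : p ∣ Nat.card G) (H : Subgroup G) (hH : IsPGroup p H) (P : Sylow p G) :
    Nat.card {g : G // ((H).subgroupOf (H ⊔ Subgroup.zpowers g)).IsSubnormal} =
        Nat.card {Q : Sylow p G // H ≤ (Q : Subgroup G)} * Nat.card (Subgroup.normalizer ((P : Subgroup G) : Set G)) ∧
    Nat.card {g : G // ((H).subgroupOf (H ⊔ Subgroup.zpowers g)).IsSubnormal} =
        Nat.card {K : Subgroup G // K ≤ (P : Subgroup G) ∧ ∃ g : G, K = H.map (MulAut.conj g).toMonoidHom} *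
          Nat.card (Subgroup.normalizer (H : Set G)) := by
  have h0 : Nat.card {g : G // ((H).subgroupOf (H ⊔ Subgroup.zpowers g)).IsSubnormal} =
      Nat.card {x : G // Om H P x} := by
    rw [Nat.card_congr (Equiv.subtypeEquivRight (sn_iff H hH))]
    exact main p _ G rfl H hH P
  rw [h0]
  exact ⟨count1 H P, count2 H P⟩

end Cfsg.Agent.S4088
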