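import Cfsg.Statements.S4089
import Mathlib
import Cfsg.Agent.Lib.H1Core
import Cfsg.Agent.Lib.Comp
import Cfsg.Agent.Lib.FGS4
-- import your own Cfsg.Agent.* helpers here

set_option autoImplicit false
open Cfsg

namespace Cfsg.Agent.S4089

open Subgroup

theorem subn_of_nilp {G : Type*} [Group G] [Finite G] [Group.IsNilpotent G] (H : Subgroup G) :
    H.IsSubnormal := by
  induction H using WellFoundedGT.induction with
  | ind H ih =>
    by_cases hT : H = ⊤
    · subst hT; exact Subgroup.IsSubnormal.top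
    · have hlt := normalizerCondition_of_isNilpotent (G := G) H (lt_top_iff_ne_top.mpr hT)
      exact Subgroup.IsSubnormal.step H _ (Subgroup.le_normalizer) (ih _ hlt)
        Subgroup.normal_in_normalizer

theorem le_core_of_subn {G : Type*} [Group G] [Finite G] (p : ℕ) [Fact p.Prime] {H : Subgroup G}
    (hH : IsPGroup p H) (hs : H.IsSubnormal) : H ≤ Cfsg.pCore p G := by
  have hnil : Group.IsNilpotent H := hH.isNilpotent
  have h1 := Lib.Comp.nilp_subnormal_le_fitting hs hnil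
  intro x hx
  obtain ⟨n, hn⟩ := (IsPGroup.iff_orderOf.mp hH) ⟨x, hx⟩
  rw [Subgroup.orderOf_mk] at hn
  exact Lib.FGS4.mem_pCore_of_mem_fitting (Fact.out) x (h1 hx) hn

theorem pg_sub {G : Type*} [Group G] (p : ℕ) {R K : Subgroup G} (hR : IsPGroup p R) :
    IsPGroup p (R.subgroupOf K) := by
  intro x
  obtain ⟨k, hk⟩ := hR ⟨((x : K) : G), (Subgroup.mem_subgroupOf.mp x.2)⟩
  refine ⟨k, ?_⟩
  apply Subtype.ext
  apply Subtype.ext
  have := congrArg Subtype.val hk
  simpa using this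

theorem subn_of_le {G : Type*} [Group G] [Finite G] (p : ℕ) [Fact p.Prime] {H R K : Subgroup G}
    (hHR : H ≤ R) (hR : IsPGroup p R) (hK : K ≤ normalizer (R : Set G)) :
    (H.subgroupOf K).IsSubnormal := by
  have hT : (R.subgroupOf K).Normal := by
    constructor
    intro n hn g
    rw [Subgroup.mem_subgroupOf] at hn ⊢
    have := (Subgroup.mem_normalizer_iff.mp (hK g.2) (n : G)).mp hn
    simpa using this
  have hle : H.subgroupOf K ≤ R.subgroupOf K := by
    intro x hx
    rw [Subgroup.mem_subgroupOf] at hx ⊢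
    exact hHR hx
  have hpT : IsPGroup p (R.subgroupOf K) := pg_sub p hR
  haveI : Group.IsNilpotent (R.subgroupOf K) := hpT.isNilpotent
  have h1 := subn_of_nilp ((H.subgroupOf K).subgroupOf (R.subgroupOf K))
  exact Subgroup.IsSubnormal.trans hle h1 hT.isSubnormal

theorem exists_start {G : Type*} [Group G] [Finite G] (p : ℕ) [Fact p.Prime] {H : Subgroup G}
    (hH : IsPGroup p H) (g : G) (hs : (H.subgroupOf (H ⊔ zpowers g)).IsSubnormal) :
    ∃ R : Subgroup G, H ≤ R ∧ IsPGroup p R ∧ g ∈ normalizer (R : Set G) := by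
  set K := H ⊔ zpowers g with hK
  have hHK : H ≤ K := le_sup_left
  have hgK : g ∈ K := (le_sup_right : zpowers g ≤ K) (mem_zpowers g)
  have hp : IsPGroup p (H.subgroupOf K) := pg_sub p hH
  have h1 := le_core_of_subn p hp hs
  refine ⟨(Cfsg.pCore p K).map K.subtype, ?_, ?_, ?_⟩
  · intro x hx
    exact ⟨⟨x, hHK hx⟩, h1 (Subgroup.mem_subgroupOf.mpr hx), rfl⟩
  · exact (Lib.H1Core.pCore_isPGroup (G := K) p).map _
  · rw [Subgroup.mem_normalizer_iff]
    intro y
    haveI := Lib.H1Core.pCore_normal p K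
    constructor
    · rintro ⟨z, hz, rfl⟩
      exact ⟨⟨g, hgK⟩ * z * ⟨g, hgK⟩⁻¹, Subgroup.Normal.conj_mem inferInstance _ hz _, by simp⟩
    · rintro ⟨z, hz, hzy⟩
      refine ⟨⟨g, hgK⟩⁻¹ * z * ⟨g, hgK⟩, ?_, ?_⟩
      · have := Subgroup.Normal.conj_mem (inferInstance : (Cfsg.pCore p K).Normal) _ hz ⟨g, hgK⟩⁻¹
        simpa using this
      · simp only [Subgroup.subtype_apply, Subgroup.coe_mul, InvMemClass.coe_inv] at hzy ⊢
        rw [hzy]; group

theorem exists_radical {G : Type*} [Group G] [Finite G] (p : ℕ) [Fact p.Prime] {H : Subgroup G}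
    (g : G) (h0 : ∃ R : Subgroup G, H ≤ R ∧ IsPGroup p R ∧ g ∈ normalizer (R : Set G)) :
    ∃ R : Subgroup G, H ≤ R ∧
      (Cfsg.pCore p (normalizer (R : Set G))).map (normalizer (R : Set G)).subtype = R ∧
      g ∈ normalizer (R : Set G) := by
  let S : Set (Subgroup G) := {R | H ≤ R ∧ IsPGroup p R ∧ g ∈ normalizer (R : Set G)}
  obtain ⟨R, hR⟩ := (Set.toFinite S).exists_le_maximal (a := h0.choose) h0.choose_spec |>.imp fun _ h => h.2
  have hRS : R ∈ S := hR.prop
  obtain ⟨hHR, hRp, hgR⟩ := hRS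
  refine ⟨R, hHR, ?_, hgR⟩
  set N := normalizer (R : Set G) with hN
  set T := (Cfsg.pCore p N).map N.subtype with hT
  have hRT : R ≤ T := by
    intro x hx
    have hxN : x ∈ N := Subgroup.le_normalizer hx
    refine ⟨⟨x, hxN⟩, ?_, rfl⟩
    have hnorm : (R.subgroupOf N).Normal := Subgroup.normal_in_normalizer
    have hp : IsPGroup p (R.subgroupOf N) := pg_sub p hRp
    exact Lib.H1Core.le_pCore hnorm hp (Subgroup.mem_subgroupOf.mpr hx)
  have hTp : IsPGroup p T := (Lib.H1Core.pCore_isPGroup (G := N) p).map _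
  have hgT : g ∈ normalizer (T : Set G) := by
    rw [Subgroup.mem_normalizer_iff]
    intro y
    haveI := Lib.H1Core.pCore_normal p N
    constructor
    · rintro ⟨z, hz, rfl⟩
      exact ⟨⟨g, hgR⟩ * z * ⟨g, hgR⟩⁻¹, Subgroup.Normal.conj_mem inferInstance _ hz _, by simp⟩
    · rintro ⟨z, hz, hzy⟩
      refine ⟨⟨g, hgR⟩⁻¹ * z * ⟨g, hgR⟩, ?_, ?_⟩
      · have := Subgroup.Normal.conj_mem (inferInstance : (Cfsg.pCore p N).Normal) _ hz ⟨g, hgR⟩⁻¹
        simpa using this
      · simp only [Subgroup.subtype_apply, Subgroup.coe_mul, InvMemClass.coe_inv] at hzy ⊢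
        rw [hzy]; group
  have hTS : T ∈ S := ⟨hHR.trans hRT, hTp, hgT⟩
  exact le_antisymm (hR.le_of_ge hTS hRT) hRT

theorem inter_le {G : Type*} [Group G] [Finite G] (p : ℕ) [Fact p.Prime] {H R : Subgroup G}
    (hHR : H ≤ R)
    (hR : (Cfsg.pCore p (normalizer (R : Set G))).map (normalizer (R : Set G)).subtype = R) :
    sInf {K : Subgroup G | ∃ Q : Sylow p G, H ≤ (Q : Subgroup G) ∧ K = (Q : Subgroup G)} ≤ R := by
  set N := normalizer (R : Set G) with hN
  set J := sInf {K : Subgroup G | ∃ Q : Sylow p G, R ≤ (Q : Subgroup G) ∧ K = (Q : Subgroup G)} with hJ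
  have hRp : IsPGroup p R := by
    rw [← hR]; exact (Lib.H1Core.pCore_isPGroup (G := N) p).map _
  have hIJ : sInf {K : Subgroup G | ∃ Q : Sylow p G, H ≤ (Q : Subgroup G) ∧ K = (Q : Subgroup G)} ≤ J := by
    apply le_sInf
    rintro K ⟨Q, hQ, rfl⟩
    exact sInf_le ⟨Q, hHR.trans hQ, rfl⟩
  refine hIJ.trans ?_
  have hRJ : R ≤ J := le_sInf (by rintro K ⟨Q, hQ, rfl⟩; exact hQ)
  obtain ⟨Q₀, hQ₀⟩ := hRp.exists_le_sylow
  have hJQ₀ : J ≤ Q₀ := sInf_le ⟨Q₀, hQ₀, rfl⟩
  have hJp : IsPGroup p J := Q₀.isPGroup'.to_le hJQ₀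
  by_contra hne
  have hlt : R < J := lt_of_le_of_ne hRJ (fun h => hne h.symm.le)
  -- the normalizer condition in `J`
  haveI : Group.IsNilpotent J := hJp.isNilpotent
  have hlt' : R.subgroupOf J < ⊤ := by
    rw [lt_top_iff_ne_top]
    intro h
    rw [Subgroup.subgroupOf_eq_top] at h
    exact absurd (lt_of_lt_of_le hlt h) (lt_irrefl _)
  have hlt2 := normalizerCondition_of_isNilpotent (G := J) _ hlt'
  obtain ⟨x, hx, hxR⟩ := SetLike.exists_of_lt hlt2
  have hxN : (x : G) ∈ N := by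
    have h := Subgroup.mem_normalizer_iff.mp hx
    rw [Subgroup.mem_normalizer_iff]
    intro y
    constructor
    · intro hy
      have hyJ : y ∈ J := hRJ hy
      have := (h ⟨y, hyJ⟩).mp (Subgroup.mem_subgroupOf.mpr hy)
      simpa [Subgroup.mem_subgroupOf] using this
    · intro hy
      have hyJ : y ∈ J := by
        have h3 : (x : G) * y * (x : G)⁻¹ ∈ J := hRJ hy
        have h4 := J.mul_mem (J.mul_mem (J.inv_mem x.2) h3) x.2
        simpa [mul_assoc] using h4
      have := (h ⟨y, hyJ⟩).mpr (Subgroup.mem_subgroupOf.mpr (by simpa using hy))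
      simpa [Subgroup.mem_subgroupOf] using this
  have hxR' : (x : G) ∉ R := fun h => hxR (Subgroup.mem_subgroupOf.mpr h)
  -- a Sylow of `N` missing `x`
  have hxcore : (⟨x, hxN⟩ : N) ∉ Cfsg.pCore p N := by
    intro h
    apply hxR'
    rw [← hR]
    exact ⟨⟨x, hxN⟩, h, rfl⟩
  rw [Lib.H1Core.pCore_eq_iInf_sylow, Subgroup.mem_iInf] at hxcore
  push_neg at hxcore
  obtain ⟨T, hT⟩ := hxcore
  have hTp' : IsPGroup p ((T : Subgroup N).map N.subtype) := T.isPGroup'.map _
  obtain ⟨Q, hQ⟩ := hTp'.exists_le_sylow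
  have hRT : R ≤ (T : Subgroup N).map N.subtype := by
    rw [← hR] 
    exact Subgroup.map_mono (Lib.H1Core.pCore_le_sylow p T)
  have hRQ : R ≤ Q := hRT.trans hQ
  have hxQ : (x : G) ∈ Q := (sInf_le ⟨Q, hRQ, rfl⟩ : J ≤ Q) x.2
  -- `Q ⊓ N` in `N`
  let U : Subgroup N := (Q : Subgroup G).subgroupOf N
  have hUp : IsPGroup p U := pg_sub p Q.isPGroup'
  have hTU : (T : Subgroup N) ≤ U := by
    intro y hy
    exact Subgroup.mem_subgroupOf.mpr (hQ ⟨y, hy, rfl⟩)
  have := T.is_maximal' hUp hTU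
  apply hT
  rw [← this]
  exact Subgroup.mem_subgroupOf.mpr hxQ

/-- Let G be a finite group, p a prime and H a p-subgroup of G. Then the set of elements g of G such that H is subnormal in the subgroup generated by H and g is the union of the normalizers N_G(R) over the subgroups R of G containing H with R = O_p(N_G(R)); and this set does not change when H is replaced by the intersection of all Sylow p-subgroups of G containing H. -/
theorem result {G : Type*} [Group G] [Finite G] (p : ℕ) [Fact p.Prime]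
    (H : Subgroup G) (hH : IsPGroup p H) :
    {g : G | ((H).subgroupOf (H ⊔ Subgroup.zpowers g)).IsSubnormal} =
      {g : G | ∃ R : Subgroup G, H ≤ R ∧ (Cfsg.pCore p (Subgroup.normalizer (R : Set G))).map (Subgroup.normalizer (R : Set G)).subtype = R ∧ g ∈ Subgroup.normalizer (R : Set G)} ∧
    ∀ g : G, (((H).subgroupOf (H ⊔ Subgroup.zpowers g)).IsSubnormal ↔
      (((sInf {K : Subgroup G | ∃ Q : Sylow p G, H ≤ (Q : Subgroup G) ∧ K = (Q : Subgroup G)})).subgroupOf ((sInf {K : Subgroup G | ∃ Q : Sylow p G, H ≤ (Q : Subgroup G) ∧ K = (Q : Subgroup G)}) ⊔ Subgroup.zpowers g)).IsSubnormal) := by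
  have hsup : ∀ {H : Subgroup G} {R : Subgroup G} (g : G), H ≤ R → IsPGroup p R → g ∈ normalizer (R : Set G) →
      (H.subgroupOf (H ⊔ zpowers g)).IsSubnormal := by
    intro H R g hHR hR hg
    refine subn_of_le p hHR hR (sup_le (hHR.trans Subgroup.le_normalizer) ?_)
    rwa [Subgroup.zpowers_le]
  have hrad : ∀ {R : Subgroup G}, 
      (Cfsg.pCore p (normalizer (R : Set G))).map (normalizer (R : Set G)).subtype = R → IsPGroup p R := by
    intro R hR
    rw [← hR]
    exact (Lib.H1Core.pCore_isPGroup (G := _) p).map _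
  obtain ⟨Q₀, hQ₀⟩ := hH.exists_le_sylow
  set I := sInf {K : Subgroup G | ∃ Q : Sylow p G, H ≤ (Q : Subgroup G) ∧ K = (Q : Subgroup G)} with hI
  have hHI : H ≤ I := le_sInf (by rintro K ⟨Q, hQ, rfl⟩; exact hQ)
  have hIp : IsPGroup p I := Q₀.isPGroup'.to_le (sInf_le ⟨Q₀, hQ₀, rfl⟩)
  refine ⟨?_, ?_⟩
  · ext g
    constructor
    · intro hg
      exact exists_radical p g (exists_start p hH g hg)
    · rintro ⟨R, hHR, hR, hg⟩
      exact hsup g hHR (hrad hR) hg
  · intro g
    constructor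
    · intro hg
      obtain ⟨R, hHR, hR, hgR⟩ := exists_radical p g (exists_start p hH g hg)
      exact hsup g (inter_le p hHR hR) (hrad hR) hgR
    · intro hg
      obtain ⟨R, hHR, hR, hgR⟩ := exists_radical p g (exists_start p hIp g hg)
      exact hsup g (hHI.trans hHR) (hrad hR) hgR

end Cfsg.Agent.S4089
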