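import Cfsg.Statements.S4090
import Mathlib
import Cfsg.Agent.S4088
-- import your own Cfsg.Agent.* helpers here

set_option autoImplicit false
open scoped BigOperators
open Cfsg

namespace Cfsg.Agent.S4090

universe u

open Subgroup
open scoped Pointwise

section

variable {G : Type u} [Group G] [Finite G] {p : ℕ} [Fact p.Prime]

theorem key1 (P : Sylow p G) (M M' : Subgroup G) [M.Normal] (hle : M ≤ M')
    (hc : (M.relIndex M').Coprime p) (z : G) (hz : z ∈ (P : Subgroup G) ⊔ M) (hz' : z ∈ M') : z ∈ M := by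
  have h := mul_normal (P : Subgroup G) M
  have hz2 : z ∈ ((P : Subgroup G) : Set G) * (M : Set G) := by
    rw [← h]
    exact hz
  obtain ⟨a, ha, m, hm, rfl⟩ := Set.mem_mul.1 hz2
  obtain ⟨k, hk⟩ := P.isPGroup' ⟨a, ha⟩
  have hk' : a ^ (p ^ k) = 1 := by
    have := congrArg Subtype.val hk
    simpa using this
  have hq : ((a * m : G) : G ⧸ M) = (a : G ⧸ M) := by
    rw [QuotientGroup.mk_mul, (QuotientGroup.eq_one_iff m).2 hm, mul_one]
  have h1 : ((a * m : G) : G ⧸ M) ^ (p ^ k) = 1 := by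
    rw [hq, ← QuotientGroup.mk_pow, hk']
    rfl
  haveI : (M.subgroupOf M').Normal := inferInstance
  have h2 : ((a * m : G) : G ⧸ M) ^ (M.relIndex M') = 1 := by
    have h3 := Subgroup.pow_index_mem (M.subgroupOf M') (⟨a * m, hz'⟩ : M')
    rw [mem_subgroupOf] at h3
    rw [← QuotientGroup.mk_pow, QuotientGroup.eq_one_iff]
    simpa [Subgroup.relIndex] using h3
  have h4 := orderOf_dvd_of_pow_eq_one h1
  have h5 := orderOf_dvd_of_pow_eq_one h2
  have h6 : orderOf ((a * m : G) : G ⧸ M) = 1 :=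
    Nat.eq_one_of_dvd_coprimes (hc.pow_right k) h5 h4
  rw [orderOf_eq_one_iff, QuotientGroup.eq_one_iff] at h6
  exact h6

theorem key3 (P : Sylow p G) (M M' : Subgroup G) [M.Normal] [M'.Normal]
    (m : ℕ) (hc : M.relIndex M' = p ^ m) : M' ≤ (P : Subgroup G) ⊔ M := by
  intro z hz
  let f := QuotientGroup.mk' M
  have hf : Function.Surjective f := QuotientGroup.mk'_surjective M
  let Q : Sylow p (G ⧸ M) := P.mapSurjective hf
  have hN : (M'.map f).Normal := Subgroup.Normal.map inferInstance f hf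
  have hp : IsPGroup p (M'.map f) := by
    rintro ⟨y, w, hw, rfl⟩
    refine ⟨m, ?_⟩
    apply Subtype.ext
    have h3 := Subgroup.pow_index_mem (M.subgroupOf M') (⟨w, hw⟩ : M')
    rw [mem_subgroupOf] at h3
    have h4 : w ^ (p ^ m) ∈ M := by
      rw [← hc]
      simpa [Subgroup.relIndex] using h3
    have h5 : f (w ^ (p ^ m)) = 1 := (QuotientGroup.eq_one_iff _).2 h4
    simpa using h5
  have hle : M'.map f ≤ (Q : Subgroup (G ⧸ M)) :=
    (Lib.H1Core.le_pCore hN hp).trans (Lib.H1Core.pCore_le_sylow p Q)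
  have h1 := hle ⟨z, hz, rfl⟩
  obtain ⟨a, ha, hafz⟩ := h1
  have h2 : a⁻¹ * z ∈ M := by
    have := (QuotientGroup.eq (s := M)).1 hafz
    exact this
  have h3 : z = a * (a⁻¹ * z) := by group
  rw [h3]
  exact mul_mem ((le_sup_left : (P : Subgroup G) ≤ _) ha) ((le_sup_right : M ≤ _) h2)

theorem key2 (H : Subgroup G) (hH : IsPGroup p H) (P : Sylow p G) (M M' : Subgroup G) [M'.Normal]
    (x₀ : G) (h₀ : S4088.Om H ((P : Subgroup G) ⊔ M') x₀) :
    ∃ m ∈ M', S4088.Om H ((P : Subgroup G) ⊔ M) (x₀ * m) := by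
  set X := (P : Subgroup G) ⊔ M' with hX
  have hPX : (P : Subgroup G) ≤ X := le_sup_left
  let PX : Sylow p X := P.subtype hPX
  let H₀ : Subgroup X := (H.map (MulAut.conj x₀).toMonoidHom).subgroupOf X
  have hH₀ : IsPGroup p H₀ := by
    have h1 : IsPGroup p (H.map (MulAut.conj x₀).toMonoidHom) :=
      hH.of_equiv (H.equivMapOfInjective _ (MulAut.conj x₀).injective)
    exact h1.comap_of_injective X.subtype X.subtype_injective
  obtain ⟨Q, hQ⟩ := hH₀.exists_le_sylow
  obtain ⟨t, ht⟩ := MulAction.exists_smul_eq X Q PX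
  have ht2 : (t : G) ∈ ((P : Subgroup G) : Set G) * (M' : Set G) := by
    rw [← mul_normal (P : Subgroup G) M']
    exact t.2
  obtain ⟨a, ha, n, hn, hant⟩ := Set.mem_mul.1 ht2
  refine ⟨x₀⁻¹ * n * x₀, ?_, ?_⟩
  · have := Subgroup.Normal.conj_mem (inferInstance : M'.Normal) n hn x₀⁻¹
    simpa using this
  · intro h hh
    have e : x₀ * (x₀⁻¹ * n * x₀) * h * (x₀ * (x₀⁻¹ * n * x₀))⁻¹ = n * (x₀ * h * x₀⁻¹) * n⁻¹ := by
      group
    rw [e]
    apply (le_sup_left : (P : Subgroup G) ≤ _)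
    have hy : (⟨x₀ * h * x₀⁻¹, h₀ h hh⟩ : X) ∈ H₀ := by
      rw [mem_subgroupOf]
      exact ⟨h, hh, rfl⟩
    have hy2 := hQ hy
    have hy3 : t * (⟨x₀ * h * x₀⁻¹, h₀ h hh⟩ : X) * t⁻¹ ∈ (PX : Subgroup X) := by
      rw [← ht, Lib.H1Core.mem_sylow_smul]
      simpa [mul_assoc] using hy2
    have hy4 : (t : G) * (x₀ * h * x₀⁻¹) * (t : G)⁻¹ ∈ (P : Subgroup G) := by
      have : ((t * (⟨x₀ * h * x₀⁻¹, h₀ h hh⟩ : X) * t⁻¹ : X) : G) ∈ (P : Subgroup G) := by
        have h9 := hy3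
        simp only [PX, Sylow.coe_subtype, mem_subgroupOf] at h9
        exact h9
      simpa using this
    rw [← hant] at hy4
    have h7 : n * (x₀ * h * x₀⁻¹) * n⁻¹ = a⁻¹ * (a * n * (x₀ * h * x₀⁻¹) * (a * n)⁻¹) * a := by
      group
    rw [h7]
    exact mul_mem (mul_mem (inv_mem ha) hy4) ha


theorem card_rel {M M' : Subgroup G} (hle : M ≤ M') : Nat.card M' = Nat.card M * M.relIndex M' := by
  have h1 := (M.subgroupOf M').card_mul_index
  rw [Nat.card_congr (Subgroup.subgroupOfEquivOfLe hle).toEquiv] at h1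
  exact h1.symm

noncomputable def cc (H M M' : Subgroup G) : ℕ := Nat.card {u : G // u ∈ M' ∧ ∀ h ∈ H, h * u * h⁻¹ * u⁻¹ ∈ M}

theorem dvd_cc (H M M' : Subgroup G) [M.Normal] [M'.Normal] (hle : M ≤ M') : Nat.card M ∣ cc H M M' := by
  let C : Subgroup G :=
    { carrier := {u | u ∈ M' ∧ ∀ h ∈ H, h * u * h⁻¹ * u⁻¹ ∈ M}
      mul_mem' := by
        rintro a b ⟨ha, ha'⟩ ⟨hb, hb'⟩
        refine ⟨mul_mem ha hb, fun h hh => ?_⟩
        have e : h * (a * b) * h⁻¹ * (a * b)⁻¹ = (h * a * h⁻¹ * a⁻¹) * (a * (h * b * h⁻¹ * b⁻¹) * a⁻¹) := by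
          group
        rw [e]
        exact mul_mem (ha' h hh) (Subgroup.Normal.conj_mem inferInstance _ (hb' h hh) a)
      one_mem' := by
        refine ⟨one_mem _, fun h _ => ?_⟩
        simp
      inv_mem' := by
        rintro a ⟨ha, ha'⟩
        refine ⟨inv_mem ha, fun h hh => ?_⟩
        have e : h * a⁻¹ * h⁻¹ * a⁻¹⁻¹ = a⁻¹ * (h * a * h⁻¹ * a⁻¹)⁻¹ * a := by
          group
        rw [e]
        have := Subgroup.Normal.conj_mem (inferInstance : M.Normal) _ (inv_mem (ha' h hh)) a⁻¹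
        simpa using this }
  have hMC : M ≤ C := by
    intro m hm
    refine ⟨hle hm, fun h _ => ?_⟩
    have e : h * m * h⁻¹ * m⁻¹ = (h * m * h⁻¹) * m⁻¹ := rfl
    rw [e]
    exact mul_mem (Subgroup.Normal.conj_mem inferInstance _ hm h) (inv_mem hm)
  have : cc H M M' = Nat.card C := rfl
  rw [this]
  exact Subgroup.card_dvd_of_le hMC

theorem coprime_step (H : Subgroup G) (hH : IsPGroup p H) (P : Sylow p G) (M M' : Subgroup G) [M.Normal] [M'.Normal]
    (hle : M ≤ M') (hc : (M.relIndex M').Coprime p) :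
    Nat.card {x : G // S4088.Om H ((P : Subgroup G) ⊔ M) x} * Nat.card M' =
      Nat.card {x : G // S4088.Om H ((P : Subgroup G) ⊔ M') x} * cc H M M' := by
  have hsat : ∀ x m, m ∈ M' → S4088.Om H ((P : Subgroup G) ⊔ M') x → S4088.Om H ((P : Subgroup G) ⊔ M') (x * m) := by
    intro x m hm hx h hh
    have e : x * m * h * (x * m)⁻¹ = (x * (m * (h * m⁻¹ * h⁻¹)) * x⁻¹) * (x * h * x⁻¹) := by group
    rw [e]
    refine mul_mem ((le_sup_right : M' ≤ _) ?_) (hx h hh)
    apply Subgroup.Normal.conj_mem inferInstance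
    exact mul_mem hm (Subgroup.Normal.conj_mem inferInstance _ (inv_mem hm) h)
  have hmono : ∀ x, S4088.Om H ((P : Subgroup G) ⊔ M) x → S4088.Om H ((P : Subgroup G) ⊔ M') x :=
    fun x hx h hh => sup_le_sup_left hle _ (hx h hh)
  let Y := {b : G ⧸ M' // ∃ x, S4088.Om H ((P : Subgroup G) ⊔ M') x ∧ (x : G ⧸ M') = b}
  let f1 : {x : G // S4088.Om H ((P : Subgroup G) ⊔ M) x} → Y := fun x => ⟨x.1, x.1, hmono _ x.2, rfl⟩
  let f2 : {x : G // S4088.Om H ((P : Subgroup G) ⊔ M') x} → Y := fun x => ⟨x.1, x.1, x.2, rfl⟩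
  have h2 : Nat.card {x : G // S4088.Om H ((P : Subgroup G) ⊔ M') x} = Nat.card Y * Nat.card M' := by
    apply S4088.card_fib f2
    rintro ⟨b, x₀, hx₀, rfl⟩
    refine Nat.card_congr (?_ : _ ≃ _)
    refine ⟨fun a => ⟨x₀⁻¹ * a.1.1, ?_⟩, fun m => ⟨⟨x₀ * m, hsat _ _ m.2 hx₀⟩, ?_⟩, ?_, ?_⟩
    · have h3 : ((a.1.1 : G) : G ⧸ M') = (x₀ : G ⧸ M') := congrArg Subtype.val a.2
      have h4 := (QuotientGroup.eq (s := M')).1 h3.symm
      exact h4
    · apply Subtype.ext
      change ((x₀ * (m : G) : G) : G ⧸ M') = (x₀ : G ⧸ M')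
      rw [QuotientGroup.mk_mul, (QuotientGroup.eq_one_iff _).2 m.2, mul_one]
    · intro a
      apply Subtype.ext
      apply Subtype.ext
      simp
    · intro m
      apply Subtype.ext
      simp
  have h1 : Nat.card {x : G // S4088.Om H ((P : Subgroup G) ⊔ M) x} = Nat.card Y * cc H M M' := by
    apply S4088.card_fib f1
    rintro ⟨b, x₀, hx₀, rfl⟩
    obtain ⟨m₁, hm₁, hx₁⟩ := key2 H hH P M M' x₀ hx₀
    set x₁ := x₀ * m₁ with hx₁def
    have hq : (x₁ : G ⧸ M') = (x₀ : G ⧸ M') := by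
      rw [hx₁def, QuotientGroup.mk_mul, (QuotientGroup.eq_one_iff _).2 hm₁, mul_one]
    have hkey : ∀ u ∈ M', (S4088.Om H ((P : Subgroup G) ⊔ M) (x₁ * u) ↔ ∀ h ∈ H, h * u * h⁻¹ * u⁻¹ ∈ M) := by
      intro u hu
      constructor
      · intro hs h hh
        have hz1 : x₁ * (u * (h * u⁻¹ * h⁻¹)) * x₁⁻¹ ∈ (P : Subgroup G) ⊔ M := by
          have e : x₁ * (u * (h * u⁻¹ * h⁻¹)) * x₁⁻¹ = (x₁ * u * h * (x₁ * u)⁻¹) * (x₁ * h * x₁⁻¹)⁻¹ := by group
          rw [e]
          exact mul_mem (hs h hh) (inv_mem (hx₁ h hh))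
        have hz2 : x₁ * (u * (h * u⁻¹ * h⁻¹)) * x₁⁻¹ ∈ M' := by
          apply Subgroup.Normal.conj_mem inferInstance
          exact mul_mem hu (Subgroup.Normal.conj_mem inferInstance _ (inv_mem hu) h)
        have hz3 := key1 P M M' hle hc _ hz1 hz2
        have hz4 := Subgroup.Normal.conj_mem (inferInstance : M.Normal) _ (inv_mem hz3) x₁⁻¹
        have e : x₁⁻¹ * (x₁ * (u * (h * u⁻¹ * h⁻¹)) * x₁⁻¹)⁻¹ * x₁⁻¹⁻¹ = h * u * h⁻¹ * u⁻¹ := by group
        rwa [e] at hz4
      · intro hs h hh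
        have e : x₁ * u * h * (x₁ * u)⁻¹ = (x₁ * (h * u * h⁻¹ * u⁻¹)⁻¹ * x₁⁻¹) * (x₁ * h * x₁⁻¹) := by group
        rw [e]
        refine mul_mem ((le_sup_right : M ≤ _) ?_) (hx₁ h hh)
        exact Subgroup.Normal.conj_mem inferInstance _ (inv_mem (hs h hh)) x₁
    refine Nat.card_congr (?_ : _ ≃ _)
    refine ⟨fun a => ⟨x₁⁻¹ * a.1.1, ?_⟩, fun u => ⟨⟨x₁ * u.1, ?_⟩, ?_⟩, ?_, ?_⟩
    · have h3 : ((a.1.1 : G) : G ⧸ M') = (x₁ : G ⧸ M') := by
        rw [hq]
        exact congrArg Subtype.val a.2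
      have h4 : x₁⁻¹ * a.1.1 ∈ M' := (QuotientGroup.eq (s := M')).1 h3.symm
      refine ⟨h4, ?_⟩
      rw [← hkey _ h4]
      have e : x₁ * (x₁⁻¹ * a.1.1) = a.1.1 := by group
      rw [e]
      exact a.1.2
    · exact (hkey _ u.2.1).2 u.2.2
    · apply Subtype.ext
      change ((x₁ * u.1 : G) : G ⧸ M') = (x₀ : G ⧸ M')
      rw [QuotientGroup.mk_mul, (QuotientGroup.eq_one_iff _).2 u.2.1, mul_one, hq]
    · intro a
      apply Subtype.ext
      apply Subtype.ext
      simp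
    · intro u
      apply Subtype.ext
      simp
  rw [h1, h2]
  ring

theorem chain (H : Subgroup G) (hH : IsPGroup p H) (P : Sylow p G) : ∀ (n : ℕ) (M : Fin (n + 1) → Subgroup G),
    M (Fin.last n) = ⊤ → Monotone M → (∀ i, (M i).Normal) →
    (∀ i : Fin n, (∃ m : ℕ, (M i.castSucc).relIndex (M i.succ) = p ^ m) ∨ ((M i.castSucc).relIndex (M i.succ)).Coprime p) →
    Nat.card {x : G // S4088.Om H ((P : Subgroup G) ⊔ M 0) x} =
      Nat.card (M 0) * ((∏ i : Fin n, (if ((M i.castSucc).relIndex (M i.succ)).Coprime p then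
          cc H (M i.castSucc) (M i.succ) / Nat.card (M i.castSucc) else 1)) *
        (∏ i : Fin n, (if ((M i.castSucc).relIndex (M i.succ)).Coprime p then 1 else (M i.castSucc).relIndex (M i.succ)))) := by
  intro n
  induction n with
  | zero =>
    intro M hn _ _ _
    have h0 : M 0 = ⊤ := hn
    rw [h0]
    simp only [Fin.prod_univ_zero, mul_one, sup_top_eq]
    rw [Nat.card_congr (Subgroup.topEquiv).toEquiv]
    have : ∀ x : G, S4088.Om H (⊤ : Subgroup G) x := fun x h _ => mem_top _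
    exact Nat.card_congr (Equiv.subtypeUnivEquiv this)
  | succ n ih =>
    intro M hn hmono hnorm hfac
    have IH := ih (fun i => M i.succ) (by simpa using hn) (fun i j hij => hmono (Fin.succ_le_succ_iff.2 hij))
      (fun i => hnorm _) (fun i => hfac i.succ)
    simp only [Fin.succ_castSucc] at IH
    rw [Fin.prod_univ_succ, Fin.prod_univ_succ]
    have hA := hnorm 0
    have hB := hnorm (Fin.succ 0)
    have hle : M 0 ≤ M (Fin.succ 0) := hmono (Fin.zero_le _)
    by_cases hcop : ((M (Fin.castSucc 0)).relIndex (M (Fin.succ 0))).Coprime p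
    · rw [if_pos hcop, if_pos hcop]
      simp only [Fin.castSucc_zero] at hcop ⊢
      have hs := coprime_step H hH P (M 0) (M (Fin.succ 0)) hle hcop
      rw [IH] at hs
      obtain ⟨t, ht⟩ := dvd_cc H (M 0) (M (Fin.succ 0)) hle
      have hpos : 0 < Nat.card (M 0) := Nat.card_pos
      have hpos1 : 0 < Nat.card (M (Fin.succ 0)) := Nat.card_pos
      rw [ht] at hs ⊢
      rw [Nat.mul_div_cancel_left _ hpos]
      apply Nat.eq_of_mul_eq_mul_right hpos1
      rw [hs]
      ring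
    · obtain ⟨m, hm⟩ := (hfac 0).resolve_right hcop
      rw [if_neg hcop, if_neg hcop]
      simp only [Fin.castSucc_zero] at hm hcop ⊢
      have h5 := key3 P (M 0) (M (Fin.succ 0)) m hm
      have heq : (P : Subgroup G) ⊔ M 0 = (P : Subgroup G) ⊔ M (Fin.succ 0) :=
        le_antisymm (sup_le_sup_left hle _) (sup_le le_sup_left h5)
      rw [heq, IH, card_rel hle]
      ring

theorem chain2 : ∀ (n : ℕ) (M : Fin (n + 1) → Subgroup G),
    M (Fin.last n) = ⊤ → Monotone M →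
    (∀ i : Fin n, (∃ m : ℕ, (M i.castSucc).relIndex (M i.succ) = p ^ m) ∨ ((M i.castSucc).relIndex (M i.succ)).Coprime p) →
    Nat.card G = Nat.card (M 0) * ((∏ i : Fin n, (if ((M i.castSucc).relIndex (M i.succ)).Coprime p then
        1 else (M i.castSucc).relIndex (M i.succ))) *
      (∏ i : Fin n, (if ((M i.castSucc).relIndex (M i.succ)).Coprime p then (M i.castSucc).relIndex (M i.succ) else 1))) ∧
    (∃ e, (∏ i : Fin n, (if ((M i.castSucc).relIndex (M i.succ)).Coprime p then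
        1 else (M i.castSucc).relIndex (M i.succ))) = p ^ e) ∧
    (∏ i : Fin n, (if ((M i.castSucc).relIndex (M i.succ)).Coprime p then (M i.castSucc).relIndex (M i.succ) else 1)).Coprime p := by
  intro n
  induction n with
  | zero =>
    intro M hn _ _
    have h0 : M 0 = ⊤ := hn
    rw [h0]
    simp only [Fin.prod_univ_zero, mul_one]
    refine ⟨(Nat.card_congr (Subgroup.topEquiv).toEquiv).symm, ⟨0, by simp⟩, Nat.coprime_one_left p⟩
  | succ n ih =>
    intro M hn hmono hfac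
    have IH := ih (fun i => M i.succ) (by simpa using hn) (fun i j hij => hmono (Fin.succ_le_succ_iff.2 hij))
      (fun i => hfac i.succ)
    simp only [Fin.succ_castSucc] at IH
    rw [Fin.prod_univ_succ, Fin.prod_univ_succ]
    have hle : M 0 ≤ M (Fin.succ 0) := hmono (Fin.zero_le _)
    obtain ⟨h1, ⟨e, he⟩, h3⟩ := IH
    by_cases hcop : ((M (Fin.castSucc 0)).relIndex (M (Fin.succ 0))).Coprime p
    · rw [if_pos hcop, if_pos hcop]
      simp only [Fin.castSucc_zero] at hcop ⊢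
      refine ⟨?_, ⟨e, by rw [one_mul]; exact he⟩, Nat.Coprime.mul_left hcop h3⟩
      rw [h1, card_rel hle]
      ring
    · obtain ⟨m, hm⟩ := (hfac 0).resolve_right hcop
      rw [if_neg hcop, if_neg hcop]
      simp only [Fin.castSucc_zero] at hm hcop ⊢
      refine ⟨?_, ⟨m + e, by rw [hm, he, pow_add]⟩, by rw [one_mul]; exact h3⟩
      rw [h1, card_rel hle]
      ring

end

/-- Let G be a finite p-solvable group, H a p-subgroup of G and P a Sylow p-subgroup, and fix a chain of normal subgroups 1 = M₀ ≤ M₁ ≤ ⋯ ≤ Mₙ = G of G each of whose factors is a p-group or a p'-group. Then the number of elements g of G such that H is subnormal in the subgroup generated by H and g equals the order of P times the product, over the factors Mᵢ₊₁/Mᵢ of order prime to p, of the order of the centralizer of H in Mᵢ₊₁/Mᵢ (counted as the number of u ∈ Mᵢ₊₁ with [h, u] ∈ Mᵢ for all h ∈ H, divided by the order of Mᵢ). -/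
theorem result {G : Type*} [Group G] [Finite G] (p : ℕ) [Fact p.Prime]
    (hG : Cfsg.IsPSolvable p G) (H : Subgroup G) (hH : IsPGroup p H) (P : Sylow p G)
    (n : ℕ) (M : Fin (n + 1) → Subgroup G) (h0 : M 0 = ⊥) (hn : M (Fin.last n) = ⊤) (hmono : Monotone M)
    (hnormal : ∀ i, (M i).Normal)
    (hfac : ∀ i : Fin n, (∃ m : ℕ, (M i.castSucc).relIndex (M i.succ) = p ^ m) ∨ ((M i.castSucc).relIndex (M i.succ)).Coprime p) :
    Nat.card {g : G // ((H).subgroupOf (H ⊔ Subgroup.zpowers g)).IsSubnormal} =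
      Nat.card (P : Subgroup G) *
        ∏ i : Fin n, (if ((M i.castSucc).relIndex (M i.succ)).Coprime p then
          Nat.card {u : G // u ∈ M i.succ ∧ ∀ h ∈ H, h * u * h⁻¹ * u⁻¹ ∈ M i.castSucc} / Nat.card (M i.castSucc)
          else 1) := by
  have hc := chain H hH P n M hn hmono hnormal hfac
  obtain ⟨hG', ⟨e, he⟩, hb⟩ := chain2 (p := p) n M hn hmono hfac
  rw [h0] at hc hG'
  rw [Nat.card_congr (Equiv.subtypeEquivRight (S4088.sn_iff H hH)), S4088.main p _ G rfl H hH P]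
  rw [sup_bot_eq, Subgroup.card_bot, one_mul] at hc
  rw [Subgroup.card_bot, one_mul] at hG'
  rw [hc, mul_comm]
  congr 1
  rw [he] at hG' ⊢
  obtain ⟨k, hk⟩ := IsPGroup.iff_card.1 P.isPGroup'
  have h1 := (P : Subgroup G).card_mul_index
  have h2 : (P : Subgroup G).index.Coprime p :=
    ((Nat.Prime.coprime_iff_not_dvd (Fact.out : p.Prime)).2 P.not_dvd_index).symm
  rw [hk]
  apply Nat.dvd_antisymm
  · have : p ^ e ∣ p ^ k * (P : Subgroup G).index := by
      rw [hk] at h1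
      rw [h1, hG']
      exact dvd_mul_right _ _
    exact (Nat.Coprime.pow_left e h2.symm).dvd_of_dvd_mul_right this
  · have : p ^ k ∣ p ^ e * (∏ i : Fin n, (if ((M i.castSucc).relIndex (M i.succ)).Coprime p then (M i.castSucc).relIndex (M i.succ) else 1)) := by
      rw [← hG', ← h1, hk]
      exact dvd_mul_right _ _
    exact (Nat.Coprime.pow_left k hb.symm).dvd_of_dvd_mul_right this

end Cfsg.Agent.S4090
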