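import Cfsg.Statements.S4107
import Mathlib
import Cfsg.Agent.Lib.H1Core
import Cfsg.Agent.Lib.H1Cop
import Cfsg.Agent.Lib.FGS4
import Cfsg.Agent.Lib.FGSBasic
-- import your own Cfsg.Agent.* helpers here

set_option autoImplicit false
open Cfsg

namespace Cfsg.Agent.S4107

theorem key {G : Type*} [Group G] [Finite G] (N : Subgroup G)
    (heq : ∀ x : G, x ∉ N → ∀ n ∈ N, orderOf (x * n) = orderOf x) {x y : G} (hx : x ∉ N) (hy : y ∈ N)
    (hc : Commute x y) (hcop : (orderOf x).Coprime (orderOf y)) : y = 1 := by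
  have h := heq x hx y hy
  rw [hc.orderOf_mul_eq_mul_orderOf_of_coprime hcop] at h
  have hpos : 0 < orderOf x := orderOf_pos x
  have : orderOf y = 1 := by
    apply Nat.eq_of_mul_eq_mul_left hpos
    omega
  exact orderOf_eq_one_iff.mp this

theorem order_of_pgroup {G : Type*} [Group G] [Finite G] {p : ℕ} [Fact p.Prime] {K : Subgroup G}
    (hK : IsPGroup p K) {y : G} (hy : y ∈ K) : ∃ k, orderOf y = p ^ k := by
  obtain ⟨k, hk⟩ := (IsPGroup.iff_orderOf.mp hK) ⟨y, hy⟩
  exact ⟨k, by rw [← hk]; simp [Subgroup.orderOf_mk]⟩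

theorem pgroup_of_primes {G : Type*} [Group G] [Finite G] {p : ℕ} (hp : p.Prime) (K : Subgroup G)
    (h : ∀ r : ℕ, r.Prime → r ∣ Nat.card K → r = p) : IsPGroup p K := by
  haveI : Fact p.Prime := ⟨hp⟩
  have hn := Nat.eq_prime_pow_of_unique_prime_dvd (n := Nat.card K) (p := p) Nat.card_pos.ne' (fun {d} hd hd2 => h d hd hd2)
  exact IsPGroup.of_card hn

theorem F_pgroup {G : Type*} [Group G] [Finite G] (N : Subgroup G) [N.Normal] (hN1 : N ≠ ⊥)
    (heq : ∀ x : G, x ∉ N → ∀ n ∈ N, orderOf (x * n) = orderOf x)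
    (hF : ¬ Cfsg.fittingSubgroup G ≤ N) :
    ∃ p : ℕ, p.Prime ∧ IsPGroup p (Cfsg.fittingSubgroup G) ∧ Cfsg.fittingSubgroup G ≠ ⊥ := by
  obtain ⟨x, hxF, hxN⟩ := Set.not_subset.mp hF
  have hx2 := Lib.FGSBasic.mem_closure_primePow_parts x
  have : ∃ u, u ∈ Subgroup.zpowers x ∧ (∃ q k : ℕ, q.Prime ∧ orderOf u = q ^ k) ∧ u ∉ N := by
    by_contra hcon
    push Not at hcon
    apply hxN
    refine (Subgroup.closure_le N).mpr ?_ hx2
    rintro y ⟨hy1, hy2⟩
    exact hcon y hy1 hy2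
  obtain ⟨u, hu1, ⟨p, k, hp, hk⟩, huN⟩ := this
  haveI : Fact p.Prime := ⟨hp⟩
  have huF : u ∈ Cfsg.fittingSubgroup G := (Subgroup.zpowers_le.mpr hxF) hu1
  have huO : u ∈ Cfsg.pCore p G := Lib.FGS4.mem_pCore_of_mem_fitting hp u huF hk
  have hdisj : ∀ q : ℕ, q.Prime → q ≠ p → ∀ y ∈ Cfsg.pCore q G, ∀ z ∈ Cfsg.pCore p G, Commute y z := by
    intro q hq hqp y hy z hz
    haveI : Fact q.Prime := ⟨hq⟩
    refine Subgroup.commute_of_normal_of_disjoint _ _ (Lib.H1Core.pCore_normal q G) (Lib.H1Core.pCore_normal p G) ?_ y z hy hz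
    rw [disjoint_iff]
    apply Subgroup.inf_eq_bot_of_coprime
    exact IsPGroup.coprime_card_of_ne (p₁ := q) (p₂ := p) (hne := hqp) (hH₁ := Lib.H1Core.pCore_isPGroup q) (hH₂ := Lib.H1Core.pCore_isPGroup p)
  have h1 : ∀ q : ℕ, q.Prime → q ≠ p → Cfsg.pCore q G ⊓ N = ⊥ := by
    intro q hq hqp
    haveI : Fact q.Prime := ⟨hq⟩
    rw [eq_bot_iff]
    rintro y ⟨hy1, hy2⟩
    obtain ⟨j, hj⟩ := order_of_pgroup (Lib.H1Core.pCore_isPGroup q) hy1
    refine Subgroup.mem_bot.mpr (key N heq huN hy2 (hdisj q hq hqp y hy1 u huO).symm ?_)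
    rw [hk, hj]
    exact Nat.Coprime.pow _ _ ((Nat.coprime_primes hp hq).mpr (Ne.symm hqp))
  have h2 : ∀ q : ℕ, q.Prime → q ≠ p → Cfsg.pCore q G = ⊥ := by
    intro q hq hqp
    haveI : Fact q.Prime := ⟨hq⟩
    by_contra hne
    obtain ⟨y, hy, hy1⟩ := (Subgroup.ne_bot_iff_exists_ne_one (H := Cfsg.pCore q G)).mp hne |> fun ⟨a, h⟩ => (⟨(a : G), a.2, by simpa using h⟩ : ∃ y : G, y ∈ Cfsg.pCore q G ∧ y ≠ 1)
    have hyN : y ∉ N := by
      intro hyN
      have : y ∈ Cfsg.pCore q G ⊓ N := ⟨hy, hyN⟩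
      rw [h1 q hq hqp] at this
      exact hy1 (Subgroup.mem_bot.mp this)
    have hcomm : ∀ n ∈ N, Commute y n := by
      intro n hn
      refine Subgroup.commute_of_normal_of_disjoint _ _ (Lib.H1Core.pCore_normal q G) inferInstance ?_ y n hy hn
      rw [disjoint_iff]
      exact h1 q hq hqp
    obtain ⟨j, hj⟩ := order_of_pgroup (Lib.H1Core.pCore_isPGroup q) hy
    have hNq : IsPGroup q N := by
      apply pgroup_of_primes hq
      intro r hr hrd
      by_contra hrq
      haveI : Fact r.Prime := ⟨hr⟩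
      obtain ⟨n₀, hn₀⟩ := exists_prime_orderOf_dvd_card' (G := N) r hrd
      have hn1 : orderOf (n₀ : G) = r := by rw [Subgroup.orderOf_coe, hn₀]
      have : (n₀ : G) = 1 := by
        apply key N heq hyN n₀.2 (hcomm _ n₀.2)
        rw [hj, hn1]
        exact Nat.Coprime.pow_left _ ((Nat.coprime_primes hq hr).mpr (Ne.symm hrq))
      rw [this, orderOf_one] at hn1
      exact hr.one_lt.ne hn1
    have : N ≤ Cfsg.pCore q G ⊓ N := le_inf (Lib.H1Core.le_pCore inferInstance hNq) le_rfl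
    rw [h1 q hq hqp] at this
    exact hN1 (le_bot_iff.mp this)
  refine ⟨p, hp, ?_, ?_⟩
  · apply pgroup_of_primes hp
    intro r hr hrd
    by_contra hrp
    haveI : Fact r.Prime := ⟨hr⟩
    obtain ⟨n₀, hn₀⟩ := exists_prime_orderOf_dvd_card' (G := Cfsg.fittingSubgroup G) r hrd
    have hn1 : orderOf (n₀ : G) = r := by rw [Subgroup.orderOf_coe, hn₀]
    have h3 : (n₀ : G) ∈ Cfsg.pCore r G := Lib.FGS4.mem_pCore_of_mem_fitting hr _ n₀.2 (b := 1) (by rw [hn1, pow_one])
    rw [h2 r hr hrp] at h3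
    rw [Subgroup.mem_bot.mp h3, orderOf_one] at hn1
    exact hr.one_lt.ne hn1
  · intro h
    rw [h] at huF
    exact huN (by rw [Subgroup.mem_bot.mp huF]; exact one_mem _)

/-- Let G be a finite group and N a proper non-trivial normal subgroup such that for every x outside N all elements of the coset xN have the same order as x. Then N ≤ F(G) or F(G) ≤ N, where F(G) is the Fitting subgroup; and if N is properly contained in F(G) then F(G) has prime-power order. -/
theorem result {G : Type*} [Group G] [Finite G] (N : Subgroup G) [N.Normal] (hN1 : N ≠ ⊥) (hN2 : N ≠ ⊤)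
    (heq : ∀ x : G, x ∉ N → ∀ n ∈ N, orderOf (x * n) = orderOf x) :
    (N ≤ Cfsg.fittingSubgroup G ∨ Cfsg.fittingSubgroup G ≤ N) ∧
    (N < Cfsg.fittingSubgroup G → IsPrimePow (Nat.card (Cfsg.fittingSubgroup G))) := by
  haveI := Lib.H1Core.fittingSubgroup_normal G
  constructor
  · by_contra hcon
    push Not at hcon
    obtain ⟨hNF, hF⟩ := hcon
    obtain ⟨p, hp, hFp, hF1⟩ := F_pgroup N hN1 heq hF
    haveI : Fact p.Prime := ⟨hp⟩
    have hNp : ¬ IsPGroup p N := by
      intro h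
      exact hNF ((Lib.H1Core.le_pCore inferInstance h).trans (Lib.H1Core.pCore_le_fitting p))
    have : ∃ r : ℕ, r.Prime ∧ r ∣ Nat.card N ∧ r ≠ p := by
      by_contra hcon
      push Not at hcon
      exact hNp (pgroup_of_primes hp N (fun r hr hd => hcon r hr hd))
    obtain ⟨q, hq, hqd, hqp⟩ := this
    haveI : Fact q.Prime := ⟨hq⟩
    obtain ⟨v₀, hv₀⟩ := exists_prime_orderOf_dvd_card' (G := N) q hqd
    have hv1 : orderOf (v₀ : G) = q := by rw [Subgroup.orderOf_coe, hv₀]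
    set v : G := (v₀ : G) with hv
    have hvN : v ∈ N := v₀.2
    have hAK : Subgroup.zpowers v ≤ Subgroup.normalizer (Cfsg.fittingSubgroup G : Set G) := by
      rw [Subgroup.normalizer_eq_top_iff.mpr inferInstance]; exact le_top
    have hcardA : Nat.card (Subgroup.zpowers v) = q := by rw [Nat.card_zpowers, hv1]
    obtain ⟨n, hn⟩ := IsPGroup.iff_card.mp hFp
    have hcop : (Nat.card (Subgroup.zpowers v)).Coprime (Nat.card (Cfsg.fittingSubgroup G)) := by
      rw [hcardA, hn]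
      exact Nat.Coprime.pow_right _ ((Nat.coprime_primes hq hp).mpr hqp)
    have hsup := Lib.H1Cop.commutator_sup_centralizer hAK hcop (Or.inl inferInstance)
    have hc1 : ⁅Cfsg.fittingSubgroup G, Subgroup.zpowers v⁆ ≤ N := by
      rw [Subgroup.commutator_le]
      intro f hf a ha
      have haN : a ∈ N := (Subgroup.zpowers_le.mpr hvN) ha
      rw [commutatorElement_def]
      exact mul_mem (Subgroup.Normal.conj_mem inferInstance a haN f) (inv_mem haN)
    have hex : ¬ (Cfsg.fittingSubgroup G ⊓ Subgroup.centralizer (Subgroup.zpowers v : Set G)) ≤ N := by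
      intro h
      exact hF (by rw [← hsup]; exact sup_le hc1 h)
    obtain ⟨w, ⟨hw1, hw2⟩, hwN⟩ := Set.not_subset.mp hex
    obtain ⟨j, hj⟩ := order_of_pgroup hFp hw1
    have hv_one : v = 1 := by
      apply key N heq hwN hvN
      · have := Subgroup.mem_centralizer_iff.mp hw2 v (Subgroup.mem_zpowers v)
        exact this.symm
      · rw [hj, hv1]
        exact Nat.Coprime.pow_left _ ((Nat.coprime_primes hp hq).mpr (Ne.symm hqp))
    rw [hv_one, orderOf_one] at hv1
    exact hq.one_lt.ne hv1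
  · intro hlt
    have hF : ¬ Cfsg.fittingSubgroup G ≤ N := not_le_of_gt hlt
    obtain ⟨p, hp, hFp, hF1⟩ := F_pgroup N hN1 heq hF
    haveI : Fact p.Prime := ⟨hp⟩
    obtain ⟨n, hn⟩ := IsPGroup.iff_card.mp hFp
    rw [hn]
    have hn0 : n ≠ 0 := by
      rintro rfl
      rw [pow_zero] at hn
      exact hF1 (Subgroup.card_eq_one.mp hn |> fun h => h)
    exact (isPrimePow_nat_iff _).mpr ⟨p, n, hp, Nat.pos_of_ne_zero hn0, rfl⟩

end Cfsg.Agent.S4107
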