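import Cfsg.Statements.S4113
import Cfsg.Agent.Lib.FGSBasic
-- import your own Cfsg.Agent.* helpers here

set_option autoImplicit false
open Cfsg

namespace Cfsg.Agent.S4113

/-- injective self-map on a finite subgroup commutators -/
lemma surj_comm {G : Type*} [Group G] [Finite G] (A : Subgroup G) [hA : A.Normal] (x : G)
    (hf : ∀ k ∈ A, x * k = k * x → k = 1) (a : G) (ha : a ∈ A) :
    ∃ m ∈ A, m * x * m⁻¹ * x⁻¹ = a := by
  classical
  let f : A → A := fun m => ⟨m * x * (m : G)⁻¹ * x⁻¹, by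
    have h1 : x * (m : G)⁻¹ * x⁻¹ ∈ A := hA.conj_mem _ (A.inv_mem m.2) x
    have : (m : G) * x * (m : G)⁻¹ * x⁻¹ = m * (x * (m : G)⁻¹ * x⁻¹) := by group
    rw [this]
    exact A.mul_mem m.2 h1⟩
  have hinj : Function.Injective f := by
    intro m n hmn
    have h : (m : G) * x * (m : G)⁻¹ * x⁻¹ = n * x * (n : G)⁻¹ * x⁻¹ := congrArg Subtype.val hmn
    have h2 : (n : G)⁻¹ * m ∈ A := A.mul_mem (A.inv_mem n.2) m.2
    have h3 := hf _ h2 (by
      have h4 : (m : G) * x * (m : G)⁻¹ = n * x * (n : G)⁻¹ := by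
        have := congrArg (· * x) h
        simpa using this
      have : x * ((n : G)⁻¹ * m) = (n : G)⁻¹ * ((n : G) * x * (n : G)⁻¹) * m := by group
      rw [this, ← h4]
      group)
    apply Subtype.ext
    have : (m : G) = n * ((n : G)⁻¹ * m) := by group
    rw [this, h3, mul_one]
  have hsurj := (Finite.injective_iff_surjective.mp hinj) ⟨a, ha⟩
  obtain ⟨m, hm⟩ := hsurj
  exact ⟨m, m.2, congrArg Subtype.val hm⟩

/-- Let G be a finite group, M ≤ N non-trivial proper normal subgroups, and H a subgroup with HM = G and H ∩ M = 1. Then every element of G outside N acts fixed-point-freely on M (C_G(x) ≤ N for every x ∈ M, x ≠ 1) if and only if H ∩ gHg⁻¹ ≤ H ∩ N for every g outside H, with H proper and non-trivial and H ∩ N proper in H. -/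
theorem result {G : Type*} [Group G] [Finite G] (N M : Subgroup G) [N.Normal] [M.Normal] (hMN : M ≤ N) (hM1 : M ≠ ⊥) (hN2 : N ≠ ⊤)
    (H : Subgroup G) (hHM : H ⊔ M = ⊤) (hHM' : H ⊓ M = ⊥) :
    (∀ x ∈ M, x ≠ 1 → Subgroup.centralizer ({x} : Set G) ≤ N) ↔
      (H ≠ ⊥ ∧ H ≠ ⊤ ∧ H ⊓ N < H ∧ ∀ g : G, g ∉ H → H ⊓ H.map (MulAut.conj g).toMonoidHom ≤ N) := by
  classical
  have hdec : ∀ g : G, ∃ m ∈ M, ∃ h ∈ H, g = m * h := by
    intro g
    have hg : g ∈ M ⊔ H := by rw [sup_comm, hHM]; trivial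
    obtain ⟨m, hm, h, hh, rfl⟩ := Subgroup.mem_sup_of_normal_left.mp hg
    exact ⟨m, hm, h, hh, rfl⟩
  have hdisj : ∀ x, x ∈ H → x ∈ M → x = 1 := by
    intro x h1 h2
    have : x ∈ H ⊓ M := ⟨h1, h2⟩
    rwa [hHM', Subgroup.mem_bot] at this
  constructor
  · intro hC
    refine ⟨?_, ?_, ?_, ?_⟩
    · intro h
      rw [h, bot_sup_eq] at hHM
      apply hN2
      rw [eq_top_iff, ← hHM]
      exact hMN
    · intro h
      rw [h, top_inf_eq] at hHM'
      exact hM1 hHM'
    · refine lt_of_le_of_ne inf_le_left ?_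
      intro h
      apply hN2
      rw [eq_top_iff, ← hHM]
      exact sup_le (inf_eq_left.mp h) hMN
    · intro g hg x hx
      obtain ⟨hxH, y, hy, hyx⟩ := hx
      obtain ⟨m, hm, h, hh, rfl⟩ := hdec g
      have hm1 : m ≠ 1 := by
        rintro rfl
        apply hg
        simpa using hh
      simp only [MulEquiv.coe_toMonoidHom, MulAut.conj_apply] at hyx
      -- x = m (h y h⁻¹) m⁻¹
      have hz : h * y * h⁻¹ ∈ H := H.mul_mem (H.mul_mem hh hy) (H.inv_mem hh)
      have hyx' : x = m * (h * y * h⁻¹) * m⁻¹ := by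
        rw [← hyx]
        group
      set z := h * y * h⁻¹ with hzdef
      have hxz : x⁻¹ * z ∈ M := by
        have h2 : x⁻¹ * z = m * (z⁻¹ * m⁻¹ * z) := by
          rw [hyx']
          group
        rw [h2]
        apply M.mul_mem hm
        have := ‹M.Normal›.conj_mem _ (M.inv_mem hm) z⁻¹
        simpa using this
      have hxz1 : x⁻¹ * z = 1 := hdisj _ (H.mul_mem (H.inv_mem hxH) hz) hxz
      have hxz2 : x = z := by
        have := congrArg (x * ·) hxz1
        simpa using this.symm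
      have hcomm : m * x = x * m := by
        have : x * m = m * z := by
          rw [hyx']
          group
        rw [this, hxz2]
      have := hC m hm hm1 (Subgroup.mem_centralizer_singleton_iff.mpr hcomm.symm)
      exact this
  · rintro ⟨hH1, hH2, hH3, hH4⟩ x hx hx1 c hc
    by_contra hcN
    obtain ⟨m, hm, h, hh, rfl⟩ := hdec c
    have hhN : h ∉ N := by
      intro hhN
      exact hcN (N.mul_mem (hMN hm) hhN)
    -- h acts fpf on M
    have hfpf : ∀ k ∈ M, h * k = k * h → k = 1 := by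
      intro k hk hc
      by_contra hk1
      have hkH : k ∉ H := fun hkH => hk1 (hdisj k hkH hk)
      have := hH4 k hkH
      apply hhN
      apply this
      refine ⟨hh, h, hh, ?_⟩
      simp only [MulEquiv.coe_toMonoidHom, MulAut.conj_apply]
      rw [← hc]
      group
    -- m * h is conjugate to h under M
    obtain ⟨u, hu, hum⟩ := surj_comm M h hfpf m hm
    have hconj : m * h = u * h * u⁻¹ := by
      rw [← hum]
      group
    have h1 : u⁻¹ * x * u ∈ M := by
      have := ‹M.Normal›.conj_mem _ hx u⁻¹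
      simpa using this
    have h2 := hfpf _ h1 (by
      have h3 := Subgroup.mem_centralizer_singleton_iff.mp hc
      rw [hconj] at h3
      have h4 : u⁻¹ * (u * h * u⁻¹ * x) * u = u⁻¹ * (x * (u * h * u⁻¹)) * u := by rw [h3]
      have h5 : h * (u⁻¹ * x * u) = u⁻¹ * (u * h * u⁻¹ * x) * u := by group
      have h6 : u⁻¹ * x * u * h = u⁻¹ * (x * (u * h * u⁻¹)) * u := by group
      rw [h5, h6, h4])
    apply hx1
    have : x = u * (u⁻¹ * x * u) * u⁻¹ := by group
    rw [this, h2]
    group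

end Cfsg.Agent.S4113
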