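import Cfsg.Statements.S4127
import Cfsg.Agent.Lib.CritAut
import Cfsg.Agent.S3987
-- import your own Cfsg.Agent.* helpers here

set_option autoImplicit false
open Cfsg

namespace Cfsg.Agent.S4127

open Subgroup

/-- Let G be a finite group, p a prime and p^a the largest power of p dividing the size of any conjugacy class of G. If some element of p-power order has a conjugacy class of size exactly p^a, then G has a normal p-complement. -/
theorem result {G : Type*} [Group G] [Finite G] (p : ℕ) [Fact p.Prime]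
    (a : ℕ) (hmax : ∀ y : G, ¬ p ^ (a + 1) ∣ (Subgroup.centralizer ({y} : Set G)).index)
    (hx : ∃ x : G, (∃ k : ℕ, orderOf x = p ^ k) ∧ (Subgroup.centralizer ({x} : Set G)).index = p ^ a) :
    Cfsg.HasNormalPComplement p G := by
  classical
  have hprime : p.Prime := Fact.out
  obtain ⟨x, ⟨k, hk⟩, hx⟩ := hx
  set D : Subgroup G := centralizer ({x} : Set G) with hDdef
  have hD : ∀ y : D, (orderOf y).Coprime p → ¬ p ∣ (centralizer ({y} : Set D)).index := by
    intro y hy hd
    have hcom : x * (y : G) = y * x := (mem_centralizer_singleton_iff.mp y.2).symm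
    have hcop : (orderOf x).Coprime (orderOf (y : G)) := by
      rw [hk, Subgroup.orderOf_coe]
      exact Nat.Coprime.pow_left k (Nat.Coprime.symm hy)
    have h1 := Cfsg.Agent.S3987.centralizer_mul_eq x (y : G) hcom hcop
    have h2 : centralizer ({y} : Set D) = (centralizer ({(y : G)} : Set G)).subgroupOf D := by
      ext v
      rw [mem_centralizer_singleton_iff, mem_subgroupOf, mem_centralizer_singleton_iff]
      constructor
      · intro h; exact_mod_cast congrArg Subtype.val h
      · intro h; exact Subtype.ext (by push_cast; exact h)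
    have h3 := Subgroup.relIndex_inf_mul_relIndex (centralizer ({(y : G)} : Set G)) D ⊤
    simp only [inf_top_eq, Subgroup.relIndex_top_right] at h3
    rw [h2] at hd
    have h4 : p ^ (a + 1) ∣ (centralizer ({x * (y : G)} : Set G)).index := by
      rw [h1, inf_comm, ← h3, hx, pow_succ, mul_comm]
      exact Nat.mul_dvd_mul_right hd _
    exact hmax _ h4
  have hcomm : ∀ y ∈ D, ∀ w ∈ D, (orderOf y).Coprime p → (∃ j, orderOf w = p ^ j) → y * w = w * y := by
    intro y hy w hw hyc hwp
    have := Lib.CritAut.comm_of_class_coprime hD ⟨y, hy⟩ ⟨w, hw⟩ (by rwa [Subgroup.orderOf_mk])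
      (by simpa [Subgroup.orderOf_mk] using hwp)
    exact congrArg Subtype.val this
  have hzx : IsPGroup p (zpowers x) := IsPGroup.iff_card.mpr ⟨k, by rw [Nat.card_zpowers, hk]⟩
  obtain ⟨P, hP⟩ := hzx.exists_le_sylow
  have hxP : x ∈ (P : Subgroup G) := hP (mem_zpowers x)
  set N : Subgroup G := normalClosure ({x} : Set G) with hNdef
  haveI hNn : N.Normal := normalClosure_normal
  have hxN : x ∈ N := subset_normalClosure (Set.mem_singleton x)
  have hNP : N ≤ (P : Subgroup G) := by
    rw [hNdef, normalClosure, closure_le]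
    intro v hv
    rw [Group.mem_conjugatesOfSet_iff] at hv
    obtain ⟨a', ha', hc⟩ := hv
    rw [Set.mem_singleton_iff] at ha'
    subst ha'
    obtain ⟨g, rfl⟩ := isConj_iff.mp hc
    obtain ⟨w, hw, c, hc', e⟩ := Lib.CritAut.exists_mul_of_index_prime_pow P D hx g
    have hcx := mem_centralizer_singleton_iff.mp hc'
    have : g * a' * g⁻¹ = w * a' * w⁻¹ := by
      rw [e]
      calc w * c * a' * (w * c)⁻¹ = w * (c * a') * c⁻¹ * w⁻¹ := by group
        _ = w * (a' * c) * c⁻¹ * w⁻¹ := by rw [hcx]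
        _ = _ := by group
    rw [SetLike.mem_coe, this]
    exact mul_mem (mul_mem hw hxP) (inv_mem hw)
  have hNp : IsPGroup p N := P.2.to_le hNP
  have hnormtop : normalizer (N : Set G) = ⊤ := normalizer_eq_top_iff.mpr hNn
  have hNC : ∀ y ∈ D, (orderOf y).Coprime p → y ∈ centralizer (N : Set G) := by
    intro y hy hyc
    refine Lib.CritAut.ab_lemma y x (mem_centralizer_singleton_iff.mp hy) hyc ⟨k, hk⟩ N hNp
      (by rw [hnormtop]; trivial) (by rw [hnormtop]; trivial) ?_
    intro u hu hxu
    have huD : u ∈ D := mem_centralizer_singleton_iff.mpr hxu.symm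
    obtain ⟨j, hj⟩ := IsPGroup.iff_orderOf.mp hNp ⟨u, hu⟩
    rw [Subgroup.orderOf_mk] at hj
    exact hcomm y hy u huD hyc ⟨j, hj⟩
  have hqel : ∀ y : G, (∃ q b : ℕ, q.Prime ∧ q ≠ p ∧ orderOf y = q ^ b) → y ∈ centralizer (N : Set G) := by
    rintro y ⟨q, b, hq, hqp, hyo⟩
    haveI : Fact q.Prime := ⟨hq⟩
    have hzy : IsPGroup q (zpowers y) := IsPGroup.iff_card.mpr ⟨b, by rw [Nat.card_zpowers, hyo]⟩
    have hcard : ¬ q ∣ Nat.card (G ⧸ D) := by
      have h1 : Nat.card (G ⧸ D) = p ^ a := hx
      rw [h1]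
      intro hd
      have := hq.dvd_of_dvd_pow hd
      exact hqp ((Nat.prime_dvd_prime_iff_eq hq hprime).mp this)
    obtain ⟨gb, hgb⟩ := hzy.nonempty_fixed_point_of_prime_not_dvd_card (G ⧸ D) hcard
    obtain ⟨g, rfl⟩ := QuotientGroup.mk_surjective gb
    have h1 := hgb ⟨y, mem_zpowers y⟩
    have h2 : ((y * g : G) : G ⧸ D) = (g : G ⧸ D) := h1
    rw [QuotientGroup.eq] at h2
    set d := g⁻¹ * y * g with hd
    have hdD : d ∈ D := by
      have h3 := D.inv_mem h2
      have h4 : ((y * g)⁻¹ * g)⁻¹ = d := by rw [hd]; group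
      rw [h4] at h3
      exact h3
    have hdo : orderOf d = q ^ b := by
      have : d = g⁻¹ * y * (g⁻¹)⁻¹ := by rw [hd, inv_inv]
      rw [this, Cfsg.Agent.Lib.FGSBasic.orderOf_conj, hyo]
    have hdc : (orderOf d).Coprime p := by
      rw [hdo]
      exact Nat.Coprime.pow_left b ((Nat.coprime_primes hq hprime).mpr hqp)
    have h5 := hNC d hdD hdc
    rw [mem_centralizer_iff] at h5 ⊢
    intro v hv
    have h6 : g⁻¹ * v * g ∈ N := by
      have := hNn.conj_mem v hv g⁻¹
      simpa using this
    have h7 := h5 _ h6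
    have hy' : y = g * d * g⁻¹ := by rw [hd]; group
    rw [hy']
    calc v * (g * d * g⁻¹) = g * ((g⁻¹ * v * g) * d) * g⁻¹ := by group
      _ = g * (d * (g⁻¹ * v * g)) * g⁻¹ := by rw [h7]
      _ = _ := by group
  have hLC : pResidual p G ≤ centralizer (N : Set G) := by
    rw [pResidual, closure_le]
    intro y hy
    have h1 := Cfsg.Agent.Lib.FGSBasic.mem_closure_of_coprime y hy
    have h2 : closure {y : G | ∃ q b : ℕ, q.Prime ∧ q ≠ p ∧ orderOf y = q ^ b} ≤ centralizer (N : Set G) := by
      rw [closure_le]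
      exact fun v hv => hqel v hv
    exact h2 h1
  have hLD : pResidual p G ≤ D := by
    intro v hv
    have h1 := mem_centralizer_iff.mp (hLC hv) x hxN
    exact mem_centralizer_singleton_iff.mpr h1.symm
  have hLp : Cfsg.HasNormalPComplement p (pResidual p G) := by
    obtain ⟨PL⟩ : Nonempty (Sylow p (pResidual p G)) := inferInstance
    apply Cfsg.Agent.Lib.PNilp.hasNormalPComplement_of_automizer PL
    intro Q hQ g _ hcop
    rw [mem_centralizer_iff]
    intro v hv
    obtain ⟨j, hj⟩ := IsPGroup.iff_orderOf.mp (PL.2.to_le hQ) ⟨v, hv⟩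
    rw [Subgroup.orderOf_mk] at hj
    have h1 := hcomm (g : G) (hLD g.2) (v : G) (hLD v.2) (by rwa [Subgroup.orderOf_coe])
      ⟨j, by rw [Subgroup.orderOf_coe, hj]⟩
    apply Subtype.ext
    push_cast
    exact h1.symm
  rw [Cfsg.Agent.Lib.PNilp.hasNormalPComplement_iff_pResidual] at hLp ⊢
  rw [Cfsg.Agent.Lib.PNilp.pResidual_pResidual, Subgroup.card_top] at hLp
  exact hLp

end Cfsg.Agent.S4127
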