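import Cfsg.Statements.S4145
import Mathlib
import Cfsg.Agent.Lib.PTate
import Cfsg.Agent.Lib.PTate2
import Cfsg.Agent.Lib.PNilp
import Cfsg.Agent.Lib.H1Core
import Cfsg.Agent.Lib.H1FC
import Cfsg.Agent.Lib.Comp2
import Cfsg.Agent.S3985
-- import your own Cfsg.Agent.* helpers here

set_option autoImplicit false
open Cfsg

namespace Cfsg.Agent.S4145

/-- Let G be a finite group with a cyclic Sylow p-subgroup and H a normal subgroup such that p divides both the order of H and the index of H. Then H has a normal p-complement and G is p-solvable. -/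
theorem result {G : Type*} [Group G] [Finite G] (p : ℕ) [Fact p.Prime]
    (P : Sylow p G) (hP : IsCyclic (P : Subgroup G)) (H : Subgroup G) [H.Normal] (h1 : p ∣ Nat.card H) (h2 : p ∣ H.index) :
    Cfsg.HasNormalPComplement p H ∧ Cfsg.IsPSolvable p G := by
  classical
  have hpp : p.Prime := Fact.out
  have hne : ¬ (P : Subgroup G) ≤ H := fun hle => P.not_dvd_index (h2.trans (Subgroup.index_dvd_of_le hle))
  have hH : Cfsg.HasNormalPComplement p H := Lib.PTate.tate P H (Lib.PTate.inf_le_frattini_of_cyclic P H hP hne)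
  refine ⟨hH, ?_⟩
  have hPcomm : ∀ a ∈ (P : Subgroup G), ∀ b ∈ (P : Subgroup G), a * b = b * a := by
    intro a ha b hb
    letI := IsCyclic.commGroup (α := (P : Subgroup G))
    exact congrArg Subtype.val (mul_comm (⟨a, ha⟩ : (P : Subgroup G)) ⟨b, hb⟩)
  haveI hch : (Cfsg.pPrimeCore p H).Characteristic := Lib.Comp2.pPrimeCore_char p
  let K₀ : Subgroup G := (Cfsg.pPrimeCore p H).map H.subtype
  haveI hK₀n : K₀.Normal := Lib.H1Core.normal_map_of_characteristic H _
  have hK₀H : K₀ ≤ H := Subgroup.map_subtype_le _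
  have hK₀c : (Nat.card K₀).Coprime p := by
    have : Nat.card K₀ = Nat.card (Cfsg.pPrimeCore p H) :=
      Nat.card_congr (Subgroup.equivMapOfInjective _ _ H.subtype_injective).toEquiv.symm
    rw [this]
    exact Lib.H1Core.pPrimeCore_coprime (G := H) p
  let π : G →* G ⧸ K₀ := QuotientGroup.mk' K₀
  have hπs : Function.Surjective π := QuotientGroup.mk'_surjective K₀
  have hπ1 : ∀ x : G, π x = 1 ↔ x ∈ K₀ := fun x => QuotientGroup.eq_one_iff x
  obtain ⟨N, hN, hNc, hNp⟩ := Lib.PNilp.hasNormalPComplement_iff.mp hH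
  have hNK : N ≤ Cfsg.pPrimeCore p H := Lib.H1Core.le_pPrimeCore hN hNc
  let T : Subgroup (G ⧸ K₀) := H.map π
  haveI hTn : T.Normal := Subgroup.Normal.map inferInstance π hπs
  have hTp : IsPGroup p T := by
    rintro ⟨_, h, hh, rfl⟩
    obtain ⟨k, hk⟩ := hNp ((⟨h, hh⟩ : H) : H ⧸ N)
    refine ⟨k, ?_⟩
    apply Subtype.ext
    have h1 : (⟨h, hh⟩ : H) ^ p ^ k ∈ N := by
      rw [← QuotientGroup.eq_one_iff, QuotientGroup.mk_pow]
      exact hk
    have h2 : h ^ p ^ k ∈ K₀ := ⟨_, hNK h1, by simp⟩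
    show π h ^ p ^ k = 1
    rw [← map_pow]
    exact (hπ1 _).mpr h2
  let Pb : Sylow p (G ⧸ K₀) := P.mapSurjective hπs
  have hTP : T ≤ (Pb : Subgroup (G ⧸ K₀)) := hTp.le_sylow_of_normal Pb
  have hdec : ∀ h ∈ H, ∃ k ∈ K₀, ∃ t ∈ (P : Subgroup G), t ∈ H ∧ h = k * t := by
    intro h hh
    obtain ⟨t, ht, hth⟩ := hTP (⟨h, hh, rfl⟩ : π h ∈ T)
    have hk : h * t⁻¹ ∈ K₀ := by
      rw [← hπ1, map_mul, map_inv]
      have : π t = π h := hth
      rw [this]; group
    refine ⟨h * t⁻¹, hk, t, ht, ?_, by group⟩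
    have : t = (h * t⁻¹)⁻¹ * h := by group
    rw [this]
    exact mul_mem (inv_mem (hK₀H hk)) hh
  -- the kernel of the action on `H / K₀`
  let M : Subgroup G := (Subgroup.centralizer (T : Set (G ⧸ K₀))).comap π
  haveI hMn : M.Normal := Subgroup.Normal.comap inferInstance π
  have hMmem : ∀ g ∈ M, ∀ h ∈ H, g * h * g⁻¹ * h⁻¹ ∈ K₀ := by
    intro g hg h hh
    rw [← hπ1]
    have h1 : π h * π g = π g * π h := (Subgroup.mem_centralizer_iff.mp hg) (π h) ⟨h, hh, rfl⟩
    simp only [map_mul, map_inv]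
    rw [← h1]; group
  have hPM : (P : Subgroup G) ≤ M := by
    intro x hx
    show π x ∈ Subgroup.centralizer (T : Set (G ⧸ K₀))
    rw [Subgroup.mem_centralizer_iff]
    rintro _ ⟨h, hh, rfl⟩
    obtain ⟨k, hk, t, ht, -, rfl⟩ := hdec h hh
    have h1 : π k = 1 := (hπ1 k).mpr hk
    rw [map_mul, h1, one_mul, ← map_mul, ← map_mul, hPcomm t ht x hx]
  -- an element of order `p` in `H ∩ P`
  obtain ⟨y₀, hy₀⟩ := exists_prime_orderOf_dvd_card' (G := H) p h1
  have hy₀1 : ((y₀ : H) : G) ∉ K₀ := by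
    intro hmem
    have h3 : orderOf (⟨(y₀ : G), hmem⟩ : K₀) ∣ Nat.card K₀ := orderOf_dvd_natCard _
    have h4 : orderOf (⟨(y₀ : G), hmem⟩ : K₀) = p := by
      rw [Subgroup.orderOf_mk, Subgroup.orderOf_coe]; exact hy₀
    rw [h4] at h3
    have := Nat.dvd_gcd h3 (dvd_refl p)
    rw [hK₀c] at this
    exact hpp.one_lt.ne' (Nat.dvd_one.mp this)
  obtain ⟨k₀, hk₀, t₀, ht₀, ht₀H, hy⟩ := hdec y₀ y₀.2
  have ht₀1 : t₀ ≠ 1 := by
    rintro rfl
    apply hy₀1
    rw [hy, mul_one]; exact hk₀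
  have hRp : IsPGroup p ((P : Subgroup G) ⊓ H : Subgroup G) := P.2.to_le inf_le_left
  obtain ⟨m, hm⟩ := IsPGroup.iff_card.mp hRp
  have hm0 : m ≠ 0 := by
    rintro rfl
    rw [pow_zero] at hm
    have h3 := Subgroup.eq_bot_of_card_eq _ hm
    have h4 : t₀ ∈ (P : Subgroup G) ⊓ H := ⟨ht₀, ht₀H⟩
    rw [h3] at h4
    exact ht₀1 (Subgroup.mem_bot.mp h4)
  obtain ⟨z₀, hz₀⟩ := exists_prime_orderOf_dvd_card' (G := ((P : Subgroup G) ⊓ H : Subgroup G)) p (by
    rw [hm]; exact dvd_pow_self p hm0)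
  have hz₀P : (z₀ : G) ∈ (P : Subgroup G) := z₀.2.1
  have hz₀H : (z₀ : G) ∈ H := z₀.2.2
  have hz₀o : orderOf (z₀ : G) = p := by rw [Subgroup.orderOf_coe]; exact hz₀
  -- `M` has a normal `p`-complement
  have hMp : Cfsg.HasNormalPComplement p M := by
    apply Lib.PNilp.hasNormalPComplement_of_automizer (P.subtype hPM)
    intro Q hQP g hg hgc
    rw [Subgroup.mem_centralizer_iff]
    intro y hy
    let Q₁ : Subgroup G := Q.map M.subtype
    have hQ₁P : Q₁ ≤ (P : Subgroup G) := by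
      rintro _ ⟨q, hq, rfl⟩
      have := hQP hq
      rw [Sylow.coe_subtype, Subgroup.mem_subgroupOf] at this
      exact this
    haveI hQ₁c : IsCyclic Q₁ := isCyclic_of_injective (Subgroup.inclusion hQ₁P) (Subgroup.inclusion_injective hQ₁P)
    obtain ⟨⟨z₁, hz₁Q⟩, hz₁⟩ := hQ₁c
    have hQ₁z : ∀ q ∈ Q₁, q ∈ Subgroup.zpowers z₁ := by
      intro q hq
      obtain ⟨i, hi⟩ := hz₁ ⟨q, hq⟩
      refine ⟨i, ?_⟩
      have := congrArg Subtype.val hi
      simpa using this
    have hzQ : Subgroup.zpowers z₁ ≤ Q₁ := by rw [Subgroup.zpowers_le]; exact hz₁Q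
    have hgnorm : ∀ q ∈ Q₁, (g : G) * q * (g : G)⁻¹ ∈ Q₁ := by
      rintro _ ⟨q, hq, rfl⟩
      exact ⟨g * q * g⁻¹, (Subgroup.mem_normalizer_iff.mp hg q).mp hq, rfl⟩
    have hinter : K₀ ⊓ Q₁ = ⊥ := by
      apply Subgroup.inf_eq_bot_of_coprime
      obtain ⟨e, he⟩ := IsPGroup.iff_card.mp (P.2.to_le hQ₁P)
      rw [he]
      exact Nat.Coprime.pow_right e hK₀c
    have hcomm : (g : G) * z₁ = z₁ * (g : G) := by
      by_cases hz₁1 : z₁ = 1
      · rw [hz₁1]; simp
      obtain ⟨e, he⟩ := (IsPGroup.iff_orderOf.mp (P.2.to_le hQ₁P)) ⟨z₁, hz₁Q⟩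
      have hzo : orderOf z₁ = p ^ e := by simpa [Subgroup.orderOf_mk] using he
      have he0 : e ≠ 0 := by
        intro h0
        rw [h0, pow_zero] at hzo
        exact hz₁1 (orderOf_eq_one_iff.mp hzo)
      obtain ⟨e', rfl⟩ : ∃ e', e = e' + 1 := ⟨e - 1, by omega⟩
      let x := z₁ ^ p ^ e'
      have hxo : orderOf x = p := by
        show orderOf (z₁ ^ p ^ e') = p
        rw [orderOf_pow_of_dvd (pow_ne_zero _ hpp.ne_zero) (by rw [hzo]; exact pow_dvd_pow p (Nat.le_succ e')), hzo, pow_succ,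
          Nat.mul_div_cancel_left _ (pow_pos hpp.pos e')]
      have hxQ : x ∈ Q₁ := pow_mem hz₁Q _
      have hxp : x ^ p = 1 := by rw [← hxo]; exact pow_orderOf_eq_one x
      have hxz : x ∈ Subgroup.zpowers z₀.1 := Lib.H1FC.mem_zpowers_of_cyclic hP hpp hz₀P (hQ₁P hxQ) hz₀o hxp
      have hxH : x ∈ H := (Subgroup.zpowers_le.mpr hz₀H) hxz
      have hfix : (g : G) * x * (g : G)⁻¹ = x := by
        have h5 := hMmem g g.2 x hxH
        have h6 : (g : G) * x * (g : G)⁻¹ * x⁻¹ ∈ Q₁ := mul_mem (hgnorm x hxQ) (inv_mem hxQ)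
        have h7 : (g : G) * x * (g : G)⁻¹ * x⁻¹ ∈ K₀ ⊓ Q₁ := ⟨h5, h6⟩
        rw [hinter] at h7
        exact mul_inv_eq_one.mp (Subgroup.mem_bot.mp h7)
      have hx1 : x ≠ 1 := by
        intro h
        rw [h, orderOf_one] at hxo
        exact hpp.one_lt.ne hxo
      have hgc' : (orderOf (g : G)).Coprime p := by rw [Subgroup.orderOf_coe]; exact hgc
      exact S3985.comm_of_cyclic_fix p z₁ (g : G) x (e' + 1) hzo (hQ₁z _ (hgnorm z₁ hz₁Q)) hgc'
        (pow_mem (Subgroup.mem_zpowers z₁) _) hx1 hfix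
    have hyQ : (y : G) ∈ Q₁ := ⟨y, hy, rfl⟩
    obtain ⟨i, hi⟩ := hQ₁z _ hyQ
    apply Subtype.ext
    show (y : G) * g = g * y
    have hi' : z₁ ^ i = (y : G) := hi
    rw [← hi']
    exact (Commute.zpow_left (show Commute z₁ (g : G) from hcomm.symm) i).eq
  -- the chain
  haveI hch2 : (Cfsg.pPrimeCore p M).Characteristic := Lib.Comp2.pPrimeCore_char p
  let W : Subgroup G := (Cfsg.pPrimeCore p M).map M.subtype
  haveI hWn : W.Normal := Lib.H1Core.normal_map_of_characteristic M _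
  have hWM : W ≤ M := Subgroup.map_subtype_le _
  have hWc : (Nat.card W).Coprime p := by
    have : Nat.card W = Nat.card (Cfsg.pPrimeCore p M) :=
      Nat.card_congr (Subgroup.equivMapOfInjective _ _ M.subtype_injective).toEquiv.symm
    rw [this]
    exact Lib.H1Core.pPrimeCore_coprime (G := M) p
  have hWi : ∃ k : ℕ, W.relIndex M = p ^ k := by
    obtain ⟨N', hN', hN'c, hN'p⟩ := Lib.PNilp.hasNormalPComplement_iff.mp hMp
    have hN'K : N' ≤ Cfsg.pPrimeCore p M := Lib.H1Core.le_pPrimeCore hN' hN'c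
    have h3 : W.subgroupOf M = Cfsg.pPrimeCore p M := Lib.H1Cop.map_subgroupOf_eq' _
    have h4 : W.relIndex M = (Cfsg.pPrimeCore p M).index := by
      unfold Subgroup.relIndex; rw [h3]
    obtain ⟨k, hk⟩ := IsPGroup.iff_card.mp hN'p
    have h5 : (Cfsg.pPrimeCore p M).index ∣ p ^ k := by
      rw [← hk]
      exact Subgroup.index_dvd_of_le hN'K
    obtain ⟨j, -, hj⟩ := (Nat.dvd_prime_pow hpp).mp h5
    exact ⟨j, h4.trans hj⟩
  have hMi : (M.index).Coprime p := by
    have h3 : M.index ∣ (P : Subgroup G).index := Subgroup.index_dvd_of_le hPM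
    have h4 := P.not_dvd_index
    exact ((Nat.Prime.coprime_iff_not_dvd hpp).mpr h4).symm.coprime_dvd_left h3
  refine ⟨3, ![⊥, W, M, ⊤], rfl, rfl, ?_, ?_, ?_⟩
  · apply Fin.monotone_iff_le_succ.mpr
    intro i
    fin_cases i
    · exact bot_le
    · exact hWM
    · exact le_top
  · intro i
    fin_cases i
    · exact (inferInstance : (⊥ : Subgroup G).Normal)
    · exact hWn
    · exact hMn
    · exact (inferInstance : (⊤ : Subgroup G).Normal)
  · intro i
    fin_cases i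
    · right
      show ((⊥ : Subgroup G).relIndex W).Coprime p
      rw [Subgroup.relIndex_bot_left]
      exact hWc
    · left
      exact hWi
    · right
      show (M.relIndex ⊤).Coprime p
      rw [Subgroup.relIndex_top_right]
      exact hMi

end Cfsg.Agent.S4145
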