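import Cfsg.Statements.S4155
import Mathlib
import Cfsg.Agent.S4107
import Cfsg.Agent.Lib.H1Core
import Cfsg.Agent.Lib.H1Fit
import Cfsg.Agent.Lib.H1FC2
import Cfsg.Agent.Lib.FGS4
-- import your own Cfsg.Agent.* helpers here

set_option autoImplicit false
open Cfsg

namespace Cfsg.Agent.S4155

theorem sylow_part {G : Type*} [Group G] [Finite G] (N : Subgroup G) [N.Normal] (hN1 : N ≠ ⊥)
    (heq : ∀ x : G, x ∉ N → ∀ n ∈ N, orderOf (x * n) = orderOf x)
    (hnil : Group.IsNilpotent N) (hnpp : ¬ IsPrimePow (Nat.card N))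
    (q : ℕ) [hq : Fact q.Prime] (Q : Sylow q (G ⧸ N)) :
    IsCyclic (Q : Subgroup (G ⧸ N)) ∨ ∃ n : ℕ, Nonempty ((Q : Subgroup (G ⧸ N)) ≃* QuaternionGroup (2 ^ n)) := by
  classical
  have hNF : N ≤ Cfsg.fittingSubgroup G := Lib.H1Core.le_fittingSubgroup inferInstance hnil
  -- the q-part and the q'-part of N
  set T₀ : Subgroup G := Cfsg.pCore q G ⊓ N with hT₀
  set S₀ : Subgroup G := Cfsg.pPrimeCore q G ⊓ N with hS₀
  haveI hT₀n : T₀.Normal := Subgroup.normal_inf_normal _ _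
  haveI hS₀n : S₀.Normal := Subgroup.normal_inf_normal _ _
  haveI := Lib.H1Core.pPrimeCore_normal q G
  have hTS : T₀ ⊓ S₀ = ⊥ := by
    rw [eq_bot_iff]
    rintro y ⟨⟨hy1, -⟩, ⟨hy2, -⟩⟩
    have h1 : (Cfsg.pCore q G ⊓ Cfsg.pPrimeCore q G) = ⊥ := by
      apply Subgroup.inf_eq_bot_of_coprime
      obtain ⟨k, hk⟩ := IsPGroup.iff_card.mp (Lib.H1Core.pCore_isPGroup (G := G) q)
      rw [hk]
      exact Nat.Coprime.pow_left _ (Lib.H1Core.pPrimeCore_coprime q).symm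
    have : y ∈ Cfsg.pCore q G ⊓ Cfsg.pPrimeCore q G := ⟨hy1, hy2⟩
    rwa [h1] at this
  have hq_el : ∀ a ∈ N, ∀ k, orderOf a = q ^ k → a ∈ T₀ := fun a ha k hk =>
    ⟨Lib.FGS4.mem_pCore_of_mem_fitting hq.out a (hNF ha) hk, ha⟩
  have hS₀ne : S₀ ≠ ⊥ := by
    intro hS
    have : ∃ r : ℕ, r.Prime ∧ r ∣ Nat.card N ∧ r ≠ q := by
      by_contra hcon
      push Not at hcon
      have hn := Nat.eq_prime_pow_of_unique_prime_dvd (n := Nat.card N) (p := q) Nat.card_pos.ne' (fun {d} hd hd2 => hcon d hd hd2)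
      apply hnpp
      rw [hn]
      refine (isPrimePow_nat_iff _).mpr ⟨q, _, hq.out, ?_, rfl⟩
      apply Nat.pos_of_ne_zero
      intro h0
      rw [h0, pow_zero] at hn
      exact hN1 (Subgroup.card_eq_one.mp hn)
    obtain ⟨r, hr, hrd, hrq⟩ := this
    haveI : Fact r.Prime := ⟨hr⟩
    obtain ⟨b₀, hb₀⟩ := exists_prime_orderOf_dvd_card' (G := N) r hrd
    have hb1 : orderOf (b₀ : G) = r := by rw [Subgroup.orderOf_coe, hb₀]
    have hb2 : (b₀ : G) ∈ Cfsg.pCore r G :=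
      Lib.FGS4.mem_pCore_of_mem_fitting hr _ (hNF b₀.2) (b := 1) (by rw [hb1, pow_one])
    have hb3 : (b₀ : G) ∈ Cfsg.pPrimeCore q G := by
      refine Lib.H1Core.le_pPrimeCore (Lib.H1Core.pCore_normal r G) ?_ hb2
      obtain ⟨k, hk⟩ := IsPGroup.iff_card.mp (Lib.H1Core.pCore_isPGroup (G := G) r)
      rw [hk]
      exact Nat.Coprime.pow_left _ ((Nat.coprime_primes hr hq.out).mpr hrq)
    have hb4 : (b₀ : G) ∈ S₀ := ⟨hb3, b₀.2⟩
    rw [hS, Subgroup.mem_bot] at hb4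
    rw [hb4, orderOf_one] at hb1
    exact hr.one_lt.ne hb1
  -- the ambient quotient
  let π : G →* G ⧸ T₀ := QuotientGroup.mk' T₀
  have hπs : Function.Surjective π := QuotientGroup.mk'_surjective T₀
  have hπker : ∀ x, π x = 1 ↔ x ∈ T₀ := fun x => QuotientGroup.eq_one_iff x
  set K : Subgroup (G ⧸ T₀) := S₀.map π with hK
  haveI hKn : K.Normal := hS₀n.map π hπs
  have hKne : K ≠ ⊥ := by
    intro h
    apply hS₀ne
    rw [eq_bot_iff]
    intro y hy
    have h1 : π y ∈ K := ⟨y, hy, rfl⟩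
    rw [h, Subgroup.mem_bot] at h1
    have h2 : y ∈ T₀ := (hπker y).mp h1
    have : y ∈ T₀ ⊓ S₀ := ⟨h2, hy⟩
    rwa [hTS] at this
  -- choice of the q-subgroup of G over Q
  let mkN : G →* G ⧸ N := QuotientGroup.mk' N
  have hmkNs : Function.Surjective mkN := QuotientGroup.mk'_surjective N
  obtain ⟨P₀⟩ : Nonempty (Sylow q G) := Sylow.nonempty
  obtain ⟨gb, hgb⟩ := MulAction.exists_smul_eq (G ⧸ N) (P₀.mapSurjective hmkNs) Q
  obtain ⟨g, rfl⟩ := hmkNs gb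
  set Q₁ : Subgroup G := (P₀ : Subgroup G).map (MulAut.conj g).toMonoidHom with hQ₁
  have hQ₁p : IsPGroup q Q₁ := P₀.isPGroup'.map _
  have hQ₁map : Q₁.map mkN = (Q : Subgroup (G ⧸ N)) := by
    rw [← hgb, Sylow.coe_subgroup_smul, Sylow.coe_mapSurjective]
    ext z
    rw [Subgroup.mem_smul_pointwise_iff_exists]
    constructor
    · rintro ⟨_, ⟨x, hx, rfl⟩, rfl⟩
      refine ⟨mkN x, ⟨x, hx, rfl⟩, ?_⟩
      simp [MulAut.smul_def, MulAut.conj_apply]
    · rintro ⟨_, ⟨x, hx, rfl⟩, rfl⟩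
      refine ⟨_, ⟨x, hx, rfl⟩, ?_⟩
      simp [MulAut.smul_def, MulAut.conj_apply]
  set H : Subgroup (G ⧸ T₀) := Q₁.map π with hH
  have hHp : IsPGroup q H := hQ₁p.map _
  have hQel : ∀ x ∈ Q₁, ∃ k, orderOf x = q ^ k := fun x hx => by
    exact Cfsg.Agent.S4107.order_of_pgroup hQ₁p hx
  have hfpf : ∀ h ∈ H, h ≠ 1 → K ⊓ Subgroup.centralizer {h} = ⊥ := by
    rintro _ ⟨x, hx, rfl⟩ hh
    rw [eq_bot_iff]
    rintro _ ⟨⟨y, hy, rfl⟩, hc⟩
    obtain ⟨k, hk⟩ := hQel x hx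
    have hxN : x ∉ N := by
      intro hxN
      exact hh ((hπker x).mpr (hq_el x hxN k hk))
    have hcomm : π x * π y = π y * π x := by
      have := Subgroup.mem_centralizer_iff.mp hc (π x) rfl
      exact this
    have hc1 : y * x * y⁻¹ * x⁻¹ ∈ T₀ := by
      rw [← hπker]
      simp only [map_mul, map_inv]
      rw [← hcomm]
      group
    have hc2 : y * x * y⁻¹ * x⁻¹ ∈ S₀ := by
      have h1 : x * y⁻¹ * x⁻¹ ∈ S₀ := hS₀n.conj_mem _ (inv_mem hy) x
      have : y * x * y⁻¹ * x⁻¹ = y * (x * y⁻¹ * x⁻¹) := by group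
      rw [this]
      exact mul_mem hy h1
    have hc3 : y * x * y⁻¹ * x⁻¹ = 1 := by
      have : y * x * y⁻¹ * x⁻¹ ∈ T₀ ⊓ S₀ := ⟨hc1, hc2⟩
      rw [hTS] at this
      exact Subgroup.mem_bot.mp this
    have hcy : Commute x y := by
      have h1 : y * x = x * y := by
        have h2 : y * x * y⁻¹ * x⁻¹ * (x * y) = 1 * (x * y) := by rw [hc3]
        simpa [mul_assoc] using h2
      exact h1.symm
    have hy1 : y = 1 := by
      apply Cfsg.Agent.S4107.key N heq hxN hy.2 hcy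
      rw [hk]
      apply Nat.Coprime.pow_left
      have h3 : orderOf y ∣ Nat.card (Cfsg.pPrimeCore q G) := Subgroup.orderOf_dvd_natCard _ hy.1
      exact Nat.Coprime.coprime_dvd_right h3 (Lib.H1Core.pPrimeCore_coprime q).symm
    rw [hy1, map_one]
    exact one_mem _
  have hHK : H ≤ Subgroup.normalizer (K : Set (G ⧸ T₀)) := by
    rw [Subgroup.normalizer_eq_top_iff.mpr hKn]; exact le_top
  have hres := Lib.H1FC2.sylow_of_fc hHK hKne hfpf le_rfl q hHp
  -- transport to Q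
  have hT₀N : T₀ ≤ N.comap (MonoidHom.id G) := fun x hx => hx.2
  let ψ : G ⧸ T₀ →* G ⧸ N := QuotientGroup.map T₀ N (MonoidHom.id G) hT₀N
  have hψπ : ∀ x, ψ (π x) = mkN x := fun x => rfl
  let f : H →* G ⧸ N := ψ.comp H.subtype
  have hf : Function.Injective f := by
    rw [injective_iff_map_eq_one]
    rintro ⟨_, x, hx, rfl⟩ h
    have h1 : mkN x = 1 := h
    have hxN : x ∈ N := (QuotientGroup.eq_one_iff x).mp h1
    obtain ⟨k, hk⟩ := hQel x hx
    exact Subtype.ext ((hπker x).mpr (hq_el x hxN k hk))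
  have hrange : f.range = (Q : Subgroup (G ⧸ N)) := by
    rw [← hQ₁map]
    ext z
    constructor
    · rintro ⟨⟨_, x, hx, rfl⟩, rfl⟩
      exact ⟨x, hx, rfl⟩
    · rintro ⟨x, hx, rfl⟩
      exact ⟨⟨π x, x, hx, rfl⟩, rfl⟩
  let e : H ≃* (Q : Subgroup (G ⧸ N)) := (MonoidHom.ofInjective hf).trans (MulEquiv.subgroupCongr hrange)
  rcases hres with hc | ⟨-, n, ⟨e₂⟩⟩
  · left
    exact isCyclic_of_surjective e e.surjective
  · right
    exact ⟨n, ⟨e.symm.trans e₂⟩⟩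

/-- Let G be a finite group and N a proper non-trivial normal nilpotent subgroup whose order is not a prime power, such that for every x outside N all elements of the coset xN have the same order as x. Then N is the Fitting subgroup of G, and for every prime q every Sylow q-subgroup of G/N is cyclic or generalized quaternion. -/
theorem result {G : Type*} [Group G] [Finite G] (N : Subgroup G) [N.Normal] (hN1 : N ≠ ⊥) (hN2 : N ≠ ⊤)
    (heq : ∀ x : G, x ∉ N → ∀ n ∈ N, orderOf (x * n) = orderOf x)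
    (hnil : Group.IsNilpotent N) (hnpp : ¬ IsPrimePow (Nat.card N)) :
    N = Cfsg.fittingSubgroup G ∧
    ∀ (q : ℕ) [Fact q.Prime] (Q : Sylow q (G ⧸ N)), IsCyclic (Q : Subgroup (G ⧸ N)) ∨ ∃ n : ℕ, Nonempty ((Q : Subgroup (G ⧸ N)) ≃* QuaternionGroup (2 ^ n)) := by
  refine ⟨?_, fun q _ Q => sylow_part N hN1 heq hnil hnpp q Q⟩
  have hNF : N ≤ Cfsg.fittingSubgroup G := Lib.H1Core.le_fittingSubgroup inferInstance hnil
  by_contra hne
  have hlt : N < Cfsg.fittingSubgroup G := lt_of_le_of_ne hNF hne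
  have h := (Cfsg.Agent.S4107.result N hN1 hN2 heq).2 hlt
  obtain ⟨p, k, hp, hk, hc⟩ := (isPrimePow_nat_iff _).mp h
  have hd : Nat.card N ∣ p ^ k := by
    rw [hc]
    exact Subgroup.card_dvd_of_le hNF
  obtain ⟨j, -, hj⟩ := (Nat.dvd_prime_pow hp).mp hd
  apply hnpp
  rw [hj]
  refine (isPrimePow_nat_iff _).mpr ⟨p, j, hp, ?_, rfl⟩
  apply Nat.pos_of_ne_zero
  intro h0
  rw [h0, pow_zero] at hj
  exact hN1 (Subgroup.card_eq_one.mp hj)

end Cfsg.Agent.S4155
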