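import Cfsg.Statements.S4160
import Mathlib
import Cfsg.Agent.S3858
-- import your own Cfsg.Agent.* helpers here

set_option autoImplicit false
open Cfsg

namespace Cfsg.Agent.S4160

open Subgroup

section
variable {G : Type*} [Group G] [Finite G]

theorem mem_cent_smul {p : ℕ} [Fact p.Prime] (P : Sylow p G) (g x : G) :
    x ∈ centralizer (((g • P : Sylow p G) : Subgroup G) : Set G) ↔ g⁻¹ * x * g ∈ centralizer ((P : Subgroup G) : Set G) := by
  rw [Subgroup.mem_centralizer_iff, Subgroup.mem_centralizer_iff]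
  constructor
  · intro h y hy
    have hy' : g * y * g⁻¹ ∈ ((g • P : Sylow p G) : Subgroup G) := by
      rw [Sylow.coe_subgroup_smul]
      have : g * y * g⁻¹ = (MulAut.conj g) • y := by simp [MulAut.smul_def]
      rw [this]
      exact (Subgroup.smul_mem_pointwise_smul_iff).mpr hy
    have h2 := h _ hy'
    have : y * (g⁻¹ * x * g) = g⁻¹ * ((g * y * g⁻¹) * x) * g := by group
    rw [this, h2]; group
  · intro h y hy
    have hy' : g⁻¹ * y * g ∈ (P : Subgroup G) := by
      rw [Sylow.coe_subgroup_smul] at hy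
      have := (Subgroup.mem_pointwise_smul_iff_inv_smul_mem).mp hy
      simpa [MulAut.smul_def] using this
    have h2 := h _ hy'
    have h3 : g * ((g⁻¹ * y * g) * (g⁻¹ * x * g)) * g⁻¹ = g * ((g⁻¹ * x * g) * (g⁻¹ * y * g)) * g⁻¹ := by rw [h2]
    simpa [mul_assoc] using h3

theorem card_cent_conj {p : ℕ} [Fact p.Prime] (P S : Sylow p G) :
    Nat.card (centralizer ((S : Subgroup G) : Set G)) = Nat.card (centralizer ((P : Subgroup G) : Set G)) := by
  obtain ⟨g, rfl⟩ := MulAction.exists_smul_eq G P S
  refine Nat.card_congr (Equiv.subtypeEquiv (MulAut.conj g⁻¹).toEquiv ?_)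
  intro x
  rw [mem_cent_smul]
  simp

theorem count {p : ℕ} [Fact p.Prime] (P : Sylow p G)
    (hP : ¬ normalizer ((P : Subgroup G) : Set G) ≤ centralizer ((P : Subgroup G) : Set G))
    [Fintype G] [DecidableEq G] [Fintype (Sylow p G)] (A : Finset G)
    (hA : ∀ x ∈ A, ∃ S : Sylow p G, x ∈ centralizer ((S : Subgroup G) : Set G)) :
    2 * A.card ≤ Nat.card G := by
  classical
  have h1 : A ⊆ Finset.univ.biUnion (fun S : Sylow p G =>
      Finset.univ.filter (fun x => x ∈ centralizer ((S : Subgroup G) : Set G))) := by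
    intro x hx
    obtain ⟨S, hS⟩ := hA x hx
    simp only [Finset.mem_biUnion, Finset.mem_filter, Finset.mem_univ, true_and]
    exact ⟨S, hS⟩
  have h2 : ∀ S : Sylow p G, (Finset.univ.filter (fun x => x ∈ centralizer ((S : Subgroup G) : Set G))).card
      = Nat.card (centralizer ((P : Subgroup G) : Set G)) := by
    intro S
    rw [← card_cent_conj P S, Nat.card_eq_fintype_card, Fintype.card_subtype]
  have h3 : A.card ≤ Nat.card (Sylow p G) * Nat.card (centralizer ((P : Subgroup G) : Set G)) := by
    calc A.card ≤ _ := Finset.card_le_card h1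
      _ ≤ _ := Finset.card_biUnion_le
      _ = _ := by
        rw [Finset.sum_congr rfl (fun S _ => h2 S)]
        simp [Nat.card_eq_fintype_card]
  have hle : centralizer ((P : Subgroup G) : Set G) ≤ normalizer ((P : Subgroup G) : Set G) :=
    centralizer_le_normalizer _
  have h4 : 2 * Nat.card (centralizer ((P : Subgroup G) : Set G)) ≤ Nat.card (normalizer ((P : Subgroup G) : Set G)) := by
    obtain ⟨k, hk⟩ := Subgroup.card_dvd_of_le hle
    have hpos : 0 < Nat.card (centralizer ((P : Subgroup G) : Set G)) := Nat.card_pos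
    have hk1 : k ≠ 0 := by
      rintro rfl
      have : 0 < Nat.card (normalizer ((P : Subgroup G) : Set G)) := Nat.card_pos
      omega
    have hk2 : k ≠ 1 := by
      rintro rfl
      rw [mul_one] at hk
      apply hP
      have := Subgroup.eq_of_le_of_card_ge hle hk.le
      rw [this]
    have hk3 : 2 ≤ k := by omega
    rw [hk]
    nlinarith
  have h5 : Nat.card (Sylow p G) * Nat.card (normalizer ((P : Subgroup G) : Set G)) = Nat.card G := by
    rw [Sylow.card_eq_index_normalizer P, mul_comm]
    exact Subgroup.card_mul_index _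
  calc 2 * A.card ≤ 2 * (Nat.card (Sylow p G) * Nat.card (centralizer ((P : Subgroup G) : Set G))) := by omega
    _ = Nat.card (Sylow p G) * (2 * Nat.card (centralizer ((P : Subgroup G) : Set G))) := by ring
    _ ≤ Nat.card (Sylow p G) * Nat.card (normalizer ((P : Subgroup G) : Set G)) := Nat.mul_le_mul_left _ h4
    _ = _ := h5

theorem exists_cent {p : ℕ} [Fact p.Prime] (x : G) (hx : ¬ p ∣ (centralizer ({x} : Set G)).index) :
    ∃ S : Sylow p G, x ∈ centralizer ((S : Subgroup G) : Set G) := by
  obtain ⟨P⟩ : Nonempty (Sylow p G) := inferInstance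
  obtain ⟨g, hg⟩ := S3858.exists_conj_le (P : Subgroup G) P.isPGroup' (centralizer ({x} : Set G)) hx
  refine ⟨g⁻¹ • P, ?_⟩
  rw [mem_cent_smul, Subgroup.mem_centralizer_iff]
  intro y hy
  have h3 := hg hy
  obtain ⟨c, hc, hce⟩ := Subgroup.mem_map.mp h3
  rw [Subgroup.mem_centralizer_singleton_iff] at hc
  have hce' : g * c * g⁻¹ = y := by simpa using hce
  subst hce'
  have : g⁻¹⁻¹ = g := inv_inv g
  rw [this]
  have h5 : g * c * g⁻¹ * (g * x * g⁻¹) = g * (c * x) * g⁻¹ := by group
  have h6 : g * x * g⁻¹ * (g * c * g⁻¹) = g * (x * c) * g⁻¹ := by group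
  rw [h5, h6, hc]

end

/-- Let G be a finite group and p ≠ q primes each dividing the size of some conjugacy class of G, such that no conjugacy class size is divisible by pq. Then G has a normal p-complement or a normal q-complement. -/
theorem result {G : Type*} [Group G] [Finite G] (p q : ℕ) (hp : p.Prime) (hq : q.Prime) (hpq : p ≠ q)
    (hp' : ∃ x : G, p ∣ (Subgroup.centralizer ({x} : Set G)).index) (hq' : ∃ x : G, q ∣ (Subgroup.centralizer ({x} : Set G)).index) (h : ∀ x : G, ¬ p * q ∣ (Subgroup.centralizer ({x} : Set G)).index) :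
    Cfsg.HasNormalPComplement p G ∨ Cfsg.HasNormalPComplement q G := by
  classical
  haveI := Fact.mk hp
  haveI := Fact.mk hq
  by_cases h1 : ∃ P : Sylow p G, normalizer ((P : Subgroup G) : Set G) ≤ centralizer ((P : Subgroup G) : Set G)
  · obtain ⟨P, hP⟩ := h1
    left
    exact ⟨P, _, inferInstance, MonoidHom.ker_transferSylow_isComplement' P hP⟩
  by_cases h2 : ∃ P : Sylow q G, normalizer ((P : Subgroup G) : Set G) ≤ centralizer ((P : Subgroup G) : Set G)
  · obtain ⟨P, hP⟩ := h2
    right
    exact ⟨P, _, inferInstance, MonoidHom.ker_transferSylow_isComplement' P hP⟩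
  exfalso
  obtain ⟨P⟩ : Nonempty (Sylow p G) := inferInstance
  obtain ⟨Q⟩ : Nonempty (Sylow q G) := inferInstance
  haveI := Fintype.ofFinite G
  haveI := Fintype.ofFinite (Sylow p G)
  haveI := Fintype.ofFinite (Sylow q G)
  let A : Finset G := Finset.univ.filter (fun x => ∃ S : Sylow p G, x ∈ centralizer ((S : Subgroup G) : Set G))
  let B : Finset G := Finset.univ.filter (fun x => ∃ S : Sylow q G, x ∈ centralizer ((S : Subgroup G) : Set G))
  have hA := count P (fun h => h1 ⟨P, h⟩) A (fun x hx => (Finset.mem_filter.mp hx).2)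
  have hB := count Q (fun h => h2 ⟨Q, h⟩) B (fun x hx => (Finset.mem_filter.mp hx).2)
  have hU : A ∪ B = Finset.univ := by
    apply Finset.eq_univ_of_forall
    intro x
    rw [Finset.mem_union]
    by_cases hpx : p ∣ (centralizer ({x} : Set G)).index
    · right
      have hqx : ¬ q ∣ (centralizer ({x} : Set G)).index := by
        intro hqx
        exact h x (Nat.Coprime.mul_dvd_of_dvd_of_dvd ((Nat.coprime_primes hp hq).mpr hpq) hpx hqx)
      exact Finset.mem_filter.mpr ⟨Finset.mem_univ _, exists_cent x hqx⟩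
    · left
      exact Finset.mem_filter.mpr ⟨Finset.mem_univ _, exists_cent x hpx⟩
  have hI : (1 : G) ∈ A ∩ B := by
    rw [Finset.mem_inter]
    exact ⟨Finset.mem_filter.mpr ⟨Finset.mem_univ _, P, one_mem _⟩, Finset.mem_filter.mpr ⟨Finset.mem_univ _, Q, one_mem _⟩⟩
  have hc := Finset.card_union_add_card_inter A B
  rw [hU, Finset.card_univ, ← Nat.card_eq_fintype_card] at hc
  have hpos : 0 < (A ∩ B).card := Finset.card_pos.mpr ⟨1, hI⟩
  omega

end Cfsg.Agent.S4160
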