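import Cfsg.Statements.S4419
import Mathlib
import Cfsg.Agent.Lib.PNilp
import Cfsg.Agent.Lib.H1PLen
import Cfsg.Agent.Lib.H1Core
import Cfsg.Agent.Lib.PGrp2
import Cfsg.Agent.Lib.LQd4
-- import your own Cfsg.Agent.* helpers here

set_option autoImplicit false
open Cfsg

namespace Cfsg.Agent.S4419

open scoped commutatorElement

theorem aut_trivial {V : Type*} [Group V] [Finite V] {p n : ℕ} (hp : p.Prime)
    (hV : Nat.card V ∣ p ^ 2) (β : MulAut V) (hn : β ^ n = 1) (h1 : n.Coprime (p ^ 2 - 1))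
    (h2 : n.Coprime p) : β = 1 := by
  classical
  haveI : Fintype V := Fintype.ofFinite V
  by_contra hne
  have hn0 : n ≠ 0 := by
    rintro rfl
    have : p = 1 := by simpa using h2
    exact hp.one_lt.ne' this
  have hmn : orderOf β ∣ n := orderOf_dvd_of_pow_eq_one hn
  have hm1 : orderOf β ≠ 1 := fun h => hne (orderOf_eq_one_iff.mp h)
  obtain ⟨u, hu, hum⟩ := Nat.exists_prime_and_dvd hm1
  haveI : Fact u.Prime := ⟨hu⟩
  have hum0 : orderOf β ≠ 0 := fun h => hn0 (by rw [h] at hmn; exact Nat.eq_zero_of_zero_dvd hmn)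
  set γ : MulAut V := β ^ (orderOf β / u) with hγ
  have hγo : orderOf γ = u := by
    rw [hγ, orderOf_pow_of_dvd (by
      intro h
      rw [Nat.div_eq_zero_iff] at h
      rcases h with h | h
      · exact hu.ne_zero h
      · exact absurd (Nat.le_of_dvd (Nat.pos_of_ne_zero hum0) hum) (by omega)) (Nat.div_dvd_of_dvd hum)]
    rw [Nat.div_div_self hum hum0]
  have hγ1 : γ ≠ 1 := by
    intro h
    rw [h, orderOf_one] at hγo
    exact hu.one_lt.ne hγo
  have hγu : γ ^ u = 1 := by rw [← hγo]; exact pow_orderOf_eq_one γ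
  let f : Function.End V := fun x => γ x
  have hfk : ∀ (k : ℕ) (x : V), (f ^ k) x = (γ ^ k) x := by
    intro k
    induction k with
    | zero => intro x; rfl
    | succ k ih =>
      intro x
      rw [pow_succ, pow_succ]
      show (f ^ k) (f x) = (γ ^ k) (γ x)
      rw [ih]
  have hf : f ^ u ^ 1 = 1 := by
    funext x
    rw [pow_one, hfk, hγu]
    rfl
  have hmod0 := Equiv.Perm.card_fixedPoints_modEq hf
  let C : Subgroup V :=
    { carrier := {x | γ x = x}
      mul_mem' := by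
        intro a b ha hb
        show γ (a * b) = a * b
        rw [map_mul, show γ a = a from ha, show γ b = b from hb]
      one_mem' := map_one γ
      inv_mem' := by
        intro a ha
        show γ a⁻¹ = a⁻¹
        rw [map_inv, show γ a = a from ha] }
  have hmod : Fintype.card V ≡ Nat.card C [MOD u] := by
    have hCcard : Nat.card C = Nat.card (Function.fixedPoints (f : V → V)) := rfl
    rw [hCcard, Nat.card_eq_fintype_card]
    convert hmod0
  have hCne : C ≠ ⊤ := by
    intro h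
    apply hγ1
    ext x
    have : x ∈ C := h ▸ Subgroup.mem_top x
    exact this
  have hCV : Nat.card C ∣ Nat.card V := Subgroup.card_subgroup_dvd_card C
  obtain ⟨a, ha, haV⟩ := (Nat.dvd_prime_pow hp).mp hV
  obtain ⟨b, hb, hbC⟩ := (Nat.dvd_prime_pow hp).mp (hCV.trans hV)
  have hne' : Nat.card C ≠ Nat.card V := fun h => hCne ((Subgroup.card_eq_iff_eq_top C).mp h)
  rw [← Nat.card_eq_fintype_card] at hmod
  rw [haV, hbC] at hmod hne' hCV
  have hlt : b < a := by
    have h3 : b ≤ a := (Nat.pow_dvd_pow_iff_le_right hp.one_lt).mp hCV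
    rcases Nat.lt_or_ge b a with h4 | h4
    · exact h4
    · exfalso; apply hne'; rw [show b = a by omega]
  have hup : u ≠ p := by
    intro h
    have h3 : u ∣ n := hum.trans hmn
    have h4 : u ∣ p := by rw [h]
    have := Nat.dvd_gcd h3 h4
    rw [h2] at this
    exact hu.one_lt.ne' (Nat.dvd_one.mp this)
  have hud : u ∣ p ^ a - p ^ b := (Nat.modEq_iff_dvd' (Nat.pow_le_pow_right hp.pos hlt.le)).mp hmod.symm
  have hp1 : p - 1 ∣ p ^ 2 - 1 := by
    have := Nat.sub_dvd_pow_sub_pow p 1 2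
    simpa using this
  have hu2 : u ∣ p ^ 2 - 1 := by
    have hcases : (a = 1 ∧ b = 0) ∨ (a = 2 ∧ b = 0) ∨ (a = 2 ∧ b = 1) := by omega
    rcases hcases with ⟨rfl, rfl⟩ | ⟨rfl, rfl⟩ | ⟨rfl, rfl⟩
    · simp only [pow_one, pow_zero] at hud
      exact hud.trans hp1
    · simpa using hud
    · have e : p ^ 2 - p ^ 1 = p * (p - 1) := by
        rw [Nat.mul_sub, pow_one, mul_one, sq]
      rw [e] at hud
      rcases (Nat.Prime.dvd_mul hu).mp hud with h | h
      · exact absurd ((Nat.prime_dvd_prime_iff_eq hu hp).mp h) hup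
      · exact h.trans hp1
  have h3 : u ∣ n := hum.trans hmn
  have := Nat.dvd_gcd h3 hu2
  rw [h1] at this
  exact hu.one_lt.ne' (Nat.dvd_one.mp this)

theorem frattini_card {Q : Type*} [Group Q] [Finite Q] {p : ℕ} [Fact p.Prime] (hQ : IsPGroup p Q)
    (hm : Cfsg.IsMetacyclic Q) : Nat.card (Q ⧸ frattini Q) ∣ p ^ 2 := by
  classical
  have hp : p.Prime := Fact.out
  obtain ⟨N, hN, hNc, hQNc⟩ := hm
  obtain ⟨⟨a, haN⟩, ha⟩ := hNc
  obtain ⟨b', hb'⟩ := hQNc
  obtain ⟨b, rfl⟩ := QuotientGroup.mk_surjective b'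
  let π : Q →* Q ⧸ frattini Q := QuotientGroup.mk' _
  have hπa : π a ^ p = 1 := by
    rw [← map_pow]
    exact (QuotientGroup.eq_one_iff _).mpr (Lib.PGrp.pow_mem_frattini hQ a)
  have hπb : π b ^ p = 1 := by
    rw [← map_pow]
    exact (QuotientGroup.eq_one_iff _).mpr (Lib.PGrp.pow_mem_frattini hQ b)
  haveI : NeZero p := ⟨hp.ne_zero⟩
  let F : Fin p × Fin p → Q ⧸ frattini Q := fun ij => π a ^ (ij.1 : ℕ) * π b ^ (ij.2 : ℕ)
  have hpow : ∀ (c : Q ⧸ frattini Q), c ^ p = 1 → ∀ i : ℤ, ∃ i' : Fin p, c ^ i = c ^ (i' : ℕ) := by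
    intro c hc i
    have hpi : (0 : ℤ) < p := by exact_mod_cast hp.pos
    refine ⟨⟨(i % p).toNat, ?_⟩, ?_⟩
    · have := Int.emod_lt_of_pos i hpi
      have h0 := Int.emod_nonneg i hpi.ne'
      omega
    · have h1 : c ^ (p : ℤ) = 1 := by exact_mod_cast hc
      rw [zpow_eq_zpow_emod i h1]
      show _ = c ^ (i % (p : ℤ)).toNat
      rw [← zpow_natCast, Int.toNat_of_nonneg (Int.emod_nonneg i hpi.ne')]
  have hsurj : Function.Surjective F := by
    intro v
    obtain ⟨x, rfl⟩ := QuotientGroup.mk_surjective v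
    obtain ⟨j, hj⟩ := Subgroup.mem_zpowers_iff.mp (hb' (x : Q ⧸ N))
    have h1 : x * (b ^ j)⁻¹ ∈ N := by
      rw [← QuotientGroup.eq_one_iff]
      rw [QuotientGroup.mk_mul, QuotientGroup.mk_inv, QuotientGroup.mk_zpow, hj]
      group
    obtain ⟨i, hi⟩ := Subgroup.mem_zpowers_iff.mp (ha ⟨_, h1⟩)
    have h2 : a ^ i = x * (b ^ j)⁻¹ := by
      have := congrArg Subtype.val hi
      simpa using this
    have h3 : x = a ^ i * b ^ j := by rw [h2]; group
    obtain ⟨i', hi'⟩ := hpow _ hπa i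
    obtain ⟨j', hj'⟩ := hpow _ hπb j
    refine ⟨(i', j'), ?_⟩
    show π a ^ (i' : ℕ) * π b ^ (j' : ℕ) = (x : Q ⧸ frattini Q)
    rw [← hi', ← hj', h3]
    show _ = π (a ^ i * b ^ j)
    rw [map_mul, map_zpow, map_zpow]
  have hle : Nat.card (Q ⧸ frattini Q) ≤ p ^ 2 := by
    have := Nat.card_le_card_of_surjective F hsurj
    simpa [Nat.card_prod, sq] using this
  have hpg : IsPGroup p (Q ⧸ frattini Q) := hQ.to_quotient _
  obtain ⟨k, hk⟩ := IsPGroup.iff_card.mp hpg
  rw [hk] at hle ⊢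
  exact Nat.pow_dvd_pow p ((Nat.pow_le_pow_iff_right hp.one_lt).mp hle)

theorem meta_sub {G : Type*} [Group G] {S Q : Subgroup G} (hQS : Q ≤ S) (hS : Cfsg.IsMetacyclic S) :
    Cfsg.IsMetacyclic Q := by
  obtain ⟨N, hN, hNc, hSNc⟩ := hS
  let ι : Q →* S := Subgroup.inclusion hQS
  let f : Q →* S ⧸ N := (QuotientGroup.mk' N).comp ι
  refine ⟨f.ker, inferInstance, ?_, ?_⟩
  · let e : f.ker →* N :=
      { toFun := fun x => ⟨ι x, by
          have h : f x = 1 := x.2
          exact (QuotientGroup.eq_one_iff _).mp h⟩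
        map_one' := by apply Subtype.ext; simp
        map_mul' := by intro x y; apply Subtype.ext; simp }
    refine isCyclic_of_injective e ?_
    intro x y h
    have h1 := congrArg Subtype.val h
    have h2 : ι (x : Q) = ι (y : Q) := h1
    exact Subtype.ext (Subgroup.inclusion_injective hQS h2)
  · exact isCyclic_of_injective (QuotientGroup.kerLift f) (QuotientGroup.kerLift_injective f)

def cq {G : Type*} [Group G] (Q : Subgroup G) (g : G) (hg : g ∈ Subgroup.normalizer (Q : Set G)) : MulAut Q where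
  toFun y := ⟨g * y * g⁻¹, (Subgroup.mem_normalizer_iff.mp hg y).mp y.2⟩
  invFun y := ⟨g⁻¹ * y * g, by
    have := (Subgroup.mem_normalizer_iff.mp hg (g⁻¹ * y * g))
    apply this.mpr
    have e : g * (g⁻¹ * y * g) * g⁻¹ = y := by group
    rw [e]
    exact y.2⟩
  left_inv y := by apply Subtype.ext; simp [mul_assoc]
  right_inv y := by apply Subtype.ext; simp [mul_assoc]
  map_mul' x y := by apply Subtype.ext; simp [mul_assoc]

/-- Let p be a prime and G a finite group whose Sylow p-subgroups are metacyclic (a cyclic normal subgroup with cyclic quotient). Then G has a normal p-complement if and only if the order of G/O_{p′,p}(G) is coprime to p² − 1. -/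
theorem result {G : Type*} [Group G] [Finite G] (p : ℕ) [Fact p.Prime] (S : Sylow p G) (hS : Cfsg.IsMetacyclic ↥(S : Subgroup G)) : Cfsg.HasNormalPComplement p G ↔ Nat.Coprime (Nat.card (G ⧸ Cfsg.pPrimePCore p G)) (p ^ 2 - 1) := by
  classical
  have hp : p.Prime := Fact.out
  haveI hLn : (Cfsg.pPrimePCore p G).Normal := Lib.H1PLen.pPrimePCore_normal'
  haveI hKn : (Cfsg.pPrimeCore p G).Normal := Cfsg.Agent.Lib.H1Core.pPrimeCore_normal p G
  constructor
  · intro h
    obtain ⟨N, hN, hNc, hNp⟩ := Lib.PNilp.hasNormalPComplement_iff.mp h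
    have hNK : N ≤ Cfsg.pPrimeCore p G := Lib.H1Core.le_pPrimeCore hN hNc
    have hpg : IsPGroup p (G ⧸ Cfsg.pPrimeCore p G) := by
      intro x
      obtain ⟨x, rfl⟩ := QuotientGroup.mk_surjective x
      obtain ⟨k, hk⟩ := hNp (x : G ⧸ N)
      refine ⟨k, ?_⟩
      rw [← QuotientGroup.mk_pow, QuotientGroup.eq_one_iff]
      apply hNK
      rw [← QuotientGroup.eq_one_iff, QuotientGroup.mk_pow]
      exact hk
    have htop : Cfsg.pPrimePCore p G = ⊤ := by
      rw [eq_top_iff]
      intro x _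
      show (QuotientGroup.mk' (Cfsg.pPrimeCore p G)) x ∈ Cfsg.pCore p (G ⧸ Cfsg.pPrimeCore p G)
      have h2 : (⊤ : Subgroup (G ⧸ Cfsg.pPrimeCore p G)) ≤ Cfsg.pCore p (G ⧸ Cfsg.pPrimeCore p G) :=
        Lib.H1Core.le_pCore inferInstance (hpg.to_subgroup _)
      exact h2 (Subgroup.mem_top _)
    have h1 : Nat.card (G ⧸ Cfsg.pPrimePCore p G) = 1 := by
      have := Subgroup.index_top (G := G)
      rw [← htop] at this
      exact this
    rw [h1]
    exact Nat.coprime_one_left _
  · intro hcop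
    apply Lib.PNilp.hasNormalPComplement_of_automizer S
    intro Q hQS g hg hgc
    set L := Cfsg.pPrimePCore p G with hL
    set K := Cfsg.pPrimeCore p G with hK
    let n := orderOf ((g : G ⧸ L))
    have hn1 : n ∣ orderOf g := orderOf_map_dvd (QuotientGroup.mk' L) g
    have hn2 : n ∣ Nat.card (G ⧸ L) := orderOf_dvd_natCard _
    have hnp : n.Coprime p := Nat.Coprime.coprime_dvd_left hn1 hgc
    have hnq : n.Coprime (p ^ 2 - 1) := Nat.Coprime.coprime_dvd_left hn2 hcop
    have hgn : g ^ n ∈ L := by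
      rw [← QuotientGroup.eq_one_iff, QuotientGroup.mk_pow]
      exact pow_orderOf_eq_one _
    have hgnK : g ^ n ∈ K := by
      have h1 : (QuotientGroup.mk' K) (g ^ n) ∈ Cfsg.pCore p (G ⧸ K) := hgn
      have h2 := Lib.H1Core.pCore_isPGroup (G := G ⧸ K) p ⟨_, h1⟩
      obtain ⟨k, hk⟩ := h2
      have h3 : ((QuotientGroup.mk' K) (g ^ n)) ^ p ^ k = 1 := by
        have := congrArg Subtype.val hk
        simpa using this
      have h4 : orderOf ((QuotientGroup.mk' K) (g ^ n)) ∣ p ^ k := orderOf_dvd_of_pow_eq_one h3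
      have h5 : orderOf ((QuotientGroup.mk' K) (g ^ n)) ∣ orderOf (g ^ n) := orderOf_map_dvd _ _
      have h6 : orderOf (g ^ n) ∣ orderOf g := orderOf_pow_dvd _ 
      have h7 : Nat.Coprime (orderOf ((QuotientGroup.mk' K) (g ^ n))) (p ^ k) :=
        Nat.Coprime.pow_right k (Nat.Coprime.coprime_dvd_left (h5.trans h6) hgc)
      have h8 : orderOf ((QuotientGroup.mk' K) (g ^ n)) = 1 := Nat.eq_one_of_dvd_coprimes h7 (dvd_refl _) h4
      have h9 := orderOf_eq_one_iff.mp h8
      exact (QuotientGroup.eq_one_iff _).mp h9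
    have hQp : IsPGroup p Q := S.2.to_le hQS
    have hgnN : g ^ n ∈ Subgroup.normalizer (Q : Set G) := pow_mem hg n
    have hKQ : K ⊓ Q = ⊥ := by
      apply Subgroup.inf_eq_bot_of_coprime
      obtain ⟨m, hm⟩ := IsPGroup.iff_card.mp hQp
      rw [hm]
      exact Nat.Coprime.pow_right m (Lib.H1Core.pPrimeCore_coprime (G := G) p)
    have hgnc : ∀ y ∈ Q, g ^ n * y * (g ^ n)⁻¹ = y := by
      intro y hy
      have h1 : g ^ n * y * (g ^ n)⁻¹ * y⁻¹ ∈ K := by
        have e : g ^ n * y * (g ^ n)⁻¹ * y⁻¹ = g ^ n * (y * (g ^ n)⁻¹ * y⁻¹) := by group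
        rw [e]
        exact mul_mem hgnK (hKn.conj_mem _ (inv_mem hgnK) y)
      have h2 : g ^ n * y * (g ^ n)⁻¹ * y⁻¹ ∈ Q :=
        mul_mem ((Subgroup.mem_normalizer_iff.mp hgnN y).mp hy) (inv_mem hy)
      have h3 : g ^ n * y * (g ^ n)⁻¹ * y⁻¹ ∈ K ⊓ Q := ⟨h1, h2⟩
      rw [hKQ] at h3
      have h4 := Subgroup.mem_bot.mp h3
      exact mul_inv_eq_one.mp h4
    -- action on the Frattini quotient
    let σ : MulAut Q := cq Q g hg
    have hσk : ∀ (k : ℕ) (y : Q), (((σ ^ k) y : Q) : G) = g ^ k * y * (g ^ k)⁻¹ := by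
      intro k
      induction k with
      | zero => intro y; simp
      | succ k ih =>
        intro y
        rw [pow_succ σ, MulAut.mul_apply, ih]
        show g ^ k * (g * y * g⁻¹) * (g ^ k)⁻¹ = _
        rw [pow_succ]
        group
    have hchar : (frattini Q).map (σ : Q →* Q) = frattini Q :=
      (Subgroup.characteristic_iff_map_eq.mp inferInstance) σ
    let β : MulAut (Q ⧸ frattini Q) := QuotientGroup.congr _ _ σ hchar
    have hβk : ∀ (k : ℕ) (y : Q), (β ^ k) (y : Q ⧸ frattini Q) = (((σ ^ k) y : Q) : Q ⧸ frattini Q) := by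
      intro k
      induction k with
      | zero => intro y; rfl
      | succ k ih =>
        intro y
        rw [pow_succ β, pow_succ σ, MulAut.mul_apply, MulAut.mul_apply]
        show (β ^ k) ((σ y : Q) : Q ⧸ frattini Q) = _
        rw [ih]
    have hβn : β ^ n = 1 := by
      ext v
      obtain ⟨y, rfl⟩ := QuotientGroup.mk_surjective v
      rw [hβk]
      have : (σ ^ n) y = y := by
        apply Subtype.ext
        rw [hσk]
        exact hgnc y y.2
      rw [this]
      rfl
    have hβ1 : β = 1 := aut_trivial hp (frattini_card hQp (meta_sub hQS hS)) β hβn hnq hnp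
    have hfr : ∀ (k : ℕ) (y : Q), g ^ k * y * (g ^ k)⁻¹ * (y : G)⁻¹ ∈ (frattini Q).map Q.subtype := by
      intro k y
      have h1 := hβk k y
      rw [hβ1, one_pow] at h1
      have h2 : (y : Q ⧸ frattini Q) = (((σ ^ k) y : Q) : Q ⧸ frattini Q) := h1
      have h3 : ((σ ^ k) y) * y⁻¹ ∈ frattini Q := by
        rw [← QuotientGroup.eq_one_iff, QuotientGroup.mk_mul, QuotientGroup.mk_inv, ← h2]
        group
      refine ⟨_, h3, ?_⟩
      rw [map_mul, map_inv]
      show (((σ ^ k) y : Q) : G) * _ = _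
      rw [hσk]
      rfl
    apply Lib.LQd.centralizes_of_frattini' hQp hgc hg
    rw [Subgroup.commutator_le]
    intro y hy a ha
    obtain ⟨k, rfl⟩ := (Submonoid.mem_powers_iff _ _).mp (mem_powers_iff_mem_zpowers.mpr ha)
    have h1 := hfr k ⟨y, hy⟩
    have e : ⁅y, g ^ k⁆ = (g ^ k * y * (g ^ k)⁻¹ * y⁻¹)⁻¹ := by
      rw [commutatorElement_def]; group
    rw [e]
    exact inv_mem h1

end Cfsg.Agent.S4419
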