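import Cfsg.Statements.S4238
import Mathlib
import Cfsg.Agent.Lib.PNilp
import Cfsg.Agent.Lib.H1Core
import Cfsg.Agent.Lib.H1Cop
import Cfsg.Agent.Lib.CopAb
import Cfsg.Agent.Lib.PGrp2
import Cfsg.Agent.Lib.LQd4
import Cfsg.Agent.S4419
-- import your own Cfsg.Agent.* helpers here

set_option autoImplicit false
open Cfsg

namespace Cfsg.Agent.S4238

open scoped commutatorElement

theorem no_exp {K : Type*} [Group K] [Finite K] {p : ℕ} [Fact p.Prime] (V : Subgroup K) [hVn : V.Normal]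
    (hVab : ∀ a ∈ V, ∀ b ∈ V, a * b = b * a) (hVp : IsPGroup p V) (hV1 : V ≠ ⊥) (b : K)
    (hbc : (orderOf b).Coprime p) (htop : V ⊔ Subgroup.zpowers b = ⊤)
    (hfix : ∀ v ∈ V, b * v * b⁻¹ = v → v = 1)
    (hfaith : ∀ a ∈ Subgroup.zpowers b, (∀ v ∈ V, a * v * a⁻¹ = v) → a = 1) :
    Cfsg.pPrimeCore p K = ⊥ ∧ ∀ k : K, orderOf k ≠ Monoid.exponent K := by
  classical
  have hpp : p.Prime := Fact.out
  have hAV : Subgroup.zpowers b ≤ Subgroup.normalizer (V : Set K) :=
    Subgroup.le_normalizer_iff.mpr (fun a _ k hk => hVn.conj_mem k hk a)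
  have hdec : ∀ x : K, ∃ v ∈ V, ∃ a ∈ Subgroup.zpowers b, v * a = x := fun x =>
    (Lib.H1Cop.mem_sup_iff hAV).mp (htop ▸ Subgroup.mem_top x)
  obtain ⟨n, hn⟩ := IsPGroup.iff_card.mp hVp
  have hdisj : ∀ x, x ∈ V → x ∈ Subgroup.zpowers b → x = 1 := by
    intro x hx hx2
    have h1 : V ⊓ Subgroup.zpowers b = ⊥ := by
      apply Subgroup.inf_eq_bot_of_coprime
      rw [hn, Nat.card_zpowers]
      exact (Nat.Coprime.pow_right n hbc).symm
    have h2 : x ∈ V ⊓ Subgroup.zpowers b := ⟨hx, hx2⟩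
    rw [h1] at h2
    exact Subgroup.mem_bot.mp h2
  constructor
  · rw [eq_bot_iff]
    intro x hx
    rw [Subgroup.mem_bot]
    haveI hXn : (Cfsg.pPrimeCore p K).Normal := inferInstance
    have hinf : Cfsg.pPrimeCore p K ⊓ V = ⊥ := by
      apply Subgroup.inf_eq_bot_of_coprime
      rw [hn]
      exact Nat.Coprime.pow_right n (Lib.H1Core.pPrimeCore_coprime (G := K) p)
    obtain ⟨v, hv, a, ha, rfl⟩ := hdec x
    have hcent : ∀ u ∈ V, (v * a) * u * (v * a)⁻¹ = u := by
      intro u hu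
      have h1 : (v * a) * u * (v * a)⁻¹ * u⁻¹ ∈ Cfsg.pPrimeCore p K := by
        have e : (v * a) * u * (v * a)⁻¹ * u⁻¹ = (v * a) * (u * (v * a)⁻¹ * u⁻¹) := by group
        rw [e]
        exact mul_mem hx (hXn.conj_mem _ (inv_mem hx) u)
      have h2 : (v * a) * u * (v * a)⁻¹ * u⁻¹ ∈ V :=
        mul_mem (hVn.conj_mem u hu _) (inv_mem hu)
      have h3 : (v * a) * u * (v * a)⁻¹ * u⁻¹ ∈ Cfsg.pPrimeCore p K ⊓ V := ⟨h1, h2⟩
      rw [hinf] at h3
      exact mul_inv_eq_one.mp (Subgroup.mem_bot.mp h3)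
    have ha1 : a = 1 := by
      apply hfaith a ha
      intro u hu
      have h1 := hcent u hu
      have h2 : a * u * a⁻¹ ∈ V := hVn.conj_mem u hu a
      have h3 : v * (a * u * a⁻¹) * v⁻¹ = u := by
        calc v * (a * u * a⁻¹) * v⁻¹ = (v * a) * u * (v * a)⁻¹ := by group
          _ = u := h1
      have h4 : v * (a * u * a⁻¹) = (a * u * a⁻¹) * v := hVab _ hv _ h2
      calc a * u * a⁻¹ = (a * u * a⁻¹) * v * v⁻¹ := by group
        _ = v * (a * u * a⁻¹) * v⁻¹ := by rw [h4]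
        _ = u := h3
    subst ha1
    rw [mul_one] at hx ⊢
    have h3 : v ∈ Cfsg.pPrimeCore p K ⊓ V := ⟨hx, hv⟩
    rw [hinf] at h3
    exact Subgroup.mem_bot.mp h3
  · intro k hk
    have hE0 : orderOf k ≠ 0 := (orderOf_pos k).ne'
    have hcard : p ∣ Nat.card V := by
      rw [hn]
      have hn0 : n ≠ 0 := by
        rintro rfl
        rw [pow_zero] at hn
        exact hV1 (Subgroup.eq_bot_of_card_eq V hn)
      exact dvd_pow_self p hn0
    obtain ⟨u, hu⟩ := exists_prime_orderOf_dvd_card' (G := V) p hcard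
    have hpE : p ∣ orderOf k := by
      rw [hk, ← hu, ← Subgroup.orderOf_coe]
      exact Monoid.order_dvd_exponent _
    have hdE : orderOf b ∣ orderOf k := by
      rw [hk]; exact Monoid.order_dvd_exponent _
    set E := orderOf k with hEdef
    have hd0 : orderOf b ≠ 0 := (orderOf_pos b).ne'
    let w := k ^ (E / p)
    let y := k ^ (E / orderOf b)
    have hwo : orderOf w = p := by
      show orderOf (k ^ (E / p)) = p
      rw [orderOf_pow_of_dvd (Nat.ne_of_gt (Nat.div_pos (Nat.le_of_dvd (Nat.pos_of_ne_zero hE0) hpE) hpp.pos))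
        (Nat.div_dvd_of_dvd hpE)]
      exact Nat.div_div_self hpE hE0
    have hyo : orderOf y = orderOf b := by
      show orderOf (k ^ (E / orderOf b)) = orderOf b
      rw [orderOf_pow_of_dvd (Nat.ne_of_gt (Nat.div_pos (Nat.le_of_dvd (Nat.pos_of_ne_zero hE0) hdE) (Nat.pos_of_ne_zero hd0)))
        (Nat.div_dvd_of_dvd hdE)]
      exact Nat.div_div_self hdE hE0
    have hwy : y * w = w * y := by
      show k ^ (E / orderOf b) * k ^ (E / p) = k ^ (E / p) * k ^ (E / orderOf b)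
      rw [← pow_add, ← pow_add, add_comm]
    let ρ : K →* K ⧸ V := QuotientGroup.mk' V
    have hρ : ∀ x, ρ x = 1 ↔ x ∈ V := fun x => QuotientGroup.eq_one_iff x
    have hρdec : ∀ v ∈ V, ∀ a, ρ (v * a) = ρ a := by
      intro v hv a
      rw [map_mul, (hρ v).mpr hv, one_mul]
    -- `w` lies in `V`
    have hwV : w ∈ V := by
      obtain ⟨v, hv, a, ha, hva⟩ := hdec w
      have h1 : (ρ a) ^ p = 1 := by
        rw [← hρdec v hv, hva, ← map_pow]
        have : w ^ p = 1 := by rw [← hwo]; exact pow_orderOf_eq_one w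
        rw [this, map_one]
      rw [← map_pow, hρ] at h1
      have h2 : a ^ p = 1 := hdisj _ h1 (pow_mem ha p)
      have h3 : orderOf a ∣ p := orderOf_dvd_of_pow_eq_one h2
      have h4 : orderOf a ∣ orderOf b := orderOf_dvd_of_mem_zpowers ha
      have h5 : orderOf a = 1 := Nat.eq_one_of_dvd_coprimes hbc h4 h3
      have h6 : a = 1 := orderOf_eq_one_iff.mp h5
      rw [← hva, h6, mul_one]
      exact hv
    obtain ⟨v₁, hv₁, a₁, ha₁, hva₁⟩ := hdec y
    -- `a₁` generates
    have ht : orderOf a₁ = orderOf b := by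
      apply Nat.dvd_antisymm (orderOf_dvd_of_mem_zpowers ha₁)
      have h1 : y ^ orderOf a₁ ∈ V := by
        rw [← hρ, map_pow, ← hva₁, hρdec v₁ hv₁, ← map_pow, pow_orderOf_eq_one, map_one]
      have h2 : y ^ orderOf a₁ = 1 := by
        obtain ⟨m, hm⟩ := (IsPGroup.iff_orderOf.mp hVp) ⟨_, h1⟩
        have hm' : orderOf (y ^ orderOf a₁) = p ^ m := by simpa [Subgroup.orderOf_mk] using hm
        have h3 : orderOf (y ^ orderOf a₁) ∣ orderOf b := hyo ▸ orderOf_pow_dvd _
        have h4 : orderOf (y ^ orderOf a₁) = 1 :=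
          Nat.eq_one_of_dvd_coprimes (Nat.Coprime.pow_right m hbc) h3 (hm' ▸ dvd_refl _)
        exact orderOf_eq_one_iff.mp h4
      rw [← hyo]
      exact orderOf_dvd_of_pow_eq_one h2
    have hzz : Subgroup.zpowers a₁ = Subgroup.zpowers b := by
      apply Subgroup.eq_of_le_of_card_ge (Subgroup.zpowers_le.mpr ha₁)
      rw [Nat.card_zpowers, Nat.card_zpowers, ht]
    have hb : b ∈ Subgroup.zpowers a₁ := hzz ▸ Subgroup.mem_zpowers b
    -- `a₁` fixes `w`
    have hfixa : a₁ * w * a₁⁻¹ = w := by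
      have h1 : y * w * y⁻¹ = w := by rw [hwy]; group
      rw [← hva₁] at h1
      have h2 : a₁ * w * a₁⁻¹ ∈ V := hVn.conj_mem w hwV a₁
      have h3 : v₁ * (a₁ * w * a₁⁻¹) * v₁⁻¹ = w := by
        calc v₁ * (a₁ * w * a₁⁻¹) * v₁⁻¹ = (v₁ * a₁) * w * (v₁ * a₁)⁻¹ := by group
          _ = w := h1
      have h4 : v₁ * (a₁ * w * a₁⁻¹) = (a₁ * w * a₁⁻¹) * v₁ := hVab _ hv₁ _ h2
      calc a₁ * w * a₁⁻¹ = (a₁ * w * a₁⁻¹) * v₁ * v₁⁻¹ := by group
        _ = v₁ * (a₁ * w * a₁⁻¹) * v₁⁻¹ := by rw [h4]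
        _ = w := h3
    obtain ⟨i, hi⟩ := hb
    have hi' : a₁ ^ i = b := hi
    have hcomm : Commute a₁ w := by
      show a₁ * w = w * a₁
      calc a₁ * w = a₁ * w * a₁⁻¹ * a₁ := by group
        _ = w * a₁ := by rw [hfixa]
    have h5 : b * w * b⁻¹ = w := by
      rw [← hi']
      have := (hcomm.zpow_left i).eq
      rw [this]; group
    have h6 := hfix w hwV h5
    rw [h6, orderOf_one] at hwo
    exact hpp.one_lt.ne hwo

theorem exists_exp {K : Type*} [Group K] [Finite K] {p : ℕ} [Fact p.Prime] (hK : IsPGroup p K) :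
    ∃ k : K, orderOf k = Monoid.exponent K := by
  classical
  have hpp : p.Prime := Fact.out
  obtain ⟨x, -, hx⟩ := Set.exists_max_image (Set.univ : Set K) (fun y => orderOf y) Set.finite_univ ⟨1, Set.mem_univ _⟩
  refine ⟨x, Nat.dvd_antisymm (Monoid.order_dvd_exponent x) ?_⟩
  apply Monoid.exponent_dvd_of_forall_pow_eq_one
  intro y
  rw [← orderOf_dvd_iff_pow_eq_one]
  obtain ⟨a, ha⟩ := IsPGroup.iff_orderOf.mp hK y
  obtain ⟨b, hb⟩ := IsPGroup.iff_orderOf.mp hK x
  have h1 := hx y (Set.mem_univ _)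
  rw [ha, hb] at h1 ⊢
  exact pow_dvd_pow p ((Nat.pow_le_pow_iff_right hpp.one_lt).mp h1)

/-- Let G be a finite group and p a prime. Then G has a normal p-complement if and only if every section K = H/N of G (N a normal subgroup of a subgroup H) whose largest normal subgroup of order prime to p is trivial contains an element whose order equals the exponent of K. -/
theorem result {G : Type*} [Group G] [Finite G] (p : ℕ) [Fact p.Prime] :
    Cfsg.HasNormalPComplement p G ↔
      ∀ (H : Subgroup G) (N : Subgroup H) [N.Normal], Cfsg.pPrimeCore p (H ⧸ N) = ⊥ →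
        ∃ k : H ⧸ N, orderOf k = Monoid.exponent (H ⧸ N) := by
  classical
  have hpp : p.Prime := Fact.out
  constructor
  · intro h H N _ hO
    apply exists_exp (p := p)
    obtain ⟨N₂, hN₂, hN₂c, hN₂p⟩ := Lib.PNilp.hasNormalPComplement_iff.mp (Lib.PNilp.hasNormalPComplement_of_subgroup h H)
    have hM : (N₂.map (QuotientGroup.mk' N)).Normal := Subgroup.Normal.map hN₂ _ (QuotientGroup.mk'_surjective N)
    have hMc : (Nat.card (N₂.map (QuotientGroup.mk' N))).Coprime p :=
      Nat.Coprime.coprime_dvd_left (Subgroup.card_map_dvd _ _) hN₂c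
    have hle := Lib.H1Core.le_pPrimeCore hM hMc
    rw [hO] at hle
    intro x
    obtain ⟨x, rfl⟩ := QuotientGroup.mk_surjective x
    obtain ⟨k, hk⟩ := hN₂p (x : H ⧸ N₂)
    refine ⟨k, ?_⟩
    have h1 : x ^ p ^ k ∈ N₂ := by
      rw [← QuotientGroup.eq_one_iff, QuotientGroup.mk_pow]
      exact hk
    have h2 : (QuotientGroup.mk' N) (x ^ p ^ k) ∈ (⊥ : Subgroup (H ⧸ N)) := hle ⟨_, h1, rfl⟩
    rw [Subgroup.mem_bot, map_pow] at h2
    exact h2
  · intro hall
    apply Lib.PNilp.hasNormalPComplement_of_automizer (Sylow.nonempty.some : Sylow p G)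
    intro Q hQ g hg hgc
    by_contra hnc
    have hQp : IsPGroup p Q := (Sylow.nonempty.some : Sylow p G).2.to_le hQ
    let A : Subgroup G := Subgroup.zpowers g
    have hAQ : A ≤ Subgroup.normalizer (Q : Set G) := Subgroup.zpowers_le.mpr hg
    have hAcomm : ∀ a ∈ A, ∀ b ∈ A, a * b = b * a := by
      rintro _ ⟨i, rfl⟩ _ ⟨j, rfl⟩
      exact (Commute.zpow_zpow (Commute.refl g) i j).eq
    have hcopQ : (Nat.card A).Coprime (Nat.card Q) := by
      obtain ⟨n, hn⟩ := IsPGroup.iff_card.mp hQp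
      rw [hn, Nat.card_zpowers]
      exact Nat.Coprime.pow_right n hgc
    have hsA : Group.IsSolvable A := inferInstance
    let R : Subgroup G := ⁅Q, A⁆
    have hRQ : R ≤ Q := Lib.H1Cop.commutator_le_left hAQ
    have hAR : A ≤ Subgroup.normalizer (R : Set G) := Lib.H1Cop.commutator_normalized_right Q A
    have hRR : ⁅R, A⁆ = R := Lib.H1Cop.commutator_commutator_eq hAQ hcopQ (Or.inl hsA)
    have hRp : IsPGroup p R := hQp.to_le hRQ
    obtain ⟨n, hn⟩ := IsPGroup.iff_card.mp hRp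
    have hcopR : (Nat.card A).Coprime (Nat.card R) := Nat.Coprime.coprime_dvd_right (Subgroup.card_dvd_of_le hRQ) hcopQ
    have hRne : R ≠ ⊥ := by
      intro hbot
      apply hnc
      have h1 := Lib.H1Cop.commutator_sup_centralizer hAQ hcopQ (Or.inl hsA)
      have h2 : ⁅Q, A⁆ = ⊥ := hbot
      rw [h2, bot_sup_eq] at h1
      rw [Subgroup.mem_centralizer_iff]
      intro y hy
      rw [← h1] at hy
      exact (Subgroup.mem_centralizer_iff.mp hy.2 g (Subgroup.mem_zpowers g)).symm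
    -- the Frattini subgroup of `R`
    let F : Subgroup G := (frattini R).map R.subtype
    have hFR : F ≤ R := Subgroup.map_subtype_le _
    have hFmem : ∀ r : R, (r : G) ∈ F ↔ r ∈ frattini R := by
      intro r
      constructor
      · rintro ⟨s, hs, hsr⟩
        have : s = r := Subtype.ext hsr
        rwa [← this]
      · intro h
        exact ⟨r, h, rfl⟩
    have hFA : ∀ a ∈ A, ∀ f ∈ F, a * f * a⁻¹ ∈ F := by
      rintro a ha _ ⟨f₀, hf₀, rfl⟩
      have hchar : (frattini R).map ((S4419.cq R a (hAR ha) : MulAut R) : R →* R) = frattini R :=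
        (Subgroup.characteristic_iff_map_eq.mp inferInstance) _
      have h1 : (S4419.cq R a (hAR ha) f₀) ∈ frattini R := by
        rw [← hchar]
        exact ⟨f₀, hf₀, rfl⟩
      exact (hFmem _).mpr h1
    have hFRn : ∀ r ∈ R, ∀ f ∈ F, r * f * r⁻¹ ∈ F := by
      rintro r hr _ ⟨f₀, hf₀, rfl⟩
      have h1 : (⟨r, hr⟩ : R) * f₀ * (⟨r, hr⟩ : R)⁻¹ ∈ frattini R :=
        (inferInstance : (frattini R).Normal).conj_mem f₀ hf₀ _
      exact (hFmem _).mpr h1
    have hcommF : ∀ r ∈ R, ∀ s ∈ R, r * s * r⁻¹ * s⁻¹ ∈ F := by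
      intro r hr s hs
      have h1 : ⁅(⟨r, hr⟩ : R), (⟨s, hs⟩ : R)⁆ ∈ frattini R :=
        Lib.PGrp.commutator_le_frattini hRp (Subgroup.commutator_mem_commutator (Subgroup.mem_top _) (Subgroup.mem_top _))
      have := (hFmem _).mpr h1
      simpa [commutatorElement_def] using this
    have hFne : ∃ r ∈ R, r ∉ F := by
      by_contra hall'
      push_neg at hall'
      have h1 : frattini R = ⊤ := by
        rw [eq_top_iff]
        intro r _
        exact (hFmem r).mp (hall' r r.2)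
      have h2 : (⊥ : Subgroup R) ⊔ frattini R = ⊤ := by rw [h1]; simp
      have h3 : (⊥ : Subgroup R) = ⊤ := frattini_nongenerating h2
      apply hRne
      rw [eq_bot_iff]
      intro x hx
      have h4 : (⟨x, hx⟩ : R) ∈ (⊥ : Subgroup R) := h3 ▸ Subgroup.mem_top _
      exact Subgroup.mem_bot.mpr (congrArg Subtype.val (Subgroup.mem_bot.mp h4))
    have hdisjRA : ∀ x, x ∈ R → x ∈ A → x = 1 := by
      intro x hx hx2
      have h1 : A ⊓ R = ⊥ := Subgroup.inf_eq_bot_of_coprime hcopR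
      have h2 : x ∈ A ⊓ R := ⟨hx2, hx⟩
      rw [h1] at h2
      exact Subgroup.mem_bot.mp h2
    -- the kernel
    let A₀ : Subgroup G := A ⊓ Subgroup.centralizer (R : Set G)
    have hA₀A : A₀ ≤ A := inf_le_left
    have hA₀F : A₀ ≤ Subgroup.normalizer (F : Set G) :=
      Subgroup.le_normalizer_iff.mpr (fun a ha f hf => hFA a ha.1 f hf)
    let N : Subgroup G := F ⊔ A₀
    have hNmem : ∀ x, x ∈ N ↔ ∃ f ∈ F, ∃ a ∈ A₀, f * a = x := fun x => Lib.H1Cop.mem_sup_iff hA₀F
    have hNR : ∀ x, x ∈ N → x ∈ R → x ∈ F := by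
      intro x hx hxR
      obtain ⟨f, hf, a, ha, rfl⟩ := (hNmem x).mp hx
      have h1 : a ∈ R := by
        have := mul_mem (inv_mem (hFR hf)) hxR
        simpa using this
      rw [hdisjRA a h1 ha.1, mul_one]
      exact hf
    let H : Subgroup G := R ⊔ A
    have hRH : R ≤ H := le_sup_left
    have hAH : A ≤ H := le_sup_right
    have hNH : N ≤ H := sup_le (hFR.trans hRH) (hA₀A.trans hAH)
    have hHN : H ≤ Subgroup.normalizer (N : Set G) := by
      refine sup_le ?_ ?_
      · rw [Subgroup.le_normalizer_iff]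
        intro r hr x hx
        obtain ⟨f, hf, a, ha, rfl⟩ := (hNmem x).mp hx
        have h1 : r * a = a * r := (Subgroup.mem_centralizer_iff.mp ha.2 r hr)
        have h2 : r * (f * a) * r⁻¹ = (r * f * r⁻¹) * (r * a * r⁻¹) := by group
        have h3 : r * a * r⁻¹ = a := by rw [h1]; group
        rw [h2, h3]
        exact (hNmem _).mpr ⟨_, hFRn r hr f hf, a, ha, rfl⟩
      · rw [Subgroup.le_normalizer_iff]
        intro b hb x hx
        obtain ⟨f, hf, a, ha, rfl⟩ := (hNmem x).mp hx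
        have h1 : b * a = a * b := hAcomm b hb a ha.1
        have h2 : b * (f * a) * b⁻¹ = (b * f * b⁻¹) * (b * a * b⁻¹) := by group
        have h3 : b * a * b⁻¹ = a := by rw [h1]; group
        rw [h2, h3]
        exact (hNmem _).mpr ⟨_, hFA b hb f hf, a, ha, rfl⟩
    haveI hN₁ : (N.subgroupOf H).Normal :=
      (Subgroup.normal_subgroupOf_iff_le_normalizer hNH).mpr hHN
    let π : H →* H ⧸ N.subgroupOf H := QuotientGroup.mk' _
    have hπs : Function.Surjective π := QuotientGroup.mk'_surjective _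
    have hπ : ∀ x : H, π x = 1 ↔ (x : G) ∈ N := by
      intro x
      have : π x = 1 ↔ x ∈ N.subgroupOf H := QuotientGroup.eq_one_iff x
      rw [this, Subgroup.mem_subgroupOf]
    let ιR : R → H := fun r => ⟨r, hRH r.2⟩
    let V : Subgroup (H ⧸ N.subgroupOf H) := (R.subgroupOf H).map π
    haveI hRHn : (R.subgroupOf H).Normal := Lib.H1Cop.normal_subgroupOf_sup hAR
    haveI hVn : V.Normal := Subgroup.Normal.map hRHn π hπs
    let g' : H := ⟨g, hAH (Subgroup.mem_zpowers g)⟩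
    let b : H ⧸ N.subgroupOf H := π g'
    have hbpow : ∀ i : ℤ, ∃ h : (g ^ i) ∈ H, b ^ i = π ⟨g ^ i, h⟩ := by
      intro i
      refine ⟨hAH (zpow_mem (Subgroup.mem_zpowers g) i), ?_⟩
      show (π g') ^ i = _
      rw [← map_zpow]
      rfl
    have hVab : ∀ a ∈ V, ∀ c ∈ V, a * c = c * a := by
      rintro _ ⟨r, hr, rfl⟩ _ ⟨s, hs, rfl⟩
      have hr' : (r : G) ∈ R := Subgroup.mem_subgroupOf.mp hr
      have hs' : (s : G) ∈ R := Subgroup.mem_subgroupOf.mp hs
      have h1 : π (r * s * r⁻¹ * s⁻¹) = 1 := by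
        rw [hπ]
        exact Subgroup.mem_sup_left (hcommF _ hr' _ hs')
      rw [map_mul, map_mul, map_mul, map_inv, map_inv] at h1
      have h2 : π r * π s = π s * π r := by
        have h3 : π r * π s = (π r * π s * (π r)⁻¹ * (π s)⁻¹) * (π s * π r) := by group
        rw [h3, h1, one_mul]
      exact h2
    have hVp : IsPGroup p V := by
      rintro ⟨_, r, hr, rfl⟩
      have hr' : (r : G) ∈ R := Subgroup.mem_subgroupOf.mp hr
      obtain ⟨k, hk⟩ := hRp ⟨r, hr'⟩
      refine ⟨k, ?_⟩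
      apply Subtype.ext
      show π r ^ p ^ k = 1
      rw [← map_pow, hπ]
      have h1 : ((r : G)) ^ p ^ k = 1 := by
        have := congrArg Subtype.val hk
        simpa using this
      show ((r : G)) ^ p ^ k ∈ N
      rw [h1]
      exact one_mem _
    have hV1 : V ≠ ⊥ := by
      obtain ⟨r, hr, hrF⟩ := hFne
      intro hbot
      have h1 : π ⟨r, hRH hr⟩ ∈ V := ⟨⟨r, hRH hr⟩, Subgroup.mem_subgroupOf.mpr hr, rfl⟩
      rw [hbot, Subgroup.mem_bot, hπ] at h1
      exact hrF (hNR r h1 hr)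
    have hbc : (orderOf b).Coprime p := by
      have h1 : orderOf b ∣ orderOf g' := orderOf_map_dvd π g'
      have h2 : orderOf g' = orderOf g := by
        rw [← Subgroup.orderOf_coe]
      rw [h2] at h1
      exact Nat.Coprime.coprime_dvd_left h1 hgc
    have htop : V ⊔ Subgroup.zpowers b = ⊤ := by
      rw [eq_top_iff]
      intro x _
      obtain ⟨h, rfl⟩ := hπs x
      obtain ⟨r, hr, a, ha, hra⟩ := (Lib.H1Cop.mem_sup_iff hAR).mp h.2
      obtain ⟨i, hi⟩ := ha
      have hi' : g ^ i = a := hi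
      obtain ⟨hh, hbi⟩ := hbpow i
      have e : h = ⟨r, hRH hr⟩ * ⟨g ^ i, hh⟩ := by
        apply Subtype.ext
        show (h : G) = r * g ^ i
        rw [hi', hra]
      rw [e, map_mul]
      apply Subgroup.mul_mem_sup
      · exact ⟨⟨r, hRH hr⟩, Subgroup.mem_subgroupOf.mpr hr, rfl⟩
      · rw [← hbi]
        exact zpow_mem (Subgroup.mem_zpowers b) i
    have hzbV : Subgroup.zpowers b ≤ Subgroup.normalizer (V : Set _) :=
      Subgroup.le_normalizer_iff.mpr (fun a _ k hk => hVn.conj_mem k hk a)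
    have hcopV : (Nat.card (Subgroup.zpowers b)).Coprime (Nat.card V) := by
      obtain ⟨m, hm⟩ := IsPGroup.iff_card.mp hVp
      rw [hm, Nat.card_zpowers]
      exact Nat.Coprime.pow_right m hbc
    have hVcomm : V ≤ ⁅V, Subgroup.zpowers b⁆ := by
      rintro _ ⟨r, hr, rfl⟩
      have hr' : (r : G) ∈ R := Subgroup.mem_subgroupOf.mp hr
      have h1 : ⁅R, A⁆ ≤ ((⁅V, Subgroup.zpowers b⁆).comap π).map H.subtype := by
        rw [Subgroup.commutator_le]
        intro s hs a ha
        have hs2 : s ∈ H := hRH hs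
        have ha2 : a ∈ H := hAH ha
        refine ⟨⁅(⟨s, hs2⟩ : H), (⟨a, ha2⟩ : H)⁆, ?_, by simp [commutatorElement_def]⟩
        show π ⁅(⟨s, hs2⟩ : H), (⟨a, ha2⟩ : H)⁆ ∈ ⁅V, Subgroup.zpowers b⁆
        rw [map_commutatorElement]
        apply Subgroup.commutator_mem_commutator
        · exact ⟨⟨s, hs2⟩, Subgroup.mem_subgroupOf.mpr hs, rfl⟩
        · obtain ⟨i, hi⟩ := ha
          have hi' : g ^ i = a := hi
          obtain ⟨hh, hbi⟩ := hbpow i
          have e : (⟨a, ha2⟩ : H) = ⟨g ^ i, hh⟩ := Subtype.ext hi'.symm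
          rw [e, ← hbi]
          exact zpow_mem (Subgroup.mem_zpowers b) i
      rw [hRR] at h1
      obtain ⟨r₂, hr₂, hr₂e⟩ := h1 hr'
      have : r₂ = r := Subtype.ext hr₂e
      rw [← this]
      exact hr₂
    have hfix : ∀ v ∈ V, b * v * b⁻¹ = v → v = 1 := by
      intro v hv hbv
      apply Lib.CopAb.commutator_inf_fixed hzbV hVab hcopV (hVcomm hv)
      rintro _ ⟨i, rfl⟩
      have hc : Commute b v := by
        show b * v = v * b
        calc b * v = b * v * b⁻¹ * b := by group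
          _ = v * b := by rw [hbv]
      have := (hc.zpow_left i).eq
      show b ^ i * v * (b ^ i)⁻¹ = v
      rw [this]; group
    have hfaith : ∀ a ∈ Subgroup.zpowers b, (∀ v ∈ V, a * v * a⁻¹ = v) → a = 1 := by
      rintro _ ⟨i, rfl⟩ hfa
      show b ^ i = 1
      obtain ⟨hh, hbi⟩ := hbpow i
      rw [hbi, hπ]
      show g ^ i ∈ N
      have hai : g ^ i ∈ A := zpow_mem (Subgroup.mem_zpowers g) i
      have hstep : ∀ r ∈ R, g ^ i * r * (g ^ i)⁻¹ * r⁻¹ ∈ F := by
        intro r hr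
        have h1 := hfa (π ⟨r, hRH hr⟩) ⟨⟨r, hRH hr⟩, Subgroup.mem_subgroupOf.mpr hr, rfl⟩
        have h1' : b ^ i * π ⟨r, hRH hr⟩ * (b ^ i)⁻¹ = π ⟨r, hRH hr⟩ := h1
        rw [hbi, ← map_inv, ← map_mul, ← map_mul] at h1'
        have h2 : π ((⟨g ^ i, hh⟩ * ⟨r, hRH hr⟩ * (⟨g ^ i, hh⟩ : H)⁻¹) * (⟨r, hRH hr⟩ : H)⁻¹) = 1 := by
          rw [map_mul, h1', map_inv]; group
        rw [hπ] at h2
        apply hNR _ h2
        exact mul_mem (Subgroup.le_normalizer_iff.mp hAR _ hai r hr) (inv_mem hr)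
      have hpowstep : ∀ (j : ℕ), ∀ r ∈ R, (g ^ i) ^ j * r * ((g ^ i) ^ j)⁻¹ * r⁻¹ ∈ F := by
        intro j
        induction j with
        | zero => intro r _; simp [one_mem]
        | succ j ih =>
          intro r hr
          have h3 := hFA _ hai _ (ih r hr)
          have h4 := hstep r hr
          have e : (g ^ i) ^ (j + 1) * r * ((g ^ i) ^ (j + 1))⁻¹ * r⁻¹ =
              (g ^ i * ((g ^ i) ^ j * r * ((g ^ i) ^ j)⁻¹ * r⁻¹) * (g ^ i)⁻¹) * (g ^ i * r * (g ^ i)⁻¹ * r⁻¹) := by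
            rw [pow_succ']; group
          rw [e]
          exact mul_mem h3 h4
      have hcent : g ^ i ∈ Subgroup.centralizer (R : Set G) := by
        have hoc : (orderOf (g ^ i)).Coprime p :=
          Nat.Coprime.coprime_dvd_left (orderOf_dvd_of_mem_zpowers hai) hgc
        apply Lib.LQd.centralizes_of_frattini' hRp hoc (hAR hai)
        rw [Subgroup.commutator_le]
        intro r hr a ha
        obtain ⟨j, rfl⟩ := (Submonoid.mem_powers_iff _ _).mp (mem_powers_iff_mem_zpowers.mpr ha)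
        have h1 := hpowstep j r hr
        have e : ⁅r, (g ^ i) ^ j⁆ = ((g ^ i) ^ j * r * ((g ^ i) ^ j)⁻¹ * r⁻¹)⁻¹ := by
          rw [commutatorElement_def]; group
        rw [e]
        exact inv_mem h1
      exact Subgroup.mem_sup_right ⟨hai, hcent⟩
    obtain ⟨hO, hno⟩ := no_exp V hVab hVp hV1 b hbc htop hfix hfaith
    obtain ⟨k, hk⟩ := hall H (N.subgroupOf H) hO
    exact hno k hk

end Cfsg.Agent.S4238
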