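import Cfsg.Statements.S4347
import Mathlib
import Cfsg.Agent.Lib.FGSBasic
-- import your own Cfsg.Agent.* helpers here

set_option autoImplicit false
open Cfsg

namespace Cfsg.Agent.S4347

/-- Let G be a finite group and p a prime. Say a Sylow p-subgroup Q is redundant when every element of p-power order lies in some Sylow p-subgroup other than Q. Then G has no redundant Sylow p-subgroup if and only if some element of p-power order lies in exactly one Sylow p-subgroup. -/
theorem result {G : Type*} [Group G] [Finite G]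
    (p : ℕ) [Fact p.Prime] :
    (¬ ∃ Q : Sylow p G, ∀ x : G, (∃ k : ℕ, orderOf x = p ^ k) → ∃ P : Sylow p G, P ≠ Q ∧ x ∈ P) ↔
      ∃ x : G, (∃ k : ℕ, orderOf x = p ^ k) ∧ ∃! P : Sylow p G, x ∈ P := by
  classical
  have hp : p.Prime := Fact.out
  -- every p-element lies in a Sylow
  have hex : ∀ x : G, (∃ k : ℕ, orderOf x = p ^ k) → ∃ P : Sylow p G, x ∈ P := by
    intro x ⟨k, hk⟩
    have hz : IsPGroup p (Subgroup.zpowers x) := by
      rw [IsPGroup.iff_card, Nat.card_zpowers]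
      exact ⟨k, hk⟩
    obtain ⟨Q, hQ⟩ := hz.exists_le_sylow
    exact ⟨Q, hQ (Subgroup.mem_zpowers x)⟩
  constructor
  · intro h
    push_neg at h
    obtain ⟨Q⟩ : Nonempty (Sylow p G) := inferInstance
    obtain ⟨x, hx, hxQ⟩ := h Q
    refine ⟨x, hx, ?_⟩
    obtain ⟨P, hP⟩ := hex x hx
    have hPQ : P = Q := by
      by_contra hne
      exact hxQ P hne hP
    subst hPQ
    refine ⟨P, hP, ?_⟩
    intro R hR
    by_contra hne
    exact hxQ R hne hR
  · rintro ⟨x, hx, P₀, hP₀, huniq⟩ ⟨Q, hQ⟩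
    obtain ⟨g, hg⟩ := MulAction.exists_smul_eq G P₀ Q
    set y := g * x * g⁻¹ with hy
    have hyo : ∃ k : ℕ, orderOf y = p ^ k := by
      obtain ⟨k, hk⟩ := hx
      exact ⟨k, by rw [hy, Cfsg.Agent.Lib.FGSBasic.orderOf_conj, hk]⟩
    obtain ⟨P, hPQ, hyP⟩ := hQ y hyo
    have hxP : x ∈ g⁻¹ • P := by
      have h1 := (Cfsg.Agent.Lib.FGSBasic.mem_smul_sylow_iff P g⁻¹ x).mpr
      apply h1
      have : g⁻¹⁻¹ * x * g⁻¹ = y := by rw [hy]; group
      rw [this]; exact hyP
    have h2 := huniq _ hxP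
    apply hPQ
    rw [← hg, ← h2]
    simp

end Cfsg.Agent.S4347
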