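import Cfsg.Statements.S4348
import Mathlib
import Cfsg.Agent.Lib.FGSBasic
import Cfsg.Agent.Lib.H1Core
-- import your own Cfsg.Agent.* helpers here

set_option autoImplicit false
open Cfsg

namespace Cfsg.Agent.S4348

/-- Let G be a finite group, p a prime and P a Sylow p-subgroup of G, and let O_p(G) be the largest normal p-subgroup of G. If P/O_p(G) is cyclic, then some element of p-power order of G lies in exactly one Sylow p-subgroup. -/
theorem result {G : Type*} [Group G] [Finite G]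
    (p : ℕ) [Fact p.Prime] (P : Sylow p G)
    [hn : ((Cfsg.pCore p G).subgroupOf (P : Subgroup G)).Normal]
    (hc : IsCyclic ((P : Subgroup G) ⧸ (Cfsg.pCore p G).subgroupOf (P : Subgroup G))) :
    ∃ x : G, (∃ k : ℕ, orderOf x = p ^ k) ∧ ∃! Q : Sylow p G, x ∈ Q := by
  classical
  obtain ⟨g, hg⟩ := IsCyclic.exists_generator (α := (P : Subgroup G) ⧸ (Cfsg.pCore p G).subgroupOf (P : Subgroup G))
  obtain ⟨x, rfl⟩ := QuotientGroup.mk_surjective g
  refine ⟨x, Cfsg.Agent.Lib.FGSBasic.orderOf_of_mem_sylow P x.2, P, x.2, ?_⟩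
  intro Q hxQ
  have hO : Cfsg.pCore p G ≤ (Q : Subgroup G) := Cfsg.Agent.Lib.H1Core.pCore_le_sylow p Q
  have hle : (P : Subgroup G) ≤ (Q : Subgroup G) := by
    intro a ha
    obtain ⟨k, hk⟩ := Subgroup.mem_zpowers_iff.mp (hg ((⟨a, ha⟩ : (P : Subgroup G)) : (P : Subgroup G) ⧸ (Cfsg.pCore p G).subgroupOf (P : Subgroup G)))
    rw [← QuotientGroup.mk_zpow, QuotientGroup.eq, Subgroup.mem_subgroupOf] at hk
    have h1 := hO hk
    have h2 : ((x ^ k : (P : Subgroup G)) : G) ∈ (Q : Subgroup G) := by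
      rw [Subgroup.coe_zpow]
      exact zpow_mem hxQ k
    have h3 := mul_mem h2 h1
    simpa using h3
  exact Sylow.ext (P.3 Q.2 hle)

end Cfsg.Agent.S4348
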