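import Cfsg.Statements.S4403
import Mathlib
import Cfsg.Agent.Lib.PNilp
import Cfsg.Agent.Lib.H1Core
import Cfsg.Agent.Lib.H1FC
import Cfsg.Agent.Lib.Comp
import Cfsg.Agent.Lib.Comp2
import Cfsg.Agent.Lib.FGS4
import Cfsg.Agent.S3985
import Cfsg.Agent.S4145
-- import your own Cfsg.Agent.* helpers here

set_option autoImplicit false
open Cfsg

namespace Cfsg.Agent.S4403

theorem cent_eq {K : Type*} [Group K] [Finite K] (p : ℕ) [Fact p.Prime] (hO : Cfsg.pPrimeCore p K = ⊥)
    (P : Sylow p K) (hP : IsCyclic ↥(P : Subgroup K)) (z : K) (hzP : z ∈ (P : Subgroup K)) (hzo : orderOf z = p)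
    (hzn : (Subgroup.zpowers z).Normal) :
    Subgroup.centralizer (Subgroup.zpowers z : Set K) = (P : Subgroup K) := by
  classical
  have hpp : p.Prime := Fact.out
  have hPcomm : ∀ a ∈ (P : Subgroup K), ∀ b ∈ (P : Subgroup K), a * b = b * a := by
    intro a ha b hb
    letI := IsCyclic.commGroup (α := (P : Subgroup K))
    exact congrArg Subtype.val (mul_comm (⟨a, ha⟩ : (P : Subgroup K)) ⟨b, hb⟩)
  have hzP' : Subgroup.zpowers z ≤ (P : Subgroup K) := Subgroup.zpowers_le.mpr hzP
  let M : Subgroup K := Subgroup.centralizer (Subgroup.zpowers z : Set K)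
  haveI hMn : M.Normal := inferInstance
  have hPM : (P : Subgroup K) ≤ M := by
    intro x hx
    rw [Subgroup.mem_centralizer_iff]
    intro y hy
    exact hPcomm y (hzP' hy) x hx
  have hMp : Cfsg.HasNormalPComplement p M := by
    apply Lib.PNilp.hasNormalPComplement_of_automizer (P.subtype hPM)
    intro Q hQP g hg hgc
    rw [Subgroup.mem_centralizer_iff]
    intro y hy
    let Q₁ : Subgroup K := Q.map M.subtype
    have hQ₁P : Q₁ ≤ (P : Subgroup K) := by
      rintro _ ⟨q, hq, rfl⟩
      have := hQP hq
      rw [Sylow.coe_subtype, Subgroup.mem_subgroupOf] at this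
      exact this
    haveI hQ₁c : IsCyclic Q₁ := isCyclic_of_injective (Subgroup.inclusion hQ₁P) (Subgroup.inclusion_injective hQ₁P)
    obtain ⟨⟨z₁, hz₁Q⟩, hz₁⟩ := hQ₁c
    have hQ₁z : ∀ q ∈ Q₁, q ∈ Subgroup.zpowers z₁ := by
      intro q hq
      obtain ⟨i, hi⟩ := hz₁ ⟨q, hq⟩
      refine ⟨i, ?_⟩
      have := congrArg Subtype.val hi
      simpa using this
    have hgnorm : ∀ q ∈ Q₁, (g : K) * q * (g : K)⁻¹ ∈ Q₁ := by
      rintro _ ⟨q, hq, rfl⟩
      exact ⟨g * q * g⁻¹, (Subgroup.mem_normalizer_iff.mp hg q).mp hq, rfl⟩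
    have hcomm : (g : K) * z₁ = z₁ * (g : K) := by
      by_cases hz₁1 : z₁ = 1
      · rw [hz₁1]; simp
      obtain ⟨e, he⟩ := (IsPGroup.iff_orderOf.mp (P.2.to_le hQ₁P)) ⟨z₁, hz₁Q⟩
      have hzo' : orderOf z₁ = p ^ e := by simpa [Subgroup.orderOf_mk] using he
      have he0 : e ≠ 0 := by
        intro h0
        rw [h0, pow_zero] at hzo'
        exact hz₁1 (orderOf_eq_one_iff.mp hzo')
      obtain ⟨e', rfl⟩ : ∃ e', e = e' + 1 := ⟨e - 1, by omega⟩
      let x := z₁ ^ p ^ e'
      have hxo : orderOf x = p := by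
        show orderOf (z₁ ^ p ^ e') = p
        rw [orderOf_pow_of_dvd (pow_ne_zero _ hpp.ne_zero) (by rw [hzo']; exact pow_dvd_pow p (Nat.le_succ e')), hzo', pow_succ,
          Nat.mul_div_cancel_left _ (pow_pos hpp.pos e')]
      have hxQ : x ∈ Q₁ := pow_mem hz₁Q _
      have hxp : x ^ p = 1 := by rw [← hxo]; exact pow_orderOf_eq_one x
      have hxz : x ∈ Subgroup.zpowers z := Lib.H1FC.mem_zpowers_of_cyclic hP hpp hzP (hQ₁P hxQ) hzo hxp
      have hfix : (g : K) * x * (g : K)⁻¹ = x := by
        have h5 : x * (g : K) = (g : K) * x := (Subgroup.mem_centralizer_iff.mp g.2) x hxz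
        rw [← h5]; group
      have hx1 : x ≠ 1 := by
        intro h
        rw [h, orderOf_one] at hxo
        exact hpp.one_lt.ne hxo
      have hgc' : (orderOf (g : K)).Coprime p := by rw [Subgroup.orderOf_coe]; exact hgc
      exact S3985.comm_of_cyclic_fix p z₁ (g : K) x (e' + 1) hzo' (hQ₁z _ (hgnorm z₁ hz₁Q)) hgc'
        (pow_mem (Subgroup.mem_zpowers z₁) _) hx1 hfix
    have hyQ : (y : K) ∈ Q₁ := ⟨y, hy, rfl⟩
    obtain ⟨i, hi⟩ := hQ₁z _ hyQ
    apply Subtype.ext
    show (y : K) * g = g * y
    have hi' : z₁ ^ i = (y : K) := hi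
    rw [← hi']
    exact (Commute.zpow_left (show Commute z₁ (g : K) from hcomm.symm) i).eq
  haveI hch2 : (Cfsg.pPrimeCore p M).Characteristic := Lib.Comp2.pPrimeCore_char p
  have hWn : ((Cfsg.pPrimeCore p M).map M.subtype).Normal := Lib.H1Core.normal_map_of_characteristic M _
  have hWc : (Nat.card ((Cfsg.pPrimeCore p M).map M.subtype)).Coprime p := by
    have : Nat.card ((Cfsg.pPrimeCore p M).map M.subtype) = Nat.card (Cfsg.pPrimeCore p M) :=
      Nat.card_congr (Subgroup.equivMapOfInjective _ _ M.subtype_injective).toEquiv.symm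
    rw [this]
    exact Lib.H1Core.pPrimeCore_coprime (G := M) p
  have hWbot : (Cfsg.pPrimeCore p M).map M.subtype = ⊥ := by
    have := Lib.H1Core.le_pPrimeCore hWn hWc
    rw [hO] at this
    exact le_bot_iff.mp this
  have hWbot' : Cfsg.pPrimeCore p M = ⊥ :=
    (Subgroup.map_eq_bot_iff_of_injective _ M.subtype_injective).mp hWbot
  obtain ⟨N', hN', hN'c, hN'p⟩ := Lib.PNilp.hasNormalPComplement_iff.mp hMp
  have hN'K : N' ≤ Cfsg.pPrimeCore p M := Lib.H1Core.le_pPrimeCore hN' hN'c
  have hN'bot : N' = ⊥ := by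
    rw [hWbot'] at hN'K
    exact le_bot_iff.mp hN'K
  have hMpg : IsPGroup p M := by
    intro x
    obtain ⟨k, hk⟩ := hN'p ((x : M) : M ⧸ N')
    refine ⟨k, ?_⟩
    have h1 : x ^ p ^ k ∈ N' := by
      rw [← QuotientGroup.eq_one_iff, QuotientGroup.mk_pow]
      exact hk
    rw [hN'bot] at h1
    exact Subgroup.mem_bot.mp h1
  exact (P.3 hMpg hPM).symm ▸ rfl

/-- Let K be a finite group, p a prime dividing its order with O_{p'}(K) = 1 (no nontrivial normal subgroup of order prime to p), and P a cyclic Sylow p-subgroup of K. Then either P is normal and self-centralizing in K with K/P cyclic of order dividing p − 1 (so K is the semidirect product of P by a group of automorphisms of P of order dividing p − 1), or the generalized Fitting subgroup F*(K) is a non-abelian simple group and p does not divide the index of F*(K) in K. -/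
theorem result {K : Type*} [Group K] [Finite K] (p : ℕ) [Fact p.Prime] (hp : p ∣ Nat.card K) (hO : Cfsg.pPrimeCore p K = ⊥)
    (P : Sylow p K) (hP : IsCyclic ↥(P : Subgroup K)) :
    ((P : Subgroup K).Normal ∧ Subgroup.centralizer ((P : Subgroup K) : Set K) = (P : Subgroup K) ∧
      (∀ (_ : (P : Subgroup K).Normal), IsCyclic (K ⧸ (P : Subgroup K))) ∧ (P : Subgroup K).index ∣ p - 1) ∨
    (IsSimpleGroup ↥(Cfsg.generalizedFittingSubgroup K) ∧ ¬ IsMulCommutative ↥(Cfsg.generalizedFittingSubgroup K) ∧
      ¬ p ∣ (Cfsg.generalizedFittingSubgroup K).index) := by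
  classical
  have hpp : p.Prime := Fact.out
  have hPcomm : ∀ a ∈ (P : Subgroup K), ∀ b ∈ (P : Subgroup K), a * b = b * a := by
    intro a ha b hb
    letI := IsCyclic.commGroup (α := (P : Subgroup K))
    exact congrArg Subtype.val (mul_comm (⟨a, ha⟩ : (P : Subgroup K)) ⟨b, hb⟩)
  by_cases hOp : Cfsg.pCore p K = ⊥
  · right
    -- the Fitting subgroup is trivial
    have hF : Cfsg.fittingSubgroup K = ⊥ := by
      rw [eq_bot_iff]
      intro x hx
      rw [Subgroup.mem_bot]
      by_contra hx1
      have ho1 : orderOf x ≠ 1 := fun h => hx1 (orderOf_eq_one_iff.mp h)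
      obtain ⟨q, hq, hqd⟩ := Nat.exists_prime_and_dvd ho1
      have ho0 : orderOf x ≠ 0 := (orderOf_pos x).ne'
      have hyo : orderOf (x ^ (orderOf x / q)) = q := by
        rw [orderOf_pow_of_dvd (by
          intro h
          rw [Nat.div_eq_zero_iff] at h
          rcases h with h | h
          · exact hq.ne_zero h
          · exact absurd (Nat.le_of_dvd (Nat.pos_of_ne_zero ho0) hqd) (by omega)) (Nat.div_dvd_of_dvd hqd)]
        exact Nat.div_div_self hqd ho0
      have hyF : x ^ (orderOf x / q) ∈ Cfsg.fittingSubgroup K := pow_mem hx _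
      have hyq : x ^ (orderOf x / q) ∈ Cfsg.pCore q K :=
        Lib.FGS4.mem_pCore_of_mem_fitting hq _ hyF (by rw [hyo, pow_one])
      have hy1 : x ^ (orderOf x / q) ≠ 1 := by
        intro h
        rw [h, orderOf_one] at hyo
        exact hq.one_lt.ne hyo
      by_cases hqp : q = p
      · subst hqp
        rw [hOp] at hyq
        exact hy1 (Subgroup.mem_bot.mp hyq)
      · haveI : Fact q.Prime := ⟨hq⟩
        have h1 : (Nat.card (Cfsg.pCore q K)).Coprime p := by
          obtain ⟨m, hm⟩ := IsPGroup.iff_card.mp (Lib.H1Core.pCore_isPGroup (G := K) q)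
          rw [hm]
          exact Nat.Coprime.pow_left m ((Nat.coprime_primes hq hpp).mpr hqp)
        have h2 := Lib.H1Core.le_pPrimeCore (Lib.H1Core.pCore_normal q K) h1
        rw [hO] at h2
        exact hy1 (Subgroup.mem_bot.mp (h2 hyq))
    have hFs : Cfsg.generalizedFittingSubgroup K = Cfsg.layer K := by
      unfold Cfsg.generalizedFittingSubgroup
      rw [hF, sup_bot_eq]
    have hLne : Cfsg.layer K ≠ ⊥ := by
      intro hbot
      rw [hbot] at hFs
      have h1 := Lib.Comp.centralizer_Fstar_le (G := K)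
      rw [hFs] at h1
      have h2 : Subgroup.centralizer (((⊥ : Subgroup K)) : Set K) = ⊤ := by simp
      rw [h2] at h1
      have h3 : (⊤ : Subgroup K) = ⊥ := le_bot_iff.mp h1
      have h4 : Nat.card K = 1 := by
        rw [← Subgroup.card_top (G := K), h3, Subgroup.card_bot]
      rw [h4] at hp
      exact hpp.one_lt.ne' (Nat.dvd_one.mp hp)
    have hcomp : ∃ L : Subgroup K, Cfsg.IsComponent L := by
      by_contra hno
      push_neg at hno
      exact hLne (Lib.Comp.layer_eq_bot_iff.mpr hno)
    obtain ⟨L, hL⟩ := hcomp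
    have hdvd : ∀ L' : Subgroup K, Cfsg.IsComponent L' → p ∣ Nat.card L' := by
      intro L' hL'
      by_contra hnd
      have hc : (Nat.card L').Coprime p := ((Nat.Prime.coprime_iff_not_dvd hpp).mpr hnd).symm
      have h1 := Lib.Comp2.coprime_subnormal_le hL'.1 hc
      rw [hO] at h1
      exact Lib.Comp.comp_ne_bot hL' (le_bot_iff.mp h1)
    have hcenter : ∀ L' : Subgroup K, Cfsg.IsComponent L' → ∀ x ∈ L', (∀ y ∈ L', x * y = y * x) → x = 1 := by
      intro L' hL' x hx hxc
      have h1 : Subgroup.center L' = ⊥ := by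
        have hnil : Group.IsNilpotent ((Subgroup.center L').map L'.subtype) :=
          Lib.Comp.map_subtype_nilp _ Lib.Comp.nilp_center
        have hsn : ((Subgroup.center L').map L'.subtype).IsSubnormal := by
          refine Subgroup.IsSubnormal.step _ L' (Subgroup.map_subtype_le _) hL'.1 ?_
          constructor
          rintro ⟨a, ha⟩ hmem ⟨b, hb⟩
          rw [Subgroup.mem_subgroupOf] at hmem ⊢
          obtain ⟨a', ha', rfl⟩ := hmem
          have e : (⟨b, hb⟩ : L') * a' * (⟨b, hb⟩ : L')⁻¹ = a' := by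
            rw [Subgroup.mem_center_iff.mp ha' ⟨b, hb⟩]
            group
          refine ⟨a', ha', ?_⟩
          show ((a' : L') : K) = _
          have := congrArg Subtype.val e
          simpa using this.symm
        have h2 := Lib.Comp.nilp_subnormal_le_fitting hsn hnil
        rw [hF] at h2
        exact (Subgroup.map_eq_bot_iff_of_injective _ L'.subtype_injective).mp (le_bot_iff.mp h2)
      have hxc' : (⟨x, hx⟩ : L') ∈ Subgroup.center L' := by
        rw [Subgroup.mem_center_iff]
        intro y
        apply Subtype.ext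
        exact (hxc y y.2).symm
      rw [h1] at hxc'
      have := Subgroup.mem_bot.mp hxc'
      exact congrArg Subtype.val this
    have huniq : ∀ L' : Subgroup K, Cfsg.IsComponent L' → L' = L := by
      intro L' hL'
      by_contra hne
      have hcomm := (Lib.Comp.comm_iff.mp (Lib.Comp.comp_comm_comp hL' hL hne))
      obtain ⟨a, ha⟩ := exists_prime_orderOf_dvd_card' (G := L') p (hdvd L' hL')
      obtain ⟨b, hb⟩ := exists_prime_orderOf_dvd_card' (G := L) p (hdvd L hL)
      have hao : orderOf (a : K) = p := by rw [Subgroup.orderOf_coe]; exact ha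
      have hbo : orderOf (b : K) = p := by rw [Subgroup.orderOf_coe]; exact hb
      have hab : (a : K) * b = b * a := hcomm a a.2 b b.2
      -- `⟨a, b⟩` is a `p`-subgroup, so it lies in a conjugate of `P`
      let E : Subgroup K := Subgroup.zpowers (a : K) ⊔ Subgroup.zpowers (b : K)
      have hEp : IsPGroup p E := by
        have hmul : ∀ x : K, x ∈ E → x ^ p = 1 := by
          intro x hx
          have hcc : ∀ u ∈ Subgroup.zpowers (a : K), ∀ v ∈ Subgroup.zpowers (b : K), u * v = v * u := by
            rintro _ ⟨i, rfl⟩ _ ⟨j, rfl⟩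
            exact (Commute.zpow_zpow (show Commute (a : K) (b : K) from hab) i j).eq
          obtain ⟨u, hu, v, hv, rfl⟩ := Lib.Comp.mem_sup_of_comm hcc hx
          obtain ⟨i, rfl⟩ := hu
          obtain ⟨j, rfl⟩ := hv
          have hc : Commute ((a : K) ^ i) ((b : K) ^ j) := (Commute.zpow_zpow (show Commute (a : K) (b : K) from hab) i j)
          rw [hc.mul_pow]
          have h1 : (a : K) ^ p = 1 := by rw [← hao]; exact pow_orderOf_eq_one _
          have h2 : (b : K) ^ p = 1 := by rw [← hbo]; exact pow_orderOf_eq_one _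
          rw [← zpow_natCast, ← zpow_natCast, ← zpow_mul, ← zpow_mul, mul_comm i, mul_comm j, zpow_mul, zpow_mul,
            zpow_natCast, zpow_natCast, h1, h2]
          simp
        intro x
        refine ⟨1, ?_⟩
        apply Subtype.ext
        simpa using hmul x x.2
      obtain ⟨S, hS⟩ := hEp.exists_le_sylow
      obtain ⟨g, hg⟩ := MulAction.exists_smul_eq K S P
      have hSc : IsCyclic (S : Subgroup K) := by
        have h1 : ((S : Subgroup K) : Subgroup K) = ((g⁻¹ • P : Sylow p K) : Subgroup K) := by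
          rw [← hg, inv_smul_smul]
        rw [h1]
        have e : ((g⁻¹ • P : Sylow p K) : Subgroup K) = (P : Subgroup K).map (MulAut.conj g⁻¹).toMonoidHom := rfl
        rw [e]
        let e := Subgroup.equivMapOfInjective (P : Subgroup K) (MulAut.conj g⁻¹).toMonoidHom (MulAut.conj g⁻¹).injective
        exact isCyclic_of_injective e.symm.toMonoidHom e.symm.injective
      have haS : (a : K) ∈ (S : Subgroup K) := hS (Subgroup.mem_sup_left (Subgroup.mem_zpowers _))
      have hbS : (b : K) ∈ (S : Subgroup K) := hS (Subgroup.mem_sup_right (Subgroup.mem_zpowers _))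
      have hbp : (b : K) ^ p = 1 := by rw [← hbo]; exact pow_orderOf_eq_one _
      have hbz := Lib.H1FC.mem_zpowers_of_cyclic hSc hpp haS hbS hao hbp
      have hbL' : (b : K) ∈ L' := (Subgroup.zpowers_le.mpr a.2) hbz
      have hb1 : (b : K) = 1 := hcenter L' hL' _ hbL' (fun y hy => (hcomm y hy b b.2).symm)
      rw [hb1, orderOf_one] at hbo
      exact hpp.one_lt.ne hbo
    have hlayer : Cfsg.layer K = L := by
      apply le_antisymm
      · apply sSup_le
        intro L' hL'
        exact (huniq L' hL').le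
      · exact Lib.Comp.comp_le_layer hL
    haveI hLn : L.Normal := by
      constructor
      intro x hx g
      have h1 := huniq _ (Lib.Comp.isComponent_map_equiv hL (MulAut.conj g))
      rw [← h1]
      exact ⟨x, hx, rfl⟩
    rw [hFs, hlayer]
    have hq : Cfsg.IsQuasisimple L := hL.2
    have hcen : Subgroup.center L = ⊥ := by
      rw [eq_bot_iff]
      intro x hx
      rw [Subgroup.mem_bot]
      apply Subtype.ext
      exact hcenter L hL x x.2 (fun y hy => congrArg Subtype.val (Subgroup.mem_center_iff.mp hx ⟨y, hy⟩).symm)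
    have hsimple : IsSimpleGroup L := by
      haveI h1 := hq.2
      haveI : Nontrivial L := Lib.Comp.qs_nontrivial hq
      have hinj : Function.Injective (QuotientGroup.mk' (Subgroup.center L)) := by
        rw [injective_iff_map_eq_one]
        intro a ha
        have h2 : a ∈ Subgroup.center L := (QuotientGroup.eq_one_iff a).mp ha
        rw [hcen] at h2
        exact Subgroup.mem_bot.mp h2
      let e := MulEquiv.ofBijective (QuotientGroup.mk' (Subgroup.center L)) ⟨hinj, QuotientGroup.mk'_surjective _⟩
      exact IsSimpleGroup.isSimpleGroup_of_surjective e.symm.toMonoidHom e.symm.surjective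
    refine ⟨hsimple, Lib.Comp.qs_not_comm hq, ?_⟩
    intro hpi
    have h1 := (S4145.result p P hP L (hdvd L hL) hpi).1
    obtain ⟨N, hN, hNc, hNp⟩ := Lib.PNilp.hasNormalPComplement_iff.mp h1
    rcases hsimple.eq_bot_or_eq_top_of_normal N hN with h | h
    · apply Lib.Comp.qs_not_nilpotent hq
      have hpg : IsPGroup p L := by
        intro x
        obtain ⟨k, hk⟩ := hNp ((x : L) : L ⧸ N)
        refine ⟨k, ?_⟩
        have h3 : x ^ p ^ k ∈ N := by
          rw [← QuotientGroup.eq_one_iff, QuotientGroup.mk_pow]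
          exact hk
        rw [h] at h3
        exact Subgroup.mem_bot.mp h3
      exact hpg.isNilpotent
    · rw [h, Subgroup.card_top] at hNc
      have := Nat.dvd_gcd (hdvd L hL) (dvd_refl p)
      rw [hNc] at this
      exact hpp.one_lt.ne' (Nat.dvd_one.mp this)
  · left
    -- an element of order `p` in `O_p`
    haveI : (Cfsg.pCore p K).Normal := Lib.H1Core.pCore_normal p K
    have hTp : IsPGroup p (Cfsg.pCore p K) := Lib.H1Core.pCore_isPGroup (G := K) p
    obtain ⟨m, hm⟩ := IsPGroup.iff_card.mp hTp
    have hm0 : m ≠ 0 := by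
      rintro rfl
      rw [pow_zero] at hm
      exact hOp (Subgroup.eq_bot_of_card_eq _ hm)
    obtain ⟨z, hz⟩ := exists_prime_orderOf_dvd_card' (G := Cfsg.pCore p K) p (by
      rw [hm]; exact dvd_pow_self p hm0)
    have hTP : Cfsg.pCore p K ≤ (P : Subgroup K) := Lib.H1Core.pCore_le_sylow p P
    have hzo : orderOf (z : K) = p := by rw [Subgroup.orderOf_coe]; exact hz
    have hzP : (z : K) ∈ (P : Subgroup K) := hTP z.2
    have hzp : (z : K) ^ p = 1 := by
      have := pow_orderOf_eq_one (z : K)
      rwa [hzo] at this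
    have hzn : (Subgroup.zpowers (z : K)).Normal := by
      constructor
      rintro _ ⟨i, rfl⟩ g
      have h1 : g * (z : K) * g⁻¹ ∈ Cfsg.pCore p K := (inferInstance : (Cfsg.pCore p K).Normal).conj_mem _ z.2 g
      have h2 : (g * (z : K) * g⁻¹) ^ p = 1 := by
        rw [conj_pow, hzp]; group
      have h3 := Lib.H1FC.mem_zpowers_of_cyclic hP hpp hzP (hTP h1) hzo h2
      have h4 : g * ((z : K) ^ i) * g⁻¹ = (g * (z : K) * g⁻¹) ^ i := (conj_zpow).symm
      show g * (fun x => (z : K) ^ x) i * g⁻¹ ∈ _
      simp only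
      rw [h4]
      exact zpow_mem h3 i
    have hC := cent_eq p hO P hP z hzP hzo hzn
    have hPn : (P : Subgroup K).Normal := by
      rw [← hC]; infer_instance
    have hCP : Subgroup.centralizer ((P : Subgroup K) : Set K) = (P : Subgroup K) := by
      apply le_antisymm
      · refine le_trans (Subgroup.centralizer_le ?_) hC.le
        exact (Subgroup.zpowers_le.mpr hzP : Subgroup.zpowers (z : K) ≤ (P : Subgroup K))
      · intro x hx
        rw [Subgroup.mem_centralizer_iff]
        intro y hy
        exact hPcomm y hy x hx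
    -- the action on `⟨z⟩`
    haveI : Fact (Nat.card (Subgroup.zpowers (z : K))).Prime := by
      rw [Nat.card_zpowers, hzo]; exact ⟨hpp⟩
    let φ : K →* (ZMod (Nat.card (Subgroup.zpowers (z : K))))ˣ :=
      (IsCyclic.mulAutMulEquiv (Subgroup.zpowers (z : K))).toMonoidHom.comp (MulAut.conjNormal (H := Subgroup.zpowers (z : K)))
    have hker : φ.ker = (P : Subgroup K) := by
      rw [← hC]
      ext x
      rw [MonoidHom.mem_ker, Subgroup.mem_centralizer_iff]
      constructor
      · intro h y hy
        have h1 : MulAut.conjNormal (H := Subgroup.zpowers (z : K)) x = 1 := by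
          apply (IsCyclic.mulAutMulEquiv (Subgroup.zpowers (z : K))).injective
          rw [map_one]
          exact h
        have h2 := congrArg (fun f : MulAut (Subgroup.zpowers (z : K)) => ((f ⟨y, hy⟩ : Subgroup.zpowers (z : K)) : K)) h1
        simp only [MulAut.conjNormal_apply, MulAut.one_apply] at h2
        have h3 : x * y = y * x := by
          calc x * y = x * y * x⁻¹ * x := by group
            _ = y * x := by rw [h2]
        exact h3.symm
      · intro h
        show (IsCyclic.mulAutMulEquiv (Subgroup.zpowers (z : K))) (MulAut.conjNormal (H := Subgroup.zpowers (z : K)) x) = 1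
        have h1 : MulAut.conjNormal (H := Subgroup.zpowers (z : K)) x = 1 := by
          ext y
          simp only [MulAut.conjNormal_apply, MulAut.one_apply]
          rw [← h y y.2]; group
        rw [h1, map_one]
    have hidx : φ.ker.index ∣ p - 1 := by
      have h1 : φ.ker.index = Nat.card φ.range := Subgroup.index_ker φ
      have h2 : Nat.card φ.range ∣ Nat.card (ZMod (Nat.card (Subgroup.zpowers (z : K))))ˣ :=
        Subgroup.card_subgroup_dvd_card _
      have h3 : Nat.card (ZMod (Nat.card (Subgroup.zpowers (z : K))))ˣ = p - 1 := by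
        rw [Nat.card_eq_fintype_card, ZMod.card_units_eq_totient, Nat.card_zpowers, hzo, Nat.totient_prime hpp]
      rw [h1]
      exact h3 ▸ h2
    refine ⟨hPn, hCP, fun hn => ?_, ?_⟩
    · haveI := hn
      refine isCyclic_of_injective (QuotientGroup.lift (P : Subgroup K) φ (fun x hx => by
        have h0 : x ∈ φ.ker := hker.symm ▸ hx
        exact h0)) ?_
      rw [injective_iff_map_eq_one]
      intro a
      obtain ⟨x, rfl⟩ := QuotientGroup.mk_surjective a
      intro h
      have h1 : φ x = 1 := h
      have h2 : x ∈ φ.ker := h1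
      rw [hker] at h2
      exact (QuotientGroup.eq_one_iff x).mpr h2
    · rw [← hker]; exact hidx

end Cfsg.Agent.S4403
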