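import Cfsg.Statements.S4413
import Mathlib
import Cfsg.Agent.S3763
-- import your own Cfsg.Agent.* helpers here

set_option autoImplicit false
open Cfsg

namespace Cfsg.Agent.S4413

universe u v
open Cfsg.Agent.S4416

theorem lift' {E : Type u} {E' : Type v} [Group E] [Group E'] {a b z : E} {a' b' z' : E'}
    (hX : XS z) (hX' : XS z') (hba : b * a = z * (a * b)) (hba' : b' * a' = z' * (a' * b'))
    (ι : centC a b ≃* centC a' b') (α β ω : centC a b)
    (hα : (α : E) = a * a) (hβ : (β : E) = b * b) (hω : (ω : E) = z)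
    (h1 : ((ι α : centC a' b') : E') = a' * a') (h2 : ((ι β : centC a' b') : E') = b' * b')
    (h3 : ((ι ω : centC a' b') : E') = z') :
    ∃ Φ : E ≃* E', ∀ (p : Bool × Bool) (c : centC a b),
      Φ (u a b p * (c : E)) = u a' b' p * ((ι c : centC a' b') : E') := by
  have hF := F_bij hX hba
  have hF' := F_bij hX' hba'
  let Fe := Equiv.ofBijective _ hF
  let Fe' := Equiv.ofBijective _ hF'
  let Φ : E ≃ E' := Fe.symm.trans ((Equiv.prodCongr (Equiv.refl _) ι.toEquiv).trans Fe')
  have hΦ : ∀ (p : Bool × Bool) (c : centC a b),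
      Φ (u a b p * (c : E)) = u a' b' p * ((ι c : centC a' b') : E') := by
    intro p c
    have h4 : Fe.symm (u a b p * (c : E)) = (p, c) := Fe.symm_apply_apply (p, c)
    change Fe' ((Equiv.prodCongr (Equiv.refl _) ι.toEquiv) (Fe.symm (u a b p * (c : E)))) = _
    rw [h4]
    rfl
  refine ⟨MulEquiv.mk' Φ ?_, hΦ⟩
  intro x y
  obtain ⟨⟨p, c⟩, rfl⟩ := hF.2 x
  obtain ⟨⟨q, d⟩, rfl⟩ := hF.2 y
  simp only
  rw [F_mul hX hba α β ω hα hβ hω, hΦ, hΦ, hΦ, F_mul hX' hba' (ι α) (ι β) (ι ω) h1 h2 h3,
    map_mul, map_mul]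
  have := map_zeta ι.toMonoidHom α β ω p q
  congr 3

theorem frame_facts {E : Type*} [Group E] {z a b c d : E} (hzz : z * z = 1) (hzc : ∀ g, g * z = z * g)
    (haa : a * a = 1) (hbb : b * b = 1) (hcc : c * c = 1) (hdd : d * d = 1)
    (hba : b * a = z * (a * b)) (hca : c * a = z * (a * c)) (hda : d * a = z * (a * d))
    (hcb : c * b = z * (b * c)) (hdb : d * b = z * (b * d)) (hdc : d * c = z * (c * d)) :
    a * b * c * a = a * (a * b * c) ∧ a * b * c * b = b * (a * b * c) ∧
    a * b * d * a = a * (a * b * d) ∧ a * b * d * b = b * (a * b * d) ∧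
    (a * b * d) * (a * b * c) = z * ((a * b * c) * (a * b * d)) ∧
    (a * b * c) * (a * b * c) = z ∧ (a * b * d) * (a * b * d) = z := by
  have hzz' : ∀ t, z * (z * t) = t := fun t => by rw [← mul_assoc, hzz, one_mul]
  have za' : ∀ t, a * (z * t) = z * (a * t) := fun t => by rw [← mul_assoc, hzc, mul_assoc]
  have zb' : ∀ t, b * (z * t) = z * (b * t) := fun t => by rw [← mul_assoc, hzc, mul_assoc]
  have zc' : ∀ t, c * (z * t) = z * (c * t) := fun t => by rw [← mul_assoc, hzc, mul_assoc]
  have zd' : ∀ t, d * (z * t) = z * (d * t) := fun t => by rw [← mul_assoc, hzc, mul_assoc]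
  have aa' : ∀ t, a * (a * t) = t := fun t => by rw [← mul_assoc, haa, one_mul]
  have bb' : ∀ t, b * (b * t) = t := fun t => by rw [← mul_assoc, hbb, one_mul]
  have cc' : ∀ t, c * (c * t) = t := fun t => by rw [← mul_assoc, hcc, one_mul]
  have dd' : ∀ t, d * (d * t) = t := fun t => by rw [← mul_assoc, hdd, one_mul]
  have ba' : ∀ t, b * (a * t) = z * (a * (b * t)) := fun t => by
    rw [← mul_assoc, hba]; simp only [mul_assoc]
  have ca' : ∀ t, c * (a * t) = z * (a * (c * t)) := fun t => by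
    rw [← mul_assoc, hca]; simp only [mul_assoc]
  have da' : ∀ t, d * (a * t) = z * (a * (d * t)) := fun t => by
    rw [← mul_assoc, hda]; simp only [mul_assoc]
  have cb' : ∀ t, c * (b * t) = z * (b * (c * t)) := fun t => by
    rw [← mul_assoc, hcb]; simp only [mul_assoc]
  have db' : ∀ t, d * (b * t) = z * (b * (d * t)) := fun t => by
    rw [← mul_assoc, hdb]; simp only [mul_assoc]
  have dc' : ∀ t, d * (c * t) = z * (c * (d * t)) := fun t => by
    rw [← mul_assoc, hdc]; simp only [mul_assoc]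
  refine ⟨?_, ?_, ?_, ?_, ?_, ?_, ?_⟩ <;>
    simp only [mul_assoc, hzz, hzz', za', zb', zc', zd', aa', bb', cc', dd', ba', ca', da', cb', db', dc',
      hba, hca, hda, hcb, hdb, hdc, haa, hbb, hcc, hdd, mul_one, one_mul]

section Rel
variable {E : Type u} {E' : Type u} [Group E] [Group E'] [Finite E] [Finite E']

theorem frame_iso {z a b c d : E} {z' a' b' c' d' : E'} (hX : XS z) (hX' : XS z')
    (hE : Nat.card E = 32) (hE' : Nat.card E' = 32)
    (haa : a * a = 1) (hbb : b * b = 1) (hcc : c * c = 1) (hdd : d * d = 1)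
    (hba : b * a = z * (a * b)) (hca : c * a = z * (a * c)) (hda : d * a = z * (a * d))
    (hcb : c * b = z * (b * c)) (hdb : d * b = z * (b * d)) (hdc : d * c = z * (c * d))
    (haa' : a' * a' = 1) (hbb' : b' * b' = 1) (hcc' : c' * c' = 1) (hdd' : d' * d' = 1)
    (hba' : b' * a' = z' * (a' * b')) (hca' : c' * a' = z' * (a' * c')) (hda' : d' * a' = z' * (a' * d'))
    (hcb' : c' * b' = z' * (b' * c')) (hdb' : d' * b' = z' * (b' * d')) (hdc' : d' * c' = z' * (c' * d')) :
    ∃ Φ : E ≃* E', Φ a = a' ∧ Φ b = b' ∧ Φ c = c' ∧ Φ d = d' := by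
  obtain ⟨h1, h2, h3, h4, h5, h6, h7⟩ := frame_facts hX.hzz hX.hzc haa hbb hcc hdd hba hca hda hcb hdb hdc
  obtain ⟨h1', h2', h3', h4', h5', h6', h7'⟩ :=
    frame_facts hX'.hzz hX'.hzc haa' hbb' hcc' hdd' hba' hca' hda' hcb' hdb' hdc'
  have hC3 : a * b * c ∈ centC a b := mem_centC.2 ⟨h1, h2⟩
  have hC4 : a * b * d ∈ centC a b := mem_centC.2 ⟨h3, h4⟩
  have hC3' : a' * b' * c' ∈ centC a' b' := mem_centC.2 ⟨h1', h2'⟩
  have hC4' : a' * b' * d' ∈ centC a' b' := mem_centC.2 ⟨h3', h4'⟩
  let c₃ : centC a b := ⟨_, hC3⟩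
  let c₄ : centC a b := ⟨_, hC4⟩
  let c₃' : centC a' b' := ⟨_, hC3'⟩
  let c₄' : centC a' b' := ⟨_, hC4'⟩
  have hXC := xs_C hX hba
  have hXC' := xs_C hX' hba'
  have hbaC : c₄ * c₃ = ⟨z, z_mem hX⟩ * (c₃ * c₄) := Subtype.ext h5
  have hbaC' : c₄' * c₃' = ⟨z', z_mem hX'⟩ * (c₃' * c₄') := Subtype.ext h5'
  have hc1 := card_eq_four hX hba
  have hc1' := card_eq_four hX' hba'
  have hc2 := card_eq_four hXC hbaC
  have hc2' := card_eq_four hXC' hbaC'
  have hD : Nat.card (centC c₃ c₄) = 2 := by omega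
  have hD' : Nat.card (centC c₃' c₄') = 2 := by omega
  let ι₁ : centC c₃ c₄ ≃* centC c₃' c₄' := mulEquivOfPrimeCardEq (p := 2) hD hD'
  have hι₁ := iota_z (xs_C hXC hbaC) (xs_C hXC' hbaC') ι₁
  have hι₁' := congrArg Subtype.val hι₁
  obtain ⟨ι₂, hι₂⟩ := lift' hXC hXC' hbaC hbaC' ι₁ ⟨_, z_mem hXC⟩ ⟨_, z_mem hXC⟩ ⟨_, z_mem hXC⟩
    (Subtype.ext h6.symm) (Subtype.ext h7.symm) rfl
    (hι₁'.trans (Subtype.ext h6'.symm)) (hι₁'.trans (Subtype.ext h7'.symm)) hι₁'
  have hι3 : ι₂ c₃ = c₃' := by
    have := hι₂ (true, false) 1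
    simpa [u] using this
  have hι4 : ι₂ c₄ = c₄' := by
    have := hι₂ (false, true) 1
    simpa [u] using this
  have hιz := iota_z hXC hXC' ι₂
  have hιz' := congrArg Subtype.val hιz
  obtain ⟨Φ, hΦ⟩ := lift' hX hX' hba hba' ι₂ 1 1 ⟨z, z_mem hX⟩ (by simp [haa]) (by simp [hbb]) rfl
    (by simp [haa']) (by simp [hbb']) hιz'
  have hΦa : Φ a = a' := by
    have := hΦ (true, false) 1
    simpa [u] using this
  have hΦb : Φ b = b' := by
    have := hΦ (false, true) 1
    simpa [u] using this
  have hΦC : ∀ t : centC a b, Φ (t : E) = ((ι₂ t : centC a' b') : E') := by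
    intro t
    have := hΦ (false, false) t
    simpa [u] using this
  have hΦ3 : Φ (a * b * c) = a' * b' * c' := by
    have := hΦC c₃
    rw [hι3] at this
    exact this
  have hΦ4 : Φ (a * b * d) = a' * b' * d' := by
    have := hΦC c₄
    rw [hι4] at this
    exact this
  refine ⟨Φ, hΦa, hΦb, ?_, ?_⟩
  · have e1 : c = b * (a * (a * b * c)) := by
      simp only [← mul_assoc]
      rw [mul_assoc b a a, haa, mul_one, hbb, one_mul]
    have e2 : c' = b' * (a' * (a' * b' * c')) := by
      simp only [← mul_assoc]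
      rw [mul_assoc b' a' a', haa', mul_one, hbb', one_mul]
    rw [e1, map_mul, map_mul, hΦ3, hΦa, hΦb, ← e2]
  · have e1 : d = b * (a * (a * b * d)) := by
      simp only [← mul_assoc]
      rw [mul_assoc b a a, haa, mul_one, hbb, one_mul]
    have e2 : d' = b' * (a' * (a' * b' * d')) := by
      simp only [← mul_assoc]
      rw [mul_assoc b' a' a', haa', mul_one, hbb', one_mul]
    rw [e1, map_mul, map_mul, hΦ4, hΦa, hΦb, ← e2]

end Rel

section Main
variable {P : Type u} [Group P] [Finite P]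

/-- two noncentral involutions on different lines anticommute (minus type, order 32). -/
theorem anti_lines {z : P} (hX : XS z) (h32 : Nat.card P = 32)
    (h12 : Nat.card {x : P // x ^ 2 = 1} = 12) {x y : P} (hxx : x * x = 1) (hyy : y * y = 1)
    (hx1 : x ≠ 1) (hxz : x ≠ z) (hy1 : y ≠ 1) (hyz : y ≠ z) (hyx : y ≠ x) (hyzx : y ≠ z * x) :
    y * x = z * (x * y) := by
  refine (hX.hcomm y x).resolve_left fun hc => ?_
  obtain ⟨b, hbb, hba⟩ := S3763.exists_pair' hX x hxx hx1 hxz
  have hcard := card_eq_four hX hba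
  have hcnt := cnt_formula hX hba hxx hbb
  have hC8 : Nat.card (centC x b) = 8 := by omega
  have hC2 : Nat.card {c : centC x b // c ^ 2 = 1} = 2 := by omega
  have hXC := xs_C hX hba
  have hno : ∀ g : centC x b, g * g = 1 → g = 1 ∨ g = ⟨z, z_mem hX⟩ := by
    intro g hg
    by_contra hc2
    push Not at hc2
    exact (cnt_ne_two_iff hXC).1 ⟨g, hg, hc2.1, hc2.2⟩ hC2
  by_cases hyC : y ∈ centC x b
  · rcases hno ⟨y, hyC⟩ (Subtype.ext hyy) with h | h
    · exact hy1 (congrArg Subtype.val h)
    · exact hyz (congrArg Subtype.val h)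
  · have h1 := S3763.anti_of_not hX hba hc hyC
    have h2 : (x * y) * (x * y) = 1 := by
      calc (x * y) * (x * y) = x * (y * x) * y := by simp only [mul_assoc]
        _ = (x * x) * (y * y) := by rw [hc]; simp only [mul_assoc]
        _ = 1 := by rw [hxx, hyy, one_mul]
    have hxinv : ∀ t, x * (x * t) = t := fun t => by rw [← mul_assoc, hxx, one_mul]
    rcases hno ⟨x * y, h1⟩ (Subtype.ext h2) with h | h
    · have h3 : x * y = 1 := congrArg Subtype.val h
      apply hyx
      calc y = x * (x * y) := (hxinv y).symm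
        _ = x := by rw [h3, mul_one]
    · have h3 : x * y = z := congrArg Subtype.val h
      apply hyzx
      calc y = x * (x * y) := (hxinv y).symm
        _ = x * z := by rw [h3]
        _ = z * x := hX.hzc x

end Main

section Lines
variable {P : Type u} [Group P] [Finite P] {z : P}

abbrev mkZ (P : Type u) [Group P] : P →* P ⧸ Subgroup.center P := QuotientGroup.mk' (Subgroup.center P)

theorem mk_eq_iff (hX : XS z) {x y : P} : mkZ P x = mkZ P y ↔ y = x ∨ y = z * x := by
  constructor
  · intro h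
    have h1 : x⁻¹ * y ∈ Subgroup.center P := QuotientGroup.eq.1 h
    rcases hX.hcen _ (fun k => (Subgroup.mem_center_iff.1 h1 k).symm) with h2 | h2
    · left
      exact (inv_mul_eq_one.1 h2).symm
    · right
      have h3 : y = x * z := by rw [← h2, mul_inv_cancel_left]
      rw [h3]; exact hX.hzc x
  · rintro (rfl | rfl)
    · rfl
    · have hzm : z ∈ Subgroup.center P := Subgroup.mem_center_iff.2 hX.hzc
      have h1 : mkZ P z = 1 := (QuotientGroup.eq_one_iff z).2 hzm
      rw [map_mul, h1, one_mul]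

abbrev Lines (z : P) : Type u :=
  {v : P ⧸ Subgroup.center P // ∃ x : P, mkZ P x = v ∧ x * x = 1 ∧ x ≠ 1 ∧ x ≠ z}

noncomputable def sec (v : Lines z) : P := Classical.choose v.2

theorem sec_spec (v : Lines z) : mkZ P (sec v) = v.1 ∧ sec v * sec v = 1 ∧ sec v ≠ 1 ∧ sec v ≠ z :=
  Classical.choose_spec v.2

theorem sec_inj {v w : Lines z} (h : mkZ P (sec v) = mkZ P (sec w)) : v = w :=
  Subtype.ext (by rw [← (sec_spec v).1, ← (sec_spec w).1, h])

theorem phi_z (hX : XS z) (φ : MulAut P) : φ z = z := iota_z hX hX φ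

noncomputable def act (hX : XS z) (φ : MulAut P) (v : Lines z) : Lines z :=
  ⟨mkZ P (φ (sec v)), φ (sec v), rfl, by rw [← map_mul, (sec_spec v).2.1, map_one],
    fun h => (sec_spec v).2.2.1 ((map_eq_one_iff φ φ.injective).1 h),
    fun h => (sec_spec v).2.2.2 (φ.injective (h.trans (phi_z hX φ).symm))⟩

theorem mk_congr (hX : XS z) (φ : MulAut P) {w w' : P} (h : mkZ P w = mkZ P w') :
    mkZ P (φ w) = mkZ P (φ w') := by
  rcases (mk_eq_iff hX).1 h with rfl | rfl
  · rfl
  · rw [map_mul, phi_z hX]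
    exact (mk_eq_iff hX).2 (Or.inr rfl)

theorem act_mul (hX : XS z) (φ ψ : MulAut P) (v : Lines z) :
    act hX (φ * ψ) v = act hX φ (act hX ψ v) := by
  apply Subtype.ext
  change mkZ P (φ (ψ (sec v))) = mkZ P (φ (sec (act hX ψ v)))
  apply mk_congr hX
  exact ((sec_spec (act hX ψ v)).1).symm

theorem act_one (hX : XS z) (v : Lines z) : act hX 1 v = v := by
  apply Subtype.ext
  exact (sec_spec v).1

noncomputable def rho (hX : XS z) : MulAut P →* Equiv.Perm (Lines z) :=
  MonoidHom.mk' (fun φ => ⟨act hX φ, act hX φ⁻¹,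
      fun v => by rw [← act_mul, inv_mul_cancel, act_one],
      fun v => by rw [← act_mul, mul_inv_cancel, act_one]⟩)
    (fun φ ψ => Equiv.ext (fun v => act_mul hX φ ψ v))

theorem rho_apply (hX : XS z) (φ : MulAut P) (v : Lines z) : (rho hX φ v).1 = mkZ P (φ (sec v)) := rfl

theorem mem_ker_rho (hX : XS z) {φ : MulAut P} (h : φ ∈ (rho hX).ker) (v : Lines z) :
    φ (sec v) = sec v ∨ φ (sec v) = z * sec v := by
  have h1 : rho hX φ = 1 := h
  have h2 : (rho hX φ v).1 = v.1 := by rw [h1]; rfl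
  rw [rho_apply, ← (sec_spec v).1] at h2
  exact (mk_eq_iff hX).1 h2.symm

theorem conj_le_ker (hX : XS z) : (MulAut.conj : P →* MulAut P).range ≤ (rho hX).ker := by
  rintro _ ⟨g, rfl⟩
  rw [MonoidHom.mem_ker]
  apply Equiv.ext
  intro v
  apply Subtype.ext
  rw [rho_apply, MulAut.conj_apply]
  change mkZ P (g * sec v * g⁻¹) = v.1
  rw [← (sec_spec v).1]
  symm
  apply (mk_eq_iff hX).2
  rcases hX.hcomm g (sec v) with h | h
  · left
    rw [h, mul_inv_cancel_right]
  · right
    rw [h, mul_assoc, mul_assoc, mul_inv_cancel]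
    simp

theorem card_lines (hX : XS z) (h12 : Nat.card {x : P // x ^ 2 = 1} = 12) : Nat.card (Lines z) = 5 := by
  classical
  have hs : ∀ v : Lines z, (z * sec v) ^ 2 = 1 := by
    intro v
    rw [pow_two]
    calc z * sec v * (z * sec v) = z * (sec v * z) * sec v := by simp only [mul_assoc]
      _ = (z * z) * (sec v * sec v) := by rw [hX.hzc]; simp only [mul_assoc]
      _ = 1 := by rw [hX.hzz, (sec_spec v).2.1, one_mul]
  have hs' : ∀ v : Lines z, (sec v) ^ 2 = 1 := fun v => by rw [pow_two]; exact (sec_spec v).2.1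
  have hz2 : z ^ 2 = 1 := by rw [pow_two]; exact hX.hzz
  let M : ((Lines z) × Bool) ⊕ Bool → {x : P // x ^ 2 = 1} := fun q =>
    match q with
    | Sum.inl (v, true) => ⟨sec v, hs' v⟩
    | Sum.inl (v, false) => ⟨z * sec v, hs v⟩
    | Sum.inr true => ⟨z, hz2⟩
    | Sum.inr false => ⟨1, one_pow 2⟩
  have n1 : ∀ v : Lines z, sec v ≠ 1 := fun v => (sec_spec v).2.2.1
  have n2 : ∀ v : Lines z, sec v ≠ z := fun v => (sec_spec v).2.2.2
  have n3 : ∀ v : Lines z, z * sec v ≠ 1 := fun v h => by
    apply n2 v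
    have h2 : sec v = z⁻¹ := eq_inv_of_mul_eq_one_right h
    rw [h2]; exact inv_eq_of_mul_eq_one_left hX.hzz
  have n4 : ∀ v : Lines z, z * sec v ≠ z := fun v h => n1 v (mul_eq_left.1 h)
  have e1 : ∀ v w : Lines z, sec v = sec w → v = w := fun v w h => sec_inj (by rw [h])
  have e2 : ∀ v w : Lines z, z * sec v = z * sec w → v = w := fun v w h => e1 v w (mul_left_cancel h)
  have e3 : ∀ v w : Lines z, sec v ≠ z * sec w := by
    intro v w h
    have h1 : v = w := by
      apply sec_inj
      symm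
      exact (mk_eq_iff hX).2 (Or.inr h)
    subst h1
    exact hX.hz1 (mul_eq_right.1 h.symm)
  have hM : Function.Bijective M := by
    constructor
    · intro a b hab
      have h := congrArg Subtype.val hab
      rcases a with ⟨v, _ | _⟩ | _ | _ <;> rcases b with ⟨w, _ | _⟩ | _ | _ <;> simp only [M] at h
      all_goals first
        | rfl
        | (rw [e1 _ _ h])
        | (rw [e2 _ _ h])
        | exact absurd h (n1 _)
        | exact absurd h.symm (n1 _)
        | exact absurd h (n2 _)
        | exact absurd h.symm (n2 _)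
        | exact absurd h (n3 _)
        | exact absurd h.symm (n3 _)
        | exact absurd h (n4 _)
        | exact absurd h.symm (n4 _)
        | exact absurd h (e3 _ _)
        | exact absurd h.symm (e3 _ _)
        | exact absurd h hX.hz1
        | exact absurd h.symm hX.hz1
    · rintro ⟨x, hx⟩
      by_cases h1 : x = 1
      · subst h1
        exact ⟨Sum.inr false, rfl⟩
      by_cases h2 : x = z
      · subst h2
        exact ⟨Sum.inr true, rfl⟩
      let v : Lines z := ⟨mkZ P x, x, rfl, by rw [← pow_two]; exact hx, h1, h2⟩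
      have h3 : mkZ P (sec v) = mkZ P x := (sec_spec v).1
      rcases (mk_eq_iff hX).1 h3 with h4 | h4
      · exact ⟨Sum.inl (v, true), Subtype.ext h4.symm⟩
      · exact ⟨Sum.inl (v, false), Subtype.ext h4.symm⟩
  have h1 := Nat.card_congr (Equiv.ofBijective M hM)
  rw [Nat.card_sum, Nat.card_prod, h12] at h1
  have h4 : Nat.card Bool = 2 := by simp
  rw [h4] at h1
  omega

theorem sec_anti (hX : XS z) (h32 : Nat.card P = 32) (h12 : Nat.card {x : P // x ^ 2 = 1} = 12)
    {v w : Lines z} (hvw : v ≠ w) : sec v * sec w = z * (sec w * sec v) := by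
  obtain ⟨h1, h2, h3, h4⟩ := sec_spec v
  obtain ⟨h1', h2', h3', h4'⟩ := sec_spec w
  refine anti_lines hX h32 h12 h2' h2 h3' h4' h3 h4 (fun h => hvw (sec_inj (by rw [h]))) ?_
  intro h
  apply hvw
  apply sec_inj
  exact ((mk_eq_iff hX).2 (Or.inr h)).symm

theorem u_mem {G : Type*} [Group G] (H : Subgroup G) {a b : G} (ha : a ∈ H) (hb : b ∈ H) (p : Bool × Bool) :
    u a b p ∈ H := by
  rcases p with ⟨_ | _, _ | _⟩ <;> simp [u, ha, hb, one_mem]
  exact mul_mem ha hb

theorem frame_gen (hX : XS z) (h32 : Nat.card P = 32) {a b c d : P}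
    (haa : a * a = 1) (hbb : b * b = 1) (hcc : c * c = 1) (hdd : d * d = 1)
    (hba : b * a = z * (a * b)) (hca : c * a = z * (a * c)) (hda : d * a = z * (a * d))
    (hcb : c * b = z * (b * c)) (hdb : d * b = z * (b * d)) (hdc : d * c = z * (c * d)) :
    Subgroup.closure ({a, b, c, d} : Set P) = ⊤ := by
  obtain ⟨h1, h2, h3, h4, h5, h6, h7⟩ := frame_facts hX.hzz hX.hzc haa hbb hcc hdd hba hca hda hcb hdb hdc
  set W := Subgroup.closure ({a, b, c, d} : Set P) with hW
  have ha : a ∈ W := Subgroup.subset_closure (by simp)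
  have hb : b ∈ W := Subgroup.subset_closure (by simp)
  have hc : c ∈ W := Subgroup.subset_closure (by simp)
  have hd : d ∈ W := Subgroup.subset_closure (by simp)
  have hz : z ∈ W := by
    have e : z = b * a * (a * b)⁻¹ := by rw [hba, mul_inv_cancel_right]
    rw [e]
    exact mul_mem (mul_mem hb ha) (inv_mem (mul_mem ha hb))
  have hC3 : a * b * c ∈ centC a b := mem_centC.2 ⟨h1, h2⟩
  have hC4 : a * b * d ∈ centC a b := mem_centC.2 ⟨h3, h4⟩
  let c₃ : centC a b := ⟨_, hC3⟩
  let c₄ : centC a b := ⟨_, hC4⟩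
  have hXC := xs_C hX hba
  have hbaC : c₄ * c₃ = ⟨z, z_mem hX⟩ * (c₃ * c₄) := Subtype.ext h5
  have hc1 := card_eq_four hX hba
  have hc2 := card_eq_four hXC hbaC
  have hD : Nat.card (centC c₃ c₄) = 2 := by omega
  have hW3 : c₃ ∈ W.subgroupOf (centC a b) := Subgroup.mem_subgroupOf.2 (mul_mem (mul_mem ha hb) hc)
  have hW4 : c₄ ∈ W.subgroupOf (centC a b) := Subgroup.mem_subgroupOf.2 (mul_mem (mul_mem ha hb) hd)
  rw [eq_top_iff]
  intro y _
  obtain ⟨⟨p, t⟩, rfl⟩ := (F_bij hX hba).2 y
  obtain ⟨⟨p', t'⟩, ht⟩ := (F_bij hXC hbaC).2 t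
  have hXD := xs_C hXC hbaC
  have ht' : ((t' : centC a b)) ∈ W.subgroupOf (centC a b) := by
    obtain ⟨y₀, -, hu⟩ := (Nat.card_eq_two_iff' (1 : centC c₃ c₄)).1 hD
    by_cases h0 : t' = 1
    · rw [h0]; exact one_mem _
    · have e1 := (hu t' h0).trans (hu _ hXD.hz1).symm
      rw [e1]
      exact Subgroup.mem_subgroupOf.2 hz
  have htW : t ∈ W.subgroupOf (centC a b) := by
    simp only at ht
    rw [← ht]
    exact mul_mem (u_mem _ hW3 hW4 p') ht'
  exact mul_mem (u_mem W ha hb p) (Subgroup.mem_subgroupOf.1 htW)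

theorem main_all (hX : XS z) (h32 : Nat.card P = 32) (h12 : Nat.card {x : P // x ^ 2 = 1} = 12)
    (hZ : Nat.card (Subgroup.center P) = 2) :
    (rho hX).ker = (MulAut.conj : P →* MulAut P).range ∧ Function.Surjective (rho hX) ∧
      Nat.card ↥(MulAut.conj : P →* MulAut P).range = 16 := by
  classical
  have hL := card_lines hX h12
  let e : Lines z ≃ Fin 5 := Finite.equivFinOfCardEq hL
  have hv : ∀ i j : Fin 5, i ≠ j → sec (e.symm i) * sec (e.symm j) = z * (sec (e.symm j) * sec (e.symm i)) := by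
    intro i j hij
    exact sec_anti hX h32 h12 (fun h => hij (e.symm.injective h))
  have hsq : ∀ w : Lines z, sec w * sec w = 1 := fun w => (sec_spec w).2.1
  -- order of the inner automorphisms
  have hcard : Nat.card ↥(MulAut.conj : P →* MulAut P).range = 16 := by
    have hker : (MulAut.conj : P →* MulAut P).ker = Subgroup.center P := by
      ext x
      rw [MonoidHom.mem_ker, Subgroup.mem_center_iff]
      constructor
      · intro h g
        have h1 := DFunLike.congr_fun h g
        have h2 : x * g * x⁻¹ = g := h1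
        exact (mul_inv_eq_iff_eq_mul.1 h2).symm
      · intro h
        apply MulEquiv.ext
        intro g
        change x * g * x⁻¹ = g
        rw [← h g, mul_inv_cancel_right]
    rw [← Subgroup.index_ker, hker]
    have h1 := Subgroup.card_mul_index (Subgroup.center P)
    rw [hZ, h32] at h1
    omega
  refine ⟨?_, ?_, hcard⟩
  · -- the kernel
    symm
    refine Subgroup.eq_of_le_of_card_ge (conj_le_ker hX) ?_
    rw [hcard]
    set a := sec (e.symm 0) with ha
    set b := sec (e.symm 1) with hb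
    set c := sec (e.symm 2) with hc
    set d := sec (e.symm 3) with hd
    have hgen := frame_gen hX h32 (hsq _) (hsq _) (hsq _) (hsq _)
      (hv 1 0 (by decide)) (hv 2 0 (by decide)) (hv 3 0 (by decide)) (hv 2 1 (by decide))
      (hv 3 1 (by decide)) (hv 3 2 (by decide))
    let f : (rho hX).ker → Bool × Bool × Bool × Bool := fun φ =>
      (decide ((φ : MulAut P) a = a), decide ((φ : MulAut P) b = b), decide ((φ : MulAut P) c = c),
        decide ((φ : MulAut P) d = d))
    have hf : Function.Injective f := by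
      intro φ ψ h
      simp only [f, Prod.mk.injEq, decide_eq_decide] at h
      obtain ⟨h1, h2, h3, h4⟩ := h
      have key : ∀ w : Lines z, ((φ : MulAut P) (sec w) = sec w ↔ (ψ : MulAut P) (sec w) = sec w) →
          (φ : MulAut P) (sec w) = (ψ : MulAut P) (sec w) := by
        intro w hw
        rcases mem_ker_rho hX φ.2 w with h5 | h5 <;> rcases mem_ker_rho hX ψ.2 w with h6 | h6
        · rw [h5, h6]
        · exact absurd (hw.1 h5) (by rw [h6]; intro h7; exact hX.hz1 (mul_eq_right.1 h7))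
        · exact absurd (hw.2 h6) (by rw [h5]; intro h7; exact hX.hz1 (mul_eq_right.1 h7))
        · rw [h5, h6]
      have hle : Subgroup.closure ({a, b, c, d} : Set P) ≤
          MonoidHom.eqLocus ((φ : MulAut P).toMonoidHom) ((ψ : MulAut P).toMonoidHom) := by
        rw [Subgroup.closure_le]
        rintro x (rfl | rfl | rfl | rfl)
        · exact key _ h1
        · exact key _ h2
        · exact key _ h3
        · exact key _ h4
      apply Subtype.ext
      apply MulEquiv.ext
      intro x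
      have h9 : x ∈ Subgroup.closure ({a, b, c, d} : Set P) := by rw [hgen]; exact Subgroup.mem_top x
      exact hle h9
    have h1 := Nat.card_le_card_of_injective f hf
    have h2 : Nat.card (Bool × Bool × Bool × Bool) = 16 := by simp [Nat.card_prod]
    omega
  · -- surjectivity
    intro σ
    have hw : ∀ i j : Fin 5, i ≠ j → sec (σ (e.symm i)) * sec (σ (e.symm j)) =
        z * (sec (σ (e.symm j)) * sec (σ (e.symm i))) := by
      intro i j hij
      exact sec_anti hX h32 h12 (fun h => hij (e.symm.injective (σ.injective h)))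
    obtain ⟨Φ, h0, h1, h2, h3⟩ := frame_iso (a := sec (e.symm 0)) (b := sec (e.symm 1)) (c := sec (e.symm 2))
      (d := sec (e.symm 3)) (a' := sec (σ (e.symm 0))) (b' := sec (σ (e.symm 1))) (c' := sec (σ (e.symm 2)))
      (d' := sec (σ (e.symm 3))) hX hX h32 h32 (hsq _) (hsq _) (hsq _) (hsq _)
      (hv 1 0 (by decide)) (hv 2 0 (by decide)) (hv 3 0 (by decide)) (hv 2 1 (by decide))
      (hv 3 1 (by decide)) (hv 3 2 (by decide)) (hsq _) (hsq _) (hsq _) (hsq _)
      (hw 1 0 (by decide)) (hw 2 0 (by decide)) (hw 3 0 (by decide)) (hw 2 1 (by decide))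
      (hw 3 1 (by decide)) (hw 3 2 (by decide))
    refine ⟨Φ, ?_⟩
    have hagree : ∀ i : Fin 5, i ≠ 4 → rho hX Φ (e.symm i) = σ (e.symm i) := by
      have hgen : ∀ w : Lines z, Φ (sec (e.symm (e w))) = sec (σ w) → rho hX Φ w = σ w := by
        intro w hw'
        rw [e.symm_apply_apply] at hw'
        apply Subtype.ext
        rw [rho_apply, hw']
        exact (sec_spec (σ w)).1
      intro i hi
      have hh : ∀ j : Fin 5, j = i → Φ (sec (e.symm j)) = sec (σ (e.symm j)) →
          rho hX Φ (e.symm i) = σ (e.symm i) := by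
        rintro j rfl hj
        apply hgen
        rw [e.apply_symm_apply]
        exact hj
      fin_cases i
      · exact hh 0 rfl h0
      · exact hh 1 rfl h1
      · exact hh 2 rfl h2
      · exact hh 3 rfl h3
      · exact absurd rfl hi
    apply Equiv.ext
    intro w
    by_contra hne
    have hw4 : e w = 4 := by
      by_contra h4
      apply hne
      have := hagree (e w) h4
      rwa [e.symm_apply_apply] at this
    set w' := σ.symm (rho hX Φ w) with hw'
    have hσw' : σ w' = rho hX Φ w := σ.apply_symm_apply _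
    have hw'4 : e w' = 4 := by
      by_contra h4
      have h5 := hagree (e w') h4
      rw [e.symm_apply_apply, hσw'] at h5
      have h6 : w' = w := (rho hX Φ).injective h5
      rw [h6] at hσw'
      exact hne hσw'.symm
    have h7 : w' = w := e.injective (hw'4.trans hw4.symm)
    rw [h7] at hσw'
    exact hne hσw'.symm

end Lines

/-- Let P be an extraspecial 2-group of order 32 with no elementary abelian subgroup of order 8 (the central product of a dihedral and a quaternion group of order 8). Then the inner automorphism group of P has order 16 and the outer automorphism group Aut(P)/Inn(P) is isomorphic to the symmetric group of degree 5; in particular Aut(P) has order 1920. -/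
theorem result {P : Type*} [Group P] [Finite P]
    (hex : Cfsg.IsExtraspecial 2 P) (h32 : Nat.card P = 32)
    (hminus : ∀ A : Subgroup P, Cfsg.IsElementaryAbelian 2 A → Nat.card ↥A ≤ 4)
    [(MulAut.conj : P →* MulAut P).range.Normal] :
    Nat.card ↥(MulAut.conj : P →* MulAut P).range = 16 ∧ Nat.card (MulAut P) = 1920 ∧
      Nonempty ((MulAut P ⧸ (MulAut.conj : P →* MulAut P).range) ≃* Equiv.Perm (Fin 5)) := by
  obtain ⟨z, hX, -⟩ := xs_of_ex hex
  have h12 : Nat.card {x : P // x ^ 2 = 1} = 12 := by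
    obtain ⟨m, hm1, hm2⟩ := S3763.rq _ P z rfl hX
    have hm : m = 2 := by
      have h1 : (2 : ℕ) ^ (2 * m + 1) = 2 ^ 5 := by rw [← hm1, h32]; norm_num
      have h2 := Nat.pow_right_injective (le_refl 2) h1
      omega
    subst hm
    have hP2 : Cfsg.PRankLE 2 2 P := fun A hc he => hminus A ⟨hc, he⟩
    rcases hm2 with ⟨-, -, h3⟩ | ⟨-, h2, -⟩
    · exact absurd hP2 h3
    · rw [h2]; norm_num
  obtain ⟨hker, hsurj, hcard⟩ := main_all hX h32 h12 hex.2
  have hL := card_lines hX h12
  let e : Lines z ≃ Fin 5 := Finite.equivFinOfCardEq hL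
  have E : (MulAut P ⧸ (MulAut.conj : P →* MulAut P).range) ≃* Equiv.Perm (Fin 5) :=
    (QuotientGroup.quotientMulEquivOfEq hker.symm).trans
      ((QuotientGroup.quotientKerEquivOfSurjective (rho hX) hsurj).trans (Equiv.permCongrHom e))
  refine ⟨hcard, ?_, ⟨E⟩⟩
  have h1 := Subgroup.card_mul_index (MulAut.conj : P →* MulAut P).range
  have h2 : ((MulAut.conj : P →* MulAut P).range).index = 120 := by
    change Nat.card (MulAut P ⧸ (MulAut.conj : P →* MulAut P).range) = 120
    rw [Nat.card_congr E.toEquiv, Nat.card_eq_fintype_card, Fintype.card_perm, Fintype.card_fin]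
    rfl
  rw [← h1, hcard, h2]

end Cfsg.Agent.S4413
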