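import Cfsg.Statements.S4405
import Mathlib
import Cfsg.Agent.S4413
import Cfsg.Agent.Lib.H1Core
-- import your own Cfsg.Agent.* helpers here

set_option autoImplicit false
open Cfsg

namespace Cfsg.Agent.S4405

universe u
open Cfsg.Agent.S4416 Cfsg.Agent.S4413

theorem core {P : Type*} [Group P] {z : P} (hX : XS z) (τ : MulAut P) (hτ : ∀ p, τ (τ p) = p)
    (hτz : τ z = z)
    {x c : P} (hxx : x * x = 1) (hx1 : x ≠ 1) (hxz : x ≠ z) (hτx : τ x = x) (hτc : τ c = c)
    (hinv : ∀ y, y * y = 1 → y * x = x * y → y = 1 ∨ y = z ∨ y = x ∨ y = z * x)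
    (hone : ∀ u v : P, u * u = 1 → u ≠ 1 → u ≠ z → (τ u = u ∨ τ u = z * u) →
       v * v = 1 → v ≠ 1 → v ≠ z → (τ v = v ∨ τ v = z * v) → v = u ∨ v = z * u)
    (hex : ∃ y : P, y * y = 1 ∧ y ≠ 1 ∧ y ≠ z ∧ y ≠ x ∧ y ≠ z * x) :
    c = 1 ∨ c = z ∨ c = x ∨ c = z * x := by
  by_contra hcV
  push Not at hcV
  obtain ⟨hc1, hcz, hcx, hczx⟩ := hcV
  have hzc : ∀ g : P, g * z = z * g := hX.hzc
  have hzz : z * z = 1 := hX.hzz
  rcases hX.hsq c with hcc | hcc
  · rcases hone x c hxx hx1 hxz (Or.inl hτx) hcc hc1 hcz (Or.inl hτc) with h | h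
    · exact hcx h
    · exact hczx h
  · have hxinv : x⁻¹ = x := inv_eq_of_mul_eq_one_left hxx
    rcases hX.hcomm c x with hcomm | hanti
    · obtain ⟨y, hyy, hy1, hyz, hyx, hyzx⟩ := hex
      have hyinv : y⁻¹ = y := inv_eq_of_mul_eq_one_left hyy
      have hyanti : y * x = z * (x * y) := by
        rcases hX.hcomm y x with h | h
        · rcases hinv y hyy h with h1 | h1 | h1 | h1
          · exact absurd h1 hy1
          · exact absurd h1 hyz
          · exact absurd h1 hyx
          · exact absurd h1 hyzx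
        · exact h
      have htt : τ y * τ y = 1 := by rw [← map_mul, hyy, map_one]
      have hτt : τ (τ y) = y := hτ y
      have htx : τ y * x = z * (x * τ y) := by
        have h1 := congrArg τ hyanti
        rw [map_mul, map_mul, map_mul, hτx, hτz] at h1
        exact h1
      obtain ⟨b, hb⟩ : ∃ b, b = y⁻¹ * τ y := ⟨_, rfl⟩
      have hyb : y * b = τ y := by rw [hb, mul_inv_cancel_left]
      have hbx : b * x = x * b := by rw [hb]; exact comm_of_same (τ y) y x z htx hyanti
      have hbc : b * c = c * b := by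
        rw [hb]
        rcases hX.hcomm y c with h | h
        · have h1 := congrArg τ h
          rw [map_mul, map_mul, hτc] at h1
          exact comm_of_same (τ y) y c 1 (by rw [one_mul]; exact h1) (by rw [one_mul]; exact h)
        · have h1 := congrArg τ h
          rw [map_mul, map_mul, map_mul, hτc, hτz] at h1
          exact comm_of_same (τ y) y c z h1 h
      have hτV : ∀ v : P, (v = 1 ∨ v = z ∨ v = x ∨ v = z * x) → τ v = v := by
        intro v hv
        rcases hv with h | h | h | h <;> rw [h]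
        · exact map_one τ
        · exact hτz
        · exact hτx
        · rw [map_mul, hτz, hτx]
      have hτb : τ b = b := by
        rcases hX.hsq b with hbb | hbb
        · exact hτV b (hinv b hbb hbx)
        · have h1 : (b * c) * (b * c) = 1 := by
            calc (b * c) * (b * c) = b * (c * b) * c := by simp only [mul_assoc]
              _ = b * (b * c) * c := by rw [hbc]
              _ = (b * b) * (c * c) := by simp only [mul_assoc]
              _ = 1 := by rw [hbb, hcc, hzz]
          have h2 : (b * c) * x = x * (b * c) := by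
            calc (b * c) * x = b * (c * x) := by rw [mul_assoc]
              _ = b * (x * c) := by rw [hcomm]
              _ = (b * x) * c := by rw [mul_assoc]
              _ = (x * b) * c := by rw [hbx]
              _ = x * (b * c) := by rw [mul_assoc]
          have h3 := hτV _ (hinv _ h1 h2)
          rw [map_mul, hτc] at h3
          exact mul_right_cancel h3
      have hbb : b * b = 1 := by
        have h1 : τ (y * b) = τ y * b := by rw [map_mul, hτb]
        rw [hyb, hτt, ← hyb, mul_assoc] at h1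
        exact mul_eq_left.1 h1.symm
      have hfin := hinv b hbb hbx
      have hyxyx : (y * x) * (y * x) = z := by
        calc (y * x) * (y * x) = (z * (x * y)) * (y * x) := by rw [hyanti]
          _ = z * (x * ((y * y) * x)) := by simp only [mul_assoc]
          _ = z := by rw [hyy, one_mul, hxx, mul_one]
      have hbad1 : τ y = y * x → False := by
        intro h
        rw [h, hyxyx] at htt
        exact hX.hz1 htt
      have hbad2 : τ y = z * (y * x) → False := by
        intro h
        rw [h] at htt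
        have h5 : z * (y * x) * (z * (y * x)) = (z * z) * ((y * x) * (y * x)) := by
          calc z * (y * x) * (z * (y * x)) = z * ((y * x) * z) * (y * x) := by simp only [mul_assoc]
            _ = z * (z * (y * x)) * (y * x) := by rw [hzc]
            _ = _ := by simp only [mul_assoc]
        rw [h5, hzz, one_mul, hyxyx] at htt
        exact hX.hz1 htt
      have hsec : τ y = y ∨ τ y = z * y := by
        rcases hfin with h | h | h | h
        · left; rw [← hyb, h, mul_one]
        · right; rw [← hyb, h]; exact hzc y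
        · exact (hbad1 (by rw [← hyb, h])).elim
        · exact (hbad2 (by rw [← hyb, h, ← mul_assoc, hzc, mul_assoc])).elim
      rcases hone x y hxx hx1 hxz (Or.inl hτx) hyy hy1 hyz hsec with h | h
      · exact hyx h
      · exact hyzx h
    · have hxc : x * c = z * (c * x) := by rw [hanti, ← mul_assoc, hzz, one_mul]
      have huu : (c * x) * (c * x) = 1 := by
        calc (c * x) * (c * x) = c * (x * c) * x := by simp only [mul_assoc]
          _ = c * (z * (c * x)) * x := by rw [hxc]
          _ = (c * z) * c * (x * x) := by simp only [mul_assoc]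
          _ = z * (c * c) * (x * x) := by rw [hzc]; simp only [mul_assoc]
          _ = 1 := by rw [hcc, hzz, hxx, one_mul]
      have hu1 : c * x ≠ 1 := by
        intro h
        apply hcx
        have h1 := eq_inv_of_mul_eq_one_left h
        rwa [hxinv] at h1
      have huz : c * x ≠ z := by
        intro h
        apply hczx
        have h1 := eq_mul_inv_of_mul_eq h
        rwa [hxinv] at h1
      have hτu : τ (c * x) = c * x := by rw [map_mul, hτc, hτx]
      rcases hone x (c * x) hxx hx1 hxz (Or.inl hτx) huu hu1 huz (Or.inl hτu) with h | h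
      · exact hc1 (mul_eq_right.1 h)
      · exact hcz (mul_right_cancel h)

theorem inv_from_rank {P : Type*} [Group P] [Finite P] {z x y : P} (hX : XS z)
    (hminus : ∀ A : Subgroup P, Cfsg.IsElementaryAbelian 2 A → Nat.card A ≤ 4)
    (hxx : x * x = 1) (hx1 : x ≠ 1) (hxz : x ≠ z) (hyy : y * y = 1) (hyx : y * x = x * y) :
    y = 1 ∨ y = z ∨ y = x ∨ y = z * x := by
  classical
  by_contra hy
  push Not at hy
  obtain ⟨hy1, hyz, hyx', hyzx⟩ := hy
  have hcomm : ∀ a ∈ ({z, x, y} : Set P), ∀ b ∈ ({z, x, y} : Set P), a * b = b * a := by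
    intro a ha b hb
    simp only [Set.mem_insert_iff, Set.mem_singleton_iff] at ha hb
    rcases ha with ha | ha | ha <;> rcases hb with hb | hb | hb <;> rw [ha, hb]
    · exact (hX.hzc _).symm
    · exact (hX.hzc _).symm
    · exact hX.hzc _
    · exact hyx.symm
    · exact hX.hzc _
    · exact hyx
  obtain ⟨A, hA⟩ : ∃ A, A = Subgroup.closure ({z, x, y} : Set P) := ⟨_, rfl⟩
  have hAc : IsMulCommutative A := by
    rw [hA]; exact Subgroup.isMulCommutative_closure hcomm
  have hcm : ∀ a ∈ A, ∀ b ∈ A, a * b = b * a := fun a ha b hb =>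
    congrArg Subtype.val (hAc.is_comm.comm ⟨a, ha⟩ ⟨b, hb⟩)
  have hsq : ∀ a ∈ A, a ^ 2 = 1 := by
    intro a ha
    have h0 := ha
    rw [hA] at h0
    induction h0 using Subgroup.closure_induction with
    | mem w hw =>
      simp only [Set.mem_insert_iff, Set.mem_singleton_iff] at hw
      rw [pow_two]
      rcases hw with h | h | h <;> rw [h]
      · exact hX.hzz
      · exact hxx
      · exact hyy
    | one => exact one_pow _
    | mul a' b' ha' hb' iha ihb =>
      have ha'' : a' ∈ A := by rw [hA]; exact ha'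
      have hb'' : b' ∈ A := by rw [hA]; exact hb'
      rw [(show Commute a' b' from hcm a' ha'' b' hb'').mul_pow, iha ha'', ihb hb'', one_mul]
    | inv a' ha' ih =>
      have ha'' : a' ∈ A := by rw [hA]; exact ha'
      rw [inv_pow, ih ha'', inv_one]
  have hle := hminus A ⟨hAc, hsq⟩
  have hne1 : (1 : P) ≠ z * x := fun h => hxz (by
    have h1 := eq_inv_of_mul_eq_one_right h.symm
    rwa [inv_eq_of_mul_eq_one_left hX.hzz] at h1)
  have n1 : (1 : P) ∉ ({z, x, z * x, y} : Finset P) := by
    simp only [Finset.mem_insert, Finset.mem_singleton, not_or]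
    exact ⟨hX.hz1.symm, hx1.symm, hne1, hy1.symm⟩
  have n2 : z ∉ ({x, z * x, y} : Finset P) := by
    simp only [Finset.mem_insert, Finset.mem_singleton, not_or]
    exact ⟨hxz.symm, fun h => hx1 (left_eq_mul.1 h), hyz.symm⟩
  have n3 : x ∉ ({z * x, y} : Finset P) := by
    simp only [Finset.mem_insert, Finset.mem_singleton, not_or]
    exact ⟨fun h => hX.hz1 (right_eq_mul.1 h), hyx'.symm⟩
  have n4 : z * x ∉ ({y} : Finset P) := by
    simp only [Finset.mem_singleton]
    exact hyzx.symm
  have hS : ({1, z, x, z * x, y} : Finset P).card = 5 := by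
    rw [Finset.card_insert_of_notMem n1, Finset.card_insert_of_notMem n2,
      Finset.card_insert_of_notMem n3, Finset.card_insert_of_notMem n4, Finset.card_singleton]
  have hzA : z ∈ A := by rw [hA]; exact Subgroup.subset_closure (by simp)
  have hxA : x ∈ A := by rw [hA]; exact Subgroup.subset_closure (by simp)
  have hyA : y ∈ A := by rw [hA]; exact Subgroup.subset_closure (by simp)
  have hsub : (({1, z, x, z * x, y} : Finset P) : Set P) ⊆ (A : Set P) := by
    intro w hw
    simp only [Finset.coe_insert, Finset.coe_singleton, Set.mem_insert_iff, Set.mem_singleton_iff] at hw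
    rcases hw with h | h | h | h | h <;> rw [h]
    · exact one_mem A
    · exact hzA
    · exact hxA
    · exact mul_mem hzA hxA
    · exact hyA
  have h5 : 5 ≤ Nat.card A := by
    have h1 : Nat.card A = (A : Set P).ncard := Nat.card_coe_set_eq _
    have h2 := Set.ncard_le_ncard hsub (Set.toFinite _)
    rw [Set.ncard_coe_finset, hS] at h2
    omega
  omega

theorem swap_of_two_fixed {L : Type*} [Fintype L] [DecidableEq L] (hL : Fintype.card L = 5)
    (σ : Equiv.Perm L) (hσ : σ * σ = 1) (h1 : σ ≠ 1) {a b : L} (hab : a ≠ b) (ha : σ a = a)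
    (hb : σ b = b) : σ.IsSwap := by
  rw [← Equiv.Perm.card_support_eq_two]
  have hsub : σ.support ⊆ Finset.univ \ {a, b} := by
    intro w hw
    simp only [Finset.mem_sdiff, Finset.mem_univ, true_and, Finset.mem_insert, Finset.mem_singleton,
      not_or]
    rw [Equiv.Perm.mem_support] at hw
    exact ⟨fun h => hw (by rw [h, ha]), fun h => hw (by rw [h, hb])⟩
  have h3 : σ.support.card ≤ 3 := by
    have h4 := Finset.card_le_card hsub
    rw [Finset.card_sdiff_of_subset (Finset.subset_univ _), Finset.card_univ, hL, Finset.card_pair hab] at h4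
    omega
  have h2 := Equiv.Perm.two_le_card_support_of_ne_one h1
  have hne3 : σ.support.card ≠ 3 := by
    intro h
    have h4 := (card_support_eq_three_iff.1 h).orderOf
    have h5 : orderOf σ ∣ 2 := orderOf_dvd_of_pow_eq_one (by rw [pow_two]; exact hσ)
    rw [h4] at h5
    omega
  omega

theorem one_fixed {L : Type*} [Finite L] (hL : Nat.card L = 5) {R : Subgroup (Equiv.Perm L)}
    (hR : Nat.card R = 10) {φ σ : Equiv.Perm L} (hφ : orderOf φ = 5) (hφR : φ ∈ R) (hσR : σ ∈ R)
    (hσ : σ * σ = 1) (h1 : σ ≠ 1) {a b : L} (ha : σ a = a) (hb : σ b = b) : a = b := by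
  classical
  haveI := Fintype.ofFinite L
  by_contra hab
  have hL' : Fintype.card L = 5 := by rw [← Nat.card_eq_fintype_card]; exact hL
  have hsw := swap_of_two_fixed hL' σ hσ h1 hab ha hb
  have hp5 : Nat.Prime 5 := by norm_num
  have hcyc : φ.IsCycle := Equiv.Perm.isCycle_of_prime_order' (by rw [hφ]; exact hp5) (by rw [hL', hφ]; norm_num)
  have hsupp : φ.support = Finset.univ := by
    apply Finset.eq_univ_of_card
    rw [← hcyc.orderOf, hφ, hL']
  have htop := Equiv.Perm.closure_prime_cycle_swap (by rw [hL']; exact hp5) hcyc hsupp hsw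
  have hle : Subgroup.closure ({φ, σ} : Set (Equiv.Perm L)) ≤ R := by
    rw [Subgroup.closure_le]
    rintro w (rfl | rfl)
    · exact hφR
    · exact hσR
  rw [htop, top_le_iff] at hle
  rw [hle, Subgroup.card_top, Nat.card_eq_fintype_card, Fintype.card_perm, hL'] at hR
  revert hR
  decide

theorem cent_le {G : Type*} [Group G] [Finite G] (hG : Nat.card G = 320) (H : Subgroup G) [H.Normal]
    (hH32 : Nat.card H = 32) (hZ : Nat.card (Subgroup.center H) = 2)
    (hP : ∀ N : Subgroup G, N.Normal → IsPGroup 2 N → N ≤ H)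
    (hF : ∀ N : Subgroup G, N.Normal → Group.IsNilpotent N → N ≤ H) :
    Subgroup.centralizer (H : Set G) ≤ H := by
  classical
  obtain ⟨C, hCdef⟩ : ∃ C, C = Subgroup.centralizer (H : Set G) := ⟨_, rfl⟩
  rw [← hCdef]
  haveI hCn : C.Normal := by rw [hCdef]; infer_instance
  have hmemC : ∀ w ∈ C, ∀ g ∈ H, g * w = w * g := by
    intro w hw g hg
    rw [hCdef, Subgroup.mem_centralizer_iff] at hw
    exact hw g hg
  let f : ↥C →* G ⧸ H := (QuotientGroup.mk' H).comp C.subtype
  have hidx : H.index = 10 := by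
    have h1 := Subgroup.card_mul_index H
    rw [hH32, hG] at h1
    omega
  have hrange : Nat.card f.range ∣ 10 := by
    have h1 := Subgroup.card_subgroup_dvd_card f.range
    have h2 : Nat.card (G ⧸ H) = 10 := hidx
    rwa [h2] at h1
  have hmemH : ∀ c : ↥C, c ∈ f.ker → (c : G) ∈ H := by
    intro c hc
    have h1 : (QuotientGroup.mk' H) (c : G) = 1 := hc
    exact (QuotientGroup.eq_one_iff (c : G)).1 h1
  have hker : Nat.card f.ker ≤ 2 := by
    let i : f.ker → Subgroup.center H := fun c =>
      ⟨⟨((c : ↥C) : G), hmemH _ c.2⟩, by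
        rw [Subgroup.mem_center_iff]
        intro g
        apply Subtype.ext
        exact hmemC _ c.1.2 g g.2⟩
    have hi : Function.Injective i := by
      intro c d h
      have h1 := congrArg (fun w : Subgroup.center H => ((w : H) : G)) h
      exact Subtype.ext (Subtype.ext h1)
    have := Nat.card_le_card_of_injective i hi
    omega
  have hkpos : 0 < Nat.card f.ker := Nat.card_pos
  have hCcard : Nat.card f.ker * Nat.card f.range = Nat.card C := by
    rw [← Subgroup.index_ker f]
    exact Subgroup.card_mul_index f.ker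
  have hrcases : Nat.card f.range = 1 ∨ Nat.card f.range = 2 ∨ Nat.card f.range = 5 ∨ Nat.card f.range = 10 := by
    have h1 : Nat.card f.range ∈ Nat.divisors 10 := Nat.mem_divisors.2 ⟨hrange, by norm_num⟩
    have h2 : Nat.divisors 10 = {1, 2, 5, 10} := by decide
    rw [h2] at h1
    simpa using h1
  by_cases h5 : 5 ∣ Nat.card C
  · exfalso
    haveI : Fact (Nat.Prime 5) := ⟨by norm_num⟩
    obtain ⟨S⟩ : Nonempty (Sylow 5 ↥C) := inferInstance
    have hS5 : 5 ∣ Nat.card S := S.dvd_card_of_dvd_card h5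
    have hSi := Subgroup.card_mul_index (S : Subgroup ↥C)
    obtain ⟨k, hk⟩ := hS5
    have hidx4 : (S : Subgroup ↥C).index ∣ 4 := by
      have h20 : Nat.card C ∣ 20 := by
        have hk12 : Nat.card f.ker = 1 ∨ Nat.card f.ker = 2 := by omega
        rw [← hCcard]
        rcases hk12 with h | h <;> rcases hrcases with h' | h' | h' | h' <;> rw [h, h'] <;> norm_num
      rw [← hSi, hk] at h20
      have h6 : k * (S : Subgroup ↥C).index ∣ 4 := by
        have : 5 * (k * (S : Subgroup ↥C).index) ∣ 5 * 4 := by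
          rw [← mul_assoc]; exact h20
        exact Nat.dvd_of_mul_dvd_mul_left (by norm_num) this
      exact dvd_trans (Dvd.intro_left k rfl) h6
    have hn1 := S.card_dvd_index
    have hn2 := card_sylow_modEq_one 5 ↥C
    have hn : Nat.card (Sylow 5 ↥C) = 1 := by
      have h6 := dvd_trans hn1 hidx4
      have h7 : Nat.card (Sylow 5 ↥C) ∈ Nat.divisors 4 := Nat.mem_divisors.2 ⟨h6, by norm_num⟩
      have h8 : Nat.divisors 4 = {1, 2, 4} := by decide
      rw [h8] at h7
      simp only [Finset.mem_insert, Finset.mem_singleton] at h7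
      rcases h7 with h | h | h
      · exact h
      · rw [h] at hn2; exact absurd hn2 (by decide)
      · rw [h] at hn2; exact absurd hn2 (by decide)
    haveI : Subsingleton (Sylow 5 ↥C) := (Nat.card_eq_one_iff_unique.mp hn).1
    have hSn := Sylow.normal_of_subsingleton S
    haveI hSc := Sylow.characteristic_of_normal S hSn
    have hSm : ((S : Subgroup ↥C).map C.subtype).Normal :=
      Cfsg.Agent.Lib.H1Core.normal_map_of_characteristic C _
    have hSp : IsPGroup 5 ((S : Subgroup ↥C).map C.subtype) := S.isPGroup'.map _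
    have hSle := hF _ hSm hSp.isNilpotent
    have hd := Subgroup.card_dvd_of_le hSle
    have hcm : Nat.card ((S : Subgroup ↥C).map C.subtype) = Nat.card S :=
      (Nat.card_congr ((S : Subgroup ↥C).equivMapOfInjective C.subtype C.subtype_injective).toEquiv).symm
    rw [hcm, hH32, hk] at hd
    have h9 : 5 ∣ 32 := dvd_trans (Dvd.intro k rfl) hd
    omega
  · have hC4 : Nat.card C = 2 ^ 0 ∨ Nat.card C = 2 ^ 1 ∨ Nat.card C = 2 ^ 2 := by
      have hk12 : Nat.card f.ker = 1 ∨ Nat.card f.ker = 2 := by omega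
      rw [← hCcard] at h5 ⊢
      rcases hk12 with h | h <;> rcases hrcases with h' | h' | h' | h' <;> rw [h, h'] at h5 ⊢ <;>
        first
          | (exfalso; apply h5; norm_num; done)
          | norm_num
    apply hP C hCn
    rcases hC4 with h | h | h <;> exact IsPGroup.of_card h

/-- Let G be a finite group of order 320 = 64·5 whose largest normal 2-subgroup H = O₂(G) equals the Fitting subgroup F(G) and is extraspecial of order 32 containing no elementary abelian subgroup of order 8 (so H is the central product of a quaternion group and a dihedral group of order 8). If T is an involution of G outside H whose centralizer in H contains an elementary abelian subgroup of order 4, then C_H(T) itself is elementary abelian of order 4. -/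
theorem result {G : Type*} [Group G] [Finite G]
    (hG : Nat.card G = 320) (hHF : Cfsg.pCore 2 G = Cfsg.fittingSubgroup G)
    (hex : Cfsg.IsExtraspecial 2 ↥(Cfsg.pCore 2 G)) (h32 : Nat.card ↥(Cfsg.pCore 2 G) = 32)
    (hminus : ∀ A : Subgroup G, A ≤ Cfsg.pCore 2 G → Cfsg.IsElementaryAbelian 2 A → Nat.card ↥A ≤ 4)
    (T : G) (hT : orderOf T = 2) (hTH : T ∉ Cfsg.pCore 2 G)
    (V : Subgroup G) (hV : V ≤ Cfsg.pCore 2 G ⊓ Subgroup.centralizer ({T} : Set G)) (hV4 : Nat.card ↥V = 4) (hVe : Cfsg.IsElementaryAbelian 2 V) :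
    Nat.card ↥(Cfsg.pCore 2 G ⊓ Subgroup.centralizer ({T} : Set G)) = 4 ∧
      Cfsg.IsElementaryAbelian 2 (Cfsg.pCore 2 G ⊓ Subgroup.centralizer ({T} : Set G)) := by
  classical
  have hHn : (Cfsg.pCore 2 G).Normal := Cfsg.Agent.Lib.H1Core.pCore_normal 2 G
  have hP : ∀ N : Subgroup G, N.Normal → IsPGroup 2 N → N ≤ Cfsg.pCore 2 G :=
    fun N h1 h2 => le_sSup ⟨h1, h2⟩
  have hF : ∀ N : Subgroup G, N.Normal → Group.IsNilpotent N → N ≤ Cfsg.pCore 2 G :=
    fun N h1 h2 => by rw [hHF]; exact le_sSup ⟨h1, h2⟩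
  clear hHF
  generalize Cfsg.pCore 2 G = H at *
  haveI := hHn
  obtain ⟨z, hX, -⟩ := xs_of_ex hex
  have hminus' : ∀ A : Subgroup ↥H, Cfsg.IsElementaryAbelian 2 A → Nat.card A ≤ 4 := by
    intro A hA
    have hc := hA.1.is_comm.comm
    have h1 := hminus (A.map H.subtype) (by rintro _ ⟨a, -, rfl⟩; exact a.2) ⟨⟨⟨by
      rintro ⟨_, a, ha, rfl⟩ ⟨_, b, hb, rfl⟩
      apply Subtype.ext
      have h9 := congrArg Subtype.val (congrArg Subtype.val (hc ⟨a, ha⟩ ⟨b, hb⟩))
      exact h9⟩⟩, by
      rintro _ ⟨a, ha, rfl⟩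
      have h9 := congrArg Subtype.val (hA.2 a ha)
      exact h9⟩
    have h2 : Nat.card (A.map H.subtype) = Nat.card A :=
      (Nat.card_congr (A.equivMapOfInjective H.subtype H.subtype_injective).toEquiv).symm
    rwa [h2] at h1
  have h12 : Nat.card {x : ↥H // x ^ 2 = 1} = 12 := by
    obtain ⟨m, hm1, hm2⟩ := S3763.rq _ ↥H z rfl hX
    have hm : m = 2 := by
      have h1 : (2 : ℕ) ^ (2 * m + 1) = 2 ^ 5 := by rw [← hm1, h32]; norm_num
      have h2 := Nat.pow_right_injective (le_refl 2) h1
      omega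
    subst hm
    have hP2 : Cfsg.PRankLE 2 2 ↥H := fun A hc he => hminus' A ⟨hc, he⟩
    rcases hm2 with ⟨-, -, h3⟩ | ⟨-, h2, -⟩
    · exact absurd hP2 h3
    · rw [h2]; norm_num
  obtain ⟨hker, -, -⟩ := main_all hX h32 h12 hex.2
  have hL := card_lines hX h12
  have hCle := cent_le hG H h32 hex.2 hP hF
  let π : G →* Equiv.Perm (Lines z) := (rho hX).comp (MulAut.conjNormal : G →* MulAut ↥H)
  have hconj : ∀ (g : G) (p : ↥H), ((MulAut.conjNormal g p : ↥H) : G) = g * p * g⁻¹ :=
    fun g p => MulAut.conjNormal_apply g p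
  have hπker : π.ker = H := by
    apply le_antisymm
    · intro g hg
      have h1 : (MulAut.conjNormal g : MulAut ↥H) ∈ (rho hX).ker := hg
      rw [hker] at h1
      obtain ⟨p, hp⟩ := h1
      have h2 : (p : G)⁻¹ * g ∈ Subgroup.centralizer (H : Set G) := by
        rw [Subgroup.mem_centralizer_iff]
        intro q hq
        have h3 : ((MulAut.conj p ⟨q, hq⟩ : ↥H) : G) = ((MulAut.conjNormal g ⟨q, hq⟩ : ↥H) : G) := by
          rw [hp]
        have h4 : (p : G) * q * (p : G)⁻¹ = g * q * g⁻¹ := by
          rw [hconj g ⟨q, hq⟩] at h3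
          exact h3
        calc q * ((p : G)⁻¹ * g) = (p : G)⁻¹ * ((p : G) * q * (p : G)⁻¹) * g := by group
          _ = (p : G)⁻¹ * (g * q * g⁻¹) * g := by rw [h4]
          _ = (p : G)⁻¹ * g * q := by group
      have h6 := hCle h2
      have h7 : g = (p : G) * ((p : G)⁻¹ * g) := by group
      rw [h7]
      exact mul_mem p.2 h6
    · intro h hh
      rw [MonoidHom.mem_ker]
      have h1 : (MulAut.conjNormal h : MulAut ↥H) = MulAut.conj (⟨h, hh⟩ : ↥H) := by
        apply MulEquiv.ext
        intro p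
        apply Subtype.ext
        rw [hconj]
        rfl
      change rho hX (MulAut.conjNormal h) = 1
      rw [h1]
      exact conj_le_ker hX ⟨_, rfl⟩
  have hRcard : Nat.card π.range = 10 := by
    rw [← Subgroup.index_ker, hπker]
    have h1 := Subgroup.card_mul_index H
    rw [h32, hG] at h1
    omega
  haveI : Fact (Nat.Prime 5) := ⟨by norm_num⟩
  obtain ⟨f, hf⟩ : ∃ f : G, orderOf f = 5 := exists_prime_orderOf_dvd_card' 5 (by rw [hG]; norm_num)
  have hfH : f ∉ H := by
    intro h
    have h1 := Subgroup.orderOf_dvd_natCard H h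
    rw [hf, h32] at h1
    omega
  have hf5 : f ^ 5 = 1 := by rw [← hf]; exact pow_orderOf_eq_one f
  have hφ : orderOf (π f) = 5 := orderOf_eq_prime (by rw [← map_pow, hf5, map_one]) (by
    intro h
    apply hfH
    rw [← hπker]
    exact MonoidHom.mem_ker.2 h)
  have hTT : T * T = 1 := by rw [← pow_two, ← hT]; exact pow_orderOf_eq_one T
  have hσ : π T * π T = 1 := by rw [← map_mul, hTT, map_one]
  have hσ1 : π T ≠ 1 := by
    intro h
    apply hTH
    rw [← hπker]
    exact MonoidHom.mem_ker.2 h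
  have hfixed : ∀ a b : Lines z, π T a = a → π T b = b → a = b := fun a b ha hb =>
    one_fixed hL hRcard hφ ⟨f, rfl⟩ ⟨T, rfl⟩ hσ hσ1 ha hb
  obtain ⟨τ, hτdef⟩ : ∃ τ : MulAut ↥H, τ = MulAut.conjNormal T := ⟨_, rfl⟩
  have hπτ : π T = rho hX τ := by rw [hτdef]; rfl
  have hτa : ∀ p : ↥H, ((τ p : ↥H) : G) = T * p * T⁻¹ := by
    intro p; rw [hτdef]; exact hconj T p
  have hτ : ∀ p, τ (τ p) = p := by
    have h1 : τ * τ = 1 := by rw [hτdef, ← map_mul, hTT, map_one]
    exact fun p => DFunLike.congr_fun h1 p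
  have hτz : τ z = z := phi_z hX τ
  have hone : ∀ u v : ↥H, u * u = 1 → u ≠ 1 → u ≠ z → (τ u = u ∨ τ u = z * u) →
       v * v = 1 → v ≠ 1 → v ≠ z → (τ v = v ∨ τ v = z * v) → v = u ∨ v = z * u := by
    intro u v huu hu1 huz hτu hvv hv1 hvz hτv
    have fix : ∀ (w : ↥H) (hw : ∃ x : ↥H, mkZ ↥H x = mkZ ↥H w ∧ x * x = 1 ∧ x ≠ 1 ∧ x ≠ z),
        (τ w = w ∨ τ w = z * w) → π T ⟨mkZ ↥H w, hw⟩ = ⟨mkZ ↥H w, hw⟩ := by
      intro w hw hτw
      apply Subtype.ext
      rw [hπτ, rho_apply]
      have h1 := mk_congr hX τ (sec_spec (⟨mkZ ↥H w, hw⟩ : Lines z)).1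
      rw [h1]
      exact ((mk_eq_iff hX).2 hτw).symm
    have h3 := hfixed _ _ (fix u ⟨u, rfl, huu, hu1, huz⟩ hτu) (fix v ⟨v, rfl, hvv, hv1, hvz⟩ hτv)
    have h2 : mkZ ↥H u = mkZ ↥H v := congrArg Subtype.val h3
    exact (mk_eq_iff hX).1 h2
  obtain ⟨V', hV'def⟩ : ∃ V' : Subgroup ↥H, V' = V.subgroupOf H := ⟨_, rfl⟩
  have hVH : V ≤ H := le_trans hV inf_le_left
  have hV'card : Nat.card V' = 4 := by
    rw [← hV4, hV'def]
    exact Nat.card_congr (Subgroup.subgroupOfEquivOfLe hVH).toEquiv
  have hV'mem : ∀ p : ↥H, p ∈ V' ↔ (p : G) ∈ V := by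
    intro p
    rw [hV'def]
    exact Subgroup.mem_subgroupOf
  have hV'ncard : (V' : Set ↥H).ncard = 4 := by
    rw [← hV'card]
    exact (Nat.card_coe_set_eq _).symm
  obtain ⟨x, hxV, hx1, hxz⟩ : ∃ x ∈ V', x ≠ 1 ∧ x ≠ z := by
    by_contra hcon
    push Not at hcon
    have hsub : (V' : Set ↥H) ⊆ (({1, z} : Finset ↥H) : Set ↥H) := by
      intro w hw
      by_cases hw1 : w = 1
      · simp [hw1]
      · simp [hcon w hw hw1]
    have h2 := Set.ncard_le_ncard hsub (Set.toFinite _)
    rw [Set.ncard_coe_finset, hV'ncard] at h2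
    have h3 := Finset.card_le_two (a := (1 : ↥H)) (b := z)
    omega
  have hVsq : ∀ p ∈ V', p * p = 1 := by
    intro p hp
    have h1 := hVe.2 _ ((hV'mem p).1 hp)
    apply Subtype.ext
    rw [pow_two] at h1
    exact h1
  have hVcomm : ∀ p ∈ V', ∀ q ∈ V', p * q = q * p := by
    intro p hp q hq
    have h1 := hVe.1.is_comm.comm ⟨(p : G), (hV'mem p).1 hp⟩ ⟨(q : G), (hV'mem q).1 hq⟩
    apply Subtype.ext
    have h2 := congrArg Subtype.val h1
    exact h2
  have hxx := hVsq x hxV
  have hinv : ∀ y, y * y = 1 → y * x = x * y → y = 1 ∨ y = z ∨ y = x ∨ y = z * x := fun y hy hyx =>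
    inv_from_rank hX hminus' hxx hx1 hxz hy hyx
  have hVeq : (V' : Set ↥H) = (({1, z, x, z * x} : Finset ↥H) : Set ↥H) := by
    apply Set.eq_of_subset_of_ncard_le
    · intro w hw
      have := hinv w (hVsq w hw) (hVcomm w hw x hxV)
      simpa using this
    · rw [Set.ncard_coe_finset, hV'ncard]
      exact Finset.card_le_four
    · exact Set.toFinite _
  have hτx : τ x = x := by
    apply Subtype.ext
    rw [hτa]
    have h1 : (x : G) ∈ Subgroup.centralizer ({T} : Set G) := (hV ((hV'mem x).1 hxV)).2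
    rw [Subgroup.mem_centralizer_iff] at h1
    have h2 := h1 T (Set.mem_singleton T)
    rw [h2, mul_inv_cancel_right]
  have hexy : ∃ y : ↥H, y * y = 1 ∧ y ≠ 1 ∧ y ≠ z ∧ y ≠ x ∧ y ≠ z * x := by
    let ℓ₀ : Lines z := ⟨mkZ ↥H x, x, rfl, hxx, hx1, hxz⟩
    haveI : Nontrivial (Lines z) := Finite.one_lt_card_iff_nontrivial.1 (by rw [hL]; norm_num)
    obtain ⟨ℓ, hℓ⟩ := exists_ne ℓ₀
    refine ⟨sec ℓ, (sec_spec ℓ).2.1, (sec_spec ℓ).2.2.1, (sec_spec ℓ).2.2.2, ?_, ?_⟩
    · intro h
      apply hℓ
      apply Subtype.ext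
      rw [← (sec_spec ℓ).1, h]
    · intro h
      apply hℓ
      apply Subtype.ext
      rw [← (sec_spec ℓ).1]
      exact ((mk_eq_iff hX).2 (Or.inr h)).symm
  have hle : H ⊓ Subgroup.centralizer ({T} : Set G) ≤ V := by
    intro c hc
    have hcH : c ∈ H := hc.1
    have hcT : c ∈ Subgroup.centralizer ({T} : Set G) := hc.2
    rw [Subgroup.mem_centralizer_iff] at hcT
    have hτc : τ ⟨c, hcH⟩ = ⟨c, hcH⟩ := by
      apply Subtype.ext
      rw [hτa]
      change T * c * T⁻¹ = c
      rw [hcT T (Set.mem_singleton T), mul_inv_cancel_right]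
    have h1 := core hX τ hτ hτz hxx hx1 hxz hτx hτc hinv hone hexy
    have h2 : (⟨c, hcH⟩ : ↥H) ∈ (V' : Set ↥H) := by
      rw [hVeq]
      simpa using h1
    exact (hV'mem _).1 h2
  have hEq : H ⊓ Subgroup.centralizer ({T} : Set G) = V := le_antisymm hle hV
  rw [hEq]
  exact ⟨hV4, hVe⟩

end Cfsg.Agent.S4405
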