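import Cfsg.Statements.S4856
import Cfsg.Agent.Lib.H4Char

set_option autoImplicit false
open Cfsg

namespace Cfsg.Agent.S4856

/-- For an element z of a finite group G, the number of pairs (x, y) of elements with x y x⁻¹ y⁻¹ = z equals the order of G times the sum over the irreducible characters χ of χ(z)/χ(1). -/
theorem result {G : Type*} [Group G] [Finite G] (z : G) : (Nat.card {xy : G × G // xy.1 * xy.2 * xy.1⁻¹ * xy.2⁻¹ = z} : ℂ) = (Nat.card G : ℂ) * ∑ᶠ χ : Cfsg.IrrCharacter G, (χ : G → ℂ) z / (χ : G → ℂ) 1 := by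
  classical
  have := Fintype.ofFinite G
  have := Fintype.ofFinite (Cfsg.IrrCharacter G)
  obtain ⟨f, hf⟩ : ∃ f : G → ℂ, f = fun z => ∑ x : G, ∑ y : G, if x * y * x⁻¹ * y⁻¹ = z then 1 else 0 := ⟨_, rfl⟩
  have hcard : (Nat.card {xy : G × G // xy.1 * xy.2 * xy.1⁻¹ * xy.2⁻¹ = z} : ℂ) = f z := by
    rw [hf]
    simp only
    rw [← Fintype.sum_prod_type' (f := fun x y : G => if x * y * x⁻¹ * y⁻¹ = z then (1 : ℂ) else 0), Nat.card_eq_fintype_card, Fintype.card_subtype, Finset.sum_boole]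
  have hfc : IsClassFunction G f := by
    intro g t
    rw [hf]
    simp only
    rw [← Equiv.sum_comp (MulAut.conj t).toEquiv]
    refine Finset.sum_congr rfl fun x _ => ?_
    rw [← Equiv.sum_comp (MulAut.conj t).toEquiv]
    refine Finset.sum_congr rfl fun y _ => ?_
    have h1 : (MulAut.conj t).toEquiv x = t * x * t⁻¹ := rfl
    have h2 : (MulAut.conj t).toEquiv y = t * y * t⁻¹ := rfl
    rw [h1, h2]
    have h3 : t * x * t⁻¹ * (t * y * t⁻¹) * (t * x * t⁻¹)⁻¹ * (t * y * t⁻¹)⁻¹ = t * (x * y * x⁻¹ * y⁻¹) * t⁻¹ := by group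
    rw [h3]
    simp only [mul_left_inj, mul_right_inj]
  have hin : ∀ χ : Cfsg.IrrCharacter G, classInner f (χ : G → ℂ) * (χ : G → ℂ) 1 = (Nat.card G : ℂ) := by
    intro χ
    have hne : (Nat.card G : ℂ) ≠ 0 := by exact_mod_cast Nat.card_pos.ne'
    have h1 : ∑ z : G, f z * (starRingEnd ℂ) (χ.1 z) = ∑ x : G, ∑ y : G, χ.1 (y * x * y⁻¹ * x⁻¹) := by
      rw [hf]
      simp only
      simp_rw [Finset.sum_mul]
      rw [Finset.sum_comm]
      refine Finset.sum_congr rfl fun x _ => ?_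
      rw [Finset.sum_comm]
      refine Finset.sum_congr rfl fun y _ => ?_
      rw [Finset.sum_eq_single (x * y * x⁻¹ * y⁻¹)]
      · rw [if_pos rfl, one_mul, ← Lib.IrrBasic.val_inv]
        congr 1
        group
      · intro b _ hb
        rw [if_neg (Ne.symm hb), zero_mul]
      · intro h
        exact absurd (Finset.mem_univ _) h
    have h2 : ∑ x : G, (∑ y : G, χ.1 (y * x * y⁻¹ * x⁻¹)) * χ.1 1 = (Nat.card G : ℂ) * (Nat.card G : ℂ) := by
      simp_rw [Lib.H4Char.sum_commutator_val]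
      rw [← Finset.mul_sum, Lib.IrrBasic.sum_val_mul_conj, if_pos rfl]
    rw [← Finset.sum_mul, ← h1] at h2
    rw [classInner]
    rw [mul_assoc, h2, ← mul_assoc, inv_mul_cancel₀ hne, one_mul]
  rw [hcard, finsum_eq_sum_of_fintype]
  have h1 := congrFun (Lib.CharOrth.classFun_eq_sum f hfc) z
  rw [h1, Finset.sum_apply, Finset.mul_sum]
  refine Finset.sum_congr (by ext; simp) fun χ _ => ?_
  rw [Pi.smul_apply, smul_eq_mul, ← hin χ]
  have := Lib.IrrBasic.val_one_ne_zero χ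
  field_simp

end Cfsg.Agent.S4856
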