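import Cfsg.Statements.S4814
import Cfsg.Agent.S4856
import Cfsg.Agent.Lib.CharAlg

set_option autoImplicit false
open Cfsg

namespace Cfsg.Agent.S4814

/-- Let G be a finite group such that the sum, over the irreducible complex characters χ of G, of 1/χ(1)² is less than 2. Then every element of G is a product of two commutators. -/
theorem result {G : Type*} [Group G] [Finite G]
    (h : ∑ᶠ χ : Cfsg.IrrCharacter G, 1 / ‖(χ : G → ℂ) 1‖ ^ 2 < (2 : ℝ)) (g : G) :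
    ∃ a b c d : G, (a * b * a⁻¹ * b⁻¹) * (c * d * c⁻¹ * d⁻¹) = g := by
  classical
  have := Fintype.ofFinite G
  have := Fintype.ofFinite (Cfsg.IrrCharacter G)
  have hF : ∀ u : G, (Nat.card {xy : G × G // xy.1 * xy.2 * xy.1⁻¹ * xy.2⁻¹ = u} : ℂ) =
      (Nat.card G : ℂ) * ∑ χ : Cfsg.IrrCharacter G, χ.1 u / χ.1 1 := by
    intro u
    rw [Cfsg.Agent.S4856.result u, finsum_eq_sum_of_fintype]
  obtain ⟨F, hFd⟩ : ∃ F : G → ℂ, F = fun u => (Nat.card {xy : G × G // xy.1 * xy.2 * xy.1⁻¹ * xy.2⁻¹ = u} : ℂ) := ⟨_, rfl⟩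
  have hne : (Nat.card G : ℂ) ≠ 0 := by exact_mod_cast Nat.card_pos.ne'
  have hex : ∀ u, F u ≠ 0 → ∃ a b : G, a * b * a⁻¹ * b⁻¹ = u := by
    intro u hu
    rw [hFd] at hu
    simp only at hu
    have h1 : Nat.card {xy : G × G // xy.1 * xy.2 * xy.1⁻¹ * xy.2⁻¹ = u} ≠ 0 := by
      intro h
      rw [h] at hu
      simp at hu
    obtain ⟨⟨⟨a, b⟩, hab⟩⟩ := (Nat.card_ne_zero.mp h1).1
    exact ⟨a, b, hab⟩
  by_contra hcon
  have hzero : ∀ u, F u * F (u⁻¹ * g) = 0 := by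
    intro u
    by_contra h0
    obtain ⟨a, b, hab⟩ := hex u (left_ne_zero_of_mul h0)
    obtain ⟨c, d, hcd⟩ := hex _ (right_ne_zero_of_mul h0)
    apply hcon
    refine ⟨a, b, c, d, ?_⟩
    rw [hab, hcd]
    group
  have hsum : ∑ u, F u * F (u⁻¹ * g) = (Nat.card G : ℂ) * (Nat.card G : ℂ) * (Nat.card G : ℂ) * ∑ χ : Cfsg.IrrCharacter G, χ.1 g / (χ.1 1 * χ.1 1 * χ.1 1) := by
    have h1 : ∀ u, F u * F (u⁻¹ * g) = (Nat.card G : ℂ) * (Nat.card G : ℂ) * ∑ χ : Cfsg.IrrCharacter G, ∑ ψ : Cfsg.IrrCharacter G, (χ.1 u / χ.1 1) * (ψ.1 (u⁻¹ * g) / ψ.1 1) := by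
      intro u
      rw [hFd]
      simp only
      rw [hF, hF, ← Finset.sum_mul_sum]
      ring
    simp_rw [h1]
    rw [← Finset.mul_sum, Finset.sum_comm]
    rw [mul_assoc ((Nat.card G : ℂ) * (Nat.card G : ℂ))]
    congr 1
    rw [Finset.mul_sum]
    refine Finset.sum_congr rfl fun χ _ => ?_
    rw [Finset.sum_comm, Finset.sum_eq_single χ]
    · have h3 := Lib.H4Char.sum_val_mul_val_inv χ χ g
      rw [if_pos rfl] at h3
      have h4 : ∑ u : G, (χ.1 u / χ.1 1) * (χ.1 (u⁻¹ * g) / χ.1 1) = (∑ u : G, χ.1 u * χ.1 (u⁻¹ * g)) / (χ.1 1 * χ.1 1) := by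
        rw [Finset.sum_div]
        refine Finset.sum_congr rfl fun u _ => ?_
        ring
      rw [h4]
      have hv := Lib.IrrBasic.val_one_ne_zero χ
      field_simp
      field_simp at h3
      linear_combination h3
    · intro ψ _ hψ
      have h3 := Lib.H4Char.sum_val_mul_val_inv χ ψ g
      rw [if_neg (Ne.symm hψ)] at h3
      have hv := Lib.IrrBasic.val_one_ne_zero χ
      have h5 := (mul_eq_zero.mp h3).resolve_right hv
      have h4 : ∑ u : G, (χ.1 u / χ.1 1) * (ψ.1 (u⁻¹ * g) / ψ.1 1) = (∑ u : G, χ.1 u * ψ.1 (u⁻¹ * g)) / (χ.1 1 * ψ.1 1) := by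
        rw [Finset.sum_div]
        refine Finset.sum_congr rfl fun u _ => ?_
        ring
      rw [h4, h5, zero_div]
    · intro h'
      exact absurd (Finset.mem_univ _) h'
  have hR : ∑ χ : Cfsg.IrrCharacter G, χ.1 g / (χ.1 1 * χ.1 1 * χ.1 1) = 0 := by
    have h1 : ∑ u, F u * F (u⁻¹ * g) = 0 := Finset.sum_eq_zero fun u _ => hzero u
    rw [hsum] at h1
    exact (mul_eq_zero.mp h1).resolve_left (mul_ne_zero (mul_ne_zero hne hne) hne)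
  obtain ⟨χ₁, hχ₁⟩ : ∃ χ₁ : Cfsg.IrrCharacter G, χ₁.1 = fun _ => (1 : ℂ) := ⟨⟨fun _ => 1, Lib.CharAlg.isIrrCharacter_one⟩, rfl⟩
  rw [← Finset.add_sum_erase _ _ (Finset.mem_univ χ₁)] at hR
  have h1 : χ₁.1 g / (χ₁.1 1 * χ₁.1 1 * χ₁.1 1) = 1 := by
    rw [hχ₁]
    norm_num
  rw [h1] at hR
  have h2 : ‖∑ χ ∈ Finset.univ.erase χ₁, χ.1 g / (χ.1 1 * χ.1 1 * χ.1 1)‖ = 1 := by
    have h3 : ∑ χ ∈ Finset.univ.erase χ₁, χ.1 g / (χ.1 1 * χ.1 1 * χ.1 1) = -1 := by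
      linear_combination hR
    rw [h3]
    simp
  rw [finsum_eq_sum_of_fintype, ← Finset.add_sum_erase _ _ (Finset.mem_univ χ₁)] at h
  have h3 : 1 / ‖χ₁.1 1‖ ^ 2 = 1 := by
    rw [hχ₁]
    simp
  rw [h3] at h
  have h4 : ‖∑ χ ∈ Finset.univ.erase χ₁, χ.1 g / (χ.1 1 * χ.1 1 * χ.1 1)‖ ≤ ∑ χ ∈ Finset.univ.erase χ₁, 1 / ‖χ.1 1‖ ^ 2 := by
    refine (norm_sum_le _ _).trans (Finset.sum_le_sum fun χ _ => ?_)
    have hpos : 0 < ‖χ.1 1‖ := norm_pos_iff.mpr (Lib.IrrBasic.val_one_ne_zero χ)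
    have hle : ‖χ.1 g‖ ≤ ‖χ.1 1‖ := by
      have := Lib.IrrBasic.val_norm_le χ g
      rw [Lib.IrrBasic.val_one]
      simpa using this
    rw [norm_div, norm_mul, norm_mul]
    rw [div_le_div_iff₀ (by positivity) (by positivity)]
    have h6 : ‖χ.1 g‖ * ‖χ.1 1‖ ^ 2 ≤ ‖χ.1 1‖ * ‖χ.1 1‖ ^ 2 := by
      exact mul_le_mul_of_nonneg_right hle (by positivity)
    nlinarith
  linarith

end Cfsg.Agent.S4814
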