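import Cfsg.Statements.S5178
import Mathlib
import Cfsg.Agent.Lib.FusTvSmall
import Cfsg.Agent.Lib.FusTransv4

set_option autoImplicit false
universe u
open Cfsg

namespace Cfsg.Agent.S5178


open Subgroup Cfsg.FusionSystem Cfsg.Agent.Lib.FusBasic Cfsg.Agent.Lib.FusAut Cfsg.Agent.Lib.FusSat Cfsg.Agent.Lib.FusTransv2 Cfsg.Agent.Lib.FusAbIdx Cfsg.Agent.Lib.FusTvSmall

theorem comm_central {G : Type*} [Group G] {u v c d : G} (h1 : Commute u c) (h2 : Commute u d) (h3 : Commute v c) (h4 : Commute v d) (h5 : Commute u v) :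
    (u * c) * (v * d) * (u * c)⁻¹ * (v * d)⁻¹ = c * d * c⁻¹ * d⁻¹ := by
  have e1 : (u * c) * (v * d) = u * v * (c * d) := by
    calc (u * c) * (v * d) = u * (c * v) * d := by group
      _ = u * (v * c) * d := by rw [h3.eq.symm]
      _ = _ := by group
  have e2 : (v * d) * (u * c) = v * u * (d * c) := by
    calc (v * d) * (u * c) = v * (d * u) * c := by group
      _ = v * (u * d) * c := by rw [h2.eq.symm]
      _ = _ := by group
  have hu : Commute u (c * d * c⁻¹ * d⁻¹) := ((h1.mul_right h2).mul_right h1.inv_right).mul_right h2.inv_right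
  have hv : Commute v (c * d * c⁻¹ * d⁻¹) := ((h3.mul_right h4).mul_right h3.inv_right).mul_right h4.inv_right
  generalize hw : c * d * c⁻¹ * d⁻¹ = w at hu hv
  calc (u * c) * (v * d) * (u * c)⁻¹ * (v * d)⁻¹ = ((u * c) * (v * d)) * ((v * d) * (u * c))⁻¹ := by group
    _ = (u * v * (c * d)) * ((v * u) * (d * c))⁻¹ := by rw [e1, e2]
    _ = u * v * (c * d * c⁻¹ * d⁻¹) * u⁻¹ * v⁻¹ := by group
    _ = u * (v * w) * u⁻¹ * v⁻¹ := by rw [hw]; group
    _ = (u * w) * v * u⁻¹ * v⁻¹ := by rw [hv.eq]; group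
    _ = w * (u * v) * u⁻¹ * v⁻¹ := by rw [hu.eq]; group
    _ = w * (v * u) * u⁻¹ * v⁻¹ := by rw [h5.eq]
    _ = w := by group

/-- Let p be an odd prime, S a finite p-group containing an extraspecial subgroup Q of index p, and F a saturated fusion system over S whose largest subgroup normal in F is trivial. Then the centre of S equals the centre of Q. -/
theorem result {Ω : Type u} [Group Ω] {S : Subgroup Ω} [Finite S] (p : ℕ) [Fact p.Prime] (hp : Odd p) (hS : IsPGroup p S)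
    (Q : Subgroup Ω) (hQS : Q ≤ S) (hQ : Cfsg.IsExtraspecial p ↥Q) (hQi : (Q.subgroupOf S).index = p)
    (F : Cfsg.FusionSystem S) (hF : F.IsSaturated p) (hO : F.core = ⊥) :
    S ⊓ Subgroup.centralizer (S : Set Ω) = Q ⊓ Subgroup.centralizer (Q : Set Ω) := by
  classical
  have hP : p.Prime := Fact.out
  have hp2 : p ≠ 2 := by
    rintro rfl
    exact (by decide : ¬ Odd 2) hp
  obtain ⟨a, haQ, ha1, hap, hac, hc, hcen⟩ := es_gen hQ
  haveI hfQ : Finite Q := finite_of_le hQS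
  have hord : orderOf a = p := orderOf_eq_prime hap ha1
  have hcard : Nat.card (zpowers a) = p := by rw [Nat.card_zpowers, hord]
  obtain ⟨y, hyS, hyQ⟩ : ∃ y ∈ S, y ∉ Q := by
    by_contra hall
    push_neg at hall
    have h1 : Q.subgroupOf S = ⊤ := by
      rw [eq_top_iff]
      intro x _
      exact Subgroup.mem_subgroupOf.2 (hall x x.2)
    rw [h1, Subgroup.index_top] at hQi
    exact hP.one_lt.ne hQi
  obtain ⟨hnorm, -, -⟩ := dec_of_index hS hQi hyS hyQ
  have hconjcen : ∀ s ∈ S, s * a * s⁻¹ ∈ zpowers a := by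
    intro s hs
    have hmem := hnorm s hs a haQ (hQS haQ)
    apply hcen _ hmem
    intro t ht
    have h1 := hnorm s⁻¹ (S.inv_mem hs) t ht (hQS ht)
    have h2 := hac _ h1
    have e : s⁻¹⁻¹ * (s⁻¹ * t * s⁻¹⁻¹) * s⁻¹ = t := by group
    have h3 : s * (s⁻¹ * t * s⁻¹⁻¹ * a) * s⁻¹ = s * (a * (s⁻¹ * t * s⁻¹⁻¹)) * s⁻¹ := by rw [h2]
    calc t * (s * a * s⁻¹) = s * (s⁻¹ * t * s⁻¹⁻¹ * a) * s⁻¹ := by group
      _ = s * (a * (s⁻¹ * t * s⁻¹⁻¹)) * s⁻¹ := h3
      _ = s * a * s⁻¹ * t := by group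
  have haZ : a ∈ Zs S := central_of_normal hS (hQS haQ) ha1 hap hconjcen
  have hS1 : S ≠ ⊥ := by
    intro e
    apply ha1
    have := hQS haQ
    rw [e, Subgroup.mem_bot] at this
    exact this
  apply le_antisymm
  · intro z hz
    by_contra hzQ'
    have hzZ : z ∈ Zs S := hz
    have hzS := (mem_Zs.1 hzZ).1
    have hzc := (mem_Zs.1 hzZ).2
    have hzQ : z ∉ Q := fun h => hzQ' (Subgroup.mem_inf.2 ⟨h, Subgroup.mem_centralizer_iff.2 fun g hg => hzc g (hQS hg)⟩)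
    obtain ⟨-, -, hdecz⟩ := dec_of_index hS hQi hzS hzQ
    have hcS : ∀ s ∈ S, ∀ t ∈ S, s * t * s⁻¹ * t⁻¹ ∈ zpowers a := by
      intro s hs t ht
      obtain ⟨i, hi⟩ := hdecz s hs
      obtain ⟨j, hj⟩ := hdecz t ht
      have hzi : ∀ k : ℤ, z ^ k ∈ Zs S := fun k => Subgroup.zpow_mem _ hzZ k
      set c := (z ^ i)⁻¹ * s with hcd
      set d := (z ^ j)⁻¹ * t with hdd
      have es : s = z ^ i * c := by rw [hcd]; group
      have et : t = z ^ j * d := by rw [hdd]; group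
      have hcS : c ∈ S := hQS hi
      have hdS : d ∈ S := hQS hj
      have e : s * t * s⁻¹ * t⁻¹ = c * d * c⁻¹ * d⁻¹ := by
        rw [es, et]
        exact comm_central ((mem_Zs.1 (hzi i)).2 c hcS).symm ((mem_Zs.1 (hzi i)).2 d hdS).symm ((mem_Zs.1 (hzi j)).2 c hcS).symm ((mem_Zs.1 (hzi j)).2 d hdS).symm ((Commute.refl z).zpow_zpow i j)
      rw [e]
      exact hc c hi d hj
    rcases der_index hS hF hO hS1 haZ hcard hcS with h2 | hab
    · have hna : ¬ ∀ a b : S, a * b = b * a := by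
        intro hab
        obtain ⟨s, hs, t, ht, e⟩ := es_nonab hQ
        exact e (congrArg Subtype.val (hab ⟨s, hQS hs⟩ ⟨t, hQS ht⟩))
      obtain ⟨a', hc'⟩ := exists_ctx hS hna h2
      have hZ := Cfsg.Agent.Lib.FusTransv4.odd_main hS hF hc' hS1 hO hp2
      have h3 := zpowers_le_of hc'.hap (hZ a haZ) ha1
      exact hzQ ((Subgroup.zpowers_le.2 haQ) (h3 (hZ z hzZ)))
    · obtain ⟨s, hs, t, ht, e⟩ := es_nonab hQ
      exact e (congrArg Subtype.val (hab ⟨s, hQS hs⟩ ⟨t, hQS ht⟩))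
  · intro u hu
    obtain ⟨hu1, hu2⟩ := Subgroup.mem_inf.1 hu
    obtain ⟨n, hn⟩ := hcen u hu1 (fun s hs => Subgroup.mem_centralizer_iff.1 hu2 s hs)
    rw [← show a ^ n = u from hn]
    exact Subgroup.zpow_mem _ haZ n

end Cfsg.Agent.S5178
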