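import Cfsg.Statements.S5179
import Mathlib
import Cfsg.Agent.Lib.FusTvSmall

set_option autoImplicit false
universe u
open Cfsg

namespace Cfsg.Agent.S5179


open Subgroup Cfsg.FusionSystem Cfsg.Agent.Lib.FusBasic Cfsg.Agent.Lib.FusAut Cfsg.Agent.Lib.FusSat Cfsg.Agent.Lib.FusTransv2 Cfsg.Agent.Lib.FusAbIdx Cfsg.Agent.Lib.FusTvSmall

/-- Let p be an odd prime, S a finite p-group of order at least p⁶ containing an extraspecial subgroup Q of index p, and F a saturated fusion system over S whose largest subgroup normal in F is trivial. Then no proper subgroup of Q is essential in F: an essential subgroup of F contained in Q equals Q. -/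
theorem result {Ω : Type u} [Group Ω] {S : Subgroup Ω} [Finite S] (p : ℕ) [Fact p.Prime] (hp : Odd p) (hS : IsPGroup p S)
    (Q : Subgroup Ω) (hQS : Q ≤ S) (hQ : Cfsg.IsExtraspecial p ↥Q) (hQi : (Q.subgroupOf S).index = p)
    (h6 : p ^ 6 ≤ Nat.card S)
    (F : Cfsg.FusionSystem S) (hF : F.IsSaturated p) (hO : F.core = ⊥)
    (E : Subgroup Ω) (hEQ : E ≤ Q) (hE : F.IsEssential p E) : E = Q := by
  classical
  have hP : p.Prime := Fact.out
  obtain ⟨a, haQ, ha1, hap, hac, hc, hcen⟩ := es_gen hQ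
  have hES : E ≤ S := hE.1.1
  haveI hfQ : Finite Q := finite_of_le hQS
  haveI hfE : Finite E := finite_of_le hES
  have hord : orderOf a = p := orderOf_eq_prime hap ha1
  have hcard : Nat.card (zpowers a) = p := by rw [Nat.card_zpowers, hord]
  have hQp : IsPGroup p Q := hS.to_le hQS
  have haE : a ∈ E := hE.1.2 E (isConj_refl F hES) (mem_centralizerIn.2 ⟨hQS haQ, fun y hy => hac y (hEQ hy)⟩)
  have hnormal : ∀ s ∈ Q, s ∈ Subgroup.normalizer (E : Set Ω) := by
    intro s hs
    apply mem_normalizer_of_conj_le'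
    intro y hy
    obtain ⟨n, hn⟩ := hc s hs y (hEQ hy)
    have e : s * y * s⁻¹ = a ^ n * y := by
      rw [show a ^ n = s * y * s⁻¹ * y⁻¹ from hn]
      group
    rw [e]
    exact E.mul_mem (E.zpow_mem haE n) hy
  have hcentral : ∀ s ∈ Q, ∀ n : ℤ, s * a ^ n * s⁻¹ = a ^ n := by
    intro s hs n
    have : Commute s a := hac s hs
    rw [(this.zpow_right n).eq, mul_inv_cancel_right]
  by_cases hab : ∀ y y' : E, y * y' = y' * y
  · by_contra hne
    have hQcard : Nat.card Q * p = Nat.card S := by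
      have h1 := Subgroup.card_mul_index (Q.subgroupOf S)
      rw [Nat.card_congr (Subgroup.subgroupOfEquivOfLe hQS).toEquiv, hQi] at h1
      exact h1
    have h5 : p ^ 5 ≤ Nat.card Q := by
      have h1 : p ^ 5 * p ≤ Nat.card Q * p := by
        rw [hQcard, ← pow_succ]
        exact h6
      exact Nat.le_of_mul_le_mul_right h1 hP.pos
    have hneE : E.subgroupOf Q ≠ ⊤ := by
      intro e
      apply hne
      apply le_antisymm hEQ
      intro s hs
      have h1 : (⟨s, hs⟩ : Q) ∈ E.subgroupOf Q := by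
        rw [e]
        trivial
      exact h1
    have hi : (E.subgroupOf Q).index ≠ p := by
      intro hi
      have hI : AbI Q E p := ⟨hEQ, fun x hx y hy => congrArg Subtype.val (hab ⟨x, hx⟩ ⟨y, hy⟩), hi, es_nonab hQ⟩
      have h2 := center_index_le (Q := Q) hQp haQ hac hcard hc hI
      have h3 := Subgroup.card_mul_index (center Q)
      rw [hQ.2] at h3
      have h4 : Nat.card Q ≤ p ^ 3 := by
        rw [← h3]
        calc p * (center Q).index ≤ p * p ^ 2 := Nat.mul_le_mul_left _ h2
          _ = p ^ 3 := by ring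
      have h7 : p ^ 5 ≤ p ^ 3 := h5.trans h4
      have h8 := (Nat.pow_le_pow_iff_right hP.one_lt).1 h7
      omega
    have hec := exists_comm (Q := Q) haQ hac hcard hc hneE hi
    let aE : E := ⟨a, haE⟩
    apply tv_small hS hF hE hab (a := aE) (T₀ := autInducedBy Q E)
    · intro κ hκ
      obtain ⟨s, hs, e⟩ := mem_autInducedBy'.1 hκ
      exact mem_autInducedBy'.2 ⟨s, hQS hs, e⟩
    · intro κ hκ
      obtain ⟨s, hs, e⟩ := mem_autInducedBy'.1 hκ
      constructor
      · apply Subtype.ext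
        rw [e]
        show s * a * s⁻¹ = a
        rw [hac s hs, mul_inv_cancel_right]
      · intro y
        obtain ⟨n, hn⟩ := hc s hs y (hEQ y.2)
        refine ⟨n, Subtype.ext ?_⟩
        have hn' : a ^ n = s * y * s⁻¹ * (y : Ω)⁻¹ := hn
        show a ^ n = ((κ y : E) : Ω) * (y : Ω)⁻¹
        rw [hn', e]
    · intro y
      obtain ⟨s, hs, hsE, hsy⟩ := hec ⟨y, hEQ y.2⟩
      have hsy' : s * y = y * s := hsy
      refine ⟨cAut E ⟨s, hnormal s hs⟩, mem_autInducedBy'.2 ⟨s, hs, fun _ => rfl⟩, fun e => hsE ?_, ?_⟩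
      · apply mem_of_triv hE (hQS hs)
        intro y hy
        exact congrArg (fun f : MulAut E => ((f ⟨y, hy⟩ : E) : Ω)) e
      · apply Subtype.ext
        show s * y * s⁻¹ = y
        rw [hsy', mul_inv_cancel_right]
  · apply le_antisymm hEQ
    intro s hs
    have hn := hnormal s hs
    apply mem_of_inn hE (hQS hs) hn
    apply inn_of_chain hS hE (V := zpowers a) (fun γ _ x hx => V_inv hap (fun s hs t ht => hc s (hEQ hs) t (hEQ ht)) hab γ x hx)
      (autInduced_le_autGroup F hES (mem_autInducedBy'.2 ⟨s, hQS hs, fun _ => rfl⟩))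
    · intro x hx
      apply Subtype.ext
      obtain ⟨n, hn'⟩ := hx
      show s * x * s⁻¹ = x
      rw [← show a ^ n = (x : Ω) from hn', hcentral s hs n]
    · intro t
      show (t : Ω)⁻¹ * (s * t * s⁻¹) ∈ zpowers a
      have h5 := hc _ (Q.inv_mem (hEQ t.2)) s hs
      have e : (t : Ω)⁻¹ * (s * t * s⁻¹) = (t : Ω)⁻¹ * s * ((t : Ω)⁻¹)⁻¹ * s⁻¹ := by group
      rw [e]
      exact h5

end Cfsg.Agent.S5179
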