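import Cfsg.Statements.S5186
import Mathlib
import Cfsg.Agent.Lib.FusChainEss
import Cfsg.Agent.Lib.Frob72
import Cfsg.Agent.Lib.PGrp
import Cfsg.Agent.Lib.PGrp2

set_option autoImplicit false
universe u
open Cfsg

namespace Cfsg.Agent.S5186


open Subgroup Cfsg.FusionSystem Cfsg.Agent.Lib.FusChainEss

section grp

variable {G : Type u} [Group G] [Finite G] {p : ℕ} [hp : Fact p.Prime]

def pw (hab : ∀ a b : G, a * b = b * a) (hm : ∀ a b : G, (a * b) ^ p = a ^ p * b ^ p) : G →* G where
  toFun x := x ^ p
  map_one' := one_pow p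
  map_mul' := hm

theorem pw_ker_mem {hab : ∀ a b : G, a * b = b * a} {hm : ∀ a b : G, (a * b) ^ p = a ^ p * b ^ p} {x : G} :
    x ∈ (pw (p := p) hab hm).ker ↔ x ^ p = 1 := Iff.rfl

end grp

section grp2

variable {G : Type u} [Group G] [Finite G] {p : ℕ} [hp : Fact p.Prime]

omit hp in
theorem pcard {R : Subgroup G} {y : G} (hy : y ∈ R) : y ^ Nat.card R = 1 :=
  congrArg Subtype.val (pow_card_eq_one' (x := (⟨y, hy⟩ : R)))

def pw' (hm : ∀ a b : G, (a * b) ^ p = a ^ p * b ^ p) : G →* G where
  toFun x := x ^ p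
  map_one' := one_pow p
  map_mul' := hm

theorem abelian_case (hcard : Nat.card G = p ^ 3) (hab : ∀ a b : G, a * b = b * a)
    (hcontra : ∀ X Y : Subgroup G, X ≤ Y → Nat.card X = p → Nat.card Y = p ^ 2 →
      (∀ γ : MulAut G, ∀ x ∈ X, γ x ∈ X) → (∀ γ : MulAut G, ∀ x ∈ Y, γ x ∈ Y) → False) :
    ∀ a : G, a ^ p = 1 := by
  have hP : p.Prime := Fact.out
  by_contra hexp
  have hm : ∀ a b : G, (a * b) ^ p = a ^ p * b ^ p := fun a b => (show Commute a b from hab a b).mul_pow p
  let π := pw' (p := p) hm
  have hk : ∀ x, x ∈ π.ker ↔ x ^ p = 1 := fun x => Iff.rfl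
  have hc1 : Nat.card π.ker * Nat.card π.range = p ^ 3 := by
    have h1 := Subgroup.card_mul_index π.ker
    rw [Subgroup.index_ker, hcard] at h1
    exact h1
  have hinvk : ∀ γ : MulAut G, ∀ x ∈ π.ker, γ x ∈ π.ker := by
    intro γ x hx
    rw [hk] at hx ⊢
    rw [← map_pow, hx, map_one]
  have hinvr : ∀ γ : MulAut G, ∀ x ∈ π.range, γ x ∈ π.range := by
    rintro γ _ ⟨y, rfl⟩
    refine ⟨γ y, ?_⟩
    show (γ y) ^ p = γ (y ^ p)
    rw [map_pow]
  obtain ⟨a, ha⟩ : ∃ a, Nat.card π.ker = p ^ a := IsPGroup.iff_card.1 (IsPGroup.of_card hcard |>.to_subgroup _)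
  have ha3 : a ≤ 3 := by
    have : p ^ a ∣ p ^ 3 := ha ▸ (Dvd.intro _ hc1)
    exact (Nat.pow_dvd_pow_iff_le_right hP.one_lt).1 this
  have ha0 : a ≠ 0 := by
    rintro rfl
    obtain ⟨x, hx⟩ := exists_prime_orderOf_dvd_card' (G := G) p (by rw [hcard]; exact dvd_pow_self p (by norm_num))
    have h1 : x ∈ π.ker := (hk x).2 (by rw [← hx]; exact pow_orderOf_eq_one x)
    have h2 : Nat.card π.ker = 1 := by rw [ha, pow_zero]
    have h3 : π.ker = ⊥ := Subgroup.eq_bot_of_card_eq _ h2
    rw [h3, Subgroup.mem_bot] at h1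
    rw [h1, orderOf_one] at hx
    exact hP.one_lt.ne hx
  have ha3' : a ≠ 3 := by
    rintro rfl
    apply hexp
    have h1 : π.ker = ⊤ := Subgroup.eq_top_of_card_eq _ (by rw [ha, hcard])
    intro x
    exact (hk x).1 (by rw [h1]; trivial)
  have hcases : a = 1 ∨ a = 2 := by omega
  rcases hcases with rfl | rfl
  · have hr : Nat.card π.range = p ^ 2 := by
      rw [ha, pow_one] at hc1
      have h1 : p * Nat.card π.range = p * p ^ 2 := by rw [hc1]; ring
      exact Nat.eq_of_mul_eq_mul_left hP.pos h1
    rw [pow_one] at ha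
    refine hcontra π.ker π.range ?_ ha hr hinvk hinvr
    obtain ⟨u, hu⟩ := exists_prime_orderOf_dvd_card' (G := π.range) p (by rw [hr]; exact dvd_pow_self p (by norm_num))
    have hu' : orderOf (u : G) = p := by rw [Subgroup.orderOf_coe, hu]
    have h1 : (u : G) ∈ π.ker := (hk _).2 (by rw [← hu']; exact pow_orderOf_eq_one _)
    have h2 : Subgroup.zpowers (u : G) = π.ker := by
      apply Subgroup.eq_of_le_of_card_ge (Subgroup.zpowers_le.2 h1)
      rw [ha, Nat.card_zpowers, hu']
    rw [← h2]
    exact Subgroup.zpowers_le.2 u.2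
  · have hr : Nat.card π.range = p := by
      rw [ha] at hc1
      have h1 : p ^ 2 * Nat.card π.range = p ^ 2 * p := by rw [hc1]; ring
      exact Nat.eq_of_mul_eq_mul_left (pow_pos hP.pos 2) h1
    refine hcontra π.range π.ker ?_ hr ha hinvr hinvk
    intro y hy
    rw [hk]
    have := pcard hy
    rwa [hr] at this

theorem nonabelian_case (hcard : Nat.card G = p ^ 3) (hab : ¬ ∀ a b : G, a * b = b * a)
    (hcontra : ∀ X Y : Subgroup G, X ≤ Y → Nat.card X = p → Nat.card Y = p ^ 2 →
      (∀ γ : MulAut G, ∀ x ∈ X, γ x ∈ X) → (∀ γ : MulAut G, ∀ x ∈ Y, γ x ∈ Y) → False) :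
    (Odd p ∧ Cfsg.IsExtraspecial p G ∧ ∀ a : G, a ^ p = 1) ∨ (p = 2 ∧ Nonempty (G ≃* QuaternionGroup 2)) := by
  classical
  have hP : p.Prime := Fact.out
  have hG : IsPGroup p G := IsPGroup.of_card hcard
  haveI : Nontrivial G := by
    apply Finite.one_lt_card_iff_nontrivial.1
    rw [hcard]
    exact Nat.one_lt_pow (by norm_num) hP.one_lt
  set Z := Subgroup.center G with hZ
  have hcomm : ¬ IsCyclic (G ⧸ Z) := by
    intro hcyc
    have := commutative_of_cyclic_center_quotient (QuotientGroup.mk' Z) (by rw [QuotientGroup.ker_mk'])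
    exact hab this
  have hcZ : Nat.card Z * Nat.card (G ⧸ Z) = p ^ 3 := by
    rw [← hcard]
    exact Subgroup.card_mul_index Z
  obtain ⟨z, hz⟩ : ∃ z, Nat.card Z = p ^ z := IsPGroup.iff_card.1 (hG.to_subgroup Z)
  have hz3 : z ≤ 3 := by
    have : p ^ z ∣ p ^ 3 := hz ▸ (Dvd.intro _ hcZ)
    exact (Nat.pow_dvd_pow_iff_le_right hP.one_lt).1 this
  have hz0 : z ≠ 0 := by
    rintro rfl
    have h1 : Z = ⊥ := Subgroup.eq_bot_of_card_eq _ (by rw [hz, pow_zero])
    have h2 := hG.center_nontrivial
    rw [← hZ, h1] at h2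
    exact not_nontrivial _ h2
  have hQc : Nat.card (G ⧸ Z) = p ^ (3 - z) := by
    rw [hz] at hcZ
    have h1 : p ^ z * Nat.card (G ⧸ Z) = p ^ z * p ^ (3 - z) := by
      rw [hcZ, ← pow_add, Nat.add_sub_cancel' hz3]
    exact Nat.eq_of_mul_eq_mul_left (pow_pos hP.pos z) h1
  have hz1 : z = 1 := by
    by_contra hne
    have h1 : z = 2 ∨ z = 3 := by omega
    apply hcomm
    rcases h1 with rfl | rfl
    · exact isCyclic_of_prime_card (p := p) (by rw [hQc]; norm_num)
    · have : Nat.card (G ⧸ Z) = 1 := by rw [hQc]; norm_num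
      haveI := (Nat.card_eq_one_iff_unique.1 this).1
      exact isCyclic_of_subsingleton
  subst hz1
  rw [pow_one] at hz
  have hQ2 : Nat.card (G ⧸ Z) = p ^ 2 := hQc
  have hQp : IsPGroup p (G ⧸ Z) := IsPGroup.of_card hQ2
  have hQab : IsMulCommutative (G ⧸ Z) := IsPGroup.isMulCommutative_of_card_eq_prime_sq hQ2
  have hQe : ∀ q : G ⧸ Z, q ^ p = 1 := by
    intro q
    have h1 : orderOf q ∣ p ^ 2 := by rw [← hQ2]; exact orderOf_dvd_natCard q
    obtain ⟨k, hk, hk2⟩ := (Nat.dvd_prime_pow hP).1 h1
    have hk' : k ≠ 2 := by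
      rintro rfl
      exact hcomm (isCyclic_of_orderOf_eq_card q (by rw [hk2, hQ2]))
    have h2 : orderOf q ∣ p := by
      rw [hk2]
      have : k ≤ 1 := by omega
      exact (pow_dvd_pow p this).trans (by rw [pow_one])
    exact orderOf_dvd_iff_pow_eq_one.1 h2
  have hpowZ : ∀ x : G, x ^ p ∈ Z := by
    intro x
    have h1 := hQe (QuotientGroup.mk' Z x)
    rw [← map_pow, ← MonoidHom.mem_ker, QuotientGroup.ker_mk'] at h1
    exact h1
  have hcZ2 : ∀ x y : G, x * y * x⁻¹ * y⁻¹ ∈ Z := by
    intro x y
    have h1 : QuotientGroup.mk' Z (x * y * x⁻¹ * y⁻¹) = 1 := by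
      simp only [map_mul, map_inv]
      have : QuotientGroup.mk' Z x * QuotientGroup.mk' Z y = QuotientGroup.mk' Z y * QuotientGroup.mk' Z x := hQab.is_comm.comm _ _
      rw [this]
      group
    rw [← MonoidHom.mem_ker, QuotientGroup.ker_mk'] at h1
    exact h1
  have hcommZ : commutator G ≤ Z := by
    rw [commutator_def, Subgroup.commutator_le]
    intro x _ y _
    exact hcZ2 x y
  have hcommne : commutator G ≠ ⊥ := by
    intro h
    apply hab
    intro a b
    have h1 : a * b * a⁻¹ * b⁻¹ ∈ commutator G := by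
      rw [commutator_def]
      exact Subgroup.commutator_mem_commutator (Subgroup.mem_top a) (Subgroup.mem_top b)
    rw [h, Subgroup.mem_bot] at h1
    rw [mul_inv_eq_one, mul_inv_eq_iff_eq_mul] at h1
    exact h1
  have hcommeq : commutator G = Z := by
    apply Subgroup.eq_of_le_of_card_ge hcommZ
    rw [hz]
    have h1 : Nat.card (commutator G) ∣ p := hz ▸ Subgroup.card_dvd_of_le hcommZ
    rcases (Nat.dvd_prime hP).1 h1 with h2 | h2
    · exact absurd (Subgroup.eq_bot_of_card_eq _ h2) hcommne
    · rw [h2]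
  have hcl : ⁅commutator G, (⊤ : Subgroup G)⁆ = ⊥ := by
    rw [eq_bot_iff, Subgroup.commutator_le]
    intro c hc g _
    have hc' : c ∈ Subgroup.center G := hcommZ hc
    rw [Subgroup.mem_bot, commutatorElement_def, (Subgroup.mem_center_iff.1 hc' g).symm]
    group
  have hZp : ∀ u ∈ Z, u ^ p = 1 := by
    intro u hu
    have := pcard hu
    rwa [hz] at this
  rcases eq_or_ne p 2 with h2 | h2
  · right
    refine ⟨h2, ?_⟩
    subst h2
    have hG8 : Nat.card G = 8 := by rw [hcard]; norm_num
    have hZuniq : ∀ u ∈ Z, ∀ v ∈ Z, u ≠ 1 → v ≠ 1 → u = v := by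
      intro u hu v hv hu1 hv1
      obtain ⟨w, -, hw⟩ := (Nat.card_eq_two_iff' (1 : Z)).1 hz
      have e1 := hw ⟨u, hu⟩ (fun h => hu1 (congrArg Subtype.val h))
      have e2 := hw ⟨v, hv⟩ (fun h => hv1 (congrArg Subtype.val h))
      exact congrArg Subtype.val (e1.trans e2.symm)
    obtain ⟨a, ha⟩ : ∃ a : G, a ^ 2 ≠ 1 := by
      by_contra hall
      push_neg at hall
      apply hab
      intro a b
      have h1 := hall (a * b)
      have h2 := hall a
      have h3 := hall b
      have h4 : a⁻¹ = a := by rw [inv_eq_iff_mul_eq_one, ← pow_two]; exact h2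
      have h5 : b⁻¹ = b := by rw [inv_eq_iff_mul_eq_one, ← pow_two]; exact h3
      have h6 : (a * b)⁻¹ = a * b := by rw [inv_eq_iff_mul_eq_one, ← pow_two]; exact h1
      rw [mul_inv_rev, h4, h5] at h6
      exact h6.symm
    have ha4 : a ^ 4 = 1 := by
      have := hZp _ (hpowZ a)
      rw [← pow_mul] at this
      exact this
    have hord : orderOf a = 4 := by
      have h1 : orderOf a ∣ 2 ^ 2 := orderOf_dvd_of_pow_eq_one ha4
      obtain ⟨k, hk, hk2⟩ := (Nat.dvd_prime_pow hP).1 h1
      have : k = 2 := by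
        by_contra hne
        have h3 : k ≤ 1 := by omega
        apply ha
        apply orderOf_dvd_iff_pow_eq_one.1
        rw [hk2]
        exact (pow_dvd_pow 2 h3).trans (by norm_num)
      rw [hk2, this]
      norm_num
    let X : Subgroup G := Subgroup.closure {x : G | x ^ 2 ≠ 1}
    have haX : a ∈ X := Subgroup.subset_closure ha
    have hXinv : ∀ γ : MulAut G, ∀ x ∈ X, γ x ∈ X := by
      intro γ x hx
      have h1 : X ≤ X.comap γ.toMonoidHom := by
        apply (Subgroup.closure_le _).2
        intro y hy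
        apply Subgroup.subset_closure
        show (γ y) ^ 2 ≠ 1
        rw [← map_pow]
        intro h
        exact hy ((map_eq_one_iff γ γ.injective).1 h)
      exact h1 hx
    by_cases hXt : X = ⊤
    · obtain ⟨b, hb, hba⟩ : ∃ b, b ^ 2 ≠ 1 ∧ b ∉ Subgroup.zpowers a := by
        by_contra hall
        push_neg at hall
        have h1 : X ≤ Subgroup.zpowers a := (Subgroup.closure_le _).2 (fun y hy => hall y hy)
        rw [hXt] at h1
        have h2 : Nat.card (⊤ : Subgroup G) ≤ Nat.card (Subgroup.zpowers a) := Subgroup.card_le_of_le h1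
        rw [Subgroup.card_top, hG8, Nat.card_zpowers, hord] at h2
        norm_num at h2
      have hb2 : b ^ 2 = a ^ 2 := hZuniq _ (hpowZ b) _ (hpowZ a) hb ha
      have hc := hcZ2 b a
      have hbaa : b * a * b⁻¹ = a⁻¹ := by
        by_cases hc1 : b * a * b⁻¹ * a⁻¹ = 1
        · exfalso
          have hcomm' : b * a * b⁻¹ = a := by
            rw [mul_inv_eq_one] at hc1
            exact hc1
          have hC : Subgroup.zpowers a < Subgroup.centralizer {a} := by
            refine lt_of_le_of_ne ?_ ?_
            · apply Subgroup.zpowers_le.2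
              rw [Subgroup.mem_centralizer_iff]
              rintro _ rfl
              rfl
            · intro he
              apply hba
              rw [he, Subgroup.mem_centralizer_iff]
              rintro _ rfl
              rw [mul_inv_eq_iff_eq_mul] at hcomm'
              exact hcomm'.symm
          have hcard1 : Nat.card (Subgroup.zpowers a) < Nat.card (Subgroup.centralizer {a}) := by
            apply Nat.lt_of_le_of_ne (Subgroup.card_le_of_le hC.le)
            intro he
            exact hC.ne (Subgroup.eq_of_le_of_card_ge hC.le he.ge)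
          have h4 : Nat.card (Subgroup.zpowers a) ∣ Nat.card (Subgroup.centralizer {a}) := Subgroup.card_dvd_of_le hC.le
          have h5 : Nat.card (Subgroup.centralizer {a}) ∣ 8 := by
            rw [← hG8]
            exact Subgroup.card_subgroup_dvd_card _
          rw [Nat.card_zpowers, hord] at hcard1 h4
          have h6 : Nat.card (Subgroup.centralizer {a}) = 8 := by
            have h7 := Nat.le_of_dvd (by norm_num) h5
            obtain ⟨d, hd⟩ := h4
            omega
          have h8 : Subgroup.centralizer {a} = ⊤ := Subgroup.eq_top_of_card_eq _ (by rw [h6, hG8])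
          have h9 : a ∈ Z := by
            rw [hZ, Subgroup.mem_center_iff]
            intro g
            have : g ∈ Subgroup.centralizer {a} := by rw [h8]; trivial
            rw [Subgroup.mem_centralizer_iff] at this
            exact (this a rfl).symm
          exact ha (hZp a h9)
        · have h10 := hZuniq _ hc _ (hpowZ a) hc1 ha
          rw [mul_inv_eq_iff_eq_mul] at h10
          rw [h10, pow_two, eq_inv_iff_mul_eq_one]
          have : a * a * a * a = a ^ 4 := by simp only [pow_succ, pow_zero, one_mul]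
          rw [this, ha4]
      exact Cfsg.Agent.Lib.Frob72.q8_iso hG8 a b ha4 hb2 hbaa ha
    · exfalso
      have hXcard : Nat.card X = 4 := by
        have h1 : Nat.card X ∣ 8 := hG8 ▸ Subgroup.card_subgroup_dvd_card X
        have h2 : 4 ∣ Nat.card X := by
          have := Subgroup.card_dvd_of_le (Subgroup.zpowers_le.2 haX)
          rwa [Nat.card_zpowers, hord] at this
        have h3 : Nat.card X ≠ 8 := fun h => hXt (Subgroup.eq_top_of_card_eq _ (by rw [h, hG8]))
        have h4 := Nat.le_of_dvd (by norm_num) h1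
        obtain ⟨d, hd⟩ := h2
        have : d ≠ 0 := by
          rintro rfl
          have : Nat.card X = 0 := by rw [hd]
          exact (Nat.card_pos (α := X)).ne' this
        omega
      refine hcontra Z X ?_ hz (by rw [hXcard]; norm_num) ?_ hXinv
      · have h1 : a ^ 2 ∈ X := X.pow_mem haX 2
        intro u hu
        by_cases hu1 : u = 1
        · rw [hu1]; exact X.one_mem
        · rw [hZuniq u hu _ (hpowZ a) hu1 ha]
          exact h1
      · intro γ x hx
        rw [hZ, Subgroup.mem_center_iff] at hx ⊢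
        intro g
        have := hx (γ.symm g)
        have h2 := congrArg γ this
        simpa using h2
  · left
    have hodd : Odd p := hP.odd_of_ne_two h2
    have hm : ∀ a b : G, (a * b) ^ p = a ^ p * b ^ p := by
      intro a b
      apply Cfsg.Agent.Lib.PGrp.mul_pow_eq_of_class2 h2 hcl
      apply hZp
      have h3 := hcZ2 b a
      rw [commutatorElement_def]
      exact h3
    let π := pw' (p := p) hm
    have hk : ∀ x, x ∈ π.ker ↔ x ^ p = 1 := fun x => Iff.rfl
    by_cases hexp : ∀ a : G, a ^ p = 1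
    · refine ⟨hodd, ⟨⟨hG, ?_, ?_⟩, hz⟩, hexp⟩
      · apply le_antisymm
        · exact Cfsg.Agent.Lib.PGrp.frattini_le_of hG Z hcommZ hpowZ
        · show Z ≤ frattini G
          rw [← hcommeq]
          exact Cfsg.Agent.Lib.PGrp.commutator_le_frattini hG
      · exact hcommeq
    · exfalso
      have hrZ : π.range ≤ Z := by
        rintro _ ⟨y, rfl⟩
        exact hpowZ y
      have hrne : Nat.card π.range ≠ 1 := by
        intro h
        apply hexp
        have h1 := Subgroup.eq_bot_of_card_eq _ h
        intro x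
        have h3 : π x ∈ π.range := ⟨x, rfl⟩
        rw [h1, Subgroup.mem_bot] at h3
        exact h3
      have hrc : Nat.card π.range = p := by
        have h1 : Nat.card π.range ∣ p := hz ▸ Subgroup.card_dvd_of_le hrZ
        rcases (Nat.dvd_prime hP).1 h1 with h3 | h3
        · exact absurd h3 hrne
        · exact h3
      have hc1 : Nat.card π.ker * Nat.card π.range = p ^ 3 := by
        have h1 := Subgroup.card_mul_index π.ker
        rw [Subgroup.index_ker, hcard] at h1
        exact h1
      have hkc : Nat.card π.ker = p ^ 2 := by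
        rw [hrc] at hc1
        have h1 : Nat.card π.ker * p = p ^ 2 * p := by rw [hc1]; ring
        exact Nat.eq_of_mul_eq_mul_right hP.pos h1
      refine hcontra Z π.ker ?_ hz hkc ?_ ?_
      · intro u hu
        exact (hk u).2 (hZp u hu)
      · intro γ x hx
        rw [hZ, Subgroup.mem_center_iff] at hx ⊢
        intro g
        have := hx (γ.symm g)
        have h2 := congrArg γ this
        simpa using h2
      · intro γ x hx
        rw [hk] at hx ⊢
        rw [← map_pow, hx, map_one]

end grp2

/-- Let F be a saturated fusion system over a finite p-group S and H an essential subgroup of order p³. Then H is elementary abelian, or p is odd and H is extraspecial of exponent p, or p = 2 and H is the quaternion group of order 8. -/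
theorem result {Ω : Type u} [Group Ω] {S : Subgroup Ω} [Finite S] (p : ℕ) [Fact p.Prime] (hS : IsPGroup p S)
    (F : Cfsg.FusionSystem S) (hF : F.IsSaturated p) (H : Subgroup Ω) (hH : F.IsEssential p H) (hcard : Nat.card H = p ^ 3) :
    Cfsg.IsElementaryAbelian p H ∨ (Odd p ∧ Cfsg.IsExtraspecial p ↥H ∧ ∀ x ∈ H, x ^ p = 1) ∨
      (p = 2 ∧ Nonempty (↥H ≃* QuaternionGroup 2)) := by
  classical
  have hPS : H ≤ S := hH.1.1
  haveI : Finite H := Cfsg.Agent.Lib.FusBasic.finite_of_le hPS
  have hcontra : ∀ X Y : Subgroup H, X ≤ Y → Nat.card X = p → Nat.card Y = p ^ 2 →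
      (∀ γ : MulAut H, ∀ x ∈ X, γ x ∈ X) → (∀ γ : MulAut H, ∀ x ∈ Y, γ x ∈ Y) → False := by
    intro X Y hXY hX hY hXi hYi
    have hP : p.Prime := Fact.out
    refine chain_contra hS F hF hH (m := 3) (c := ![⊥, X, Y, ⊤]) rfl rfl ?_ ?_ ?_
    · intro i
      fin_cases i
      · exact bot_le
      · exact hXY
      · exact le_top
    · intro i
      fin_cases i
      · show Nat.card X = p * Nat.card (⊥ : Subgroup H)
        rw [Subgroup.card_bot, mul_one, hX]
      · show Nat.card Y = p * Nat.card X
        rw [hX, hY, pow_two]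
      · show Nat.card (⊤ : Subgroup H) = p * Nat.card Y
        rw [Subgroup.card_top, hcard, hY]
        ring
    · intro γ _ i x hx
      fin_cases i
      · have h1 : x = 1 := Subgroup.mem_bot.1 hx
        rw [h1, map_one]
        exact Subgroup.one_mem _
      · exact hXi γ x hx
      · exact hYi γ x hx
      · trivial
  by_cases hab : ∀ a b : H, a * b = b * a
  · left
    have h1 := abelian_case hcard hab hcontra
    exact ⟨⟨⟨hab⟩⟩, fun a ha => congrArg Subtype.val (h1 ⟨a, ha⟩)⟩
  · right
    rcases nonabelian_case hcard hab hcontra with ⟨h1, h2, h3⟩ | h4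
    · exact Or.inl ⟨h1, h2, fun a ha => congrArg Subtype.val (h3 ⟨a, ha⟩)⟩
    · exact Or.inr h4

end Cfsg.Agent.S5186
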