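import Cfsg.Statements.S5187
import Mathlib
import Cfsg.Agent.S5185
import Cfsg.Agent.Lib.FusChainEss
import Cfsg.Agent.Lib.QdBasic
import Cfsg.Agent.Lib.FusEss
import Cfsg.Agent.Lib.PGrp
import Cfsg.Agent.Lib.PGrp2

set_option autoImplicit false
universe u
open Cfsg

namespace Cfsg.Agent.S5187


open Subgroup Cfsg.FusionSystem Cfsg.Agent.S5185 Cfsg.Agent.Lib.QdBasic Cfsg.Agent.Lib.FusNorm Cfsg.Agent.Lib.H1Core

section additive

variable {V : Type*} [AddCommGroup V] {p : ℕ} [hp : Fact p.Prime]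

theorem expand (M : AddMonoid.End V) (v : V) :
    ((M + 1) ^ p) v = (∑ m ∈ Finset.range (p - 1), (M ^ (m + 2) * ((p.choose (m + 2) : ℕ) : AddMonoid.End V))) v + p • (M v) + v := by
  have hP : p.Prime := Fact.out
  have hp1 : p = (p - 1) + 1 := by have := hP.pos; omega
  have h := (Commute.one_right M).add_pow p
  rw [h]
  have e : p + 1 = (p - 1) + 1 + 1 := by omega
  rw [e, Finset.sum_range_succ', Finset.sum_range_succ']
  simp only [pow_zero, pow_one, one_pow, one_mul, mul_one, Nat.choose_zero_right, Nat.cast_one, zero_add]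
  have hc : p.choose (0 + 1) = p := by simp
  rw [hc]
  have e3 : (M * ((p : ℕ) : AddMonoid.End V)) v = p • M v := by
    have : (M * ((p : ℕ) : AddMonoid.End V)) v = M ((p : AddMonoid.End V) v) := rfl
    rw [this, AddMonoid.End.natCast_apply, map_nsmul]
  rw [← e3]
  rfl

theorem choose_term (M : AddMonoid.End V) (C : ℕ) (k : ℕ) (v : V) :
    (M ^ k * ((C : ℕ) : AddMonoid.End V)) v = C • (M ^ k) v := by
  have : (M ^ k * ((C : ℕ) : AddMonoid.End V)) v = (M ^ k) ((C : AddMonoid.End V) v) := rfl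
  rw [this, AddMonoid.End.natCast_apply, map_nsmul]

theorem pow_add_two (M : AddMonoid.End V) (m : ℕ) (v : V) : (M ^ (m + 2)) v = (M ^ m) (M (M v)) := by
  rw [pow_add, pow_two]
  rfl

theorem sum_app {ι : Type*} (t : Finset ι) (f : ι → AddMonoid.End V) (v : V) : (∑ i ∈ t, f i) v = ∑ i ∈ t, f i v :=
  AddMonoidHom.finset_sum_apply f t v

theorem calc1 (M : AddMonoid.End V) (hM2 : ∀ v, ∃ u, M (M v) = p • u) (v : V) : ∃ w, ((M + 1) ^ p) v = p • w + v := by
  let W : AddSubgroup V := (nsmulAddMonoidHom (α := V) p).range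
  have hW : ∀ w, w ∈ W ↔ ∃ u, p • u = w := fun w => Iff.rfl
  have h1 : (∑ m ∈ Finset.range (p - 1), (M ^ (m + 2) * ((p.choose (m + 2) : ℕ) : AddMonoid.End V))) v ∈ W := by
    rw [sum_app]
    apply AddSubgroup.sum_mem
    intro m _
    rw [choose_term, pow_add_two]
    obtain ⟨u, hu⟩ := hM2 v
    rw [hu, map_nsmul, smul_comm]
    exact (hW _).2 ⟨_, rfl⟩
  obtain ⟨u, hu⟩ := (hW _).1 h1
  refine ⟨u + M v, ?_⟩
  rw [expand, ← hu, smul_add]

theorem calc2 (hp5 : 5 ≤ p) (M : AddMonoid.End V) (hM2 : ∀ v, ∃ u, M (M v) = p • u) (hT : (M + 1) ^ p = 1) (v : V) :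
    ∃ w, p • (M v) = (p * p) • w := by
  have hP : p.Prime := Fact.out
  let W : AddSubgroup V := (nsmulAddMonoidHom (α := V) (p * p)).range
  have hW : ∀ w, w ∈ W ↔ ∃ u, (p * p) • u = w := fun w => Iff.rfl
  have h1 : (∑ m ∈ Finset.range (p - 1), (M ^ (m + 2) * ((p.choose (m + 2) : ℕ) : AddMonoid.End V))) v ∈ W := by
    rw [sum_app]
    apply AddSubgroup.sum_mem
    intro m hm
    rw [Finset.mem_range] at hm
    rw [choose_term, pow_add_two]
    obtain ⟨u, hu⟩ := hM2 v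
    rw [hu, map_nsmul]
    by_cases hm2 : m + 2 = p
    · -- the top term
      have hm3 : m = (m - 2) + 2 := by omega
      rw [hm3, pow_add_two]
      obtain ⟨u', hu'⟩ := hM2 u
      rw [hu', map_nsmul, smul_smul]
      apply (hW _).2
      refine ⟨p.choose (m - 2 + 2 + 2) • (M ^ (m - 2)) u', ?_⟩
      simp only [smul_smul]
      congr 1
      ring
    · have hd : p ∣ p.choose (m + 2) := hP.dvd_choose_self (by omega) (by omega)
      obtain ⟨c, hc⟩ := hd
      rw [hc, smul_smul]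
      apply (hW _).2
      refine ⟨c • (M ^ m) u, ?_⟩
      rw [smul_smul]
      congr 1
      ring
  obtain ⟨u, hu⟩ := (hW _).1 h1
  refine ⟨-u, ?_⟩
  have h2 := expand (p := p) M v
  rw [hT, ← hu] at h2
  have h3 : (1 : AddMonoid.End V) v = v := rfl
  rw [h3] at h2
  rw [smul_neg]
  have h4 : (p * p) • u + p • M v + v = v := h2.symm
  rw [add_eq_right] at h4
  exact eq_neg_of_add_eq_zero_right h4

end additive

section mult

variable {G : Type*} [CommGroup G] [Finite G] {p : ℕ} [hp : Fact p.Prime]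

/-- the automorphisms acting trivially on `G/Y` and on `Y/Z` -/
def K2 (Y Z : Subgroup G) (hZY : Z ≤ Y) : Subgroup (MulAut G) where
  carrier := {α | (∀ x, x⁻¹ * α x ∈ Y) ∧ ∀ x ∈ Y, x⁻¹ * α x ∈ Z}
  one_mem' := by
    constructor
    · intro x
      show x⁻¹ * x ∈ Y
      simp [Y.one_mem]
    · intro x _
      show x⁻¹ * x ∈ Z
      simp [Z.one_mem]
  mul_mem' := by
    rintro α β ⟨h1, h2⟩ ⟨h3, h4⟩
    constructor
    · intro x
      have e : x⁻¹ * (α * β) x = (x⁻¹ * β x) * ((β x)⁻¹ * α (β x)) := by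
        show x⁻¹ * α (β x) = _
        group
      rw [e]
      exact Y.mul_mem (h3 x) (h1 _)
    · intro x hx
      have e : x⁻¹ * (α * β) x = (x⁻¹ * β x) * ((β x)⁻¹ * α (β x)) := by
        show x⁻¹ * α (β x) = _
        group
      rw [e]
      have h5 : β x ∈ Y := by
        have : β x = x * (x⁻¹ * β x) := by group
        rw [this]
        exact Y.mul_mem hx (hZY (h4 x hx))
      exact Z.mul_mem (h4 x hx) (h2 _ h5)
  inv_mem' := by
    rintro α ⟨h1, h2⟩
    have hz : ∀ x, α (α⁻¹ x) = x := fun x => by simp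
    constructor
    · intro x
      have h5 := h1 (α⁻¹ x)
      rw [hz] at h5
      have e : x⁻¹ * α⁻¹ x = ((α⁻¹ x)⁻¹ * x)⁻¹ := by group
      rw [e]
      exact Y.inv_mem h5
    · intro x hx
      have h6 : α⁻¹ x ∈ Y := by
        have h5 := h1 (α⁻¹ x)
        rw [hz] at h5
        have : α⁻¹ x = x * ((α⁻¹ x)⁻¹ * x)⁻¹ := by group
        rw [this]
        exact Y.mul_mem hx (Y.inv_mem h5)
      have h5 := h2 _ h6
      rw [hz] at h5
      have e : x⁻¹ * α⁻¹ x = ((α⁻¹ x)⁻¹ * x)⁻¹ := by group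
      rw [e]
      exact Z.inv_mem h5

theorem mem_K2 {Y Z : Subgroup G} {hZY : Z ≤ Y} {α : MulAut G} :
    α ∈ K2 Y Z hZY ↔ (∀ x, x⁻¹ * α x ∈ Y) ∧ ∀ x ∈ Y, x⁻¹ * α x ∈ Z := Iff.rfl

/-- the `p`-th powers -/
def pG (p : ℕ) (G : Type*) [CommGroup G] : Subgroup G := (powMonoidHom p : G →* G).range

theorem mem_pG {y : G} : y ∈ pG p G ↔ ∃ x, x ^ p = y := Iff.rfl

theorem K2_pgroup (hG : IsPGroup p G) (Y : Subgroup G) (hZY : pG p G ≤ Y) : IsPGroup p (K2 Y (pG p G) hZY) := by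
  apply isPGroup_of_coprime_one
  rintro α ⟨h1, h2⟩ hco
  have hP : p.Prime := Fact.out
  obtain ⟨N, hN⟩ := IsPGroup.iff_card.1 hG
  have hNpow : ∀ u : G, u ^ (p ^ N) = 1 := fun u => by rw [← hN]; exact pow_card_eq_one'
  have hcom : ∀ (u : G) (i : ℕ), (u ^ (p ^ i))⁻¹ * α (u ^ (p ^ i)) = (u⁻¹ * α u) ^ (p ^ i) := by
    intro u i
    rw [map_pow, mul_pow, inv_pow]
  have key : ∀ j i, i + j = N → ∀ u : G, α (u ^ (p ^ i)) = u ^ (p ^ i) := by
    intro j
    induction j with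
    | zero =>
      intro i hi u
      have : i = N := by omega
      rw [this, hNpow, map_one]
    | succ j ih =>
      intro i hi
      have hI := ih (i + 1) (by omega)
      have hQ : ∀ u ∈ Y, α (u ^ (p ^ i)) = u ^ (p ^ i) := by
        intro u hu
        apply aut_fix_step hG hco
        rw [hcom]
        obtain ⟨w, hw⟩ := h2 u hu
        have e : w ^ p = u⁻¹ * α u := hw
        rw [← e, ← pow_mul, mul_comm p, ← pow_succ]
        exact hI w
      intro u
      apply aut_fix_step hG hco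
      rw [hcom]
      exact hQ _ (h1 u)
  ext x
  have := key N 0 (by omega) x
  simpa using congrArg (fun z => z) this

theorem K2_conj (Y Z : Subgroup G) (hZY : Z ≤ Y) (hY : ∀ γ : MulAut G, ∀ x ∈ Y, γ x ∈ Y) (hZ : ∀ γ : MulAut G, ∀ x ∈ Z, γ x ∈ Z)
    (γ : MulAut G) {κ : MulAut G} (hκ : κ ∈ K2 Y Z hZY) : γ * κ * γ⁻¹ ∈ K2 Y Z hZY := by
  obtain ⟨h1, h2⟩ := hκ
  have hz : ∀ x, γ (γ⁻¹ x) = x := fun x => by simp
  have e : ∀ x, x⁻¹ * (γ * κ * γ⁻¹) x = γ ((γ⁻¹ x)⁻¹ * κ (γ⁻¹ x)) := by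
    intro x
    show x⁻¹ * γ (κ (γ⁻¹ x)) = _
    rw [map_mul, map_inv, hz]
  constructor
  · intro x
    rw [e]
    exact hY _ _ (h1 _)
  · intro x hx
    rw [e]
    exact hZ _ _ (h2 _ (hY _ _ hx))

theorem no_normal (A B K : Subgroup (MulAut G)) (hBA : B ≤ A) (hτ : ∃ τ ∈ B, τ ≠ 1) (hcore : Cfsg.pCore p A = ⊥) (hKp : IsPGroup p K)
    (hKinv : ∀ γ ∈ A, ∀ κ ∈ K, γ * κ * γ⁻¹ ∈ K) (hBK : B ≤ K) : False := by
  obtain ⟨τ, hτB, hτ1⟩ := hτ
  have hnorm : (K.subgroupOf A).Normal := ⟨fun n hn g => hKinv g g.2 n hn⟩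
  have hpp : IsPGroup p (K.subgroupOf A) := hKp.comap_of_injective A.subtype Subtype.coe_injective
  have h1 := le_pCore hnorm hpp
  rw [hcore, le_bot_iff] at h1
  have h2 : (⟨τ, hBA hτB⟩ : A) ∈ K.subgroupOf A := Subgroup.mem_subgroupOf.2 (hBK hτB)
  rw [h1, Subgroup.mem_bot] at h2
  exact hτ1 (congrArg Subtype.val h2)

omit hp [Finite G] in
theorem sup_zpowers_eq [Finite G] {p : ℕ} (hP : p.Prime) {X Y : Subgroup G} (hle : X ≤ Y) (hc : Nat.card Y = p * Nat.card X) {z : G} (hzY : z ∈ Y) (hzX : z ∉ X) :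
    Y = X ⊔ Subgroup.zpowers z := by
  have hXpos : 0 < Nat.card X := Nat.card_pos
  have hsup : X ⊔ Subgroup.zpowers z ≤ Y := sup_le hle (Subgroup.zpowers_le.2 hzY)
  have h1 : Nat.card X ∣ Nat.card (X ⊔ Subgroup.zpowers z : Subgroup G) := Subgroup.card_dvd_of_le le_sup_left
  have h2 : Nat.card (X ⊔ Subgroup.zpowers z : Subgroup G) ∣ p * Nat.card X := hc ▸ Subgroup.card_dvd_of_le hsup
  obtain ⟨d, hd⟩ := h1
  rw [hd, mul_comm] at h2
  have h3 : d ∣ p := Nat.dvd_of_mul_dvd_mul_right hXpos h2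
  rcases (Nat.dvd_prime hP).1 h3 with rfl | rfl
  · exfalso
    have h4 : X = X ⊔ Subgroup.zpowers z := Subgroup.eq_of_le_of_card_ge le_sup_left (by rw [hd, mul_one])
    apply hzX
    rw [h4]
    exact Subgroup.mem_sup_right (Subgroup.mem_zpowers z)
  · exact (Subgroup.eq_of_le_of_card_ge hsup (by rw [hd, hc, mul_comm])).symm

theorem dvd_of_zpow_mem {U : Subgroup G} {x : G} (hx : x ∉ U) (hxp : x ^ p ∈ U) {m : ℤ} (hm : x ^ m ∈ U) : (p : ℤ) ∣ m := by
  have hP : p.Prime := Fact.out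
  by_contra hnd
  have hpi : Prime (p : ℤ) := Nat.prime_iff_prime_int.1 hP
  have hco : IsCoprime (p : ℤ) m := (hpi.irreducible.coprime_iff_not_dvd).2 hnd
  obtain ⟨a, b, hab⟩ := hco
  apply hx
  have e : x = (x ^ p) ^ a * (x ^ m) ^ b := by
    have hab' : (p : ℤ) * a + m * b = 1 := by linarith [hab]
    rw [← zpow_natCast, ← zpow_mul, ← zpow_mul, ← zpow_add, hab', zpow_one]
  rw [e]
  exact U.mul_mem (U.zpow_mem hxp a) (U.zpow_mem hm b)

theorem factor_triv {U W : Subgroup G} (hUW : U ≤ W) (hpU : ∀ x ∈ W, x ^ p ∈ U) (hc : Nat.card W = p * Nat.card U) {τ : MulAut G}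
    (hU : ∀ x ∈ U, τ x ∈ U) (hW : ∀ x ∈ W, τ x ∈ W) {k : ℕ} (hτ : τ ^ (p ^ k) = 1) : ∀ x ∈ W, x⁻¹ * τ x ∈ U := by
  have hP : p.Prime := Fact.out
  intro x hx
  by_cases hxU : x ∈ U
  · exact U.mul_mem (U.inv_mem hxU) (hU x hxU)
  have hsup := sup_zpowers_eq hP hUW hc hx hxU
  have h1 := hW x hx
  rw [hsup, Subgroup.mem_sup] at h1
  obtain ⟨u, hu, _, ⟨d, rfl⟩, hud⟩ := h1
  have hud' : τ x = u * x ^ d := hud.symm
  have hstep : ∀ n : ℕ, ∃ u' ∈ U, (τ ^ n) x = u' * x ^ (d ^ n) := by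
    intro n
    induction n with
    | zero => exact ⟨1, U.one_mem, by simp⟩
    | succ n ih =>
      obtain ⟨u', hu', e⟩ := ih
      refine ⟨τ u' * u ^ (d ^ n), U.mul_mem (hU _ hu') (U.zpow_mem hu _), ?_⟩
      have e1 : (τ ^ (n + 1)) x = τ ((τ ^ n) x) := by
        rw [pow_succ']
        rfl
      rw [e1, e, map_mul, map_zpow, hud', mul_zpow, ← zpow_mul, pow_succ, mul_comm d]
      rw [mul_assoc]
  obtain ⟨u', hu', e⟩ := hstep (p ^ k)
  rw [hτ] at e
  have e' : x = u' * x ^ (d ^ (p ^ k)) := e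
  have h2 : x ^ (d ^ (p ^ k) - 1) ∈ U := by
    have : x ^ (d ^ (p ^ k) - 1) = u'⁻¹ := by
      rw [zpow_sub, zpow_one]
      have h3 : x ^ (d ^ (p ^ k)) = u'⁻¹ * x := by
        rw [eq_inv_mul_iff_mul_eq]
        exact e'.symm
      rw [h3]
      group
    rw [this]
    exact U.inv_mem hu'
  have hxp := hpU x hx
  have h4 := dvd_of_zpow_mem hxU hxp h2
  have h5 : ((d : ZMod p)) ^ (p ^ k) = 1 := by
    have := (ZMod.intCast_zmod_eq_zero_iff_dvd (d ^ (p ^ k) - 1) p).2 h4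
    push_cast at this
    exact sub_eq_zero.1 this
  rw [ZMod.pow_card_pow] at h5
  have h6 : (p : ℤ) ∣ d - 1 := by
    apply (ZMod.intCast_zmod_eq_zero_iff_dvd (d - 1) p).1
    push_cast
    rw [h5, sub_self]
  obtain ⟨c, hc'⟩ := h6
  have e1 : x ^ (d - 1) = (x ^ p) ^ c := by
    rw [hc', ← zpow_natCast x p, ← zpow_mul]
  have h7 : x⁻¹ * τ x = u * (x ^ p) ^ c := by
    rw [← e1, hud', zpow_sub, zpow_one, mul_left_comm, mul_comm x⁻¹]
  rw [h7]
  exact U.mul_mem hu (U.zpow_mem hxp c)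

end mult

section homocyclic

variable {G : Type u} [CommGroup G] [Finite G] {p : ℕ} [hp : Fact p.Prime]

theorem quot_exp (q : G ⧸ pG p G) : q ^ p = 1 := by
  obtain ⟨x, rfl⟩ := QuotientGroup.mk'_surjective (pG p G) q
  rw [← map_pow, ← MonoidHom.mem_ker, QuotientGroup.ker_mk']
  exact ⟨x, rfl⟩

def vv {a : ℕ} (hexp : ∀ x : G, x ^ a = 1) [NeZero a] (x y : G) : Multiplicative (ZMod a × ZMod a) →* G where
  toFun z := x ^ (Multiplicative.toAdd z).1.val * y ^ (Multiplicative.toAdd z).2.val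
  map_one' := by simp
  map_mul' z z' := by
    simp only [toAdd_mul, Prod.fst_add, Prod.snd_add]
    have h1 : ∀ (v : G) (s t : ZMod a), v ^ (s + t).val = v ^ s.val * v ^ t.val := by
      intro v s t
      rw [ZMod.val_add, ← pow_add]
      exact (pow_eq_pow_mod _ (hexp v)).symm
    rw [h1, h1]
    exact mul_mul_mul_comm _ _ _ _

theorem homocyclic_iso (b : ℕ) (hexp : ∀ x : G, x ^ (p ^ (b + 1)) = 1)
    (hY : ∀ x : G, x ^ (p ^ b) = 1 → x ∈ pG p G) (hidx : (pG p G).index = p ^ 2) :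
    Nonempty (G ≃* Multiplicative (ZMod (p ^ (b + 1)) × ZMod (p ^ (b + 1)))) := by
  classical
  have hP : p.Prime := Fact.out
  haveI : Fact (1 < p) := ⟨hP.one_lt⟩
  haveI : NeZero (p ^ (b + 1)) := ⟨pow_ne_zero _ hP.ne_zero⟩
  set Q := G ⧸ pG p G with hQ
  have hQc : Nat.card Q = p ^ 2 := hidx
  have hQab : ∀ q r : Q, q * r = r * q := fun q r => mul_comm q r
  have hQe : ∀ q : Q, q ^ p = 1 := quot_exp
  -- a basis of the quotient
  obtain ⟨v, hv⟩ : ∃ v : Q, v ≠ 1 := by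
    haveI : Nontrivial Q := by
      apply Finite.one_lt_card_iff_nontrivial.1
      rw [hQc]
      exact Nat.one_lt_pow (by norm_num) hP.one_lt
    exact exists_ne 1
  obtain ⟨w, hw⟩ : ∃ w : Q, w ∉ zpowers v := by
    by_contra hall
    push_neg at hall
    have h1 : zpowers v = ⊤ := by
      ext x
      exact ⟨fun _ => trivial, fun _ => hall x⟩
    have h2 : Nat.card (zpowers v) = p ^ 2 := by rw [h1, Subgroup.card_top, hQc]
    rw [Nat.card_zpowers, orderOf_eq_prime (hQe v) hv] at h2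
    have : p ^ 1 = p ^ 2 := by rw [pow_one]; exact h2
    have := Nat.pow_right_injective hP.two_le this
    omega
  have hb := cc_bij hQab hQe hQc hv hw
  obtain ⟨x, hx⟩ := QuotientGroup.mk'_surjective (pG p G) v
  obtain ⟨y, hy⟩ := QuotientGroup.mk'_surjective (pG p G) w
  set q := QuotientGroup.mk' (pG p G) with hq
  -- independence modulo `p`-th powers
  have hind : ∀ m n : ℕ, x ^ m * y ^ n ∈ pG p G → p ∣ m ∧ p ∣ n := by
    intro m n hmn
    have h1 : q (x ^ m * y ^ n) = 1 := by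
      rw [← MonoidHom.mem_ker, hq, QuotientGroup.ker_mk']
      exact hmn
    rw [map_mul, map_pow, map_pow, hx, hy] at h1
    have h2 : cc hQab hQe v w (Multiplicative.ofAdd ![(m : ZMod p), (n : ZMod p)]) = 1 := by
      rw [cc_mk, ZMod.val_natCast, ZMod.val_natCast, ← pow_eq_pow_mod _ (hQe v), ← pow_eq_pow_mod _ (hQe w)]
      exact h1
    have h3 := hb.1 (h2.trans (map_one _).symm)
    have h4 := congrFun (Multiplicative.toAdd.injective.eq_iff.2 h3)
    have h5 := h4 0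
    have h6 := h4 1
    simp only [toAdd_ofAdd, Matrix.cons_val_zero, Matrix.cons_val_one, toAdd_one, Pi.zero_apply] at h5 h6
    exact ⟨(ZMod.natCast_eq_zero_iff m p).1 h5, (ZMod.natCast_eq_zero_iff n p).1 h6⟩
  -- generation
  have hgen0 : ∀ g : G, ∃ (m n : ℕ) (h : G), g = x ^ m * y ^ n * h ^ p := by
    intro g
    obtain ⟨u, hu⟩ := hb.2 (q g)
    rw [cc_apply] at hu
    have h1 : q (x ^ (Multiplicative.toAdd u 0).val * y ^ (Multiplicative.toAdd u 1).val) = q g := by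
      rw [map_mul, map_pow, map_pow, hx, hy]
      exact hu
    have h2 := QuotientGroup.eq.1 h1
    obtain ⟨h, hh⟩ := h2
    refine ⟨(Multiplicative.toAdd u 0).val, (Multiplicative.toAdd u 1).val, h, ?_⟩
    have hh' : h ^ p = (x ^ (Multiplicative.toAdd u 0).val * y ^ (Multiplicative.toAdd u 1).val)⁻¹ * g := hh
    rw [hh', mul_inv_cancel_left]
  have hgen : ∀ i : ℕ, ∀ g : G, ∃ (m n : ℕ) (h : G), g = x ^ m * y ^ n * h ^ (p ^ i) := by
    intro i
    induction i with
    | zero =>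
      intro g
      exact ⟨0, 0, g, by simp⟩
    | succ i ih =>
      intro g
      obtain ⟨m, n, h, e⟩ := ih g
      obtain ⟨m', n', h', e'⟩ := hgen0 h
      refine ⟨m + m' * p ^ i, n + n' * p ^ i, h', ?_⟩
      rw [e, e', mul_pow, mul_pow, ← pow_mul, ← pow_mul, ← pow_mul, pow_add, pow_add, pow_succ' p i]
      simp only [mul_assoc, mul_left_comm, mul_comm]
  -- the isomorphism
  let θ := vv hexp x y
  have hθ : Function.Bijective θ := by
    constructor
    · rw [injective_iff_map_eq_one]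
      intro z hz
      have hz' : x ^ (Multiplicative.toAdd z).1.val * y ^ (Multiplicative.toAdd z).2.val = 1 := hz
      set m := (Multiplicative.toAdd z).1.val with hm
      set n := (Multiplicative.toAdd z).2.val with hn
      have hdiv : ∀ i ≤ b + 1, p ^ i ∣ m ∧ p ^ i ∣ n := by
        intro i
        induction i with
        | zero => intro _; simp
        | succ i ih =>
          intro hi
          obtain ⟨⟨m', hm'⟩, ⟨n', hn'⟩⟩ := ih (by omega)
          have h1 : (x ^ m' * y ^ n') ^ (p ^ i) = 1 := by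
            rw [mul_pow, ← pow_mul, ← pow_mul, mul_comm m', mul_comm n', ← hm', ← hn']
            exact hz'
          have h2 : (x ^ m' * y ^ n') ^ (p ^ b) = 1 := by
            have : p ^ b = p ^ i * p ^ (b - i) := by
              rw [← pow_add]
              congr 1
              omega
            rw [this, pow_mul, h1, one_pow]
          obtain ⟨hd1, hd2⟩ := hind m' n' (hY _ h2)
          rw [hm', hn', pow_succ]
          exact ⟨Nat.mul_dvd_mul_left _ hd1, Nat.mul_dvd_mul_left _ hd2⟩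
      obtain ⟨h1, h2⟩ := hdiv (b + 1) le_rfl
      have hm0 : m = 0 := Nat.eq_zero_of_dvd_of_lt h1 (ZMod.val_lt _)
      have hn0 : n = 0 := Nat.eq_zero_of_dvd_of_lt h2 (ZMod.val_lt _)
      apply Multiplicative.toAdd.injective
      apply Prod.ext
      · exact (ZMod.val_eq_zero _).1 hm0
      · exact (ZMod.val_eq_zero _).1 hn0
    · intro g
      obtain ⟨m, n, h, e⟩ := hgen (b + 1) g
      refine ⟨Multiplicative.ofAdd ((m : ZMod (p ^ (b + 1))), (n : ZMod (p ^ (b + 1)))), ?_⟩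
      show x ^ (m : ZMod (p ^ (b + 1))).val * y ^ (n : ZMod (p ^ (b + 1))).val = g
      rw [ZMod.val_natCast, ZMod.val_natCast, ← pow_eq_pow_mod _ (hexp x), ← pow_eq_pow_mod _ (hexp y), e, hexp h, mul_one]
  exact ⟨(MulEquiv.ofBijective θ hθ).symm⟩

end homocyclic

section main

variable {G : Type u} [CommGroup G] [Finite G] {p : ℕ} [hp : Fact p.Prime]

theorem pG_inv (γ : MulAut G) : ∀ x ∈ pG p G, γ x ∈ pG p G := by
  rintro _ ⟨y, rfl⟩
  refine ⟨γ y, ?_⟩
  show (γ y) ^ p = γ (y ^ p)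
  rw [map_pow]

/-- the squared nilpotent part -/
theorem n_sq (hG : IsPGroup p G) (hidx : (pG p G).index = p ^ 2) (τ : MulAut G) {k : ℕ} (hτ : τ ^ (p ^ k) = 1) (g : G) :
    τ (τ g * g⁻¹) * (τ g * g⁻¹)⁻¹ ∈ pG p G := by
  classical
  have hP : p.Prime := Fact.out
  set Q := G ⧸ pG p G with hQ
  have hQc : Nat.card Q = p ^ 2 := hidx
  have hQab : ∀ q r : Q, q * r = r * q := fun q r => mul_comm q r
  have hQe : ∀ q : Q, q ^ p = 1 := quot_exp
  have hmap : (pG p G).map τ.toMonoidHom = pG p G := by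
    apply le_antisymm
    · rintro _ ⟨x, hx, rfl⟩
      exact pG_inv τ x hx
    · intro x hx
      refine ⟨τ⁻¹ x, pG_inv τ⁻¹ x hx, ?_⟩
      show τ (τ⁻¹ x) = x
      simp
  let τb : MulAut Q := QuotientGroup.congr (pG p G) (pG p G) τ hmap
  have hτb : ∀ x : G, τb (QuotientGroup.mk' _ x) = QuotientGroup.mk' _ (τ x) := fun x => rfl
  have hτbp : τb ^ (p ^ k) = 1 := by
    have hstep : ∀ m : ℕ, ∀ x : G, (τb ^ m) (QuotientGroup.mk' _ x) = QuotientGroup.mk' _ ((τ ^ m) x) := by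
      intro m
      induction m with
      | zero => intro x; rfl
      | succ m ih =>
        intro x
        rw [pow_succ, pow_succ]
        show (τb ^ m) (τb (QuotientGroup.mk' _ x)) = QuotientGroup.mk' _ ((τ ^ m) (τ x))
        rw [hτb, ih]
    ext q
    obtain ⟨x, rfl⟩ := QuotientGroup.mk'_surjective (pG p G) q
    rw [hstep, hτ]
    rfl
  have hzp : IsPGroup p (zpowers τb) := by
    have h1 : orderOf τb ∣ p ^ k := orderOf_dvd_of_pow_eq_one hτbp
    obtain ⟨j, -, hj⟩ := (Nat.dvd_prime_pow hP).1 h1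
    exact IsPGroup.of_card (n := j) (by rw [Nat.card_zpowers, hj])
  obtain ⟨v, hv, hfix⟩ := exists_fix (zpowers τb) hzp (by rw [hQc]; exact dvd_pow_self p (by norm_num))
  have hfixv : τb v = v := hfix τb (Subgroup.mem_zpowers τb)
  obtain ⟨w, hw⟩ : ∃ w : Q, w ∉ zpowers v := by
    by_contra hall
    push_neg at hall
    have h1 : zpowers v = ⊤ := by
      ext x
      exact ⟨fun _ => trivial, fun _ => hall x⟩
    have h2 : Nat.card (zpowers v) = p ^ 2 := by rw [h1, Subgroup.card_top, hQc]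
    rw [Nat.card_zpowers, orderOf_eq_prime (hQe v) hv] at h2
    have : p ^ 1 = p ^ 2 := by rw [pow_one]; exact h2
    have := Nat.pow_right_injective hP.two_le this
    omega
  obtain ⟨a, ha⟩ := form hQab hQe hQc hv hw τb hτbp hfixv
  have hb := cc_bij hQab hQe hQc hv hw
  obtain ⟨u, hu⟩ := hb.2 (QuotientGroup.mk' _ g)
  rw [cc_apply] at hu
  have hq1 : τb (QuotientGroup.mk' _ g) * (QuotientGroup.mk' _ g)⁻¹ = (v ^ a.val) ^ (Multiplicative.toAdd u 1).val := by
    rw [← hu, map_mul, map_pow, map_pow, hfixv, ha, mul_pow]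
    simp only [mul_inv_rev]
    have : v ^ (Multiplicative.toAdd u 0).val * ((v ^ a.val) ^ (Multiplicative.toAdd u 1).val * w ^ (Multiplicative.toAdd u 1).val) * ((w ^ (Multiplicative.toAdd u 1).val)⁻¹ * (v ^ (Multiplicative.toAdd u 0).val)⁻¹) =
        (v ^ a.val) ^ (Multiplicative.toAdd u 1).val * (v ^ (Multiplicative.toAdd u 0).val * (v ^ (Multiplicative.toAdd u 0).val)⁻¹) * (w ^ (Multiplicative.toAdd u 1).val * (w ^ (Multiplicative.toAdd u 1).val)⁻¹) := by
      simp only [mul_assoc, mul_left_comm, mul_comm]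
    rw [this]
    simp
  have hq2 : QuotientGroup.mk' (pG p G) (τ (τ g * g⁻¹) * (τ g * g⁻¹)⁻¹) = 1 := by
    have e1 : QuotientGroup.mk' (pG p G) (τ g * g⁻¹) = τb (QuotientGroup.mk' _ g) * (QuotientGroup.mk' _ g)⁻¹ := by
      rw [map_mul, map_inv]
      rfl
    rw [map_mul, map_inv, ← hτb, e1, hq1, map_pow, map_pow, hfixv]
    simp
  rw [← MonoidHom.mem_ker, QuotientGroup.ker_mk'] at hq2
  exact hq2

/-- additive form of an automorphism -/
def toEnd (τ : MulAut G) : AddMonoid.End (Additive G) := MonoidHom.toAdditive τ.toMonoidHom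

theorem toEnd_pow (τ : MulAut G) (n : ℕ) (x : G) : ((toEnd τ) ^ n) (Additive.ofMul x) = Additive.ofMul ((τ ^ n) x) := by
  induction n generalizing x with
  | zero => rfl
  | succ n ih =>
    rw [pow_succ, pow_succ]
    show ((toEnd τ) ^ n) (Additive.ofMul (τ x)) = Additive.ofMul ((τ ^ n) (τ x))
    rw [ih]

theorem big_p (hp5 : 5 ≤ p) (hG : IsPGroup p G) (hidx : (pG p G).index = p ^ 2) (b : ℕ)
    (hY : ∀ x : G, x ^ (p ^ (b + 1)) = 1 → x ∈ pG p G)
    (A B : Subgroup (MulAut G)) (hBA : B ≤ A) (hBp : IsPGroup p B) (hτ : ∃ τ ∈ B, τ ≠ 1) (hcore : Cfsg.pCore p A = ⊥) : False := by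
  classical
  have hP : p.Prime := Fact.out
  obtain ⟨τ, hτB, hτ1⟩ := hτ
  obtain ⟨k, hk⟩ := hBp ⟨τ, hτB⟩
  have hk' : τ ^ (p ^ k) = 1 := congrArg Subtype.val hk
  -- trivial action on `G/pG` forces triviality
  let K0 := K2 (pG p G) (pG p G) le_rfl
  have hK0 : ∀ α ∈ A, α ∈ K0 → α = 1 := by
    intro α hα hαK
    have hnorm : (K0.subgroupOf A).Normal := ⟨fun n hn g => K2_conj _ _ le_rfl pG_inv pG_inv g hn⟩
    have hpp : IsPGroup p (K0.subgroupOf A) := (K2_pgroup hG _ le_rfl).comap_of_injective A.subtype Subtype.coe_injective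
    have h1 := le_pCore hnorm hpp
    rw [hcore, le_bot_iff] at h1
    have h2 : (⟨α, hα⟩ : A) ∈ K0.subgroupOf A := Subgroup.mem_subgroupOf.2 hαK
    rw [h1, Subgroup.mem_bot] at h2
    exact congrArg Subtype.val h2
  have hmemK0 : ∀ α : MulAut G, (∀ x, x⁻¹ * α x ∈ pG p G) → α ∈ K0 := fun α h => ⟨h, fun x _ => h x⟩
  let M : AddMonoid.End (Additive G) := toEnd τ - 1
  have hMv : ∀ x : G, M (Additive.ofMul x) = Additive.ofMul (τ x * x⁻¹) := by
    intro x
    show Additive.ofMul (τ x) - Additive.ofMul x = _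
    rw [← ofMul_div, div_eq_mul_inv]
  have hT : M + 1 = toEnd τ := sub_add_cancel _ _
  have hM2 : ∀ v, ∃ u, M (M v) = p • u := by
    intro v
    obtain ⟨u, hu⟩ := n_sq hG hidx τ hk' (Additive.toMul v)
    refine ⟨Additive.ofMul u, ?_⟩
    have e1 : M (M v) = Additive.ofMul (τ (τ (Additive.toMul v) * (Additive.toMul v)⁻¹) * (τ (Additive.toMul v) * (Additive.toMul v)⁻¹)⁻¹) := by
      have e2 : M v = Additive.ofMul (τ (Additive.toMul v) * (Additive.toMul v)⁻¹) := hMv (Additive.toMul v)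
      rw [e2, hMv]
    rw [e1, ← ofMul_pow]
    exact congrArg Additive.ofMul hu.symm
  -- `τ ^ p` is trivial
  have hτp : τ ^ p = 1 := by
    apply hK0 _ (A.pow_mem (hBA hτB) p)
    apply hmemK0
    intro x
    obtain ⟨w, hw⟩ := calc1 M hM2 (Additive.ofMul x)
    rw [hT, toEnd_pow] at hw
    refine ⟨Additive.toMul w, ?_⟩
    have e : (τ ^ p) x = (Additive.toMul w) ^ p * x := hw
    show (Additive.toMul w) ^ p = x⁻¹ * (τ ^ p) x
    rw [e, mul_comm ((Additive.toMul w) ^ p) x, inv_mul_cancel_left]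
  have hT1 : (M + 1) ^ p = 1 := by
    ext v
    rw [hT]
    have := toEnd_pow τ p (Additive.toMul v)
    rw [hτp] at this
    exact this
  apply hτ1
  apply hK0 _ (hBA hτB)
  apply hmemK0
  intro x
  obtain ⟨w, hw⟩ := calc2 hp5 M hM2 hT1 (Additive.ofMul x)
  rw [hMv] at hw
  -- back to multiplicative notation
  have h1 : (τ x * x⁻¹) ^ p = (Additive.toMul w) ^ (p * p) := hw
  have h2 : ((τ x * x⁻¹) * ((Additive.toMul w) ^ p)⁻¹) ^ p = 1 := by
    rw [mul_pow, inv_pow, ← pow_mul, h1, mul_inv_cancel]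
  have h3 : ((τ x * x⁻¹) * ((Additive.toMul w) ^ p)⁻¹) ^ (p ^ (b + 1)) = 1 := by
    rw [pow_succ', pow_mul, h2, one_pow]
  obtain ⟨h, hh⟩ := hY _ h3
  have hh' : h ^ p = (τ x * x⁻¹) * ((Additive.toMul w) ^ p)⁻¹ := hh
  refine ⟨h * Additive.toMul w, ?_⟩
  show (h * Additive.toMul w) ^ p = x⁻¹ * τ x
  rw [mul_pow, hh', inv_mul_cancel_right, mul_comm]

theorem main_ab (hG : IsPGroup p G) (A B : Subgroup (MulAut G)) (hBA : B ≤ A) (hBp : IsPGroup p B) (hτ : ∃ τ ∈ B, τ ≠ 1)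
    (hcore : Cfsg.pCore p A = ⊥) (hidx : (frattini G).index ≤ p ^ 2) :
    ((∀ x : G, x ^ p = 1) ∧ Nat.card G = p ^ 2) ∨ (p ≤ 3 ∧ ∃ k : ℕ, Nonempty (G ≃* Multiplicative (ZMod (p ^ k) × ZMod (p ^ k)))) := by
  classical
  have hP : p.Prime := Fact.out
  obtain ⟨n, hn⟩ := IsPGroup.iff_card.1 hG
  have hpow : ∀ u : G, u ^ (p ^ n) = 1 := fun u => by rw [← hn]; exact pow_card_eq_one'
  obtain ⟨τ0, hτ0B, hτ01⟩ := hτ
  haveI hnt : Nontrivial G := by
    by_contra hnt
    rw [not_nontrivial_iff_subsingleton] at hnt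
    exact hτ01 (by ext x; exact Subsingleton.elim _ _)
  -- index of the `p`-th powers
  have hfr : frattini G ≤ pG p G := by
    apply Cfsg.Agent.Lib.PGrp.frattini_le_of hG
    · rw [commutator_def, Subgroup.commutator_le]
      intro x _ y _
      have : x * y * x⁻¹ * y⁻¹ = 1 := by
        rw [mul_comm x y, mul_inv_cancel_right, mul_inv_cancel]
      rw [commutatorElement_def, this]
      exact Subgroup.one_mem _
    · intro x
      exact ⟨x, rfl⟩
  have hidx1 : (pG p G).index ≤ p ^ 2 := by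
    have h1 : (pG p G).index ∣ (frattini G).index := Subgroup.index_dvd_of_le hfr
    have h2 : 0 < (frattini G).index := Nat.pos_of_ne_zero Subgroup.index_ne_zero_of_finite
    exact (Nat.le_of_dvd h2 h1).trans hidx
  have hker : ∀ x : G, x ∈ (powMonoidHom p : G →* G).ker ↔ x ^ p = 1 := fun x => Iff.rfl
  have hidx2 : (pG p G).index = Nat.card (powMonoidHom p : G →* G).ker := by
    have h1 := Subgroup.card_mul_index (pG p G)
    have h2 := Subgroup.card_mul_index (powMonoidHom p : G →* G).ker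
    rw [Subgroup.index_ker] at h2
    have h3 : Nat.card (pG p G) = Nat.card (powMonoidHom p : G →* G).range := rfl
    rw [h3] at h1
    rw [← h2, mul_comm] at h1
    exact (Nat.eq_of_mul_eq_mul_right Nat.card_pos h1)
  have hdvd : (pG p G).index ∣ p ^ n := by
    rw [← hn]
    exact Subgroup.index_dvd_card _
  obtain ⟨j, -, hj⟩ := (Nat.dvd_prime_pow hP).1 hdvd
  have hj2 : j ≤ 2 := by
    have : p ^ j ≤ p ^ 2 := hj ▸ hidx1
    exact (Nat.pow_le_pow_iff_right hP.one_lt).1 this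
  have hj0 : j ≠ 0 := by
    rintro rfl
    rw [pow_zero] at hj
    rw [hidx2] at hj
    have h1 : (powMonoidHom p : G →* G).ker = ⊥ := Subgroup.eq_bot_of_card_eq _ hj
    obtain ⟨x, hx⟩ := exists_prime_orderOf_dvd_card' (G := G) p (by
      rw [hn]
      apply dvd_pow_self
      rintro rfl
      rw [pow_zero] at hn
      have := Finite.one_lt_card_iff_nontrivial.2 hnt
      omega)
    have h2 : x ∈ (powMonoidHom p : G →* G).ker := (hker x).2 (by rw [← hx]; exact pow_orderOf_eq_one x)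
    rw [h1, Subgroup.mem_bot] at h2
    rw [h2, orderOf_one] at hx
    exact hP.one_lt.ne hx
  have hcardG : Nat.card (pG p G) * p ^ j = Nat.card G := by
    rw [← hj]
    exact Subgroup.card_mul_index _
  -- the exponent
  have hex : ∃ a, ∀ u : G, u ^ (p ^ a) = 1 := ⟨n, hpow⟩
  obtain ⟨a, hmin⟩ : ∃ a, (∀ u : G, u ^ (p ^ a) = 1) ∧ ∀ a' < a, ¬ ∀ u : G, u ^ (p ^ a') = 1 :=
    ⟨Nat.find hex, Nat.find_spec hex, fun a' h => Nat.find_min hex h⟩
  obtain ⟨hexp, hmin⟩ := hmin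
  have ha0 : a ≠ 0 := by
    rintro rfl
    obtain ⟨x, hx⟩ := exists_ne (1 : G)
    apply hx
    have := hexp x
    simpa using this
  obtain ⟨b, rfl⟩ := Nat.exists_eq_succ_of_ne_zero ha0
  obtain ⟨x0, hx0⟩ : ∃ x0 : G, x0 ^ (p ^ b) ≠ 1 := by
    by_contra hall
    push_neg at hall
    exact hmin b (by omega) hall
  let Y : Subgroup G := (powMonoidHom (p ^ b) : G →* G).ker
  have hYm : ∀ x, x ∈ Y ↔ x ^ (p ^ b) = 1 := fun x => Iff.rfl
  have hpY : pG p G ≤ Y := by
    rintro _ ⟨x, rfl⟩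
    rw [hYm]
    show (x ^ p) ^ (p ^ b) = 1
    rw [← pow_mul, ← pow_succ']
    exact hexp x
  have hYinv : ∀ γ : MulAut G, ∀ x ∈ Y, γ x ∈ Y := by
    intro γ x hx
    rw [hYm] at hx ⊢
    rw [← map_pow, hx, map_one]
  have hYtop : Y ≠ ⊤ := by
    intro h
    apply hx0
    rw [← hYm, h]
    trivial
  have hpcontra : ∀ (Y' : Subgroup G) (hle : pG p G ≤ Y') (hinv : ∀ γ : MulAut G, ∀ x ∈ Y', γ x ∈ Y'),
      (∀ τ ∈ B, τ ∈ K2 Y' (pG p G) hle) → False := by
    intro Y' hle hinv hmem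
    exact no_normal A B (K2 Y' (pG p G) hle) hBA ⟨τ0, hτ0B, hτ01⟩ hcore (K2_pgroup hG Y' hle)
      (fun γ _ κ hκ => K2_conj _ _ hle hinv pG_inv γ hκ) hmem
  have hτp : ∀ τ ∈ B, ∃ k, τ ^ (p ^ k) = 1 := by
    intro τ hτ
    obtain ⟨k, hk⟩ := hBp ⟨τ, hτ⟩
    exact ⟨k, congrArg Subtype.val hk⟩
  have hcases : j = 1 ∨ j = 2 := by omega
  rcases hcases with rfl | rfl
  · -- cyclic Frattini quotient
    exfalso
    refine hpcontra (pG p G) le_rfl pG_inv ?_
    intro τ hτ
    obtain ⟨k, hk⟩ := hτp τ hτ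
    have h1 : ∀ x ∈ (⊤ : Subgroup G), x⁻¹ * τ x ∈ pG p G := by
      apply factor_triv (p := p) (U := pG p G) (W := ⊤) le_top (fun x _ => ⟨x, rfl⟩) ?_ (pG_inv τ) (fun _ _ => trivial) hk
      rw [Subgroup.card_top, ← hcardG, pow_one, mul_comm]
    exact ⟨fun x => h1 x trivial, fun x _ => h1 x trivial⟩
  · by_cases hYp : Y = pG p G
    · rcases Nat.eq_zero_or_pos b with rfl | hb
      · left
        have h1 : ∀ x : G, x ^ p = 1 := by simpa using hexp
        refine ⟨h1, ?_⟩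
        have h2 : pG p G = ⊥ := by
          rw [← hYp, eq_bot_iff]
          intro x hx
          rw [hYm] at hx
          simpa using hx
        rw [← hcardG, h2, Subgroup.card_bot, one_mul]
      · right
        have hYmem : ∀ x : G, x ^ (p ^ b) = 1 → x ∈ pG p G := by
          intro x hx
          rw [← hYp]
          exact (hYm x).2 hx
        have hle3 : p ≤ 3 := by
          by_contra hgt
          have hp5 : 5 ≤ p := by
            by_contra h5
            have h4 : p = 4 := by omega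
            rw [h4] at hP
            exact absurd hP (by norm_num)
          obtain ⟨c, rfl⟩ : ∃ c, b = c + 1 := ⟨b - 1, by omega⟩
          exact big_p hp5 hG hj c hYmem A B hBA hBp ⟨τ0, hτ0B, hτ01⟩ hcore
        exact ⟨hle3, b + 1, homocyclic_iso b hexp hYmem hj⟩
    · exfalso
      have hcY : Nat.card Y = p * Nat.card (pG p G) := by
        have h1 : Nat.card (pG p G) ∣ Nat.card Y := Subgroup.card_dvd_of_le hpY
        have h2 : Nat.card Y ∣ Nat.card (pG p G) * p ^ 2 := by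
          rw [hcardG]
          exact Subgroup.card_subgroup_dvd_card Y
        obtain ⟨d, hd⟩ := h1
        rw [hd] at h2 ⊢
        have h3 : d ∣ p ^ 2 := Nat.dvd_of_mul_dvd_mul_left Nat.card_pos h2
        obtain ⟨e, he, rfl⟩ := (Nat.dvd_prime_pow hP).1 h3
        have he0 : e ≠ 0 := by
          rintro rfl
          apply hYp
          apply (Subgroup.eq_of_le_of_card_ge hpY _).symm
          rw [hd, pow_zero, mul_one]
        have he2 : e ≠ 2 := by
          rintro rfl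
          apply hYtop
          apply Subgroup.eq_top_of_card_eq
          rw [hd, hcardG]
        have he1 : e = 1 := by omega
        rw [he1, pow_one, mul_comm]
      have hcT : Nat.card (⊤ : Subgroup G) = p * Nat.card Y := by
        rw [Subgroup.card_top, ← hcardG, hcY]
        ring
      refine hpcontra Y hpY hYinv ?_
      intro τ hτ
      obtain ⟨k, hk⟩ := hτp τ hτ
      have hpx : ∀ x : G, x ^ p ∈ Y := fun x => hpY ⟨x, rfl⟩
      exact ⟨fun x => factor_triv (p := p) le_top (fun x _ => hpx x) hcT (hYinv τ) (fun _ _ => trivial) hk x trivial,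
        factor_triv (p := p) (U := pG p G) (W := Y) hpY (fun x _ => ⟨x, rfl⟩) hcY (pG_inv τ) (hYinv τ) hk⟩

end main


/-- Let F be a saturated fusion system over a finite p-group S and H an abelian essential subgroup that can be generated by two elements (its Frattini quotient has order at most p²). Then H is elementary abelian of order p², or p ≤ 3 and H is homocyclic of rank two, that is isomorphic to C_{pᵏ} × C_{pᵏ} for some k. -/
theorem result {Ω : Type u} [Group Ω] {S : Subgroup Ω} [Finite S] (p : ℕ) [Fact p.Prime] (hS : IsPGroup p S)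
    (F : Cfsg.FusionSystem S) (hF : F.IsSaturated p) (H : Subgroup Ω) (hH : F.IsEssential p H) (hab : IsMulCommutative ↥H) (hrk : (frattini ↥H).index ≤ p ^ 2) :
    (Cfsg.IsElementaryAbelian p H ∧ Nat.card H = p ^ 2) ∨
      (p ≤ 3 ∧ ∃ k : ℕ, Nonempty (↥H ≃* Multiplicative (ZMod (p ^ k) × ZMod (p ^ k)))) := by
  classical
  have hP : p.Prime := Fact.out
  have hPS : H ≤ S := hH.1.1
  haveI : Finite H := Cfsg.Agent.Lib.FusBasic.finite_of_le hPS
  have hab : ∀ a b : H, a * b = b * a := fun a b => hab.is_comm.comm a b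
  letI iC : CommGroup H := { (inferInstance : Group H) with mul_comm := hab }
  have hrad := Cfsg.Agent.Lib.FusAut.essential_radical hS F hH
  have hInn : Cfsg.Inn H = ⊥ := by
    rw [eq_bot_iff]
    rintro _ ⟨g, rfl⟩
    rw [Subgroup.mem_bot]
    ext x
    show ((g * x * g⁻¹ : H) : Ω) = x
    rw [hab g x, mul_inv_cancel_right]
  have hcore : Cfsg.pCore p ↥(F.autGroup H) = ⊥ := by
    have h1 := hrad.2
    rw [hInn] at h1
    exact (Subgroup.map_eq_bot_iff_of_injective _ (Subgroup.subtype_injective _)).1 h1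
  have hlt := Cfsg.Agent.Lib.FusEss.essential_lt hS F hF hH
  obtain ⟨s, hsN, hsH⟩ := SetLike.exists_of_lt (Cfsg.Agent.Lib.FusSat.normalizerIn_gt hS hlt)
  obtain ⟨hsS, hsn⟩ := Cfsg.Agent.Lib.FusBasic.mem_normalizerIn.1 hsN
  have hind : Cfsg.Agent.Lib.FusSat.cAut H ⟨s, hsn⟩ ∈ Cfsg.autInducedBy S H := Cfsg.Agent.Lib.FusSat.mem_autInducedBy'.2 ⟨s, hsS, fun x => rfl⟩
  have htne : Cfsg.Agent.Lib.FusSat.cAut H ⟨s, hsn⟩ ≠ 1 := by
    intro h1
    apply hsH
    apply hH.1.2 H (Cfsg.Agent.Lib.FusSat.isConj_refl F hPS)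
    rw [Cfsg.Agent.Lib.FusBasic.mem_centralizerIn]
    refine ⟨hsS, fun y hy => ?_⟩
    have h2 := congrArg (fun f : MulAut H => ((f ⟨y, hy⟩ : H) : Ω)) h1
    have h3 : s * y * s⁻¹ = y := h2
    rw [mul_inv_eq_iff_eq_mul] at h3
    exact h3.symm
  have hHp : IsPGroup p H := hS.to_le hPS
  have h := main_ab (G := H) hHp (F.autGroup H) (Cfsg.autInducedBy S H) (Cfsg.Agent.Lib.FusAut.autInduced_le_autGroup F hPS)
    (Cfsg.Agent.Lib.FusSat.isPGroup_autInduced hS H) ⟨_, hind, htne⟩ hcore hrk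
  rcases h with ⟨h1, h2⟩ | h3
  · left
    exact ⟨⟨⟨⟨hab⟩⟩, fun a ha => congrArg Subtype.val (h1 ⟨a, ha⟩)⟩, h2⟩
  · right
    exact h3

end Cfsg.Agent.S5187
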