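import Cfsg.Statements.S5195
import Mathlib
import Cfsg.Agent.Lib.FusT

set_option autoImplicit false
open Cfsg

namespace Cfsg.Agent.S5195

open Cfsg.FusionSystem Cfsg.Agent.Lib.FusT Cfsg.Agent.Lib.FusGT Cfsg.Agent.Lib.FusReal2 Cfsg.Agent.Lib.FusKNorm
open Cfsg.Agent.Lib.FusBasic Cfsg.Agent.Lib.FusSat Cfsg.Agent.Lib.FusAlp Cfsg.Agent.Lib.FusAut
open Cfsg.Agent.Lib.FusFactor Cfsg.Agent.Lib.FusLift Cfsg.Agent.Lib.FusSurj Cfsg.Agent.Lib.FusNorm

universe u

/-- A `p`-element criterion: a `p`-element modulo `Q` whose restriction to `Q` is a `p`-element. -/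
theorem isPEl_of_mod {Ω : Type*} [Group Ω] {p : ℕ} [Fact p.Prime] {U Q : Subgroup Ω} [Finite Q] (hQU : Q ≤ U) (hQp : IsPGroup p Q)
    (α : MulAut U) (hinv : ∀ x : U, (x : Ω) ∈ Q → ((α x : U) : Ω) ∈ Q) {k a : ℕ}
    (hk : ∀ x : U, (x : Ω)⁻¹ * (((α ^ p ^ k) x : U) : Ω) ∈ Q)
    (ha : ∀ x : U, (x : Ω) ∈ Q → (((α ^ p ^ a) x : U) : Ω) = x) : IsPEl p α := by
  classical
  have hαn : ∀ (n : ℕ) (x : U), (x : Ω) ∈ Q → (((α ^ n) x : U) : Ω) ∈ Q := by
    intro n
    induction n with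
    | zero => intro x hx; simpa using hx
    | succ n ih =>
      intro x hx
      rw [pow_succ']
      exact hinv _ (ih x hx)
  obtain ⟨δ, hδ⟩ : ∃ δ : MulAut U, δ = α ^ p ^ k := ⟨_, rfl⟩
  have hδk : ∀ x : U, (x : Ω)⁻¹ * ((δ x : U) : Ω) ∈ Q := by
    rw [hδ]
    exact hk
  have hδQ : ∀ (n : ℕ) (x : U), (x : Ω) ∈ Q → (((δ ^ n) x : U) : Ω) ∈ Q := by
    intro n x hx
    rw [hδ, ← pow_mul]
    exact hαn _ x hx
  have hδpow : ∀ (n : ℕ) (x : U), (x : Ω)⁻¹ * (((δ ^ n) x : U) : Ω) ∈ Q := by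
    intro n
    induction n with
    | zero => intro x; simp
    | succ n ih =>
      intro x
      rw [pow_succ]
      show (x : Ω)⁻¹ * (((δ ^ n) (δ x) : U) : Ω) ∈ Q
      have hz := hδk x
      obtain ⟨z, hzdef⟩ : ∃ z : U, z = x⁻¹ * δ x := ⟨_, rfl⟩
      have hzQ : (z : Ω) ∈ Q := by
        rw [hzdef]
        exact hz
      have e : δ x = x * z := by rw [hzdef]; group
      rw [e, map_mul]
      have e2 : (x : Ω)⁻¹ * ((((δ ^ n) x * (δ ^ n) z : U)) : Ω) = ((x : Ω)⁻¹ * (((δ ^ n) x : U) : Ω)) * (((δ ^ n) z : U) : Ω) := by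
        show _ * (((δ ^ n) x : Ω) * ((δ ^ n) z : Ω)) = _
        group
      rw [e2]
      exact Q.mul_mem (ih x) (hδQ n z hzQ)
  obtain ⟨γ, hγ⟩ : ∃ γ : MulAut U, γ = δ ^ p ^ a := ⟨_, rfl⟩
  have hγQ : ∀ q : U, (q : Ω) ∈ Q → γ q = q := by
    intro q hq
    apply Subtype.ext
    have h1 : ∀ (n : ℕ) (x : U), (x : Ω) ∈ Q → (((α ^ p ^ a) ^ n) x : U) = x := by
      intro n
      induction n with
      | zero => intro x _; rfl
      | succ n ih =>
        intro x hx
        rw [pow_succ]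
        show (((α ^ p ^ a) ^ n) ((α ^ p ^ a) x) : U) = x
        have h2 : (α ^ p ^ a) x = x := Subtype.ext (ha x hx)
        rw [h2]
        exact ih x hx
    rw [hγ, hδ, ← pow_mul, mul_comm, pow_mul]
    exact congrArg Subtype.val (h1 _ q hq)
  have hγpow : ∀ (n : ℕ) (x : U), (((γ ^ n) x : U) : Ω) = x * ((x : Ω)⁻¹ * ((γ x : U) : Ω)) ^ n := by
    intro n
    induction n with
    | zero => intro x; simp
    | succ n ih =>
      intro x
      rw [pow_succ]
      show (((γ ^ n) (γ x) : U) : Ω) = _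
      have hz : (x : Ω)⁻¹ * ((γ x : U) : Ω) ∈ Q := by
        rw [hγ]
        exact hδpow _ x
      obtain ⟨z, hzdef⟩ : ∃ z : U, z = x⁻¹ * γ x := ⟨_, rfl⟩
      have hzQ : (z : Ω) ∈ Q := by
        rw [hzdef]
        exact hz
      have e : γ x = x * z := by rw [hzdef]; group
      have hγz : ∀ m : ℕ, (γ ^ m) z = z := by
        intro m
        induction m with
        | zero => rfl
        | succ m ihm =>
          rw [pow_succ']
          show γ ((γ ^ m) z) = z
          rw [ihm]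
          exact hγQ z hzQ
      have e3 : ((x : Ω)⁻¹ * ((γ x : U) : Ω)) = z := by rw [hzdef]; rfl
      have e4 : (γ ^ n) (γ x) = (γ ^ n) x * z := by rw [e, map_mul, hγz]
      rw [e3, e4]
      show (((γ ^ n) x : U) : Ω) * z = _
      rw [ih x, e3, pow_succ, mul_assoc]
  obtain ⟨c, hc⟩ := IsPGroup.iff_card.1 hQp
  refine ⟨k + a + c, ?_⟩
  refine MulEquiv.ext fun x => Subtype.ext ?_
  have e : α ^ p ^ (k + a + c) = γ ^ p ^ c := by
    rw [hγ, hδ, ← pow_mul, ← pow_mul, pow_add, pow_add, mul_assoc]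
  rw [e, hγpow]
  have hz : (x : Ω)⁻¹ * ((γ x : U) : Ω) ∈ Q := by
    rw [hγ]
    exact hδpow _ x
  have h9 : ((⟨_, hz⟩ : Q)) ^ p ^ c = 1 := by
    rw [← hc]
    exact pow_card_eq_one'
  have h10 : ((x : Ω)⁻¹ * ((γ x : U) : Ω)) ^ p ^ c = 1 := congrArg (fun t : Q => (t : Ω)) h9
  rw [h10, mul_one]
  rfl

/-- The induction statement. -/
def Stmt (p n : ℕ) : Prop :=
  ∀ (Ω : Type u) [Group Ω] (S : Subgroup Ω) [Finite S] (hS : IsPGroup p S) (F : Cfsg.FusionSystem S) (hF : F.IsSaturated p),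
    Nat.card S < n → Free p F →
    (∀ Q : Subgroup Ω, Q ≤ S → Q ≠ ⊥ → (Q.subgroupOf S).Characteristic → IsPGroup p (F.autGroup Q)) → Inner F

variable {p : ℕ} [Fact p.Prime] {Ω : Type u} [Group Ω] {S : Subgroup Ω} [Finite S] {F : Cfsg.FusionSystem S}

set_option maxHeartbeats 1000000 in
/-- One step. -/
theorem char_step (hIH : Stmt.{u} p (Nat.card S)) (hFree : Free p F) (hS : IsPGroup p S) (hF : F.IsSaturated p)
    (h : ∀ Q : Subgroup Ω, Q ≤ S → Q ≠ ⊥ → (Q.subgroupOf S).Characteristic → IsPGroup p (F.autGroup Q))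
    {Q : Subgroup Ω} (hQS : Q ≤ S) (hQ1 : Q ≠ ⊥) (hSN : S ≤ Subgroup.normalizer (Q : Set Ω))
    (hQc : (Q.subgroupOf S).Characteristic) (hb : Bad F p Q) : False := by
  classical
  obtain ⟨E, hE⟩ := Cfsg.Agent.S5096.result F Q hQS
  have hFN : F.IsFullyNormalized Q := fn_of_normalized hQS hSN
  have hTS : normalizerIn S Q = S := normalizerIn_eq hSN
  haveI hTfin : Finite ↥(normalizerIn S Q) := finite_normalizerIn Q
  have hpT : IsPGroup p ↥(normalizerIn S Q) := hS.to_le inf_le_left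
  have hEsat : E.IsSaturated p := saturated_normalizer hS hF hFN hE
  have hsc : E.StronglyClosed Q := stronglyClosed_of_normal E (normal_in_normalizer hQS hE)
  have hQT : Q ≤ normalizerIn S Q := fun x hx => ⟨hQS hx, Subgroup.le_normalizer hx⟩
  haveI hQ'n : (Q.subgroupOf (normalizerIn S Q)).Normal := by
    refine ⟨fun n hn g => ?_⟩
    exact (Subgroup.mem_normalizer_iff.1 (mem_normalizerIn.1 g.2).2 _).1 hn
  let θ : ↥(normalizerIn S Q) →* (↥(normalizerIn S Q) ⧸ Q.subgroupOf (normalizerIn S Q)) := QuotientGroup.mk' _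
  have hθ : ∀ s : ↥(normalizerIn S Q), θ s = 1 ↔ (s : Ω) ∈ Q := fun s => by
    have : θ s = ((s : ↥(normalizerIn S Q)) : ↥(normalizerIn S Q) ⧸ Q.subgroupOf (normalizerIn S Q)) := rfl
    rw [this, QuotientGroup.eq_one_iff]
    exact Subgroup.mem_subgroupOf
  have hr : θ.range = ⊤ := MonoidHom.range_eq_top.2 (QuotientGroup.mk'_surjective _)
  obtain ⟨E', hfac⟩ := exists_factor E hsc θ hθ hr
  have hsurj : E.IsSurjectiveMorphism E' θ := factor_morphism hpT E hEsat hsc θ E' hfac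
  have hE'sat : E'.IsSaturated p := saturated_image hpT E E' θ hEsat hsurj
  have hpQ : IsPGroup p (↥(normalizerIn S Q) ⧸ Q.subgroupOf (normalizerIn S Q)) := hpT.to_quotient _
  have hp' : IsPGroup p ↥(⊤ : Subgroup (↥(normalizerIn S Q) ⧸ Q.subgroupOf (normalizerIn S Q))) := hpQ.to_subgroup ⊤
  have hcard : Nat.card ↥(⊤ : Subgroup (↥(normalizerIn S Q) ⧸ Q.subgroupOf (normalizerIn S Q))) < Nat.card S := by
    rw [Subgroup.card_top]
    have h1 := Subgroup.card_eq_card_quotient_mul_card_subgroup (Q.subgroupOf (normalizerIn S Q))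
    have h2 : Nat.card ↥(normalizerIn S Q) = Nat.card S := by rw [hTS]
    rw [h2] at h1
    have h3 : 1 < Nat.card ↥(Q.subgroupOf (normalizerIn S Q)) := by
      haveI : Finite Q := finite_of_le hQS
      have h4 : Nat.card ↥(Q.subgroupOf (normalizerIn S Q)) = Nat.card Q := Nat.card_congr (Subgroup.subgroupOfEquivOfLe hQT).toEquiv
      rw [h4]
      haveI : Nontrivial Q := (Subgroup.nontrivial_iff_ne_bot _).2 hQ1
      exact Finite.one_lt_card
    have h5 : 0 < Nat.card S := Nat.card_pos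
    have h6 : 0 < Nat.card (↥(normalizerIn S Q) ⧸ Q.subgroupOf (normalizerIn S Q)) := Nat.card_pos
    nlinarith
  have hEfree : Free p E := free_normalizer_sys hS hF hFN hE hFree
  have hE'free : Free p E' := free_factor_sys hpT hEsat (normal_in_normalizer hQS hE) hEfree hfac
  haveI : Finite ↥(⊤ : Subgroup (↥(normalizerIn S Q) ⧸ Q.subgroupOf (normalizerIn S Q))) := inferInstance
  -- the hypothesis on the factor system
  have hyp : ∀ Q' : Subgroup (↥(normalizerIn S Q) ⧸ Q.subgroupOf (normalizerIn S Q)), Q' ≤ ⊤ → Q' ≠ ⊥ →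
      (Q'.subgroupOf ⊤).Characteristic → IsPGroup p (E'.autGroup Q') := by
    intro Q' _ hQ'1 hQ'c
    have hQtT : preimageAlong θ Q' ≤ normalizerIn S Q := preimage_le θ _
    have hQtS : preimageAlong θ Q' ≤ S := hQtT.trans inf_le_left
    have hQQt : Q ≤ preimageAlong θ Q' := le_preimage hQT hθ _
    have hQt1 : preimageAlong θ Q' ≠ ⊥ := fun e => hQ1 (by
      rw [eq_bot_iff, ← e]
      exact hQQt)
    have hQtc : ((preimageAlong θ Q').subgroupOf S).Characteristic := by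
      rw [Subgroup.characteristic_iff_le_comap]
      intro σ x hx
      have hx' : (x : Ω) ∈ preimageAlong θ Q' := Subgroup.mem_subgroupOf.1 hx
      obtain ⟨hx0, hx1⟩ := mem_preimage.1 hx'
      let e : ↥(normalizerIn S Q) ≃* ↥S := MulEquiv.subgroupCongr hTS
      let σT : ↥(normalizerIn S Q) ≃* ↥(normalizerIn S Q) := e.trans (σ.trans e.symm)
      have hYσ : ∀ (τ : ↥S ≃* ↥S) (s : ↥S), ((τ s : ↥S) : Ω) ∈ Q ↔ (s : Ω) ∈ Q := by
        intro τ s
        have h1 := hQc.fixed τ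
        have h2 : s ∈ (Q.subgroupOf S).comap τ.toMonoidHom ↔ s ∈ Q.subgroupOf S := by rw [h1]
        simpa [Subgroup.mem_subgroupOf] using h2
      have hY'map : (Q.subgroupOf (normalizerIn S Q)).map σT.toMonoidHom = Q.subgroupOf (normalizerIn S Q) := by
        ext t
        constructor
        · rintro ⟨t', ht', rfl⟩
          have h3 : (t' : Ω) ∈ Q := ht'
          refine Subgroup.mem_subgroupOf.2 ?_
          exact (hYσ σ (e t')).2 h3
        · intro ht
          have ht' : (t : Ω) ∈ Q := ht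
          refine ⟨σT.symm t, ?_, σT.apply_symm_apply t⟩
          refine Subgroup.mem_subgroupOf.2 ?_
          have h3 := (hYσ σ (σ.symm (e t))).1
          have h4 : ((σ (σ.symm (e t)) : ↥S) : Ω) = t := by
            rw [σ.apply_symm_apply]
            rfl
          have h5 := h3 (by rw [h4]; exact ht')
          exact h5
      let σb := QuotientGroup.congr (Q.subgroupOf (normalizerIn S Q)) (Q.subgroupOf (normalizerIn S Q)) σT hY'map
      let τ : ↥(⊤ : Subgroup (↥(normalizerIn S Q) ⧸ Q.subgroupOf (normalizerIn S Q))) ≃* ↥(⊤ : Subgroup (↥(normalizerIn S Q) ⧸ Q.subgroupOf (normalizerIn S Q))) :=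
        Subgroup.topEquiv.trans (σb.trans Subgroup.topEquiv.symm)
      have hfx := hQ'c.fixed τ
      have h1 : (⟨θ ⟨x, hx0⟩, trivial⟩ : ↥(⊤ : Subgroup (↥(normalizerIn S Q) ⧸ Q.subgroupOf (normalizerIn S Q))))
          ∈ Q'.subgroupOf ⊤ := Subgroup.mem_subgroupOf.2 hx1
      rw [← hfx] at h1
      have h2 : σb (θ ⟨x, hx0⟩) ∈ Q' := Subgroup.mem_subgroupOf.1 h1
      have h3 : σb (θ ⟨x, hx0⟩) = θ (σT ⟨x, hx0⟩) := QuotientGroup.congr_mk _ _ _ _ _
      rw [h3] at h2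
      refine Subgroup.mem_subgroupOf.2 (mem_preimage.2 ⟨(σT ⟨x, hx0⟩).2, h2⟩)
    have hpg := h _ hQtS hQt1 hQtc
    haveI : Finite ↥(preimageAlong θ Q') := finite_of_le hQtS
    rintro ⟨α', hα'⟩
    have hm' := (mem_autGroup_iff E' (le_top : Q' ≤ ⊤)).1 hα'
    obtain ⟨-, φ, hφ, hP, hv, hP', he⟩ := (hfac.2.2.2 Q' _).1 hm'
    have hφF : φ ∈ F.Hom (preimageAlong θ Q') := normalizerSystem_sub hE _ hφ
    have hval : ∀ x : ↥(preimageAlong θ Q'), φ x ∈ preimageAlong θ Q' := fun x =>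
      mem_preimage.2 ⟨hv x, by
        have h1 := he x
        rw [← h1]
        exact (α' _).2⟩
    have hr' := range_eq_of_le (inj F hφF) hval
    let β : MulAut ↥(preimageAlong θ Q') := isoOf φ (inj F hφF) hr'
    have hβ : β ∈ F.autGroup (preimageAlong θ Q') := mem_autGroup_of F (hom_congr F hφF (fun _ => rfl))
    obtain ⟨k, hk⟩ := hpg ⟨β, hβ⟩
    have hk' : β ^ p ^ k = 1 := congrArg Subtype.val hk
    refine ⟨k, Subtype.ext ?_⟩
    show α' ^ p ^ k = 1
    have hcompat : ∀ (n : ℕ) (x : ↥(preimageAlong θ Q')), θ ⟨((β ^ n) x : ↥(preimageAlong θ Q')), hP ((β ^ n) x).2⟩ =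
        (((α' ^ n) ⟨θ ⟨x, hP x.2⟩, hP' x⟩ : Q') : _) := by
      intro n
      induction n with
      | zero => intro x; rfl
      | succ n ih =>
        intro x
        rw [pow_succ', pow_succ']
        have h1 := he ((β ^ n) x)
        have h2 := ih x
        show θ ⟨φ ((β ^ n) x), _⟩ = ((α' ((α' ^ n) _) : Q') : _)
        have h3 : θ ⟨φ ((β ^ n) x), hv _⟩ = ((α' ⟨θ ⟨((β ^ n) x : ↥(preimageAlong θ Q')), hP ((β ^ n) x).2⟩, hP' _⟩ : Q') : _) := h1.symm
        refine h3.trans ?_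
        congr 2
        exact Subtype.ext h2
    refine MulEquiv.ext fun y => Subtype.ext ?_
    obtain ⟨t, ht⟩ := QuotientGroup.mk'_surjective (Q.subgroupOf (normalizerIn S Q)) (y : _)
    have ht' : θ t = y := ht
    have htQ : (t : Ω) ∈ preimageAlong θ Q' := mem_preimage.2 ⟨t.2, by
      have e : θ ⟨(t : Ω), t.2⟩ = y := ht'
      rw [e]
      exact y.2⟩
    have h1 := hcompat (p ^ k) ⟨t, htQ⟩
    rw [hk'] at h1
    have e1 : (⟨θ ⟨(⟨(t : Ω), htQ⟩ : ↥(preimageAlong θ Q')), hP htQ⟩, hP' ⟨t, htQ⟩⟩ : Q') = y := Subtype.ext ht'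
    rw [e1] at h1
    have e2 : θ ⟨(((1 : MulAut ↥(preimageAlong θ Q')) ⟨(t : Ω), htQ⟩ : ↥(preimageAlong θ Q')) : Ω), hP (((1 : MulAut ↥(preimageAlong θ Q')) ⟨(t : Ω), htQ⟩ : ↥(preimageAlong θ Q'))).2⟩ = (y : _) := ht'
    exact (h1.symm.trans e2)
  have hI : Inner E' := hIH _ ⊤ hp' E' hE'sat hcard hE'free hyp
  -- the automorphism
  obtain ⟨U, hQU, hUN, α, hα, hnp, hinv⟩ := hb
  have hUS : U ≤ S := hUN.trans inf_le_left
  apply hnp
  have hαE := mem_E_autGroup hE hQU hUN hα hinv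
  have hm := (mem_autGroup_iff E hUN).1 hαE
  obtain ⟨φ', hφ', hP, hv, hP', he⟩ := hsurj.1.2 U _ hm
  rw [hI] at hφ'
  obtain ⟨-, t, ht, htx⟩ := hφ'
  obtain ⟨k, hk⟩ := hp' ⟨t, ht⟩
  have hk' : t ^ p ^ k = 1 := by simpa using congrArg Subtype.val hk
  have hkmod : ∀ x : U, (x : Ω)⁻¹ * (((α ^ p ^ k) x : U) : Ω) ∈ Q := by
    intro x
    have hstep : ∀ y : U, θ ⟨(α y : U), hP (α y).2⟩ = t * θ ⟨y, hP y.2⟩ * t⁻¹ := by
      intro y
      have h1 := he y
      have h2 := htx ⟨θ ⟨y, hP y.2⟩, hP' y⟩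
      rw [h1] at h2
      exact h2
    have hpow : ∀ n : ℕ, ∀ y : U, θ ⟨((α ^ n) y : U), hP ((α ^ n) y).2⟩ = t ^ n * θ ⟨y, hP y.2⟩ * (t ^ n)⁻¹ := by
      intro n
      induction n with
      | zero => intro y; simp
      | succ n ih =>
        intro y
        rw [pow_succ]
        show θ ⟨((α ^ n) (α y) : U), _⟩ = _
        rw [ih (α y), hstep y, pow_succ]
        group
    have h1 := hpow (p ^ k) x
    rw [hk'] at h1
    simp only [one_mul, inv_one, mul_one] at h1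
    have hmem : (x : Ω)⁻¹ * (((α ^ p ^ k) x : U) : Ω) ∈ normalizerIn S Q :=
      (normalizerIn S Q).mul_mem ((normalizerIn S Q).inv_mem (hP x.2)) (hP ((α ^ p ^ k) x).2)
    refine (hθ ⟨_, hmem⟩).1 ?_
    have e : (⟨(x : Ω)⁻¹ * (((α ^ p ^ k) x : U) : Ω), hmem⟩ : ↥(normalizerIn S Q)) = (⟨x, hP x.2⟩)⁻¹ * ⟨((α ^ p ^ k) x : U), hP ((α ^ p ^ k) x).2⟩ := rfl
    rw [e, map_mul, map_inv, h1, inv_mul_cancel]
  -- the restriction to `Q`
  haveI : Finite Q := finite_of_le hQS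
  have hφ₀ : U.subtype.comp α.toMonoidHom ∈ F.Hom U := (mem_autGroup_iff F hUS).1 hα
  have hψ₀ := res_mem F hQU hφ₀
  have hψ₀v : ∀ x : Q, ((U.subtype.comp α.toMonoidHom).comp (Subgroup.inclusion hQU)) x ∈ Q := fun x => hinv ⟨x, hQU x.2⟩ x.2
  have hr₀ := range_eq_of_le (inj F hψ₀) hψ₀v
  let κ : MulAut Q := isoOf _ (inj F hψ₀) hr₀
  have hκ : κ ∈ F.autGroup Q := mem_autGroup_of F (hom_congr F hψ₀ (fun _ => rfl))
  obtain ⟨a, ha⟩ := h Q hQS hQ1 hQc ⟨κ, hκ⟩
  have ha' : κ ^ p ^ a = 1 := congrArg Subtype.val ha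
  have hκpow : ∀ (n : ℕ) (x : Q), (((κ ^ n) x : Q) : Ω) = (((α ^ n) ⟨x, hQU x.2⟩ : U) : Ω) := by
    intro n
    induction n with
    | zero => intro x; rfl
    | succ n ih =>
      intro x
      rw [pow_succ, pow_succ]
      show (((κ ^ n) (κ x) : Q) : Ω) = (((α ^ n) (α ⟨x, hQU x.2⟩) : U) : Ω)
      rw [ih (κ x)]
      rfl
  refine isPEl_of_mod hQU (hS.to_le hQS) α hinv (k := k) (a := a) hkmod fun x hx => ?_
  have h1 := hκpow (p ^ a) ⟨x, hx⟩
  rw [ha'] at h1
  exact h1.symm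

theorem zs_char (S : Subgroup Ω) : ((ZS S).subgroupOf S).Characteristic := by
  rw [Subgroup.characteristic_iff_le_comap]
  intro σ x hx
  have hx' : (x : Ω) ∈ ZS S := Subgroup.mem_subgroupOf.1 hx
  refine Subgroup.mem_subgroupOf.2 (Subgroup.mem_inf.2 ⟨(σ x).2, Subgroup.mem_centralizer_iff.2 fun s hs => ?_⟩)
  have h1 := (Subgroup.mem_centralizer_iff.1 hx'.2) ((σ.symm ⟨s, hs⟩ : ↥S) : Ω) (σ.symm ⟨s, hs⟩).2
  have h2 : σ.symm ⟨s, hs⟩ * x = x * σ.symm ⟨s, hs⟩ := Subtype.ext h1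
  have h3 := congrArg σ h2
  rw [map_mul, map_mul, σ.apply_symm_apply] at h3
  exact congrArg Subtype.val h3

theorem js_char (S : Subgroup Ω) : ((JS S).subgroupOf S).Characteristic := by
  have h1 : (JS S).subgroupOf S = thompsonSubgroupA ↥S :=
    Subgroup.comap_map_eq_self_of_injective S.subtype_injective _
  rw [h1, Subgroup.characteristic_iff_le_comap]
  intro σ x hx
  have h2 := Cfsg.Agent.Lib.PZJ.map_thompsonA σ
  rw [Subgroup.mem_comap, ← h2]
  exact ⟨x, hx, rfl⟩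

theorem stmt_all (n : ℕ) : Stmt.{u} p n := by
  induction n with
  | zero =>
    intro Ω _ S _ hS F hF hn
    exact absurd hn (Nat.not_lt_zero _)
  | succ n ih =>
    intro Ω _ S _ hS F hF hn hFree h
    rcases Nat.lt_succ_iff_lt_or_eq.1 hn with h' | h'
    · exact ih Ω S hS F hF h' hFree h
    · subst h'
      by_contra hI
      rcases t_main hS hF hFree hI with hb | hb
      · have hb' := hb.toBad
        have hne : S ≠ ⊥ := hb'.ne_bot
        exact char_step ih hFree hS hF h inf_le_left (zs_ne_bot hS hne) (le_normalizer_zs S) (zs_char S) hb'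
      · have hne : S ≠ ⊥ := hb.ne_bot
        exact char_step ih hFree hS hF h (Cfsg.Agent.Lib.PZJ.thompsonAOf_le S) (js_ne_bot hS hne)
          (fun s hs => js_normalized (Subgroup.le_normalizer hs)) (js_char S) hb


/-- A strengthened Frobenius normal p-complement criterion for fusion systems. Let F be a saturated fusion system over a finite p-group S such that p is odd or F is S₄-free (the symmetric group of degree 4 is not involved in any model of the normalizer system of a fully normalized F-centric subgroup). If Aut_F(Q) is a p-group for every nontrivial characteristic subgroup Q of S, then F is the inner fusion system of S. -/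
theorem result {Ω : Type*} [Group Ω] {S : Subgroup Ω} [Finite S] (p : ℕ) [Fact p.Prime] (hS : IsPGroup p S) (F : Cfsg.FusionSystem S) (hF : F.IsSaturated p) (hp : p ≠ 2 ∨ F.IsSectionFree p (Equiv.Perm (Fin 4))) (h : ∀ Q : Subgroup Ω, Q ≤ S → Q ≠ ⊥ → (Q.subgroupOf S).Characteristic → IsPGroup p (F.autGroup Q)) : ∀ P : Subgroup Ω, F.Hom P = (Cfsg.innerFusionSystem S).Hom P := by
  exact stmt_all _ Ω S hS F hF (Nat.lt_succ_self _) hp h


end Cfsg.Agent.S5195
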