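import Cfsg.Statements.S5221
import Mathlib
import Cfsg.Agent.Lib.FusT

set_option autoImplicit false
open Cfsg

namespace Cfsg.Agent.S5221

open Cfsg.FusionSystem Cfsg.Agent.Lib.FusT Cfsg.Agent.Lib.FusGT Cfsg.Agent.Lib.FusReal2 Cfsg.Agent.Lib.FusKNorm

theorem cast_sys {Ω : Type*} [Group Ω] {S T : Subgroup Ω} (p : ℕ) (h : T = S) (E : Cfsg.FusionSystem T) :
    ∃ E' : Cfsg.FusionSystem S, (∀ P, E'.Hom P = E.Hom P) ∧ (E.IsSaturated p → E'.IsSaturated p) ∧ (Inner E' → Inner E) := by
  subst h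
  exact ⟨E, fun _ => rfl, id, id⟩


/-- Let F be a sparse fusion system over a finite p-group S: a saturated fusion system, not the inner fusion system of S, whose only saturated fusion systems over S contained in it are F itself and the inner one. If p is odd, or F is S₄-free (the symmetric group of degree 4 is not involved in any model of the normalizer system of a fully normalized F-centric subgroup), then F is constrained. -/
theorem result {Ω : Type*} [Group Ω] {S : Subgroup Ω} [Finite S] (p : ℕ) [Fact p.Prime] (hS : IsPGroup p S) (F : Cfsg.FusionSystem S) (hF : F.IsSaturated p) (hsp : ¬ (∀ P : Subgroup Ω, F.Hom P = (Cfsg.innerFusionSystem S).Hom P) ∧ ∀ E : Cfsg.FusionSystem S, E.IsSaturated p → E.IsSubsystemOf F → (∀ P : Subgroup Ω, E.Hom P = F.Hom P) ∨ (∀ P : Subgroup Ω, E.Hom P = (Cfsg.innerFusionSystem S).Hom P)) (hp : p ≠ 2 ∨ F.IsSectionFree p (Equiv.Perm (Fin 4))) : F.IsConstrained p := by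
  classical
  have hI' : ¬ Inner F := fun h => hsp.1 h
  obtain ⟨Q, hQ1, hQS, hSN, hQb, hC⟩ := exists_core_free hS hF hp hI'
  obtain ⟨E, hE⟩ := Cfsg.Agent.S5096.result F Q hQS
  have hFN : F.IsFullyNormalized Q := fn_of_normalized hQS hSN
  have hTS := normalizerIn_eq hSN
  obtain ⟨E', h1, h2, h3⟩ := cast_sys p hTS E
  have hEsat : E.IsSaturated p := saturated_normalizer hS hF hFN hE
  have hsub : E'.IsSubsystemOf F := fun P φ hφ => by
    rw [h1] at hφ
    exact normalizerSystem_sub hE P hφ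
  rcases hsp.2 E' (h2 hEsat) hsub with h | h
  · have hall : ∀ P, F.Hom P = E.Hom P := fun P => (h P).symm.trans (h1 P)
    have hQn : F.IsNormal Q := by
      refine ⟨hQS, fun P φ hφ => ?_⟩
      rw [hall, hE] at hφ
      obtain ⟨-, -, -, ψ, hψ, he, hm⟩ := hφ
      exact ⟨ψ, hψ, he, hm⟩
    refine ⟨hF, Q, hQn, hQS, fun R hR => ?_⟩
    rw [Cfsg.Agent.Lib.FusSolv.normal_conj_eq hQn hR]
    exact hC
  · exact absurd (h3 h) (not_inner_of_bad hS hE hQb)


end Cfsg.Agent.S5221
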