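import Cfsg.Statements.S5257
import Mathlib
import Cfsg.Agent.Lib.FusAbIdx

set_option autoImplicit false
open Cfsg

namespace Cfsg.Agent.S5257


open scoped commutatorElement
open Cfsg.Agent.Lib.FusAbIdx Cfsg.Agent.Lib.FusTransv2

universe u

/-- the iterated images -/
def Gam {G : Type*} [Group G] (f : G →* G) : ℕ → Subgroup G
  | 0 => ⊤
  | n + 1 => (Gam f n).map f

theorem Gam_le_range {G : Type*} [Group G] (f : G →* G) (n : ℕ) : Gam f (n + 1) ≤ f.range := by
  rintro _ ⟨y, -, rfl⟩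
  exact ⟨y, rfl⟩

theorem card_map_ge {G : Type*} [Group G] [Finite G] (f : G →* G) (W : Subgroup G) {p : ℕ} (hk : Nat.card ↥(W ⊓ f.ker) ≤ p) :
    Nat.card W ≤ p * Nat.card (W.map f) := by
  let g : W →* G := f.comp W.subtype
  have h1 := Subgroup.card_mul_index g.ker
  rw [Subgroup.index_ker] at h1
  have h2 : g.range = W.map f := by
    ext y
    constructor
    · rintro ⟨w, rfl⟩
      exact ⟨w, w.2, rfl⟩
    · rintro ⟨w, hw, rfl⟩
      exact ⟨⟨w, hw⟩, rfl⟩
  rw [h2] at h1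
  have h3 : Nat.card g.ker ≤ Nat.card ↥(W ⊓ f.ker) := by
    apply Nat.card_le_card_of_injective (fun k : g.ker => (⟨((k : W) : G), Subgroup.mem_inf.2 ⟨(k : W).2, k.2⟩⟩ : ↥(W ⊓ f.ker)))
    intro a b e
    apply Subtype.ext
    apply Subtype.ext
    exact Subtype.mk.inj e
  rw [← h1]
  exact Nat.mul_le_mul_right _ (h3.trans hk)

variable {Ω : Type*} [Group Ω] {S : Subgroup Ω} [Finite S] {p : ℕ} [hp : Fact p.Prime] {A : Subgroup Ω}

/-- if some element of the second centre lies outside `A`, all commutators with `x` are central -/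
theorem comm_of_Z2_out (hS : IsPGroup p S) (h : AbI S A p) {x z c : Ω} (hxS : x ∈ S) (hz : z ∈ (_root_.upperCentralSeries S 2).map S.subtype) (hzA : z ∉ A) (hc : c ∈ A) :
    c * x * c⁻¹ * x⁻¹ ∈ Zs S := by
  obtain ⟨hzS, -⟩ := mem_Z2.1 hz
  obtain ⟨-, h4⟩ := dec hS h hzS hzA
  obtain ⟨i, hi⟩ := h4 x hxS
  have hzi : z ^ i ∈ (_root_.upperCentralSeries S 2).map S.subtype := Subgroup.zpow_mem _ hz i
  have h5 := (mem_Z2.1 hzi).2 c (h.le hc)
  set d := (z ^ i)⁻¹ * x with hd
  have ex : x = z ^ i * d := by rw [hd]; group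
  have h6 : c * d = d * c := h.ab c hc d hi
  have e : c * x * c⁻¹ * x⁻¹ = (z ^ i * c * (z ^ i)⁻¹ * c⁻¹)⁻¹ := by
    rw [ex]
    calc c * (z ^ i * d) * c⁻¹ * (z ^ i * d)⁻¹ = c * z ^ i * (d * c⁻¹ * d⁻¹) * (z ^ i)⁻¹ := by group
      _ = c * z ^ i * c⁻¹ * (z ^ i)⁻¹ := by
        have h7 : d * c⁻¹ * d⁻¹ = c⁻¹ := by
          have h8 : d * c⁻¹ = c⁻¹ * d := ((show Commute c d from h6).inv_left).eq.symm
          rw [h8, mul_inv_cancel_right]
        rw [h7]
      _ = _ := by group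
  rw [e]
  exact Subgroup.inv_mem _ h5

/-- commutators lie in the image of `ψ` -/
theorem comm_in_range (hS : IsPGroup p S) (h : AbI S A p) {x : Ω} (hxS : x ∈ S) (hxA : x ∉ A) {u : Ω} (hu : u ∈ (commutator S).map S.subtype) :
    ∃ c ∈ A, u = c * x * c⁻¹ * x⁻¹ := by
  classical
  set ψ := psi hS h hxS with hψ
  let N : Subgroup Ω := (ψ.range).map A.subtype
  have hNA : N ≤ A := by
    rintro _ ⟨c, -, rfl⟩
    exact c.2
  haveI : Finite A := Cfsg.Agent.Lib.FusBasic.finite_of_le h.le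
  haveI hfN : Finite N := Cfsg.Agent.Lib.FusBasic.finite_of_le (hNA.trans h.le)
  have hmem : ∀ c ∈ A, c * x * c⁻¹ * x⁻¹ ∈ N := fun c hc => ⟨ψ ⟨c, hc⟩, ⟨⟨c, hc⟩, rfl⟩, rfl⟩
  have hxn : x ∈ Subgroup.normalizer (N : Set Ω) := by
    apply Cfsg.Agent.Lib.FusSat.mem_normalizer_of_conj_le'
    rintro _ ⟨_, ⟨c, rfl⟩, rfl⟩
    have hc' : x * c * x⁻¹ ∈ A := nrm hS h hxS c.2
    have e : x * ((ψ c : A) : Ω) * x⁻¹ = (x * c * x⁻¹) * x * (x * c * x⁻¹)⁻¹ * x⁻¹ := by
      rw [hψ, psi_coe]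
      group
    rw [show A.subtype (ψ c) = ((ψ c : A) : Ω) from rfl, e]
    exact hmem _ hc'
  have hcn : ∀ c ∈ A, c ∈ Subgroup.normalizer (N : Set Ω) := by
    intro c hc
    apply Cfsg.Agent.Lib.FusSat.mem_normalizer_of_conj_le'
    intro n hn
    rw [h.ab c hc n (hNA hn), mul_inv_cancel_right]
    exact hn
  have hSn : ∀ s ∈ S, s ∈ Subgroup.normalizer (N : Set Ω) := by
    intro s hs
    obtain ⟨-, h3⟩ := dec hS h hxS hxA
    obtain ⟨i, hi⟩ := h3 s hs
    have e : s = x ^ i * ((x ^ i)⁻¹ * s) := by group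
    rw [e]
    exact Subgroup.mul_mem _ (Subgroup.zpow_mem _ hxn i) (hcn _ hi)
  haveI hN' : (N.subgroupOf S).Normal := ⟨fun n hn g => Subgroup.mem_subgroupOf.2 ((Subgroup.mem_normalizer_iff.1 (hSn g g.2) n).1 (Subgroup.mem_subgroupOf.1 hn))⟩
  have hcomm : ∀ s t : S, QuotientGroup.mk' (N.subgroupOf S) s * QuotientGroup.mk' (N.subgroupOf S) t = QuotientGroup.mk' (N.subgroupOf S) t * QuotientGroup.mk' (N.subgroupOf S) s := by
    intro s t
    obtain ⟨-, h3⟩ := dec hS h hxS hxA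
    obtain ⟨i, hi⟩ := h3 s s.2
    obtain ⟨j, hj⟩ := h3 t t.2
    set q := QuotientGroup.mk' (N.subgroupOf S) with hq
    set X : S := ⟨x, hxS⟩ with hX
    have hcx : ∀ c : S, (c : Ω) ∈ A → q c * q X = q X * q c := by
      intro c hc
      have h5 : q (c * X * c⁻¹ * X⁻¹) = 1 := by
        rw [hq, ← MonoidHom.mem_ker, QuotientGroup.ker_mk']
        exact Subgroup.mem_subgroupOf.2 (hmem c hc)
      simp only [map_mul, map_inv] at h5
      rw [mul_inv_eq_one, mul_inv_eq_iff_eq_mul] at h5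
      exact h5
    have hs' : s = X ^ i * ((X ^ i)⁻¹ * s) := by group
    have ht' : t = X ^ j * ((X ^ j)⁻¹ * t) := by group
    have hcS : (((X ^ i)⁻¹ * s : S) : Ω) ∈ A := by
      simpa [hX] using hi
    have hdS : (((X ^ j)⁻¹ * t : S) : Ω) ∈ A := by
      simpa [hX] using hj
    have hab : q ((X ^ i)⁻¹ * s) * q ((X ^ j)⁻¹ * t) = q ((X ^ j)⁻¹ * t) * q ((X ^ i)⁻¹ * s) := by
      rw [← map_mul, ← map_mul]
      congr 1
      exact Subtype.ext (h.ab _ hcS _ hdS)
    apply comm_of_parts (z := q X) (i := i) (j := j) (c := q ((X ^ i)⁻¹ * s)) (d := q ((X ^ j)⁻¹ * t))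
    · rw [← map_zpow, ← map_mul, ← hs']
    · rw [← map_zpow, ← map_mul, ← ht']
    · have hC : Commute (q ((X ^ i)⁻¹ * s)) (q X) := hcx _ hcS
      exact (hC.zpow_right j).eq
    · have hC : Commute (q ((X ^ j)⁻¹ * t)) (q X) := hcx _ hdS
      exact (hC.zpow_right i).eq
    · exact hab
  have hle : commutator S ≤ N.subgroupOf S := by
    rw [_root_.commutator_def, Subgroup.commutator_le]
    rintro s - t -
    have h5 : QuotientGroup.mk' (N.subgroupOf S) ⁅s, t⁆ = 1 := by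
      rw [commutatorElement_def]
      simp only [map_mul, map_inv]
      rw [hcomm s t]
      group
    rw [← MonoidHom.mem_ker, QuotientGroup.ker_mk'] at h5
    exact h5
  obtain ⟨w, hw, rfl⟩ := hu
  have h6 : (w : Ω) ∈ N := Subgroup.mem_subgroupOf.1 (hle hw)
  obtain ⟨_, ⟨c, rfl⟩, e⟩ := h6
  exact ⟨c, c.2, e.symm⟩

/-- Let p be an odd prime, S a finite nonabelian p-group with a unique abelian subgroup A of index p, and F a saturated fusion system over S having an F-essential subgroup other than A. Then the second centre Z₂(S) lies in A; Z(S) ∩ [S, S] has order p; Z(S)[S, S] has index p in A; Z(S) has index p in Z₂(S); and S/Z(S) has maximal nilpotency class (if S/Z(S) has order pᵐ with m ≥ 3 then the term of index m − 2 of the lower central series of S, counting S as index 0, is not contained in Z(S)). -/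
theorem result {Ω : Type*} [Group Ω] {S : Subgroup Ω} [Finite S] (p : ℕ) [Fact p.Prime] (hS : IsPGroup p S) (F : Cfsg.FusionSystem S) (hF : F.IsSaturated p) (hp : p ≠ 2) (hna : ¬ IsMulCommutative ↥S) (A : Subgroup Ω) (hA : A ≤ S ∧ IsMulCommutative ↥A ∧ (A.subgroupOf S).index = p) (huniq : ∀ B : Subgroup Ω, B ≤ S → IsMulCommutative ↥B → (B.subgroupOf S).index = p → B = A) (P : Subgroup Ω) (hP : F.IsEssential p P) (hPA : P ≠ A) : ((upperCentralSeries ↥S 2).map S.subtype) ≤ A ∧ Nat.card ↥((S ⊓ Subgroup.centralizer (S : Set Ω)) ⊓ ((commutator ↥S).map S.subtype)) = p ∧ (((S ⊓ Subgroup.centralizer (S : Set Ω)) ⊔ ((commutator ↥S).map S.subtype)).subgroupOf A).index = p ∧ (((S ⊓ Subgroup.centralizer (S : Set Ω))).subgroupOf ((upperCentralSeries ↥S 2).map S.subtype)).index = p ∧ ∀ m : ℕ, ((S ⊓ Subgroup.centralizer (S : Set Ω)).subgroupOf S).index = p ^ m → 3 ≤ m → ¬ Subgroup.lowerCentralSeries S (m - 2) ≤ (S ⊓ Subgroup.centralizer (S : Set Ω)) :=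 by
  classical
  have hP' : p.Prime := Fact.out
  have h : AbI S A p := by
    refine ⟨hA.1, fun x hx y hy => congrArg Subtype.val (hA.2.1.is_comm.comm ⟨x, hx⟩ ⟨y, hy⟩), hA.2.2, ?_⟩
    by_contra hall
    push_neg at hall
    exact hna ⟨⟨fun a b => Subtype.ext (hall a a.2 b b.2)⟩⟩
  obtain ⟨x, hxP, hxA, halt, -, w, hwA, hwZ, hwp, hwx, hwd⟩ := summary hS hF h hP hPA
  have hPS : P ≤ S := hP.1.1
  have hxS := hPS hxP
  have hZA := Zs_le_A hS h
  haveI hfA : Finite A := Cfsg.Agent.Lib.FusBasic.finite_of_le h.le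
  haveI hfP : Finite P := Cfsg.Agent.Lib.FusBasic.finite_of_le hPS
  haveI hfZ : Finite (Zs S) := Cfsg.Agent.Lib.FusBasic.finite_of_le inf_le_left
  have hcn : ∀ (T : Subgroup Ω), ∀ t ∈ T, T ≤ S → ∀ c ∈ Zs S, t * c * t⁻¹ ∈ Zs S := by
    intro T t ht hT c hc
    rw [(mem_Zs.1 hc).2 t (hT ht), mul_inv_cancel_right]
    exact hc
  have hidxA : ∀ (_ : ∀ c ∈ A, c * x * c⁻¹ * x⁻¹ ∈ Zs S), ((Zs S).subgroupOf A).index = p := by
    intro hall
    apply index_of_dec hZA (hcn A · · h.le) hwA hwZ hwp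
    intro c hc
    exact hwd c hc (hall c hc)
  have hZ2A : (_root_.upperCentralSeries S 2).map S.subtype ≤ A := by
    rcases halt with ⟨hab, heq⟩ | ⟨hle, -⟩
    · intro z hz
      by_contra hzA
      have hall : ∀ c ∈ A, c * x * c⁻¹ * x⁻¹ ∈ Zs S := fun c hc => comm_of_Z2_out hS h hxS hz hzA hc
      have hi1 := hidxA hall
      have hZP := Zs_le_P hP
      have hinf : P ⊓ A ≤ Zs S := by
        intro b hb
        obtain ⟨hbP, hbA⟩ := Subgroup.mem_inf.1 hb
        exact Zs_of hS h hxS hxA hbA (congrArg Subtype.val (hab ⟨b, hbP⟩ ⟨x, hxP⟩))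
      obtain ⟨hxp, h3⟩ := dec hS h hxS hxA
      have hi2 : ((Zs S).subgroupOf P).index = p := by
        apply index_of_dec hZP (hcn P · · hPS) hxP (fun h5 => hxA (hZA h5)) (hinf (Subgroup.mem_inf.2 ⟨P.pow_mem hxP p, hxp⟩))
        intro t ht
        obtain ⟨i, hi⟩ := h3 t (hPS ht)
        exact ⟨i, hinf (Subgroup.mem_inf.2 ⟨P.mul_mem (P.inv_mem (P.zpow_mem hxP i)) ht, hi⟩)⟩
      apply hPA
      apply huniq P hPS ⟨⟨hab⟩⟩
      have c1 := Subgroup.card_mul_index ((Zs S).subgroupOf A)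
      have c2 := Subgroup.card_mul_index ((Zs S).subgroupOf P)
      have c3 := Subgroup.card_mul_index (A.subgroupOf S)
      have c4 := Subgroup.card_mul_index (P.subgroupOf S)
      rw [Nat.card_congr (Subgroup.subgroupOfEquivOfLe hZA).toEquiv, hi1] at c1
      rw [Nat.card_congr (Subgroup.subgroupOfEquivOfLe hZP).toEquiv, hi2] at c2
      rw [Nat.card_congr (Subgroup.subgroupOfEquivOfLe h.le).toEquiv, h.idx] at c3
      rw [Nat.card_congr (Subgroup.subgroupOfEquivOfLe hPS).toEquiv] at c4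
      have c5 : Nat.card P = Nat.card A := by rw [← c1, ← c2]
      rw [c5] at c4
      rw [← c3] at c4
      exact Nat.eq_of_mul_eq_mul_left Nat.card_pos c4
    · exact hle
  have hZZ2 : Zs S ≤ (_root_.upperCentralSeries S 2).map S.subtype := by
    intro z hz
    refine mem_Z2.2 ⟨(mem_Zs.1 hz).1, fun s hs => ?_⟩
    rw [← (mem_Zs.1 hz).2 s hs, mul_inv_cancel_right, mul_inv_cancel]
    exact Subgroup.one_mem _
  have hwZ2 : w ∈ (_root_.upperCentralSeries S 2).map S.subtype := by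
    refine mem_Z2.2 ⟨h.le hwA, fun s hs => ?_⟩
    obtain ⟨-, h3⟩ := dec hS h hxS hxA
    obtain ⟨i, hi⟩ := h3 s hs
    rw [conj_form hS h hwA hxS hwx hi, mul_inv_cancel_right]
    exact Subgroup.zpow_mem _ hwx i
  haveI hfZ2 : Finite ↥((_root_.upperCentralSeries S 2).map S.subtype) := Cfsg.Agent.Lib.FusBasic.finite_of_le (hZ2A.trans h.le)
  have hidxZ2 : ((Zs S).subgroupOf ((_root_.upperCentralSeries S 2).map S.subtype)).index = p := by
    apply index_of_dec hZZ2 (hcn _ · · (hZ2A.trans h.le)) hwZ2 hwZ hwp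
    intro t ht
    exact hwd t (hZ2A ht) ((mem_Z2.1 ht).2 x hxS)
  -- the map `ψ`
  set ψ := psi hS h hxS with hψ
  have hψc : ∀ c : A, ((ψ c : A) : Ω) = c * x * (c : Ω)⁻¹ * x⁻¹ := fun c => rfl
  have hker : ∀ c : A, c ∈ ψ.ker ↔ (c : Ω) ∈ Zs S := by
    intro c
    constructor
    · intro hc
      have h1 : ((ψ c : A) : Ω) = 1 := congrArg Subtype.val hc
      rw [hψc, mul_inv_eq_one, mul_inv_eq_iff_eq_mul] at h1
      exact Zs_of hS h hxS hxA c.2 h1
    · intro hc
      apply Subtype.ext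
      show (c : Ω) * x * (c : Ω)⁻¹ * x⁻¹ = 1
      rw [(mem_Zs.1 hc).2 x hxS |>.symm, mul_inv_cancel_right, mul_inv_cancel]
  set D : Subgroup Ω := (commutator S).map S.subtype with hD
  have hcD : ∀ c ∈ S, c * x * c⁻¹ * x⁻¹ ∈ D := by
    intro c hc
    have h1 : ⁅(⟨c, hc⟩ : S), (⟨x, hxS⟩ : S)⁆ ∈ commutator S := by
      rw [_root_.commutator_def]
      exact Subgroup.commutator_mem_commutator trivial trivial
    refine ⟨_, h1, ?_⟩
    rw [commutatorElement_def]
    rfl
  have hDA : D ≤ A := by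
    intro u hu
    obtain ⟨c, hc, rfl⟩ := comm_in_range hS h hxS hxA hu
    exact comm_A hS h (h.le hc) hxS
  have hrange : ψ.range = D.subgroupOf A := by
    ext c
    rw [Subgroup.mem_subgroupOf]
    constructor
    · rintro ⟨d, rfl⟩
      exact hcD d (h.le d.2)
    · intro hc
      obtain ⟨d, hd, e⟩ := comm_in_range hS h hxS hxA hc
      exact ⟨⟨d, hd⟩, Subtype.ext e.symm⟩
  -- the element `ζ`
  set ζ := w * x * w⁻¹ * x⁻¹ with hζ
  have hζ1 : ζ ≠ 1 := by
    intro e
    rw [hζ, mul_inv_eq_one, mul_inv_eq_iff_eq_mul] at e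
    exact hwZ (Zs_of hS h hxS hxA hwA e)
  have hζp : ζ ^ p = 1 := by
    have h1 := psi_zpow hS h hxS hwA p
    rw [zpow_natCast, zpow_natCast] at h1
    rw [hζ, ← h1, (mem_Zs.1 hwp).2 x hxS |>.symm, mul_inv_cancel_right, mul_inv_cancel]
  have hord : orderOf ζ = p := orderOf_eq_prime hζp hζ1
  have hinfD : Zs S ⊓ D = Subgroup.zpowers ζ := by
    apply le_antisymm
    · intro u hu
      obtain ⟨huZ, huD⟩ := Subgroup.mem_inf.1 hu
      obtain ⟨c, hc, rfl⟩ := comm_in_range hS h hxS hxA huD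
      obtain ⟨i, hi⟩ := hwd c hc huZ
      refine ⟨i, ?_⟩
      have h1 := psi_inv_mul hS h hxS (A.zpow_mem hwA i) hc
      rw [psi_zpow hS h hxS hwA i] at h1
      have h3 : ((w ^ i)⁻¹ * c) * x * ((w ^ i)⁻¹ * c)⁻¹ * x⁻¹ = 1 := by
        have hcc := (mem_Zs.1 hi).2 x hxS
        rw [hcc.symm, mul_inv_cancel_right, mul_inv_cancel]
      rw [h3] at h1
      have h4 := eq_of_inv_mul_eq_one h1.symm
      exact h4
    · rw [Subgroup.zpowers_le]
      exact Subgroup.mem_inf.2 ⟨hwx, hcD w (h.le hwA)⟩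
  have hcard_inf : Nat.card ↥(Zs S ⊓ D) = p := by
    rw [hinfD, Nat.card_zpowers, hord]
  have hkerZ : ψ.ker = (Zs S).subgroupOf A := by
    ext c
    rw [hker, Subgroup.mem_subgroupOf]
  have cZ' : Nat.card ((Zs S).subgroupOf A) = Nat.card (Zs S) := Nat.card_congr (Subgroup.subgroupOfEquivOfLe hZA).toEquiv
  have cD' : Nat.card (D.subgroupOf A) = Nat.card D := Nat.card_congr (Subgroup.subgroupOfEquivOfLe hDA).toEquiv
  have c3 : Nat.card (Zs S) * Nat.card (D.subgroupOf A) = Nat.card A := by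
    have h1 := Subgroup.card_mul_index ψ.ker
    rw [Subgroup.index_ker, hkerZ, cZ', hrange] at h1
    exact h1
  have hinf_eq : (D.subgroupOf A) ⊓ ((Zs S).subgroupOf A) = (Zs S ⊓ D).subgroupOf A := by
    ext c
    simp only [Subgroup.mem_inf, Subgroup.mem_subgroupOf]
    exact and_comm
  have cInf : Nat.card ↥((D.subgroupOf A) ⊓ ((Zs S).subgroupOf A)) = p := by
    rw [hinf_eq, Nat.card_congr (Subgroup.subgroupOfEquivOfLe (inf_le_left.trans hZA)).toEquiv, hcard_inf]
  refine ⟨hZ2A, hcard_inf, ?_, hidxZ2, ?_⟩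
  · haveI hnD : (D.subgroupOf A).Normal := ⟨fun n hn g => by
      have : g * n * g⁻¹ = n := by
        apply Subtype.ext
        show (g : Ω) * n * (g : Ω)⁻¹ = n
        rw [h.ab g g.2 n n.2, mul_inv_cancel_right]
      rw [this]
      exact hn⟩
    rw [Subgroup.subgroupOf_sup hZA hDA]
    have r1 : (D.subgroupOf A).relIndex ((Zs S).subgroupOf A ⊔ D.subgroupOf A) = (D.subgroupOf A).relIndex ((Zs S).subgroupOf A) :=
      Subgroup.relIndex_sup_right _ _
    have r2 : ((D.subgroupOf A) ⊓ ((Zs S).subgroupOf A)).relIndex ((Zs S).subgroupOf A) = (D.subgroupOf A).relIndex ((Zs S).subgroupOf A) :=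
      Subgroup.inf_relIndex_right _ _
    set r := (D.subgroupOf A).relIndex ((Zs S).subgroupOf A) with hr
    have c1 : Nat.card (D.subgroupOf A) * r = Nat.card ↥((Zs S).subgroupOf A ⊔ D.subgroupOf A) := by
      have h1 := Subgroup.card_mul_index ((D.subgroupOf A).subgroupOf ((Zs S).subgroupOf A ⊔ D.subgroupOf A))
      rw [Nat.card_congr (Subgroup.subgroupOfEquivOfLe (le_sup_right : D.subgroupOf A ≤ _)).toEquiv] at h1
      have h2 : ((D.subgroupOf A).subgroupOf ((Zs S).subgroupOf A ⊔ D.subgroupOf A)).index = r := r1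
      rw [h2] at h1
      exact h1
    have c2 : p * r = Nat.card (Zs S) := by
      have h1 := Subgroup.card_mul_index (((D.subgroupOf A) ⊓ ((Zs S).subgroupOf A)).subgroupOf ((Zs S).subgroupOf A))
      rw [Nat.card_congr (Subgroup.subgroupOfEquivOfLe (inf_le_right : (D.subgroupOf A) ⊓ ((Zs S).subgroupOf A) ≤ _)).toEquiv, cInf, cZ'] at h1
      have h2 : (((D.subgroupOf A) ⊓ ((Zs S).subgroupOf A)).subgroupOf ((Zs S).subgroupOf A)).index = r := r2
      rw [h2] at h1
      exact h1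
    have c4 := Subgroup.card_mul_index ((Zs S).subgroupOf A ⊔ D.subgroupOf A)
    rw [← c1, ← c3, ← c2] at c4
    have hpos : 0 < Nat.card (D.subgroupOf A) * r := by
      have h1 : 0 < Nat.card ↥((Zs S).subgroupOf A ⊔ D.subgroupOf A) := Nat.card_pos
      rw [← c1] at h1
      exact h1
    have h5 : Nat.card (D.subgroupOf A) * r * ((Zs S).subgroupOf A ⊔ D.subgroupOf A).index = Nat.card (D.subgroupOf A) * r * p := by
      rw [c4]
      ring
    exact Nat.eq_of_mul_eq_mul_left hpos h5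
  · intro m hm h3m hle
    obtain ⟨k, rfl⟩ : ∃ k, m = k + 3 := ⟨m - 3, by omega⟩
    have c5 := Subgroup.card_mul_index ((Zs S).subgroupOf S)
    rw [Nat.card_congr (Subgroup.subgroupOfEquivOfLe (inf_le_left : Zs S ≤ S)).toEquiv, hm] at c5
    have c6 := Subgroup.card_mul_index (A.subgroupOf S)
    rw [Nat.card_congr (Subgroup.subgroupOfEquivOfLe h.le).toEquiv, h.idx] at c6
    have crange : Nat.card ψ.range = p ^ (k + 2) := by
      rw [hrange]
      have h1 : Nat.card (Zs S) * (p * Nat.card (D.subgroupOf A)) = Nat.card (Zs S) * (p * p ^ (k + 2)) := by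
        have h2 : Nat.card (Zs S) * (p * Nat.card (D.subgroupOf A)) = Nat.card A * p := by
          rw [← c3]
          ring
        rw [h2, c6, ← c5]
        ring
      have h3 := Nat.eq_of_mul_eq_mul_left Nat.card_pos h1
      exact Nat.eq_of_mul_eq_mul_left hP'.pos h3
    have hstep : ∀ i : ℕ, p ^ (k + 2) ≤ p ^ i * Nat.card (Gam ψ (i + 1)) := by
      intro i
      induction i with
      | zero =>
        have e : Gam ψ (0 + 1) = ψ.range := (MonoidHom.range_eq_map ψ).symm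
        rw [e, crange, pow_zero, one_mul]
      | succ i ih =>
        have hk : Nat.card ↥(Gam ψ (i + 1) ⊓ ψ.ker) ≤ p := by
          rw [← cInf]
          apply Subgroup.card_le_of_le
          rw [hkerZ, ← hrange]
          exact inf_le_inf_right _ (Gam_le_range ψ i)
        have h1 := card_map_ge ψ (Gam ψ (i + 1)) hk
        have e : (Gam ψ (i + 1)).map ψ = Gam ψ (i + 1 + 1) := rfl
        rw [e] at h1
        calc p ^ (k + 2) ≤ p ^ i * Nat.card (Gam ψ (i + 1)) := ih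
          _ ≤ p ^ i * (p * Nat.card (Gam ψ (i + 1 + 1))) := Nat.mul_le_mul_left _ h1
          _ = p ^ (i + 1) * Nat.card (Gam ψ (i + 1 + 1)) := by ring
    have hincl : ∀ (i : ℕ) (c : A), c ∈ Gam ψ (i + 1) → (c : Ω) ∈ S.lowerCentralSeries (i + 1) := by
      intro i
      induction i with
      | zero =>
        rintro _ ⟨d, -, rfl⟩
        rw [hψc, Subgroup.lowerCentralSeries_succ, Subgroup.lowerCentralSeries_zero]
        have := Subgroup.commutator_mem_commutator (h.le d.2) hxS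
        rwa [commutatorElement_def] at this
      | succ i ih =>
        rintro _ ⟨d, hd, rfl⟩
        rw [hψc, Subgroup.lowerCentralSeries_succ]
        have := Subgroup.commutator_mem_commutator (ih d hd) hxS
        rwa [commutatorElement_def] at this
    have h1 := hstep (k + 1)
    have h2 : p ≤ Nat.card (Gam ψ (k + 1 + 1)) := by
      have e : p ^ (k + 2) = p ^ (k + 1) * p := by ring
      rw [e] at h1
      exact Nat.le_of_mul_le_mul_left h1 (pow_pos hP'.pos _)
    obtain ⟨c, hc, hc1⟩ : ∃ c ∈ Gam ψ (k + 1 + 1), c ≠ 1 := by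
      by_contra hall
      push_neg at hall
      have h3 : Gam ψ (k + 1 + 1) = ⊥ := (Subgroup.eq_bot_iff_forall _).2 hall
      rw [h3, Subgroup.card_bot] at h2
      exact absurd h2 (not_le.2 hP'.one_lt)
    obtain ⟨d, hd, rfl⟩ := hc
    have h3 : (d : Ω) ∈ Zs S := hle (hincl k d hd)
    exact hc1 ((hker d).2 h3)

end Cfsg.Agent.S5257
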