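import Cfsg.Statements.S5244
import Mathlib
import Cfsg.Agent.S5257
import Cfsg.Agent.Lib.FusTransv4

set_option autoImplicit false
open Cfsg

namespace Cfsg.Agent.S5244


open scoped commutatorElement
open Cfsg.FusionSystem Cfsg.Agent.Lib.FusBasic Cfsg.Agent.Lib.FusAut Cfsg.Agent.Lib.FusSat Cfsg.Agent.Lib.FusNorm Cfsg.Agent.Lib.FusFrat Cfsg.Agent.Lib.FusTransv Cfsg.Agent.Lib.FusTransv2 Cfsg.Agent.Lib.FusTransv3 Cfsg.Agent.Lib.FusTransv4 Cfsg.Agent.Lib.FusAbIdx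

variable {Ω : Type*} [Group Ω] {S : Subgroup Ω} [Finite S] {p : ℕ} [hp : Fact p.Prime] {F : Cfsg.FusionSystem S}

/-- a morphism between subgroups of the centre extends to `S` -/
theorem ext_Zs (hS : IsPGroup p S) (hF : F.IsSaturated p) {B : Subgroup Ω} (hB : B ≤ Zs S) {φ : B →* Ω} (hφ : φ ∈ F.Hom B) (hr : ∀ x, φ x ∈ Zs S) :
    ∃ θ ∈ F.autGroup S, ∀ y : B, ((θ ⟨y, (mem_Zs.1 (hB y.2)).1⟩ : S) : Ω) = φ y := by
  classical
  have hBS : B ≤ S := hB.trans inf_le_left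
  haveI : Finite B := finite_of_le hBS
  have hQZ : φ.range ≤ Zs S := by
    rintro _ ⟨x, rfl⟩
    exact hr x
  have hQS : φ.range ≤ S := hQZ.trans inf_le_left
  haveI : Finite φ.range := finite_of_le hQS
  have hfn : F.IsFullyNormalized φ.range := by
    refine ⟨hQS, fun R hR => ?_⟩
    haveI := finite_normalizerIn (S := S) R
    haveI := finite_normalizerIn (S := S) φ.range
    have h1 : normalizerIn S φ.range = S := by
      apply le_antisymm inf_le_left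
      intro s hs
      exact Subgroup.mem_inf.2 ⟨hs, mem_normalizer_of_conj_le' fun y hy => by
        rw [(mem_Zs.1 (hQZ hy)).2 s hs, mul_inv_cancel_right]
        exact hy⟩
    rw [h1]
    exact Subgroup.card_le_of_le inf_le_left
  have hrec := receptive_of_fullyNormalized hS F hF hfn
  obtain ⟨ψ, hψ, eψ⟩ := hrec.2 B φ hφ rfl
  have hconj : ∀ s ∈ S, ∀ x ∈ B, s * x * s⁻¹ = x := by
    intro s hs x hx
    rw [(mem_Zs.1 (hB hx)).2 s hs, mul_inv_cancel_right]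
  have hSext : S ≤ extender S B φ := by
    intro s hs
    apply Subgroup.subset_closure
    have hsn : s ∈ Subgroup.normalizer (B : Set Ω) := mem_normalizer_of_conj_le' fun y hy => by
      rw [hconj s hs y hy]
      exact hy
    refine ⟨hs, hsn, 1, S.one_mem, fun x hx => ?_⟩
    have e : (⟨s * x * s⁻¹, hx⟩ : B) = x := Subtype.ext (hconj s hs x x.2)
    rw [e]
    simp
  have hres := res_mem F hSext hψ
  obtain ⟨θ, hθ, e⟩ := aut_of (⟨le_rfl, fun _ _ _ hφ x => val_mem F hφ x⟩ : F.StronglyClosed S) hres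
  refine ⟨θ, hθ, fun y => ?_⟩
  rw [e]
  exact eψ y y.2 (hSext (hBS y.2))

/-- an abelian essential subgroup, with the centre of index `p` and commutators in `⟨a⟩` -/
structure ED (F : Cfsg.FusionSystem S) (p : ℕ) (E : Subgroup Ω) (a : Ω) : Prop where
  hE : F.IsEssential p E
  ab : ∀ y y' : E, y * y' = y' * y
  idx : ((Zs S).subgroupOf E).index = p
  ha : a ∈ Zs S
  ha1 : a ≠ 1
  hap : a ^ p = 1
  hcomm : ∀ s ∈ S, s ∈ Subgroup.normalizer (E : Set Ω) → ∀ y ∈ E, s * y * s⁻¹ * y⁻¹ ∈ Subgroup.zpowers a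

variable {E : Subgroup Ω} {a : Ω}

/-- the element `a` in `E` -/
abbrev aE (h : ED F p E a) : E := ⟨a, Zs_le_P h.hE h.ha⟩

theorem data_E (hS : IsPGroup p S) (hF : F.IsSaturated p) (h : ED F p E a) :
    (∀ W : Subgroup (MulAut E), IsPGroup p W → W ≤ F.autGroup E → autInducedBy S E ≤ W → W = autInducedBy S E) ∧
    autInducedBy S E ≤ F.autGroup E ∧ ((Zs S).subgroupOf E).index = p ∧
    aE h ∈ (Zs S).subgroupOf E ∧ (aE h) ^ p = 1 ∧
    ∀ κ ∈ autInducedBy S E, IsTv ((Zs S).subgroupOf E) (aE h) κ := by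
  have hES : E ≤ S := h.hE.1.1
  haveI : Finite E := finite_of_le hES
  have hFA := fullyAutomized_of_fullyNormalized hS F hF h.hE.2.1
  have hTA := autInduced_le_autGroup F hES
  refine ⟨?_, hTA, h.idx, Subgroup.mem_subgroupOf.2 h.ha, Subtype.ext h.hap, ?_⟩
  · intro W hW hWA hTW
    obtain ⟨P, hP⟩ := hFA.2
    have h1 : IsPGroup p (W.subgroupOf (F.autGroup E)) := hW.comap_of_injective _ Subtype.coe_injective
    have h2 : (P : Subgroup (F.autGroup E)) ≤ W.subgroupOf (F.autGroup E) := by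
      rw [hP]
      intro x hx
      exact Subgroup.mem_subgroupOf.2 (hTW (Subgroup.mem_subgroupOf.1 hx))
    have h3 := P.is_maximal' h1 h2
    apply le_antisymm _ hTW
    intro w hw
    have h4 : (⟨w, hWA hw⟩ : F.autGroup E) ∈ W.subgroupOf (F.autGroup E) := Subgroup.mem_subgroupOf.2 hw
    rw [h3, hP] at h4
    exact Subgroup.mem_subgroupOf.1 h4
  · intro κ hκ
    obtain ⟨s, hs, e⟩ := mem_autInducedBy'.1 hκ
    have hsn : s ∈ Subgroup.normalizer (E : Set Ω) := mem_normalizer_of_conj_le' fun y hy => by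
      have := e ⟨y, hy⟩
      rw [← show ((κ ⟨y, hy⟩ : E) : Ω) = s * y * s⁻¹ from this]
      exact (κ ⟨y, hy⟩).2
    constructor
    · intro z hz
      apply Subtype.ext
      have hz' : (z : Ω) ∈ Zs S := Subgroup.mem_subgroupOf.1 hz
      rw [e, (mem_Zs.1 hz').2 s hs, mul_inv_cancel_right]
    · intro y
      obtain ⟨n, hn⟩ := h.hcomm s hs hsn y y.2
      refine ⟨n, ?_⟩
      apply Subtype.ext
      have hn' : a ^ n = s * y * s⁻¹ * (y : Ω)⁻¹ := hn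
      show a ^ n = ((κ y : E) : Ω) * (y : Ω)⁻¹
      rw [hn', e]

theorem tau_E (hS : IsPGroup p S) (hF : F.IsSaturated p) (h : ED F p E a) : ∃ τ ∈ autInducedBy S E, τ ≠ 1 := by
  have hES : E ≤ S := h.hE.1.1
  haveI : Finite E := finite_of_le hES
  have hlt := Cfsg.Agent.Lib.FusEss.essential_lt hS F hF h.hE
  have hgt := normalizerIn_gt hS hlt
  obtain ⟨s, hs, hsE⟩ := Set.exists_of_ssubset hgt
  obtain ⟨hsS, hsn0⟩ := mem_normalizerIn.1 hs
  have hsn : s ∈ Subgroup.normalizer (E : Set Ω) := hsn0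
  refine ⟨cAut E ⟨s, hsn⟩, mem_autInducedBy'.2 ⟨s, hsS, fun _ => rfl⟩, fun e => hsE ?_⟩
  apply mem_of_triv h.hE hsS
  intro y hy
  exact congrArg (fun f : MulAut E => ((f ⟨y, hy⟩ : E) : Ω)) e

theorem bad_E (hS : IsPGroup p S) (hF : F.IsSaturated p) (h : ED F p E a) :
    ∃ g ∈ F.autGroup E, g ∉ Subgroup.normalizer (autInducedBy S E : Set (MulAut E)) := by
  classical
  have hES : E ≤ S := h.hE.1.1
  haveI : Finite E := finite_of_le hES
  by_contra hall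
  push_neg at hall
  have hrad := essential_radical hS F h.hE
  have hInn : Inn E = ⊥ := by
    rw [eq_bot_iff]
    rintro _ ⟨g, rfl⟩
    rw [Subgroup.mem_bot]
    ext x
    show ((g * x * g⁻¹ : E) : Ω) = x
    rw [h.ab g x, mul_inv_cancel_right]
  have hcore : Cfsg.pCore p ↥(F.autGroup E) = ⊥ := by
    have h1 := hrad.2
    rw [hInn] at h1
    exact (Subgroup.map_eq_bot_iff_of_injective _ (Subgroup.subtype_injective _)).1 h1
  have hTA := autInduced_le_autGroup F hES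
  have hnorm : ((autInducedBy S E).subgroupOf (F.autGroup E)).Normal := ⟨fun n hn g => by
    have hn' : (n : MulAut E) ∈ autInducedBy S E := Subgroup.mem_subgroupOf.1 hn
    exact Subgroup.mem_subgroupOf.2 ((Subgroup.mem_normalizer_iff.1 (hall g g.2) _).1 hn')⟩
  have hpg : IsPGroup p ((autInducedBy S E).subgroupOf (F.autGroup E)) :=
    (isPGroup_autInduced hS E).comap_of_injective _ Subtype.coe_injective
  have h1 := Cfsg.Agent.Lib.H1Core.le_pCore hnorm hpg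
  rw [hcore, le_bot_iff] at h1
  obtain ⟨τ, hτ, hτ1⟩ := tau_E hS hF h
  have h2 : (⟨τ, hTA hτ⟩ : F.autGroup E) ∈ (autInducedBy S E).subgroupOf (F.autGroup E) := Subgroup.mem_subgroupOf.2 hτ
  rw [h1, Subgroup.mem_bot] at h2
  exact hτ1 (congrArg Subtype.val h2)

/-- an element of `E` fixed by `Aut_S(E)` is central -/
theorem fix_E (hS : IsPGroup p S) (hF : F.IsSaturated p) (h : ED F p E a) (y : E) (hy : ∀ κ ∈ autInducedBy S E, κ y = y) : (y : Ω) ∈ Zs S := by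
  by_contra hyZ
  haveI : Finite E := finite_of_le h.hE.1.1
  obtain ⟨τ, hτ, hτ1⟩ := tau_E hS hF h
  obtain ⟨-, -, hi, -, -, hTv⟩ := data_E hS hF h
  apply hτ1
  letI iC : CommGroup E := { (inferInstance : Group E) with mul_comm := h.ab }
  ext v
  obtain ⟨z, hz, j, rfl⟩ := top_eq_sup hi (b := y) (fun hh => hyZ (Subgroup.mem_subgroupOf.1 hh)) v
  show ((τ (z * y ^ j) : E) : Ω) = ((z * y ^ j : E) : Ω)
  rw [map_mul, map_zpow, hy τ hτ, (hTv τ hτ).1 z hz]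

/-- normalizers of `Aut_S(E)` preserve the centre -/
theorem norm_E (hS : IsPGroup p S) (hF : F.IsSaturated p) (h : ED F p E a) {n : MulAut E} (hn : n ∈ Subgroup.normalizer (autInducedBy S E : Set (MulAut E))) (y : E) (hy : (y : Ω) ∈ Zs S) :
    ((n y : E) : Ω) ∈ Zs S := by
  haveI : Finite E := finite_of_le h.hE.1.1
  obtain ⟨-, -, -, -, -, hTv⟩ := data_E hS hF h
  apply fix_E hS hF h
  intro κ hκ
  have h1 : n⁻¹ * κ * n⁻¹⁻¹ ∈ autInducedBy S E := (Subgroup.mem_normalizer_iff.1 (Subgroup.inv_mem _ hn) _).1 hκ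
  have h2 := (hTv _ h1).1 y (Subgroup.mem_subgroupOf.2 hy)
  have h3 : κ (n y) = n ((n⁻¹ * κ * n⁻¹⁻¹) y) := by
    simp [MulAut.mul_apply]
  rw [h3, h2]

/-- the inversion attached to a non-normalizing element, for odd `p` -/
theorem inv_E (hS : IsPGroup p S) (hF : F.IsSaturated p) (h : ED F p E a) {g : MulAut E} (hg : g ∈ F.autGroup E)
    (hgn : g ∉ Subgroup.normalizer (autInducedBy S E : Set (MulAut E))) (hp2 : p ≠ 2) :
    ∃ θ ∈ F.autGroup S, ((θ ⟨a, (mem_Zs.1 h.ha).1⟩ : S) : Ω) = a⁻¹ ∧ (∀ z : S, (z : Ω) ∈ Zs S → ∃ i : ℤ, ((θ z : S) : Ω) = a ^ i * z) ∧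
      ∀ (z : S) (hz : (z : Ω) ∈ Zs S), θ z = z ↔ ((g⁻¹ ⟨z, Zs_le_P h.hE hz⟩ : E) : Ω) ∈ Zs S := by
  classical
  have hP : p.Prime := Fact.out
  have hES : E ≤ S := h.hE.1.1
  haveI : Finite E := finite_of_le hES
  have hZE : Zs S ≤ E := Zs_le_P h.hE
  obtain ⟨hmax, hTA, hi, ha, ha1, hTv⟩ := data_E hS hF h
  obtain ⟨τ, hτ, hτ1⟩ := tau_E hS hF h
  letI iC : CommGroup E := { (inferInstance : Group E) with mul_comm := h.ab }
  obtain ⟨t, htA, hta, htb, htu, htc⟩ := exists_t (hS.to_le hES) hmax hTA hi ha ha1 hTv hτ hτ1 hg hgn hp2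
  have hφ : (E.subtype.comp t.toMonoidHom).comp (Subgroup.inclusion hZE) ∈ F.Hom (Zs S) :=
    res_mem F hZE ((mem_autGroup_iff F hES).1 htA)
  have hval : ∀ z : Zs S, ((E.subtype.comp t.toMonoidHom).comp (Subgroup.inclusion hZE)) z = ((t ⟨z, hZE z.2⟩ : E) : Ω) := fun z => rfl
  have htz : ∀ (i : ℤ) (u : E), u ∈ ((Zs S).subgroupOf E) ⊓ ((Zs S).subgroupOf E).map g.toMonoidHom → t ((aE h) ^ i * u) = (aE h) ^ (-i) * u := by
    intro i u hu
    rw [map_mul, map_zpow, hta, htu u hu, inv_zpow, zpow_neg]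
  have hr : ∀ z : Zs S, ((E.subtype.comp t.toMonoidHom).comp (Subgroup.inclusion hZE)) z ∈ Zs S := by
    intro z
    obtain ⟨i, u, hu, ez⟩ := z_decomp_abs (hS.to_le hES) hmax hTA hi ha ha1 hTv hg hgn (z := (⟨z, hZE z.2⟩ : E)) (Subgroup.mem_subgroupOf.2 z.2)
    rw [hval, ez, htz i u hu]
    have hu1 : (u : Ω) ∈ Zs S := Subgroup.mem_subgroupOf.1 (Subgroup.mem_inf.1 hu).1
    show ((((aE h) ^ (-i) : E) : Ω) * (u : Ω)) ∈ Zs S
    refine Subgroup.mul_mem _ ?_ hu1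
    have : (((aE h) ^ (-i) : E) : Ω) = a ^ (-i) := by simp
    rw [this]
    exact Subgroup.zpow_mem _ h.ha _
  obtain ⟨θ, hθ, e⟩ := ext_Zs hS hF le_rfl hφ hr
  have e' : ∀ (z : S) (hz : (z : Ω) ∈ Zs S), ((θ z : S) : Ω) = ((t ⟨z, hZE hz⟩ : E) : Ω) := fun z hz => e ⟨z, hz⟩
  have hθa : ((θ ⟨a, (mem_Zs.1 h.ha).1⟩ : S) : Ω) = a⁻¹ := by
    rw [e' ⟨a, (mem_Zs.1 h.ha).1⟩ h.ha]
    have : (⟨a, hZE h.ha⟩ : E) = aE h := rfl
    show ((t (aE h) : E) : Ω) = a⁻¹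
    rw [hta]
    rfl
  have hform : ∀ (z : S) (hz : (z : Ω) ∈ Zs S), ∃ (i : ℤ) (u : E), u ∈ ((Zs S).subgroupOf E) ⊓ ((Zs S).subgroupOf E).map g.toMonoidHom ∧
      (⟨z, hZE hz⟩ : E) = (aE h) ^ i * u ∧ ((θ z : S) : Ω) = (((aE h) ^ (-i) * u : E) : Ω) := by
    intro z hz
    obtain ⟨i, u, hu, ez⟩ := z_decomp_abs (hS.to_le hES) hmax hTA hi ha ha1 hTv hg hgn (z := (⟨z, hZE hz⟩ : E)) (Subgroup.mem_subgroupOf.2 hz)
    refine ⟨i, u, hu, ez, ?_⟩
    rw [e' z hz, ez, htz i u hu]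
  refine ⟨θ, hθ, hθa, ?_, ?_⟩
  · intro z hz
    obtain ⟨i, u, hu, ez, e2⟩ := hform z hz
    refine ⟨-i - i, ?_⟩
    rw [e2]
    have h3 : (z : Ω) = a ^ i * u := by
      have := congrArg Subtype.val ez
      simpa using this
    rw [h3]
    have h4 : ((aE h) ^ (-i) * u : E) = (aE h) ^ (-i - i) * ((aE h) ^ i * u) := by
      rw [← mul_assoc, ← zpow_add, sub_add_cancel]
    rw [h4]
    simp
  · intro z hz
    obtain ⟨i, u, hu, ez, e2⟩ := hform z hz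
    have hu2 : ((g⁻¹ u : E) : Ω) ∈ Zs S := mem_Y.1 (Subgroup.mem_inf.1 hu).2
    constructor
    · intro hfix
      have h3 : (aE h) ^ (-i) * u = (aE h) ^ i * u := by
        apply Subtype.ext
        rw [← e2, hfix]
        exact congrArg Subtype.val ez
      have h4 : (aE h) ^ (-i) = (aE h) ^ i := mul_right_cancel h3
      have h5 : (aE h) ^ (i + i) = 1 := by
        rw [zpow_add]
        nth_rewrite 1 [← h4]
        rw [← zpow_add, neg_add_cancel, zpow_zero]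
      have hord : orderOf (aE h) = p := orderOf_eq_prime ha1 (by
        intro hh
        exact h.ha1 (congrArg Subtype.val hh))
      have h6 : (p : ℤ) ∣ (i + i) := by
        rw [← hord]
        exact orderOf_dvd_iff_zpow_eq_one.2 h5
      have h7 : (p : ℤ) ∣ i := by
        rw [← two_mul] at h6
        rcases (Nat.prime_iff_prime_int.1 hP).dvd_or_dvd h6 with h8 | h8
        · exfalso
          have h9 : p ∣ 2 := by exact_mod_cast h8
          exact hp2 ((Nat.prime_dvd_prime_iff_eq hP Nat.prime_two).1 h9)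
        · exact h8
      have h8 : (aE h) ^ i = 1 := zpow_eq_one_of_dvd ha1 h7
      rw [ez, h8, one_mul]
      exact hu2
    · intro hy
      have hmem : (⟨z, hZE hz⟩ : E) ∈ ((Zs S).subgroupOf E) ⊓ ((Zs S).subgroupOf E).map g.toMonoidHom :=
        Subgroup.mem_inf.2 ⟨Subgroup.mem_subgroupOf.2 hz, mem_Y.2 hy⟩
      apply Subtype.ext
      rw [e' z hz, htu _ hmem]

/-- two inversions agree on the centre -/
theorem inv_unique' (hS : IsPGroup p S) (hF : F.IsSaturated p) (ha : a ∈ Zs S) (hap : a ^ p = 1) {θ₁ θ₂ : MulAut S} (h₁ : θ₁ ∈ F.autGroup S) (h₂ : θ₂ ∈ F.autGroup S)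
    (ha₁ : ((θ₁ ⟨a, (mem_Zs.1 ha).1⟩ : S) : Ω) = a⁻¹) (ha₂ : ((θ₂ ⟨a, (mem_Zs.1 ha).1⟩ : S) : Ω) = a⁻¹)
    (hz₁ : ∀ z : S, (z : Ω) ∈ Zs S → ∃ i : ℤ, ((θ₁ z : S) : Ω) = a ^ i * z)
    (hz₂ : ∀ z : S, (z : Ω) ∈ Zs S → ∃ i : ℤ, ((θ₂ z : S) : Ω) = a ^ i * z) :
    ∀ z : S, (z : Ω) ∈ Zs S → θ₁ z = θ₂ z := by
  have haS := (mem_Zs.1 ha).1
  set A : S := ⟨a, haS⟩ with hA
  have hA1 : A ^ p = 1 := Subtype.ext hap
  have hθa₁ : θ₁ A = A⁻¹ := Subtype.ext ha₁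
  have hθa₂ : θ₂ A = A⁻¹ := Subtype.ext ha₂
  have hinv₂ : θ₂⁻¹ A = A⁻¹ := by
    apply (MulEquiv.symm_apply_eq θ₂).2
    rw [map_inv, hθa₂, inv_inv]
  have hzS₂ : ∀ z : S, ∃ i : ℤ, (z : Ω) ∈ Zs S → θ₂ z = A ^ i * z := by
    intro z
    by_cases hz : (z : Ω) ∈ Zs S
    · obtain ⟨i, hi⟩ := hz₂ z hz
      refine ⟨i, fun _ => Subtype.ext ?_⟩
      rw [hi]
      simp [hA]
    · exact ⟨0, fun h => absurd h hz⟩
  have hρ : θ₂⁻¹ * θ₁ ∈ F.autGroup S := Subgroup.mul_mem _ (Subgroup.inv_mem _ h₂) h₁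
  have hρa : (θ₂⁻¹ * θ₁) A = A := by
    show θ₂⁻¹ (θ₁ A) = A
    rw [hθa₁, map_inv, hinv₂, inv_inv]
  have hρz : ∀ z : S, (z : Ω) ∈ Zs S → ∃ i : ℤ, (θ₂⁻¹ * θ₁) z = A ^ i * z := by
    intro z hz
    obtain ⟨i, hi⟩ := hz₁ z hz
    obtain ⟨j, hj⟩ := hzS₂ z
    have hj' := hj hz
    refine ⟨-i + j, ?_⟩
    have h1 : θ₁ z = A ^ i * z := by
      apply Subtype.ext
      rw [hi]
      simp [hA]
    show θ₂⁻¹ (θ₁ z) = _
    rw [h1, map_mul, map_zpow, hinv₂, inv_zpow, ← zpow_neg]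
    have h2 : θ₂⁻¹ z = A ^ j * z := by
      apply (MulEquiv.symm_apply_eq θ₂).2
      rw [map_mul, map_zpow, hθa₂, hj', inv_zpow, ← mul_assoc, ← zpow_neg, ← zpow_add]
      simp
    rw [h2, ← mul_assoc, ← zpow_add]
  have hfix := center_fix hS hF hρ (by
    intro z hz
    obtain ⟨i, hi⟩ := hρz z hz
    rw [pow_rho hρa hi p, zpow_mul, zpow_natCast, hA1, one_zpow, one_mul])
  intro z hz
  have h1 := hfix z hz
  have h2 : θ₂⁻¹ (θ₁ z) = z := h1
  exact ((MulEquiv.symm_apply_eq θ₂).1 h2)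

/-- the commutator subgroup of `S` inside `Ω` -/
abbrev DD (S : Subgroup Ω) : Subgroup Ω := (commutator S).map S.subtype

theorem DD_aut (θ : MulAut S) {z : S} (hz : (z : Ω) ∈ DD S) : ((θ z : S) : Ω) ∈ DD S := by
  obtain ⟨w, hw, e⟩ := hz
  have e' : w = z := Subtype.ext e
  subst e'
  refine ⟨θ w, ?_, rfl⟩
  have h1 : (commutator S).map θ.toMonoidHom = commutator S := (Subgroup.characteristic_iff_map_eq.1 inferInstance) θ
  rw [← h1]
  exact ⟨w, hw, rfl⟩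

/-- the fixed points of `θ` on the centre -/
def Fx (θ : MulAut S) : Subgroup Ω where
  carrier := {y | y ∈ Zs S ∧ ∀ hy : y ∈ S, θ ⟨y, hy⟩ = ⟨y, hy⟩}
  one_mem' := ⟨Subgroup.one_mem _, fun hy => map_one θ⟩
  mul_mem' := by
    rintro x y ⟨hx, hx'⟩ ⟨hy, hy'⟩
    refine ⟨Subgroup.mul_mem _ hx hy, fun _ => ?_⟩
    have e : (⟨x * y, S.mul_mem (mem_Zs.1 hx).1 (mem_Zs.1 hy).1⟩ : S) = ⟨x, (mem_Zs.1 hx).1⟩ * ⟨y, (mem_Zs.1 hy).1⟩ := rfl
    rw [e, map_mul, hx', hy']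
  inv_mem' := by
    rintro x ⟨hx, hx'⟩
    refine ⟨Subgroup.inv_mem _ hx, fun _ => ?_⟩
    have e : (⟨x⁻¹, S.inv_mem (mem_Zs.1 hx).1⟩ : S) = (⟨x, (mem_Zs.1 hx).1⟩ : S)⁻¹ := rfl
    rw [e, map_inv, hx']

/-- the main theorem: under the hypotheses the centre is `⟨a⟩` -/
theorem Zs_main (hS : IsPGroup p S) (hF : F.IsSaturated p) (hp2 : p ≠ 2) (hcore : F.core = ⊥)
    (ha : a ∈ Zs S) (hap : a ^ p = 1) (hD : Zs S ⊓ DD S = Subgroup.zpowers a)
    (hess : ∀ P, F.IsEssential p P → (ED F p P a ∨ ∀ α ∈ F.autGroup P, ∀ x : P, (x : Ω) ∈ Zs S → ((α x : P) : Ω) ∈ Zs S))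
    {E₀ : Subgroup Ω} (hE₀ : ED F p E₀ a) : Zs S ≤ Subgroup.zpowers a := by
  classical
  have haS := (mem_Zs.1 ha).1
  obtain ⟨g₀, hg₀, hgn₀⟩ := bad_E hS hF hE₀
  obtain ⟨θ₀, hθ₀, ha₀, hz₀, hfix₀⟩ := inv_E hS hF hE₀ hg₀ hgn₀ hp2
  have hZD : ∀ (σ : MulAut S) (i : S), (i : Ω) ∈ Subgroup.zpowers a → ((σ i : S) : Ω) ∈ Subgroup.zpowers a := by
    intro σ i hi
    rw [← hD] at hi ⊢
    exact Subgroup.mem_inf.2 ⟨Zs_aut σ (Subgroup.mem_inf.1 hi).1, DD_aut σ (Subgroup.mem_inf.1 hi).2⟩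
  -- (i) automorphisms of `S` preserve the fixed points
  have hinvS : ∀ σ ∈ F.autGroup S, ∀ y : S, (y : Ω) ∈ Fx θ₀ → ((σ y : S) : Ω) ∈ Fx θ₀ := by
    intro σ hσ y hy
    have hσy : ((σ y : S) : Ω) ∈ Zs S := Zs_aut σ hy.1
    refine ⟨hσy, fun _ => ?_⟩
    have hσ' : σ * θ₀ * σ⁻¹ ∈ F.autGroup S := Subgroup.mul_mem _ (Subgroup.mul_mem _ hσ hθ₀) (Subgroup.inv_mem _ hσ)
    have hA := Subgroup.mem_zpowers a
    have h1 : ((σ⁻¹ ⟨a, haS⟩ : S) : Ω) ∈ Subgroup.zpowers a := hZD σ⁻¹ ⟨a, haS⟩ hA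
    have key := inv_unique' hS hF ha hap hσ' hθ₀ ?_ ha₀ ?_ hz₀ (σ y) hσy
    · have h2 : (σ * θ₀ * σ⁻¹) (σ y) = σ (θ₀ y) := by
        show σ (θ₀ (σ⁻¹ (σ y))) = _
        simp
      rw [h2] at key
      have h3 : θ₀ y = y := hy.2 y.2
      rw [h3] at key
      exact key.symm
    · obtain ⟨k, hk⟩ := h1
      have hk' : a ^ k = ((σ⁻¹ ⟨a, haS⟩ : S) : Ω) := hk
      have e1 : σ⁻¹ ⟨a, haS⟩ = (⟨a, haS⟩ : S) ^ k := Subtype.ext (by rw [← hk']; simp)
      show ((σ (θ₀ (σ⁻¹ ⟨a, haS⟩)) : S) : Ω) = a⁻¹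
      have e2 : θ₀ ⟨a, haS⟩ = (⟨a, haS⟩ : S)⁻¹ := Subtype.ext ha₀
      rw [e1, map_zpow, e2, inv_zpow, ← e1, map_inv]
      have e3 : σ (σ⁻¹ ⟨a, haS⟩) = ⟨a, haS⟩ := by simp
      rw [e3]
      rfl
    · intro z hz
      obtain ⟨i, hi⟩ := hz₀ (σ⁻¹ z) (Zs_aut σ⁻¹ hz)
      have e1 : θ₀ (σ⁻¹ z) = (⟨a, haS⟩ : S) ^ i * σ⁻¹ z := Subtype.ext (by rw [hi]; simp)
      obtain ⟨k, hk⟩ := hZD σ ⟨a, haS⟩ hA
      have hk' : a ^ k = ((σ ⟨a, haS⟩ : S) : Ω) := hk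
      refine ⟨k * i, ?_⟩
      show ((σ (θ₀ (σ⁻¹ z)) : S) : Ω) = _
      rw [e1, map_mul, map_zpow]
      have e3 : σ (σ⁻¹ z) = z := by simp
      rw [e3, Subgroup.coe_mul, Subgroup.coe_zpow, ← hk', ← zpow_mul]
  -- (ii) images under essential automizers stay central
  have hstepA : ∀ P, F.IsEssential p P → ∀ δ ∈ F.autGroup P, ∀ y : P, (y : Ω) ∈ Fx θ₀ → ((δ y : P) : Ω) ∈ Zs S := by
    intro P hP δ hδ y hy
    rcases hess P hP with hED | hN
    · by_cases hn : δ ∈ Subgroup.normalizer (autInducedBy S P : Set (MulAut P))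
      · exact norm_E hS hF hED hn y hy.1
      · have hn' : δ⁻¹ ∉ Subgroup.normalizer (autInducedBy S P : Set (MulAut P)) := fun h => hn (by simpa using Subgroup.inv_mem _ h)
        obtain ⟨θ, hθ, ha', hz', hfix⟩ := inv_E hS hF hED (Subgroup.inv_mem _ hδ) hn' hp2
        let yS : S := ⟨y, hP.1.1 y.2⟩
        have h1 : θ₀ yS = yS := hy.2 yS.2
        have h2 : θ yS = θ₀ yS := inv_unique' hS hF ha hap hθ hθ₀ ha' ha₀ hz' hz₀ yS hy.1
        have h3 : θ yS = yS := h2.trans h1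
        have h4 := (hfix yS hy.1).1 h3
        rw [inv_inv] at h4
        exact h4
    · exact hN δ hδ y hy.1
  have hFZ : Fx θ₀ ≤ Zs S := fun y hy => hy.1
  have hN := normal_of_invariant hS F hF (Q := Fx θ₀) (by
    intro P hP'
    rcases hP' with rfl | hE
    · exact ⟨fun y hy => (mem_Zs.1 hy.1).1, fun α hα x hx => hinvS α hα x hx⟩
    · refine ⟨hFZ.trans (Zs_le_P hE), fun δ hδ y hy => ?_⟩
      have hPS : P ≤ S := hE.1.1
      have hFP : Fx θ₀ ≤ P := hFZ.trans (Zs_le_P hE)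
      have hφ : (P.subtype.comp δ.toMonoidHom).comp (Subgroup.inclusion hFP) ∈ F.Hom (Fx θ₀) :=
        res_mem F hFP ((mem_autGroup_iff F hPS).1 hδ)
      obtain ⟨σ, hσ, eσ⟩ := ext_Zs hS hF hFZ hφ (fun x => hstepA P hE δ hδ ⟨x, hFP x.2⟩ x.2)
      have h1 := eσ ⟨y, hy⟩
      have h2 := hinvS σ hσ ⟨y, hPS y.2⟩ hy
      rw [h1] at h2
      exact h2)
  have hle : Fx θ₀ ≤ F.core := le_sSup hN
  rw [hcore, le_bot_iff] at hle
  -- decompose
  have hES : E₀ ≤ S := hE₀.hE.1.1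
  haveI : Finite E₀ := finite_of_le hES
  obtain ⟨hmax, hTA, hi, ha', ha1', hTv⟩ := data_E hS hF hE₀
  letI iC : CommGroup E₀ := { (inferInstance : Group E₀) with mul_comm := hE₀.ab }
  intro z hz
  obtain ⟨i, u, hu, ez⟩ := z_decomp_abs (hS.to_le hES) hmax hTA hi ha' ha1' hTv hg₀ hgn₀ (z := (⟨z, Zs_le_P hE₀.hE hz⟩ : E₀)) (Subgroup.mem_subgroupOf.2 hz)
  obtain ⟨hu1, hu2⟩ := Subgroup.mem_inf.1 hu
  have hu1' : (u : Ω) ∈ Zs S := Subgroup.mem_subgroupOf.1 hu1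
  let uS : S := ⟨u, hES u.2⟩
  have hfx : (u : Ω) ∈ Fx θ₀ := by
    refine ⟨hu1', fun _ => ?_⟩
    have h1 := (hfix₀ uS hu1').2 (mem_Y.1 hu2)
    exact h1
  rw [hle, Subgroup.mem_bot] at hfx
  have e' : u = 1 := Subtype.ext hfx
  rw [e', mul_one] at ez
  have e2 : z = a ^ i := by
    have := congrArg Subtype.val ez
    simpa using this
  rw [e2]
  exact Subgroup.zpow_mem _ (Subgroup.mem_zpowers a) i

theorem comm_DD {s t : Ω} (hs : s ∈ S) (ht : t ∈ S) : s * t * s⁻¹ * t⁻¹ ∈ DD S := by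
  have h1 : ⁅(⟨s, hs⟩ : S), (⟨t, ht⟩ : S)⁆ ∈ commutator S := by
    rw [_root_.commutator_def]
    exact Subgroup.commutator_mem_commutator trivial trivial
  refine ⟨_, h1, ?_⟩
  rw [commutatorElement_def]
  rfl

variable {A P : Subgroup Ω}

/-- the centre of a nonabelian essential subgroup is the centre of `S` -/
theorem cen_P (hS : IsPGroup p S) (h : AbI S A p) (hE : F.IsEssential p P) (hPA : P ≠ A) (hna : ¬ ∀ y y' : P, y * y' = y' * y) {c : P} (hc : ∀ y : P, c * y = y * c) :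
    (c : Ω) ∈ Zs S := by
  obtain ⟨x, hxP, hxA⟩ := ex_x h hE hPA
  have hPS : P ≤ S := hE.1.1
  by_cases hcA : (c : Ω) ∈ A
  · exact Zs_of hS h (hPS hxP) hxA hcA (congrArg Subtype.val (hc ⟨x, hxP⟩))
  · exfalso
    apply hna
    obtain ⟨-, h3⟩ := dec hS h (hPS c.2) hcA
    have hform : ∀ t : P, ∃ i : ℤ, ∃ d : P, t = c ^ i * d ∧ (d : Ω) ∈ Zs S := by
      intro t
      obtain ⟨i, hi⟩ := h3 t (hPS t.2)
      refine ⟨i, (c ^ i)⁻¹ * t, by group, ?_⟩
      have hd : (((c ^ i)⁻¹ * t : P) : Ω) ∈ A := by simpa using hi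
      exact Zs_of hS h (hPS c.2) hcA hd (congrArg Subtype.val (hc _).symm)
    intro y y'
    obtain ⟨i, d, rfl, hd⟩ := hform y
    obtain ⟨j, d', rfl, hd'⟩ := hform y'
    have C1 : Commute (c ^ i) (c ^ j) := (Commute.refl c).zpow_zpow i j
    have hcomD : ∀ t : P, Commute d t := fun t => Subtype.ext ((mem_Zs.1 hd).2 t (hPS t.2)).symm
    have hcomD' : ∀ t : P, Commute d' t := fun t => Subtype.ext ((mem_Zs.1 hd').2 t (hPS t.2)).symm
    exact ((C1.mul_right (hcomD' _).symm).mul_left (hcomD _)).eq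

theorem nonab_inv (hS : IsPGroup p S) (h : AbI S A p) (hE : F.IsEssential p P) (hPA : P ≠ A) (hna : ¬ ∀ y y' : P, y * y' = y' * y) (α : MulAut P) (x : P) (hx : (x : Ω) ∈ Zs S) :
    ((α x : P) : Ω) ∈ Zs S := by
  apply cen_P hS h hE hPA hna
  intro y
  have e : y = α (α.symm y) := by simp
  rw [e, ← map_mul, ← map_mul]
  congr 1
  exact Subtype.ext ((mem_Zs.1 hx).2 _ (hE.1.1 (α.symm y).2)).symm

theorem ED_of (hS : IsPGroup p S) (hF : F.IsSaturated p) (h : AbI S A p) (hE : F.IsEssential p P) (hPA : P ≠ A) (hab : ∀ y y' : P, y * y' = y' * y)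
    (ha : a ∈ Zs S) (ha1 : a ≠ 1) (hap : a ^ p = 1) (hD : Zs S ⊓ DD S = Subgroup.zpowers a) : ED F p P a := by
  obtain ⟨x, hxP, hxA⟩ := ex_x h hE hPA
  obtain ⟨-, hinf, -⟩ := abelian_struct hS hF h hE hab hxP hxA
  have hPS : P ≤ S := hE.1.1
  have hxS := hPS hxP
  haveI : Finite P := finite_of_le hPS
  have hZA := Zs_le_A hS h
  have hZP := Zs_le_P hE
  obtain ⟨hxp, h3⟩ := dec hS h hxS hxA
  refine ⟨hE, hab, ?_, ha, ha1, hap, ?_⟩
  · apply index_of_dec hZP (fun t ht c hc => ?_) hxP (fun h5 => hxA (hZA h5)) (hinf (Subgroup.mem_inf.2 ⟨P.pow_mem hxP p, hxp⟩))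
    · intro t ht
      obtain ⟨i, hi⟩ := h3 t (hPS ht)
      exact ⟨i, hinf (Subgroup.mem_inf.2 ⟨P.mul_mem (P.inv_mem (P.zpow_mem hxP i)) ht, hi⟩)⟩
    · rw [(mem_Zs.1 hc).2 t (hPS ht), mul_inv_cancel_right]
      exact hc
  · intro s hs hsn y hy
    rw [← hD]
    exact Subgroup.mem_inf.2 ⟨hinf (Subgroup.mem_inf.2 ⟨P.mul_mem ((Subgroup.mem_normalizer_iff.1 hsn y).1 hy) (P.inv_mem hy), comm_A hS h hs (hPS hy)⟩), comm_DD hs (hPS hy)⟩

theorem lcs_le (k : ℕ) : S.lowerCentralSeries k ≤ S := by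
  induction k with
  | zero =>
    rw [Subgroup.lowerCentralSeries_zero]
  | succ k ih =>
    rw [Subgroup.lowerCentralSeries_succ, Subgroup.commutator_le]
    intro g₁ h₁ g₂ h₂
    rw [commutatorElement_def]
    exact S.mul_mem (S.mul_mem (S.mul_mem (ih h₁) h₂) (S.inv_mem (ih h₁))) (S.inv_mem h₂)

/-- Let p be an odd prime, S a finite nonabelian p-group with a unique abelian subgroup A of index p, and F a saturated fusion system over S with no nontrivial normal subgroup (O_p(F) = 1) in which A is not F-essential. Then some subgroup Z(S)⟨x⟩ with x ∈ S outside A is F-essential, the centre Z(S) is contained in the commutator subgroup of S, and S has maximal nilpotency class (if S has order pⁿ with n ≥ 3, the term of index n − 2 of its lower central series, counting S itself as the term of index 0, is nontrivial). -/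
theorem result {Ω : Type*} [Group Ω] {S : Subgroup Ω} [Finite S] (p : ℕ) [Fact p.Prime] (hS : IsPGroup p S) (F : Cfsg.FusionSystem S) (hF : F.IsSaturated p) (hp : p ≠ 2) (hna : ¬ IsMulCommutative ↥S) (A : Subgroup Ω) (hA : A ≤ S ∧ IsMulCommutative ↥A ∧ (A.subgroupOf S).index = p) (huniq : ∀ B : Subgroup Ω, B ≤ S → IsMulCommutative ↥B → (B.subgroupOf S).index = p → B = A) (hcore : F.core = ⊥) (hAe : ¬ F.IsEssential p A) : (∃ x ∈ S, x ∉ A ∧ F.IsEssential p ((S ⊓ Subgroup.centralizer (S : Set Ω)) ⊔ Subgroup.zpowers x)) ∧ (S ⊓ Subgroup.centralizer (S : Set Ω)) ≤ (commutator ↥S).map S.subtype ∧ ∀ n : ℕ, Nat.card S = p ^ n → 3 ≤ n → Subgroup.lowerCentralSeries S (n - 2) ≠ ⊥ := by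
  classical
  have hP' : p.Prime := Fact.out
  have h : AbI S A p := by
    refine ⟨hA.1, fun x hx y hy => congrArg Subtype.val (hA.2.1.is_comm.comm ⟨x, hx⟩ ⟨y, hy⟩), hA.2.2, ?_⟩
    by_contra hall
    push_neg at hall
    exact hna ⟨⟨fun a b => Subtype.ext (hall a a.2 b b.2)⟩⟩
  have hAeq : ∀ P, F.IsEssential p P → P ≠ A := fun P hP e => hAe (e ▸ hP)
  haveI hnt : Nontrivial S := by
    by_contra hnt
    rw [not_nontrivial_iff_subsingleton] at hnt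
    exact hna ⟨⟨fun a b => Subsingleton.elim _ _⟩⟩
  obtain ⟨E₀, hE₀, hab₀⟩ : ∃ E : Subgroup Ω, F.IsEssential p E ∧ ∀ y y' : E, y * y' = y' * y := by
    by_contra hall
    have hN := normal_of_invariant hS F hF (Q := Zs S) (by
      intro P hP'
      rcases hP' with rfl | hE
      · exact ⟨inf_le_left, fun α _ x hx => Zs_aut α hx⟩
      · exact ⟨Zs_le_P hE, fun α _ x hx => nonab_inv hS h hE (hAeq P hE) (fun hab => hall ⟨P, hE, hab⟩) α x hx⟩)
    have hle : Zs S ≤ F.core := le_sSup hN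
    rw [hcore, le_bot_iff] at hle
    haveI := hS.center_nontrivial
    obtain ⟨z, hz⟩ := exists_ne (1 : Subgroup.center S)
    have h1 : (((z : Subgroup.center S) : S) : Ω) ∈ Zs S := by
      rw [Zs_eq_map]
      exact ⟨z, z.2, rfl⟩
    rw [hle, Subgroup.mem_bot] at h1
    exact hz (Subtype.ext (Subtype.ext h1))
  have hEA := hAeq E₀ hE₀
  obtain ⟨x, hxP, hxA, -, -, w, hwA, hwZ, hwp, hwx, hwd⟩ := summary hS hF h hE₀ hEA
  have hES : E₀ ≤ S := hE₀.1.1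
  have hxS := hES hxP
  obtain ⟨heq, -⟩ := abelian_struct hS hF h hE₀ hab₀ hxP hxA
  obtain ⟨-, hcard, -, -, hm⟩ := Cfsg.Agent.S5257.result p hS F hF hp hna A hA huniq E₀ hE₀ hEA
  set a := w * x * w⁻¹ * x⁻¹ with ha
  have hwS := h.le hwA
  have ha1 : a ≠ 1 := by
    intro e
    rw [ha, mul_inv_eq_one, mul_inv_eq_iff_eq_mul] at e
    exact hwZ (Zs_of hS h hxS hxA hwA e)
  have haD : a ∈ DD S := comm_DD hwS hxS
  have hainf : a ∈ Zs S ⊓ DD S := Subgroup.mem_inf.2 ⟨hwx, haD⟩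
  haveI hfinf : Finite ↥(Zs S ⊓ DD S) := finite_of_le (inf_le_left.trans inf_le_left)
  have hap : a ^ p = 1 := by
    have h1 : (⟨a, hainf⟩ : ↥(Zs S ⊓ DD S)) ^ Nat.card ↥(Zs S ⊓ DD S) = 1 := pow_card_eq_one'
    rw [show Nat.card ↥(Zs S ⊓ DD S) = p from hcard] at h1
    exact congrArg Subtype.val h1
  have hord : orderOf a = p := orderOf_eq_prime hap ha1
  have hD : Zs S ⊓ DD S = Subgroup.zpowers a := by
    symm
    apply Subgroup.eq_of_le_of_card_ge (Subgroup.zpowers_le.2 hainf)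
    rw [Nat.card_zpowers, hord]
    exact le_of_eq hcard
  have hED : ∀ P, F.IsEssential p P → (∀ y y' : P, y * y' = y' * y) → ED F p P a := fun P hP hab =>
    ED_of hS hF h hP (hAeq P hP) hab hwx ha1 hap hD
  have hmain : Zs S ≤ Subgroup.zpowers a := Zs_main hS hF hp hcore hwx hap hD (by
    intro P hP
    by_cases hab : ∀ y y' : P, y * y' = y' * y
    · exact Or.inl (hED P hP hab)
    · exact Or.inr fun α _ x hx => nonab_inv hS h hP (hAeq P hP) hab α x hx) (hED E₀ hE₀ hab₀)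
  have hZeq : Zs S = Subgroup.zpowers a := le_antisymm hmain (Subgroup.zpowers_le.2 hwx)
  refine ⟨⟨x, hxS, hxA, heq ▸ hE₀⟩, ?_, ?_⟩
  · exact hmain.trans (Subgroup.zpowers_le.2 haD)
  · intro n hn h3n hbot
    obtain ⟨k, rfl⟩ : ∃ k, n = k + 3 := ⟨n - 3, by omega⟩
    have e1 : k + 3 - 2 = k + 1 := by omega
    rw [e1, Subgroup.lowerCentralSeries_succ] at hbot
    have hkZ : S.lowerCentralSeries k ≤ Zs S := by
      intro u hu
      have huS : u ∈ S := lcs_le k hu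
      refine mem_Zs.2 ⟨huS, fun s hs => ?_⟩
      have h1 := Subgroup.commutator_mem_commutator hu hs
      rw [hbot, Subgroup.mem_bot, commutatorElement_def, mul_inv_eq_one, mul_inv_eq_iff_eq_mul] at h1
      exact h1.symm
    rcases Nat.eq_zero_or_pos k with rfl | hk
    · rw [Subgroup.lowerCentralSeries_zero] at hkZ
      apply hna
      refine ⟨⟨fun s t => Subtype.ext ?_⟩⟩
      exact ((mem_Zs.1 (hkZ s.2)).2 t t.2).symm
    · have c5 := Subgroup.card_mul_index ((Zs S).subgroupOf S)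
      haveI : Finite (Zs S) := finite_of_le inf_le_left
      have cZ : Nat.card (Zs S) = p := by
        rw [hZeq, Nat.card_zpowers, hord]
      rw [Nat.card_congr (Subgroup.subgroupOfEquivOfLe (inf_le_left : Zs S ≤ S)).toEquiv, cZ, hn] at c5
      have hidx : ((Zs S).subgroupOf S).index = p ^ (k + 2) := by
        have e2 : p ^ (k + 3) = p * p ^ (k + 2) := by ring
        rw [e2] at c5
        exact Nat.eq_of_mul_eq_mul_left hP'.pos c5
      have := hm (k + 2) hidx (by omega)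
      apply this
      have e3 : k + 2 - 2 = k := by omega
      rw [e3]
      exact hkZ

end Cfsg.Agent.S5244
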