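import Cfsg.Statements.S5254
import Mathlib
import Cfsg.Agent.Lib.FusAbIdx

set_option autoImplicit false
open Cfsg

namespace Cfsg.Agent.S5254


open Cfsg.Agent.Lib.FusAbIdx Cfsg.Agent.Lib.FusTransv2

/-- Let p be an odd prime, S a finite nonabelian p-group with a unique abelian subgroup A of index p, and F a saturated fusion system over S. Then every F-essential subgroup P is A, or Z(S)⟨x⟩ for some x ∈ S outside A, or (when the second centre Z₂(S) lies in A) Z₂(S)⟨x⟩ for some x ∈ S outside A; and P has index p in its normalizer in S. -/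
theorem result {Ω : Type*} [Group Ω] {S : Subgroup Ω} [Finite S] (p : ℕ) [Fact p.Prime] (hS : IsPGroup p S) (F : Cfsg.FusionSystem S) (hF : F.IsSaturated p) (hp : p ≠ 2) (hna : ¬ IsMulCommutative ↥S) (A : Subgroup Ω) (hA : A ≤ S ∧ IsMulCommutative ↥A ∧ (A.subgroupOf S).index = p) (huniq : ∀ B : Subgroup Ω, B ≤ S → IsMulCommutative ↥B → (B.subgroupOf S).index = p → B = A) (P : Subgroup Ω) (hP : F.IsEssential p P) : (P = A ∨ (∃ x ∈ S, x ∉ A ∧ P = (S ⊓ Subgroup.centralizer (S : Set Ω)) ⊔ Subgroup.zpowers x) ∨ (((upperCentralSeries ↥S 2).map S.subtype) ≤ A ∧ ∃ x ∈ S, x ∉ A ∧ P = ((upperCentralSeries ↥S 2).map S.subtype) ⊔ Subgroup.zpowers x)) ∧ (P.subgroupOf (S ⊓ Subgroup.normalizer (P : Set Ω))).index = p := by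
  classical
  have h : AbI S A p := by
    refine ⟨hA.1, fun x hx y hy => congrArg Subtype.val (hA.2.1.is_comm.comm ⟨x, hx⟩ ⟨y, hy⟩), hA.2.2, ?_⟩
    by_contra hall
    push_neg at hall
    exact hna ⟨⟨fun a b => Subtype.ext (hall a a.2 b b.2)⟩⟩
  by_cases hPA : P = A
  · subst hPA
    refine ⟨Or.inl rfl, ?_⟩
    have hfP : Finite P := Cfsg.Agent.Lib.FusBasic.finite_of_le h.le
    have e : S ⊓ Subgroup.normalizer (P : Set Ω) = S := by
      apply le_antisymm inf_le_left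
      intro s hs
      exact Subgroup.mem_inf.2 ⟨hs, Cfsg.Agent.Lib.FusSat.mem_normalizer_of_conj_le' fun c hc => nrm hS h hs hc⟩
    rw [e]
    exact hA.2.2
  · obtain ⟨x, hxP, hxA, halt, hidx, -⟩ := summary hS hF h hP hPA
    refine ⟨?_, hidx⟩
    rcases halt with ⟨-, heq⟩ | ⟨hle, heq⟩
    · exact Or.inr (Or.inl ⟨x, hP.1.1 hxP, hxA, heq⟩)
    · exact Or.inr (Or.inr ⟨hle, x, hP.1.1 hxP, hxA, heq⟩)

end Cfsg.Agent.S5254
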