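import Cfsg.Statements.S5265
import Mathlib
import Cfsg.Agent.Lib.FusTransv5
import Cfsg.Agent.Lib.FusSolv
import Cfsg.Agent.Lib.H1L168b

set_option autoImplicit false
open Cfsg

namespace Cfsg.Agent.S5265


open Subgroup Cfsg.Agent.Lib.FusTransv2 Cfsg.Agent.Lib.FusTransv3 Cfsg.Agent.Lib.FusTransv4 Cfsg.Agent.Lib.FusTransv5

/-- Let p be a prime, S a nontrivial finite p-group whose centre has index at most p², and F a saturated fusion system over S with no nontrivial normal subgroup and with hyperfocal subgroup equal to S. Then S is extraspecial of order p³; for odd p it has exponent p, and for p = 2 it is dihedral of order 8. -/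
theorem result {Ω : Type*} [Group Ω] {S : Subgroup Ω} [Finite S] (p : ℕ) [Fact p.Prime] (hS : IsPGroup p ↥S) (F : Cfsg.FusionSystem S) (hF : F.IsSaturated p) (hS1 : S ≠ ⊥) (hcore : F.core = ⊥) (hhyp : F.hyperfocalSubgroup p = S) (hZ : (Subgroup.center ↥S).index ≤ p ^ 2) : Cfsg.IsExtraspecial p ↥S ∧ Nat.card S = p ^ 3 ∧ (p ≠ 2 → Monoid.exponent ↥S = p) ∧ (p = 2 → Nonempty (↥S ≃* DihedralGroup 4)) := by
  classical
  have hP : p.Prime := Fact.out
  have hna : ¬ ∀ a b : S, a * b = b * a := by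
    intro hab
    have hSC : F.StronglyClosed S := ⟨le_rfl, fun _ _ _ hφ x => Cfsg.Agent.Lib.FusBasic.val_mem F hφ x⟩
    have hcomm : ⁅S, S⁆ ≤ ⊥ := by
      rw [Subgroup.commutator_le]
      intro x hx y hy
      have := congrArg Subtype.val (hab ⟨x, hx⟩ ⟨y, hy⟩)
      have h1 : x * y = y * x := this
      rw [commutatorElement_def, h1, mul_inv_cancel_right, mul_inv_cancel]
      exact Subgroup.one_mem _
    have h := Cfsg.Agent.Lib.FusSolv.normal_of_abelian_sc hS hF hSC hcomm
    apply hS1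
    rw [eq_bot_iff, ← hcore]
    exact le_sSup h
  obtain ⟨a, hc⟩ := exists_ctx hS hna hZ
  have hZa : ∀ z ∈ Zs S, z ∈ zpowers a := by
    by_cases hp2 : p = 2
    · exact two_main hS hF hc hS1 hcore hp2 hhyp
    · exact odd_main hS hF hc hS1 hcore hp2
  obtain ⟨h1, h2⟩ := final_extra hS hc hZa
  refine ⟨h1, h2, ?_, ?_⟩
  · intro hp2
    have hex := exp_main hS hF hc hS1 hcore hp2 hZa
    haveI : Nontrivial S := by
      refine ⟨⟨⟨a, (mem_Zs.1 hc.ha).1⟩, 1, fun h => hc.ha1 (congrArg Subtype.val h)⟩⟩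
    rw [Monoid.exponent_eq_prime_iff hP]
    intro g hg
    exact orderOf_eq_prime (hex g) hg
  · intro hp2
    obtain ⟨r, hrZ, hr⟩ := Cfsg.Agent.Lib.FusTransv5.exists_involution hS hF hc hS1 hcore hp2
    have hr1 : r ≠ 1 := by
      rintro rfl
      exact hrZ (Subgroup.one_mem _)
    have hord : orderOf r = 2 := orderOf_eq_prime (by rw [pow_two, hr]) hr1
    have hcard : Nat.card S = 8 := by
      rw [h2, hp2]
      norm_num
    obtain ⟨w, hw⟩ : ∃ w : S, w * r ≠ r * w := by
      by_contra hall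
      push_neg at hall
      apply hrZ
      rw [mem_Zs]
      refine ⟨r.2, fun s hs => ?_⟩
      exact congrArg Subtype.val (hall ⟨s, hs⟩)
    exact Cfsg.Agent.Lib.H1L168.dihedral_of_order_eight hcard hord hw

end Cfsg.Agent.S5265
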