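import Cfsg.Statements.S5270
import Mathlib
import Cfsg.Agent.Lib.FusAlp
import Cfsg.Agent.Lib.FusGT3

set_option autoImplicit false
open Cfsg

namespace Cfsg.Agent.S5270


section grp
variable {G : Type*} [Group G] [Finite G] {p : ℕ} [Fact p.Prime]

theorem card_mul_le (hG : IsPGroup p G) {A B : Subgroup G} (h : A < B) : p * Nat.card A ≤ Nat.card B := by
  obtain ⟨a, ha⟩ := IsPGroup.iff_card.1 (hG.to_subgroup A)
  obtain ⟨b, hb⟩ := IsPGroup.iff_card.1 (hG.to_subgroup B)
  have hlt : Nat.card A < Nat.card B := by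
    by_contra hc
    exact h.ne (Subgroup.eq_of_le_of_card_ge h.le (not_lt.1 hc))
  rw [ha, hb] at hlt ⊢
  have : a < b := (Nat.pow_lt_pow_iff_right (Fact.out : p.Prime).one_lt).1 hlt
  rw [← pow_succ']
  exact Nat.pow_le_pow_right (Fact.out : p.Prime).pos this

theorem ucs_succ_congr {i j : ℕ} (h : Subgroup.upperCentralSeries G i = Subgroup.upperCentralSeries G j) :
    Subgroup.upperCentralSeries G (i + 1) = Subgroup.upperCentralSeries G (j + 1) := by
  ext x
  rw [Subgroup.mem_upperCentralSeries_succ_iff, Subgroup.mem_upperCentralSeries_succ_iff, h]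

theorem ucs_lt (hG : IsPGroup p G) {i : ℕ} (h : Subgroup.upperCentralSeries G i ≠ ⊤) :
    Subgroup.upperCentralSeries G i < Subgroup.upperCentralSeries G (i + 1) := by
  refine lt_of_le_of_ne (Subgroup.upperCentralSeries_mono G (Nat.le_succ i)) ?_
  intro e
  have key : ∀ k, Subgroup.upperCentralSeries G (i + k) = Subgroup.upperCentralSeries G i := by
    intro k
    induction k with
    | zero => rfl
    | succ k ih =>
      rw [← add_assoc, ucs_succ_congr ih, ← e]
  haveI := hG.isNilpotent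
  obtain ⟨m, hm⟩ := (inferInstance : Group.IsNilpotent G).nilpotent'
  apply h
  rw [← key m, eq_top_iff, ← hm]
  exact Subgroup.upperCentralSeries_mono G (Nat.le_add_left m i)

theorem top_bound (hG : IsPGroup p G) {N : ℕ} (hN : Subgroup.upperCentralSeries G (N + 1) ≠ ⊤) :
    p * (p * Nat.card (Subgroup.upperCentralSeries G (N + 1))) ≤ Nat.card G := by
  have hlt : Subgroup.upperCentralSeries G (N + 1) < ⊤ := lt_top_iff_ne_top.2 hN
  by_contra hc
  obtain ⟨x, -, hx⟩ := SetLike.exists_of_lt hlt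
  have hgt : Subgroup.upperCentralSeries G (N + 1) < Subgroup.zpowers x ⊔ Subgroup.upperCentralSeries G (N + 1) := by
    refine lt_of_le_of_ne le_sup_right ?_
    intro e
    apply hx
    rw [e]
    exact (le_sup_left : Subgroup.zpowers x ≤ _) (Subgroup.mem_zpowers x)
  have h1 := card_mul_le hG hgt
  have htop : Subgroup.zpowers x ⊔ Subgroup.upperCentralSeries G (N + 1) = ⊤ := by
    by_contra hne
    have h2 := card_mul_le hG (lt_top_iff_ne_top.2 hne)
    rw [Nat.card_congr Subgroup.topEquiv.toEquiv] at h2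
    apply hc
    calc p * (p * Nat.card (Subgroup.upperCentralSeries G (N + 1))) ≤ p * Nat.card ↥(Subgroup.zpowers x ⊔ Subgroup.upperCentralSeries G (N + 1)) := Nat.mul_le_mul_left _ h1
      _ ≤ Nat.card G := h2
  -- the centralizer of `x` modulo `Z_N`
  let W := Subgroup.upperCentralSeries G N
  let T : Subgroup G := (Subgroup.centralizer {(QuotientGroup.mk x : G ⧸ W)}).comap (QuotientGroup.mk' W)
  have hT : Subgroup.zpowers x ⊔ Subgroup.upperCentralSeries G (N + 1) ≤ T := by
    refine sup_le ?_ ?_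
    · rw [Subgroup.zpowers_le]
      show (QuotientGroup.mk x : G ⧸ W) ∈ Subgroup.centralizer {(QuotientGroup.mk x : G ⧸ W)}
      rw [Subgroup.mem_centralizer_iff]
      rintro _ rfl
      rfl
    · intro z hz
      show (QuotientGroup.mk z : G ⧸ W) ∈ Subgroup.centralizer {(QuotientGroup.mk x : G ⧸ W)}
      rw [Subgroup.mem_centralizer_iff]
      rintro _ rfl
      have h3 := (Subgroup.mem_upperCentralSeries_succ_iff.1 hz) x
      have h4 : (QuotientGroup.mk (z * x * z⁻¹ * x⁻¹) : G ⧸ W) = 1 := (QuotientGroup.eq_one_iff _).2 h3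
      have h5 : (QuotientGroup.mk z : G ⧸ W) * QuotientGroup.mk x * (QuotientGroup.mk z)⁻¹ * (QuotientGroup.mk x)⁻¹ = 1 := h4
      have h6 : (QuotientGroup.mk z : G ⧸ W) * QuotientGroup.mk x = QuotientGroup.mk x * QuotientGroup.mk z := by
        have := mul_inv_eq_one.1 h5
        exact mul_inv_eq_iff_eq_mul.1 this
      exact h6.symm
  rw [htop] at hT
  apply hx
  rw [Subgroup.mem_upperCentralSeries_succ_iff]
  intro y
  have hy : y ∈ T := hT trivial
  have h3 : (QuotientGroup.mk y : G ⧸ W) * QuotientGroup.mk x = QuotientGroup.mk x * QuotientGroup.mk y :=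
    ((Subgroup.mem_centralizer_iff.1 hy) _ rfl).symm
  apply (QuotientGroup.eq_one_iff _).1
  show (QuotientGroup.mk x : G ⧸ W) * QuotientGroup.mk y * (QuotientGroup.mk x)⁻¹ * (QuotientGroup.mk y)⁻¹ = 1
  rw [← h3]
  group

theorem card_ucs (hG : IsPGroup p G) {n : ℕ} (hn : Nat.card G = p ^ n) (h3 : 3 ≤ n)
    (hmax : (⊤ : Subgroup G).lowerCentralSeries (n - 2) ≠ ⊥) {i : ℕ} (hi : i ≤ n - 2) :
    Nat.card (Subgroup.upperCentralSeries G i) = p ^ i := by
  obtain ⟨N, rfl⟩ : ∃ N, n = N + 3 := ⟨n - 3, by omega⟩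
  have hN2 : N + 3 - 2 = N + 1 := by omega
  rw [hN2] at hmax hi
  haveI := hG.isNilpotent
  have hne : Subgroup.upperCentralSeries G (N + 1) ≠ ⊤ := by
    intro e
    apply hmax
    rw [Subgroup.lowerCentralSeries_eq_bot_iff_nilpotencyClass_le]
    exact Subgroup.upperCentralSeries_eq_top_iff_nilpotencyClass_le.1 e
  have hpos : 0 < p := (Fact.out : p.Prime).pos
  have chain : ∀ k j, k + j ≤ N + 1 → p ^ j * Nat.card (Subgroup.upperCentralSeries G k) ≤ Nat.card (Subgroup.upperCentralSeries G (k + j)) := by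
    intro k j
    induction j with
    | zero => intro _; simp
    | succ j ih =>
      intro hk
      have h1 := ih (by omega)
      have hne' : Subgroup.upperCentralSeries G (k + j) ≠ ⊤ := by
        intro e
        apply hne
        rw [eq_top_iff, ← e]
        exact Subgroup.upperCentralSeries_mono G (by omega)
      have h2 := card_mul_le hG (ucs_lt hG hne')
      calc p ^ (j + 1) * Nat.card (Subgroup.upperCentralSeries G k) = p * (p ^ j * Nat.card (Subgroup.upperCentralSeries G k)) := by ring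
        _ ≤ p * Nat.card (Subgroup.upperCentralSeries G (k + j)) := Nat.mul_le_mul_left _ h1
        _ ≤ _ := h2
  have htop := top_bound (N := N) hG hne
  rw [hn] at htop
  have hupper : Nat.card (Subgroup.upperCentralSeries G (N + 1)) ≤ p ^ (N + 1) := by
    have : p * p * Nat.card (Subgroup.upperCentralSeries G (N + 1)) ≤ p * p * p ^ (N + 1) := by
      calc _ = p * (p * Nat.card (Subgroup.upperCentralSeries G (N + 1))) := by ring
        _ ≤ p ^ (N + 3) := htop
        _ = p * p * p ^ (N + 1) := by ring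
    exact Nat.le_of_mul_le_mul_left this (Nat.mul_pos hpos hpos)
  apply le_antisymm
  · obtain ⟨j, hj⟩ : ∃ j, i + j = N + 1 := ⟨N + 1 - i, by omega⟩
    have h1 := chain i j (by omega)
    rw [hj] at h1
    have h2 := h1.trans hupper
    rw [← hj, pow_add, mul_comm (p ^ i)] at h2
    exact Nat.le_of_mul_le_mul_left h2 (pow_pos hpos j)
  · have h1 := chain 0 i (by omega)
    rw [Subgroup.upperCentralSeries_zero] at h1
    simp only [zero_add, Subgroup.card_bot, mul_one] at h1
    exact h1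

/-- the centralizer of the second centre is maximal -/
theorem central_max (hG : IsPGroup p G) (h1 : Nat.card (Subgroup.center G) = p)
    (h2 : Nat.card (Subgroup.upperCentralSeries G 2) = p ^ 2) :
    Subgroup.centralizer ((Subgroup.upperCentralSeries G 2 : Subgroup G) : Set G) ≠ ⊤ ∧
    ∀ Q : Subgroup G, Subgroup.centralizer ((Subgroup.upperCentralSeries G 2 : Subgroup G) : Set G) < Q → Q = ⊤ := by
  classical
  have hp := (Fact.out : p.Prime)
  have h01 : Subgroup.upperCentralSeries G 1 = Subgroup.center G := Subgroup.upperCentralSeries_one G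
  have hle : Subgroup.center G ≤ Subgroup.upperCentralSeries G 2 := by
    rw [← h01]
    exact Subgroup.upperCentralSeries_mono G (by omega)
  have hcard : Nat.card (Subgroup.center G) < Nat.card (Subgroup.upperCentralSeries G 2) := by
    rw [h1, h2]
    calc p = p ^ 1 := (pow_one p).symm
      _ < p ^ 2 := Nat.pow_lt_pow_right hp.one_lt (by norm_num)
  obtain ⟨u, hu2, hu⟩ : ∃ u ∈ Subgroup.upperCentralSeries G 2, u ∉ Subgroup.center G := by
    by_contra hc
    push_neg at hc
    exact absurd (Subgroup.card_le_of_le hc) (not_le.2 hcard)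
  have hcomm : ∀ x : G, x * u * x⁻¹ * u⁻¹ ∈ Subgroup.center G := by
    intro x
    have h3 := (Subgroup.mem_upperCentralSeries_succ_iff.1 hu2) x
    rw [h01] at h3
    have h4 := (Subgroup.center G).inv_mem h3
    have e : (u * x * u⁻¹ * x⁻¹)⁻¹ = x * u * x⁻¹ * u⁻¹ := by group
    rw [← e]
    exact h4
  -- all of `Z₂` is generated by `u` and the centre
  have hgen : Subgroup.upperCentralSeries G 2 ≤ Subgroup.zpowers u ⊔ Subgroup.center G := by
    have hlt : Subgroup.center G < Subgroup.zpowers u ⊔ Subgroup.center G := by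
      refine lt_of_le_of_ne le_sup_right ?_
      intro e
      apply hu
      rw [e]
      exact (le_sup_left : Subgroup.zpowers u ≤ _) (Subgroup.mem_zpowers u)
    have h3 := card_mul_le hG hlt
    rw [h1] at h3
    have hle2 : Subgroup.zpowers u ⊔ Subgroup.center G ≤ Subgroup.upperCentralSeries G 2 :=
      sup_le ((Subgroup.zpowers_le).2 hu2) hle
    have := Subgroup.eq_of_le_of_card_ge hle2 (by rw [h2, pow_two]; exact h3)
    exact this.ge
  have hcent : ∀ x : G, x * u = u * x → x ∈ Subgroup.centralizer ((Subgroup.upperCentralSeries G 2 : Subgroup G) : Set G) := by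
    intro x hx
    rw [Subgroup.mem_centralizer_iff]
    intro y hy
    have h3 : Subgroup.zpowers u ⊔ Subgroup.center G ≤ Subgroup.centralizer {x} := by
      refine sup_le ?_ ?_
      · rw [Subgroup.zpowers_le, Subgroup.mem_centralizer_iff]
        rintro _ rfl
        exact hx
      · intro z hz
        rw [Subgroup.mem_centralizer_iff]
        intro w hw
        rw [Set.mem_singleton_iff.1 hw]
        exact (Subgroup.mem_center_iff.1 hz x)
    have := h3 (hgen hy)
    rw [Subgroup.mem_centralizer_iff] at this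
    exact (this x (Set.mem_singleton x)).symm
  let f : G →* Subgroup.center G :=
    { toFun := fun x => ⟨x * u * x⁻¹ * u⁻¹, hcomm x⟩
      map_one' := by
        apply Subtype.ext
        show (1 : G) * u * 1⁻¹ * u⁻¹ = 1
        group
      map_mul' := by
        intro x y
        apply Subtype.ext
        show (x * y) * u * (x * y)⁻¹ * u⁻¹ = (x * u * x⁻¹ * u⁻¹) * (y * u * y⁻¹ * u⁻¹)
        have hc := Subgroup.mem_center_iff.1 (hcomm y) x
        have e : (x * y) * u * (x * y)⁻¹ * u⁻¹ = x * (y * u * y⁻¹ * u⁻¹) * x⁻¹ * (x * u * x⁻¹ * u⁻¹) := by group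
        rw [e, hc, mul_inv_cancel_right]
        exact (Subgroup.mem_center_iff.1 (hcomm y) _).symm }
  have hker : f.ker ≤ Subgroup.centralizer ((Subgroup.upperCentralSeries G 2 : Subgroup G) : Set G) := by
    intro x hx
    apply hcent
    have h3 : f x = 1 := hx
    have h4 : x * u * x⁻¹ * u⁻¹ = 1 := congrArg Subtype.val h3
    have := mul_inv_eq_one.1 h4
    exact mul_inv_eq_iff_eq_mul.1 this
  have hidx : f.ker.index ≤ p := by
    rw [Subgroup.index_ker]
    rw [← h1]
    exact Subgroup.card_le_card_group _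
  have hne : Subgroup.centralizer ((Subgroup.upperCentralSeries G 2 : Subgroup G) : Set G) ≠ ⊤ := by
    intro e
    apply hu
    rw [Subgroup.mem_center_iff]
    intro g
    have : g ∈ Subgroup.centralizer ((Subgroup.upperCentralSeries G 2 : Subgroup G) : Set G) := by
      rw [e]; trivial
    exact ((Subgroup.mem_centralizer_iff.1 this) u hu2).symm
  refine ⟨hne, fun Q hQ => ?_⟩
  have h3 := card_mul_le hG hQ
  have h4 : Nat.card G ≤ p * Nat.card ↥(Subgroup.centralizer ((Subgroup.upperCentralSeries G 2 : Subgroup G) : Set G)) := by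
    have h5 : Nat.card G = Nat.card f.ker * f.ker.index := (Subgroup.card_mul_index _).symm
    rw [h5, mul_comm]
    exact Nat.mul_le_mul hidx (Subgroup.card_le_of_le hker)
  apply Subgroup.eq_top_of_card_eq
  exact le_antisymm (Subgroup.card_le_card_group _) (h4.trans h3)

end grp

theorem normalizer_map {Ω : Type*} [Group Ω] {S : Subgroup Ω} (N : Subgroup ↥S) [hN : N.Normal] :
    S ≤ Subgroup.normalizer ((N.map S.subtype : Subgroup Ω) : Set Ω) := by
  intro g hg
  rw [Subgroup.mem_normalizer_iff]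
  intro y
  let g' : ↥S := ⟨g, hg⟩
  constructor
  · rintro ⟨a, ha, rfl⟩
    refine ⟨g' * a * g'⁻¹, hN.conj_mem a ha g', rfl⟩
  · rintro ⟨a, ha, e⟩
    have h3 := hN.conj_mem a ha g'⁻¹
    refine ⟨_, h3, ?_⟩
    have e' : (a : Ω) = g * y * g⁻¹ := e
    show g⁻¹ * (a : Ω) * g⁻¹⁻¹ = y
    rw [e']
    group

set_option maxHeartbeats 1000000 in
theorem main {Ω : Type*} [Group Ω] {S : Subgroup Ω} [Finite S] (p : ℕ) [Fact p.Prime] (hS : IsPGroup p ↥S) (n : ℕ) (hn : Nat.card S = p ^ n) (h4 : 4 ≤ n) (hmax : Subgroup.lowerCentralSeries S (n - 2) ≠ ⊥) (F : Cfsg.FusionSystem S) (hF : F.IsSaturated p)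
    (A Z : Subgroup Ω) (hA : A = (Subgroup.upperCentralSeries ↥S 2).map S.subtype) (hZ : Z = (Subgroup.center ↥S).map S.subtype)
    (φ : ↥A →* Ω) (hφ : φ ∈ F.Hom A) (hφZ : φ.range = A)
    (hmove : ∃ (z : Ω) (hz : z ∈ A), z ∈ Z ∧ φ ⟨z, hz⟩ ∉ Z) : F.IsEssential p (S ⊓ Subgroup.centralizer (A : Set Ω)) := by
  classical
  haveI hZn : (Subgroup.upperCentralSeries ↥S 2).Normal := inferInstance
  have hmax' : (⊤ : Subgroup ↥S).lowerCentralSeries (n - 2) ≠ ⊥ := by
    intro e
    apply hmax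
    have h3 := Subgroup.map_lowerCentralSeries (⊤ : Subgroup ↥S) S.subtype (n - 2)
    rw [e, Subgroup.map_bot, ← MonoidHom.range_eq_map, Subgroup.range_subtype] at h3
    exact h3.symm
  have hcn : Nat.card (Subgroup.center ↥S) = p := by
    have := card_ucs (G := ↥S) (p := p) hS hn (by omega) hmax' (i := 1) (by omega)
    rw [Subgroup.upperCentralSeries_one] at this
    simpa using this
  have h2n : Nat.card (Subgroup.upperCentralSeries ↥S 2) = p ^ 2 :=
    card_ucs (G := ↥S) (p := p) hS hn (by omega) hmax' (i := 2) (by omega)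
  obtain ⟨hne, hmaxl⟩ := central_max (G := ↥S) (p := p) hS hcn h2n
  have hAS : A ≤ S := by
    rw [hA]; exact Subgroup.map_subtype_le _
  have hZS : Z ≤ S := by
    rw [hZ]; exact Subgroup.map_subtype_le _
  have hAcomm : ∀ a ∈ A, ∀ b ∈ A, a * b = b * a := by
    rw [hA]
    rintro _ ⟨a, ha, rfl⟩ _ ⟨b, hb, rfl⟩
    have h3 := IsPGroup.commutative_of_card_eq_prime_sq (G := ↥(Subgroup.upperCentralSeries ↥S 2)) h2n ⟨a, ha⟩ ⟨b, hb⟩
    exact congrArg (fun z : ↥(Subgroup.upperCentralSeries ↥S 2) => ((z : ↥S) : Ω)) h3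
  have hSNA : S ≤ Subgroup.normalizer (A : Set Ω) := by
    rw [hA]; exact normalizer_map _
  set C : Subgroup Ω := S ⊓ Subgroup.centralizer (A : Set Ω) with hC
  have hCc : C = Cfsg.FusionSystem.centralizerIn S A := rfl
  have hCS : C ≤ S := inf_le_left
  have hAC : A ≤ C := fun a ha => ⟨hAS ha, Subgroup.mem_centralizer_iff.2 (fun b hb => hAcomm b hb a ha)⟩
  have hZA : Z ≤ A := by
    rw [hZ, hA]
    apply Subgroup.map_mono
    rw [← Subgroup.upperCentralSeries_one]
    exact Subgroup.upperCentralSeries_mono _ (by omega)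
  have hZC : Z ≤ C := hZA.trans hAC
  have hSNC : S ≤ Subgroup.normalizer (C : Set Ω) := by
    intro g hg
    rw [Subgroup.mem_normalizer_iff]
    have key : ∀ g ∈ S, ∀ y ∈ C, g * y * g⁻¹ ∈ C := by
      intro g hg y hy
      refine ⟨S.mul_mem (S.mul_mem hg hy.1) (S.inv_mem hg), Subgroup.mem_centralizer_iff.2 fun a ha => ?_⟩
      have h3 : g⁻¹ * a * g⁻¹⁻¹ ∈ A := (Subgroup.mem_normalizer_iff.1 (hSNA (S.inv_mem hg)) a).1 ha
      have h4 := (Subgroup.mem_centralizer_iff.1 hy.2) _ h3
      simp only [inv_inv] at h4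
      calc a * (g * y * g⁻¹) = g * ((g⁻¹ * a * g) * y) * g⁻¹ := by group
        _ = g * (y * (g⁻¹ * a * g)) * g⁻¹ := by rw [h4]
        _ = _ := by group
    intro y
    refine ⟨key g hg y, fun h => ?_⟩
    have := key g⁻¹ (S.inv_mem hg) _ h
    have e : g⁻¹ * (g * y * g⁻¹) * g⁻¹⁻¹ = y := by group
    rwa [e] at this
  have hFNC : F.IsFullyNormalized C := Cfsg.Agent.Lib.FusGT.fn_of_normalized hCS hSNC
  have hFNA : F.IsFullyNormalized A := Cfsg.Agent.Lib.FusGT.fn_of_normalized hAS hSNA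
  have hlt : C < S := by
    refine lt_of_le_of_ne hCS ?_
    intro e
    apply hne
    rw [eq_top_iff]
    intro g _
    have hg : (g : Ω) ∈ C := by rw [e]; exact g.2
    refine Subgroup.mem_centralizer_iff.2 fun a ha => ?_
    apply Subtype.ext
    exact (Subgroup.mem_centralizer_iff.1 hg.2) _ (by rw [hA]; exact ⟨a, ha, rfl⟩)
  have hmaxC : ∀ Q : Subgroup Ω, C < Q → Q ≤ S → Q = S := by
    intro Q hQ hQS
    have hlt' : Subgroup.centralizer ((Subgroup.upperCentralSeries ↥S 2 : Subgroup ↥S) : Set ↥S) < Q.subgroupOf S := by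
      obtain ⟨q, hq, hqC⟩ := SetLike.exists_of_lt hQ
      refine lt_of_le_of_ne ?_ ?_
      · intro y hy
        apply Subgroup.mem_subgroupOf.2
        apply hQ.le
        refine ⟨y.2, Subgroup.mem_centralizer_iff.2 ?_⟩
        rw [hA]
        rintro _ ⟨a, ha, rfl⟩
        exact congrArg Subtype.val ((Subgroup.mem_centralizer_iff.1 hy) a ha)
      · intro e
        have h3 : (⟨q, hQS hq⟩ : ↥S) ∈ Q.subgroupOf S := Subgroup.mem_subgroupOf.2 hq
        rw [← e] at h3
        apply hqC
        refine ⟨hQS hq, Subgroup.mem_centralizer_iff.2 ?_⟩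
        rw [hA]
        rintro _ ⟨a, ha, rfl⟩
        exact congrArg Subtype.val ((Subgroup.mem_centralizer_iff.1 h3) a ha)
    have h3 := hmaxl _ hlt'
    apply le_antisymm hQS
    intro s hs
    have : (⟨s, hs⟩ : ↥S) ∈ Q.subgroupOf S := by rw [h3]; trivial
    exact Subgroup.mem_subgroupOf.1 this
  rcases Cfsg.Agent.Lib.FusAlp.extGen_dichotomy F hS hF hlt hFNC with ⟨-, hgen⟩ | ⟨h, -⟩
  swap
  · exact h
  exfalso
  -- extension of φ to C
  have hRec := Cfsg.Agent.Lib.FusSat.receptive_of_fullyNormalized hS F hF hFNA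
  obtain ⟨ψ, hψ, hψx⟩ := hRec.2 A φ hφ hφZ
  have hCe : C ≤ Cfsg.FusionSystem.extender S A φ := Cfsg.Agent.Lib.FusBasic.centralizerIn_le_extender φ
  let α₀ : ↥C →* Ω := ψ.comp (Subgroup.inclusion hCe)
  have hα₀ : α₀ ∈ F.Hom C := Cfsg.Agent.Lib.FusBasic.res_mem F hCe hψ
  have hα₀A : ∀ (a : Ω) (ha : a ∈ A), α₀ ⟨a, hAC ha⟩ = φ ⟨a, ha⟩ := fun a ha => hψx a ha (hCe (hAC ha))
  have hα₀C : ∀ x : C, α₀ x ∈ C := by
    intro x
    refine ⟨Cfsg.Agent.Lib.FusBasic.val_mem F hα₀ x, Subgroup.mem_centralizer_iff.2 fun a ha => ?_⟩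
    have ha' : a ∈ φ.range := by rw [hφZ]; exact ha
    obtain ⟨b, rfl⟩ := ha'
    have hbC : (b : Ω) ∈ C := hAC b.2
    have e1 : φ b = α₀ ⟨b, hbC⟩ := (hα₀A b b.2).symm
    rw [e1, ← map_mul, ← map_mul]
    congr 1
    apply Subtype.ext
    exact ((Subgroup.mem_centralizer_iff.1 x.2.2) b b.2)
  haveI : Finite C := Cfsg.Agent.Lib.FusBasic.finite_of_le hCS
  have hα₀inj := Cfsg.Agent.Lib.FusBasic.inj F hα₀
  have hrange : α₀.range = C := by
    apply Subgroup.eq_of_le_of_card_ge
    · rintro _ ⟨x, rfl⟩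
      exact hα₀C x
    · exact (Nat.card_congr (MonoidHom.ofInjective hα₀inj).toEquiv).le
  let α : MulAut C := Cfsg.Agent.Lib.FusSat.isoOf α₀ hα₀inj hrange
  have hαv : ∀ x : C, ((α x : C) : Ω) = α₀ x := fun x => rfl
  have hαA : α ∈ F.autGroup C := by
    apply Cfsg.Agent.Lib.FusAut.mem_autGroup_of
    exact Cfsg.Agent.Lib.FusBasic.hom_congr F hα₀ (fun x => rfl)
  rw [← hgen] at hαA
  have hstab : ∀ x : C, (x : Ω) ∈ Z → ((α x : C) : Ω) ∈ Z := by
    refine Subgroup.closure_induction (p := fun β _ => ∀ x : C, (x : Ω) ∈ Z → ((β x : C) : Ω) ∈ Z ∧ ((β⁻¹ x : C) : Ω) ∈ Z) ?_ ?_ ?_ ?_ hαA |> fun h x hx => (h x hx).1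
    · rintro β ⟨Q, hCQ, θ, hθ, hβ⟩
      have hQS := Cfsg.Agent.Lib.FusBasic.src_le F hθ
      obtain rfl := hmaxC Q hCQ hQS
      have hθinj := Cfsg.Agent.Lib.FusBasic.inj F hθ
      have hθr : θ.range = Q := by
        apply Subgroup.eq_of_le_of_card_ge
        · rintro _ ⟨x, rfl⟩
          exact Cfsg.Agent.Lib.FusBasic.val_mem F hθ x
        · exact (Nat.card_congr (MonoidHom.ofInjective hθinj).toEquiv).le
      have hcent : ∀ z : C, (z : Ω) ∈ Z → ((β z : C) : Ω) ∈ Z := by
        intro z hz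
        rw [hZ] at hz ⊢
        obtain ⟨z', hz', ez⟩ := hz
        have e1 : ((β z : C) : Ω) = θ (Subgroup.inclusion hCQ.le z) := (hβ z).symm
        have hz2 : Subgroup.inclusion hCQ.le z = z' := Subtype.ext ez.symm
        rw [e1, hz2]
        refine ⟨⟨θ z', Cfsg.Agent.Lib.FusBasic.val_mem F hθ z'⟩, Subgroup.mem_center_iff.2 ?_, rfl⟩
        intro g
        apply Subtype.ext
        have hg : (g : Ω) ∈ θ.range := by rw [hθr]; exact g.2
        obtain ⟨g', hg'⟩ := hg
        show (g : Ω) * θ z' = θ z' * (g : Ω)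
        rw [← hg', ← map_mul, ← map_mul]
        congr 1
        exact Subgroup.mem_center_iff.1 hz' g'
      intro x hx
      refine ⟨hcent x hx, ?_⟩
      rw [hZ] at hx ⊢
      obtain ⟨z', hz', ez⟩ := hx
      set y := β⁻¹ x with hy
      have e2 : β y = x := by simp [hy]
      have e1 : (x : Ω) = θ (Subgroup.inclusion hCQ.le y) := by
        rw [← e2]
        exact (hβ y).symm
      -- `θ` reflects centrality
      refine ⟨⟨y, hCQ.le y.2⟩, Subgroup.mem_center_iff.2 ?_, rfl⟩
      intro g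
      apply hθinj
      have hyθ : θ ⟨y, hCQ.le y.2⟩ = z' := e1.symm.trans ez.symm
      show θ (g * ⟨y, hCQ.le y.2⟩) = θ (⟨y, hCQ.le y.2⟩ * g)
      rw [map_mul, map_mul, hyθ]
      exact congrArg Subtype.val (Subgroup.mem_center_iff.1 hz' ⟨θ g, Cfsg.Agent.Lib.FusBasic.val_mem F hθ g⟩)
    · intro x hx
      exact ⟨hx, hx⟩
    · intro a b _ _ ha hb x hx
      constructor
      · exact (ha _ (hb x hx).1).1
      · exact (hb _ (ha x hx).2).2
    · intro a _ ha x hx
      exact ⟨(ha x hx).2, by simpa using (ha x hx).1⟩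
  obtain ⟨z, hz, hzZ, hnot⟩ := hmove
  apply hnot
  have h3 := hstab ⟨z, hAC hz⟩ hzZ
  rw [hαv, hα₀A z hz] at h3
  exact h3

/-- Let p ≥ 5 be a prime, S a finite p-group of maximal class of order p^n with n ≥ 4, and F a saturated fusion system over S. If some map of F defined on the second centre Z₂(S) with image Z₂(S) does not carry Z(S) into itself, then the centralizer C_S(Z₂(S)) is an F-essential subgroup. -/
theorem result {Ω : Type*} [Group Ω] {S : Subgroup Ω} [Finite S] (p : ℕ) [Fact p.Prime] (hS : IsPGroup p ↥S) (n : ℕ) (hn : Nat.card S = p ^ n) (h4 : 4 ≤ n) (hmax : Subgroup.lowerCentralSeries S (n - 2) ≠ ⊥) (F : Cfsg.FusionSystem S) (hF : F.IsSaturated p) (hp : 5 ≤ p) (φ : ↥((Subgroup.upperCentralSeries ↥S 2).map S.subtype) →* Ω) (hφ : φ ∈ F.Hom ((Subgroup.upperCentralSeries ↥S 2).map S.subtype)) (hφZ : φ.range = ((Subgroup.upperCentralSeries ↥S 2).map S.subtype)) (hmove : ∃ (z : Ω) (hz : z ∈ ((Subgroup.upperCentralSeries ↥S 2).map S.subtype)), z ∈ ((Subgroup.center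 ↥S).map S.subtype) ∧ φ ⟨z, hz⟩ ∉ ((Subgroup.center ↥S).map S.subtype)) : F.IsEssential p (S ⊓ Subgroup.centralizer (((Subgroup.upperCentralSeries ↥S 2).map S.subtype) : Set Ω)) := by
  exact main p hS n hn h4 hmax F hF _ _ rfl rfl φ hφ hφZ hmove

end Cfsg.Agent.S5270
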