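import Cfsg.Statements.S5315
import Mathlib
import Cfsg.Agent.Lib.FusNorm2
import Cfsg.Agent.Lib.FusSolv

set_option autoImplicit false
open Cfsg

namespace Cfsg.Agent.S5315

open Cfsg.FusionSystem Cfsg.Agent.Lib.FusBasic Cfsg.Agent.Lib.FusAut Cfsg.Agent.Lib.FusSat Cfsg.Agent.Lib.FusNorm Cfsg.Agent.Lib.FusNorm2 Cfsg.Agent.Lib.FusFactor Cfsg.Agent.Lib.FusSurj Cfsg.Agent.Lib.FusSolv

/-- elements of a central subgroup are fixed by every map -/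
theorem central_fix {Ω : Type*} [Group Ω] {S : Subgroup Ω} {F : Cfsg.FusionSystem S} {Z : Subgroup Ω} (hZ : F.IsCentral Z)
    {A : Subgroup Ω} {ξ : A →* Ω} (hξ : ξ ∈ F.Hom A) (a : A) (ha : (a : Ω) ∈ Z) : ξ a = a := by
  obtain ⟨ψ, hψ, h1, h2⟩ := hZ.2 A ξ hξ
  rw [← h1 a]
  exact h2 ⟨a, ha⟩

theorem central_sc {Ω : Type*} [Group Ω] {S : Subgroup Ω} {F : Cfsg.FusionSystem S} {Z : Subgroup Ω} (hZ : F.IsCentral Z) : F.StronglyClosed Z := by
  refine ⟨hZ.1, fun R hR φ hφ x => ?_⟩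
  rw [central_fix hZ hφ x (hR x.2)]
  exact hR x.2

theorem central_comm {Ω : Type*} [Group Ω] {S : Subgroup Ω} {F : Cfsg.FusionSystem S} {Z : Subgroup Ω} (hZ : F.IsCentral Z)
    {s z : Ω} (hs : s ∈ S) (hz : z ∈ Z) : s * z = z * s := by
  have hle : Subgroup.zpowers z ≤ S := (Subgroup.zpowers_le).2 (hZ.1 hz)
  have h1 := F.conj_mem hle hs
  have h2 := central_fix hZ h1 ⟨z, Subgroup.mem_zpowers z⟩ hz
  have h3 : s * z * s⁻¹ = z := h2
  rw [mul_inv_eq_iff_eq_mul] at h3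
  exact h3

/-- the main argument -/
theorem center_factor_trivial {Ω : Type*} [Group Ω] {S : Subgroup Ω} [Finite S] {p : ℕ} [Fact p.Prime] (hS : IsPGroup p S) {F : Cfsg.FusionSystem S} (hF : F.IsSaturated p)
    (hperf : F.hyperfocalSubgroup p = S) {Ω' : Type*} [Group Ω'] {S' : Subgroup Ω'} {θ : S →* Ω'} {E : Cfsg.FusionSystem S'}
    (hE : F.IsFactorSystem F.center θ E) : E.center = ⊥ := by
  have hZc : F.IsCentral F.center := center_central F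
  set Z := F.center with hZdef
  have hZs : F.StronglyClosed Z := central_sc hZc
  have hZS : Z ≤ S := hZs.1
  have hmor := Cfsg.Agent.Lib.FusLift.factor_morphism hS F hF hZs θ E hE
  obtain ⟨-, hθ, hr, -⟩ := id hE
  haveI : Finite S' := by
    rw [← hr]
    exact Finite.of_surjective (θ.rangeRestrict) θ.rangeRestrict_surjective
  have hCc : E.IsCentral E.center := center_central E
  set C := E.center with hCdef
  set T := preimageAlong θ C with hTdef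
  have hTS : T ≤ S := preimage_le θ _
  haveI : Finite T := finite_of_le hTS
  have hTsc : F.StronglyClosed T := sc_preimage hS hF hZs hE (central_sc hCc)
  have hZT : Z ≤ T := le_preimage hZS hθ C
  -- the key commutation
  have hkey : ∀ t ∈ T, ∀ (P : Subgroup Ω) (hP : P ≤ S) (α : MulAut P) (hα : α ∈ F.autGroup P) (x : P),
      ((x : Ω)⁻¹ * ((α x : P) : Ω)) * t = t * ((x : Ω)⁻¹ * ((α x : P) : Ω)) := by
    intro t ht P hP α hα x
    have hφ := (mem_autGroup_iff F hP).1 hα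
    obtain ⟨φ', hφ', h1, hv, h2, he⟩ := hmor.1.2 P _ hφ
    obtain ⟨φ'', hφ'', e1, e2⟩ := hCc.2 _ φ' hφ'
    have hX'S := src_le E hφ''
    obtain ⟨φ₂, hφ₂, h3, hv2, h4, he2⟩ := hmor.2.2 _ hX'S φ'' hφ''
    have hPle : P ≤ preimageAlong θ (imageAlong θ P ⊔ C) := by
      intro y hy
      exact mem_preimage.2 ⟨hP hy, le_sup_left (b := C) ⟨⟨y, hP hy⟩, hy, rfl⟩⟩
    have hTle : T ≤ preimageAlong θ (imageAlong θ P ⊔ C) := by
      intro y hy
      obtain ⟨h0, h5⟩ := mem_preimage.1 hy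
      exact mem_preimage.2 ⟨h0, le_sup_right (a := imageAlong θ P) h5⟩
    -- values of `φ₂` on `x`
    have hx1 : θ ⟨φ₂ ⟨x, hPle x.2⟩, hv2 _⟩ = θ ⟨((α x : P) : Ω), hP (α x).2⟩ := by
      rw [← he2 ⟨x, hPle x.2⟩]
      have e3 : (⟨θ ⟨((⟨x, hPle x.2⟩ : preimageAlong θ (imageAlong θ P ⊔ C)) : Ω), h3 (hPle x.2)⟩, h4 ⟨x, hPle x.2⟩⟩ : ↥(imageAlong θ P ⊔ C)) = Subgroup.inclusion le_sup_left (⟨θ ⟨x, h1 x.2⟩, h2 x⟩ : imageAlong θ P) := rfl
      rw [e3, e1]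
      exact he x
    have ht1 : θ ⟨φ₂ ⟨t, hTle ht⟩, hv2 _⟩ = θ ⟨t, hTS ht⟩ := by
      obtain ⟨h0, h5⟩ := mem_preimage.1 ht
      rw [← he2 ⟨t, hTle ht⟩]
      have e3 : (⟨θ ⟨((⟨t, hTle ht⟩ : preimageAlong θ (imageAlong θ P ⊔ C)) : Ω), h3 (hTle ht)⟩, h4 ⟨t, hTle ht⟩⟩ : ↥(imageAlong θ P ⊔ C)) = Subgroup.inclusion le_sup_right (⟨θ ⟨t, h0⟩, h5⟩ : C) := rfl
      rw [e3, e2]
    -- differences lie in `Z`
    have hmemZ : ∀ (a b : S), θ a = θ b → (b : Ω)⁻¹ * (a : Ω) ∈ Z := by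
      intro a b hab
      refine (hθ (b⁻¹ * a)).1 ?_
      rw [map_mul, map_inv, hab]
      simp
    have hc1 := hmemZ _ _ hx1
    have hc2 := hmemZ _ _ ht1
    obtain ⟨c₁, hc₁⟩ : ∃ c₁, c₁ = ((α x : P) : Ω)⁻¹ * φ₂ ⟨x, hPle x.2⟩ := ⟨_, rfl⟩
    obtain ⟨c₂, hc₂⟩ : ∃ c₂, c₂ = t⁻¹ * φ₂ ⟨t, hTle ht⟩ := ⟨_, rfl⟩
    have hc1' : c₁ ∈ Z := by
      rw [hc₁]
      exact hc1
    have hc2' : c₂ ∈ Z := by
      rw [hc₂]
      exact hc2
    have hφx : φ₂ ⟨x, hPle x.2⟩ = ((α x : P) : Ω) * c₁ := by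
      rw [hc₁]
      group
    have hφt : φ₂ ⟨t, hTle ht⟩ = t * c₂ := by
      rw [hc₂]
      group
    -- commutator of `x` and `t`
    have hxS : (x : Ω) ∈ S := hP x.2
    have htS : t ∈ S := hTS ht
    have hcomm : (x : Ω) * t * (x : Ω)⁻¹ * t⁻¹ ∈ Z := by
      refine (hθ ⟨_, S.mul_mem (S.mul_mem (S.mul_mem hxS htS) (S.inv_mem hxS)) (S.inv_mem htS)⟩).1 ?_
      have e1 : (⟨(x : Ω) * t * (x : Ω)⁻¹ * t⁻¹, S.mul_mem (S.mul_mem (S.mul_mem hxS htS) (S.inv_mem hxS)) (S.inv_mem htS)⟩ : S) = ⟨x, hxS⟩ * ⟨t, htS⟩ * (⟨x, hxS⟩ : S)⁻¹ * (⟨t, htS⟩ : S)⁻¹ := rfl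
      rw [e1, map_mul, map_mul, map_mul, map_inv, map_inv]
      obtain ⟨h0, h5⟩ := mem_preimage.1 ht
      have hcen := central_comm hCc (hr.le ⟨⟨x, hxS⟩, rfl⟩) h5
      rw [hcen]
      group
    have hfix := central_fix hZc hφ₂ ⟨(x : Ω) * t * (x : Ω)⁻¹ * t⁻¹, (preimageAlong θ (imageAlong θ P ⊔ C)).mul_mem ((preimageAlong θ (imageAlong θ P ⊔ C)).mul_mem ((preimageAlong θ (imageAlong θ P ⊔ C)).mul_mem (hPle x.2) (hTle ht)) ((preimageAlong θ (imageAlong θ P ⊔ C)).inv_mem (hPle x.2))) ((preimageAlong θ (imageAlong θ P ⊔ C)).inv_mem (hTle ht))⟩ hcomm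
    have e5 : (⟨(x : Ω) * t * (x : Ω)⁻¹ * t⁻¹, (preimageAlong θ (imageAlong θ P ⊔ C)).mul_mem ((preimageAlong θ (imageAlong θ P ⊔ C)).mul_mem ((preimageAlong θ (imageAlong θ P ⊔ C)).mul_mem (hPle x.2) (hTle ht)) ((preimageAlong θ (imageAlong θ P ⊔ C)).inv_mem (hPle x.2))) ((preimageAlong θ (imageAlong θ P ⊔ C)).inv_mem (hTle ht))⟩ : preimageAlong θ (imageAlong θ P ⊔ C)) = ⟨x, hPle x.2⟩ * ⟨t, hTle ht⟩ * (⟨x, hPle x.2⟩ : preimageAlong θ (imageAlong θ P ⊔ C))⁻¹ * (⟨t, hTle ht⟩ : preimageAlong θ (imageAlong θ P ⊔ C))⁻¹ := rfl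
    rw [e5, map_mul, map_mul, map_mul, map_inv, map_inv, hφx, hφt] at hfix
    have hyS : ((α x : P) : Ω) ∈ S := hP (α x).2
    have hcen1 : ∀ s ∈ S, s * c₁ = c₁ * s := fun s hs => central_comm hZc hs hc1'
    have hcen2 : ∀ s ∈ S, s * c₂ = c₂ * s := fun s hs => central_comm hZc hs hc2'
    -- cancel the central elements
    have hsimp : ((α x : P) : Ω) * c₁ * (t * c₂) * (((α x : P) : Ω) * c₁)⁻¹ * (t * c₂)⁻¹ = ((α x : P) : Ω) * t * ((α x : P) : Ω)⁻¹ * t⁻¹ := by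
      have a1 : c₁ * t = t * c₁ := (hcen1 t htS).symm
      have a2 : c₂ * c₁ = c₁ * c₂ := by
        have := hcen1 c₂ (hZS hc2')
        exact this
      have a3 : c₁ * ((α x : P) : Ω)⁻¹ = ((α x : P) : Ω)⁻¹ * c₁ := (hcen1 _ (S.inv_mem hyS)).symm
      have a4 : c₂ * ((α x : P) : Ω)⁻¹ = ((α x : P) : Ω)⁻¹ * c₂ := (hcen2 _ (S.inv_mem hyS)).symm
      have a5 : c₁ * t⁻¹ = t⁻¹ * c₁ := (hcen1 _ (S.inv_mem htS)).symm
      have a6 : c₂ * t⁻¹ = t⁻¹ * c₂ := (hcen2 _ (S.inv_mem htS)).symm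
      calc ((α x : P) : Ω) * c₁ * (t * c₂) * (((α x : P) : Ω) * c₁)⁻¹ * (t * c₂)⁻¹
          = ((α x : P) : Ω) * (c₁ * t) * c₂ * c₁⁻¹ * ((α x : P) : Ω)⁻¹ * c₂⁻¹ * t⁻¹ := by group
        _ = ((α x : P) : Ω) * t * (c₁ * c₂) * c₁⁻¹ * ((α x : P) : Ω)⁻¹ * c₂⁻¹ * t⁻¹ := by rw [a1]; group
        _ = ((α x : P) : Ω) * t * (c₂ * c₁) * c₁⁻¹ * ((α x : P) : Ω)⁻¹ * c₂⁻¹ * t⁻¹ := by rw [a2]
        _ = ((α x : P) : Ω) * t * (c₂ * ((α x : P) : Ω)⁻¹) * c₂⁻¹ * t⁻¹ := by group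
        _ = ((α x : P) : Ω) * t * ((α x : P) : Ω)⁻¹ * t⁻¹ := by rw [a4]; group
    rw [hsimp] at hfix
    -- conclude
    have h9 : ((α x : P) : Ω) * t * ((α x : P) : Ω)⁻¹ = (x : Ω) * t * (x : Ω)⁻¹ := by
      have := congrArg (fun w => w * t) hfix
      simpa using this
    have h10 : ((x : Ω)⁻¹ * ((α x : P) : Ω)) * t * ((x : Ω)⁻¹ * ((α x : P) : Ω))⁻¹ = t := by
      have : ((x : Ω)⁻¹ * ((α x : P) : Ω)) * t * ((x : Ω)⁻¹ * ((α x : P) : Ω))⁻¹ = (x : Ω)⁻¹ * (((α x : P) : Ω) * t * ((α x : P) : Ω)⁻¹) * (x : Ω) := by group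
      rw [this, h9]
      group
    rw [mul_inv_eq_iff_eq_mul] at h10
    exact h10
  -- `T` is central in `S`
  have hTcen : ∀ t ∈ T, ∀ s ∈ S, s * t = t * s := by
    intro t ht s hs
    have hle : F.hyperfocalSubgroup p ≤ Subgroup.centralizer ({t} : Set Ω) := by
      rw [hyperfocalSubgroup, Subgroup.closure_le]
      rintro _ ⟨P, α, x, hP, -, rfl⟩
      refine Subgroup.mem_centralizer_iff.2 (fun y hy => ?_)
      rw [Set.mem_singleton_iff.1 hy]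
      exact (hkey t ht P hP α α.2 x).symm
    have h1 : s ∈ F.hyperfocalSubgroup p := by
      rw [hperf]
      exact hs
    exact (Subgroup.mem_centralizer_iff.1 (hle h1) t rfl).symm
  have hTab : ⁅T, T⁆ ≤ (⊥ : Subgroup Ω) := by
    rw [Subgroup.commutator_le]
    intro a ha b hb
    have h1 := hTcen b hb a (hTS ha)
    rw [Subgroup.mem_bot]
    show a * b * a⁻¹ * b⁻¹ = 1
    rw [h1]
    group
  have hTn : F.IsNormal T := normal_of_abelian_sc hS hF hTsc hTab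
  have hTFN : F.IsFullyNormalized T := by
    refine ⟨hTS, fun Q hQ => ?_⟩
    rw [normal_conj_eq hTn hQ]
  have hFA := fullyAutomized_of_fullyNormalized hS F hF hTFN
  have hTp : IsPGroup p T := hS.to_le hTS
  -- automorphisms of `T` are trivial modulo `Z`
  have hstab : ∀ α ∈ F.autGroup T, ∀ t : T, (t : Ω)⁻¹ * ((α t : T) : Ω) ∈ Z := by
    intro α hα t
    have hφ := (mem_autGroup_iff F hTS).1 hα
    obtain ⟨φ', hφ', h1, hv, h2, he⟩ := hmor.1.2 T _ hφ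
    obtain ⟨h0, h5⟩ := mem_preimage.1 t.2
    have h3 := central_fix hCc hφ' ⟨θ ⟨t, h1 t.2⟩, h2 t⟩ h5
    have h4 := he t
    rw [h3] at h4
    refine (hθ ⟨_, S.mul_mem (S.inv_mem (hTS t.2)) (hTS (α t).2)⟩).1 ?_
    have e1 : (⟨(t : Ω)⁻¹ * ((α t : T) : Ω), S.mul_mem (S.inv_mem (hTS t.2)) (hTS (α t).2)⟩ : S) = (⟨t, hTS t.2⟩ : S)⁻¹ * ⟨((α t : T) : Ω), hTS (α t).2⟩ := rfl
    rw [e1, map_mul, map_inv]
    have h6 : θ ⟨((α t : T) : Ω), hTS (α t).2⟩ = θ ⟨t, hTS t.2⟩ := h4.symm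
    rw [h6]
    simp
  have hcoprime : ∀ α ∈ F.autGroup T, (orderOf α).Coprime p → α = 1 := by
    intro α hα hco
    refine MulEquiv.ext (fun t => ?_)
    show α t = t
    apply aut_fix_step hTp hco
    have h1 := hstab α hα t
    have hφ := (mem_autGroup_iff F hTS).1 hα
    exact Subtype.ext (central_fix hZc hφ ⟨_, (⟨(t : Ω)⁻¹ * ((α t : T) : Ω), hZT h1⟩ : T).2⟩ h1)
  have hAp : IsPGroup p (F.autGroup T) := by
    apply isPGroup_of_coprime_one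
    exact hcoprime
  obtain ⟨-, R, hR⟩ := hFA
  have hRtop : (R : Subgroup ↥(F.autGroup T)) = ⊤ := (R.is_maximal' (hAp.to_subgroup ⊤) le_top).symm
  have hαtriv : ∀ α ∈ F.autGroup T, α = 1 := by
    intro α hα
    have h1 : (⟨α, hα⟩ : F.autGroup T) ∈ (autInducedBy S T).subgroupOf (F.autGroup T) := by
      rw [← hR, hRtop]
      trivial
    obtain ⟨g, hg, he⟩ := mem_autInducedBy'.1 h1
    refine MulEquiv.ext (fun t => Subtype.ext ?_)
    show ((α t : T) : Ω) = t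
    have h2 : ((α t : T) : Ω) = g * (t : Ω) * g⁻¹ := he t
    rw [h2, hTcen t t.2 g hg]
    group
  -- `T` is central in `F`
  have hTcentral : F.IsCentral T := by
    refine (central_iff hS F hF T).2 ⟨hTS, ?_⟩
    rintro x hx y ⟨φ, hφ, rfl⟩
    have hle : Subgroup.zpowers x ≤ T := (Subgroup.zpowers_le).2 hx
    obtain ⟨α, hα, he⟩ := (normal_iff_ext hS F hF hTS).1 hTn _ hle φ hφ
    rw [← he, hαtriv α hα]
    rfl
  have hTZ : T ≤ Z := le_sSup hTcentral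
  rw [eq_bot_iff]
  intro y hy
  have hy2 : y ∈ θ.range := by
    rw [hr]
    exact hCc.1 hy
  obtain ⟨s, rfl⟩ := hy2
  have h1 : (s : Ω) ∈ T := mem_preimage.2 ⟨s.2, hy⟩
  rw [(hθ s).2 (hTZ h1)]
  exact Subgroup.one_mem _

/-- An analogue of Grün's lemma for fusion systems. Let F be a saturated fusion system over a finite p-group S that is perfect in the sense that its hyperfocal subgroup is all of S (F coincides with its p-residual subsystem). Then the second centre of F equals its centre: every fusion system over S/(Z(F) ∩ S) that is the factor system of F modulo its centre Z(F), read through the quotient map, has trivial centre. -/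
theorem result {Ω : Type*} [Group Ω] {S : Subgroup Ω} [Finite S] (p : ℕ) [Fact p.Prime] (hS : IsPGroup p S) (F : Cfsg.FusionSystem S) (hF : F.IsSaturated p)
    (hperf : F.hyperfocalSubgroup p = S)
    (E : Cfsg.FusionSystem (⊤ : Subgroup (↥S ⧸ (F.center).subgroupOf S)))
    (hE : F.IsFactorSystem F.center (QuotientGroup.mk' ((F.center).subgroupOf S)) E) : E.center = ⊥ := by
  exact center_factor_trivial hS hF hperf hE


end Cfsg.Agent.S5315
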