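import Cfsg.Statements.S5294
import Mathlib
import Cfsg.Agent.Lib.FusSolv
import Cfsg.Agent.Lib.FusNorm2
import Cfsg.Agent.S5315

set_option autoImplicit false
universe u
open Cfsg

namespace Cfsg.Agent.S5294

open Cfsg.FusionSystem Cfsg.Agent.Lib.FusBasic Cfsg.Agent.Lib.FusAut Cfsg.Agent.Lib.FusSat Cfsg.Agent.Lib.FusNorm Cfsg.Agent.Lib.FusNorm2 Cfsg.Agent.Lib.FusSolv

section Abstract
variable {G V : Type*} [Group G] [Finite G] [CommGroup V] [Finite V]

/-- the fixed points of a subgroup in a comm. group -/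
def fixOf (act : G →* MulAut V) (H : Subgroup G) : Subgroup V where
  carrier := {v | ∀ b ∈ H, act b v = v}
  one_mem' := fun b _ => map_one _
  mul_mem' := fun {a c} ha hc b hb => by rw [map_mul, ha b hb, hc b hb]
  inv_mem' := fun {a} ha b hb => by rw [map_inv, ha b hb]

theorem mem_fixOf {act : G →* MulAut V} {H : Subgroup G} {v : V} :
    v ∈ fixOf act H ↔ ∀ b ∈ H, act b v = v := Iff.rfl

/-- complement of the fixed points: the trace argument -/
theorem exists_complement (act : G →* MulAut V) (P : Subgroup G) (hco : Nat.Coprime P.index (Nat.card V)) :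
    ∃ K : Subgroup V, K ≤ fixOf act P ∧ fixOf act ⊤ ⊓ K = ⊥ ∧ fixOf act ⊤ ⊔ K = fixOf act P := by
  classical
  letI : Fintype (G ⧸ P) := Fintype.ofFinite _
  let tr : V →* V :=
    { toFun := fun v => ∏ q : G ⧸ P, act q.out v
      map_one' := by simp
      map_mul' := fun a b => by
        simp only [map_mul]
        exact Finset.prod_mul_distrib }
  have htr : ∀ v, tr v = ∏ q : G ⧸ P, act q.out v := fun _ => rfl
  have hfix : ∀ z ∈ fixOf act P, ∀ (g : G) (q : G ⧸ P), act g (act q.out z) = act (g • q).out z := by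
    intro z hz g q
    have h1 : (((g • q).out : G)⁻¹ * (g * q.out)) ∈ P := by
      rw [← QuotientGroup.eq, QuotientGroup.out_eq']
      show g • q = g • ((q.out : G) : G ⧸ P)
      rw [QuotientGroup.out_eq']
    have h2 : g * q.out = (g • q).out * ((g • q).out⁻¹ * (g * q.out)) := by group
    have h3 : act g (act q.out z) = act (g * q.out) z := by rw [map_mul]; rfl
    rw [h3, h2, map_mul]
    show act (g • q).out (act ((g • q).out⁻¹ * (g * q.out)) z) = _
    rw [hz _ h1]
  have htrfix : ∀ z ∈ fixOf act P, tr z ∈ fixOf act ⊤ := by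
    intro z hz g _
    rw [htr, map_prod]
    simp only [hfix z hz g]
    exact Equiv.prod_comp (MulAction.toPerm g : Equiv.Perm (G ⧸ P)) (fun q => act q.out z)
  have htrY : ∀ y ∈ fixOf act ⊤, tr y = y ^ P.index := by
    intro y hy
    rw [htr, Finset.prod_congr rfl (fun q _ => hy q.out trivial), Finset.prod_const, Finset.card_univ,
      Subgroup.index, Nat.card_eq_fintype_card]
  have hYP : fixOf act ⊤ ≤ fixOf act P := fun y hy b _ => hy b trivial
  refine ⟨fixOf act P ⊓ tr.ker, inf_le_left, ?_, ?_⟩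
  · rw [eq_bot_iff]
    rintro v ⟨hv, hvP, hvk⟩
    have h1 : v ^ P.index = 1 := by
      rw [← htrY v hv]
      exact hvk
    have h2 : v ^ Nat.card V = 1 := pow_card_eq_one'
    have h3 := pow_gcd_eq_one.2 ⟨h1, h2⟩
    rw [hco.gcd_eq_one, pow_one] at h3
    exact h3
  · apply le_antisymm
    · exact sup_le hYP inf_le_left
    · intro z hz
      rcases subsingleton_or_nontrivial V with hsub | hnt
      · rw [Subsingleton.elim z 1]
        exact Subgroup.one_mem _
      obtain ⟨m, -, hm⟩ := Nat.exists_mul_mod_eq_one_of_coprime hco Finite.one_lt_card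
      have htz := htrfix z hz
      let y := tr z ^ m
      have hyY : y ∈ fixOf act ⊤ := Subgroup.pow_mem _ htz m
      have hty : tr y = tr z := by
        rw [htrY y hyY]
        show (tr z ^ m) ^ P.index = tr z
        rw [← pow_mul, mul_comm m, pow_eq_pow_mod _ (pow_card_eq_one' (x := tr z)), hm, pow_one]
      have hk : y⁻¹ * z ∈ fixOf act P ⊓ tr.ker := by
        refine ⟨Subgroup.mul_mem _ (Subgroup.inv_mem _ (hYP hyY)) hz, ?_⟩
        show tr (y⁻¹ * z) = 1
        rw [map_mul, map_inv, hty]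
        simp
      have : z = y * (y⁻¹ * z) := by group
      rw [this]
      exact Subgroup.mul_mem _ (Subgroup.mem_sup_left hyY) (Subgroup.mem_sup_right hk)

end Abstract

section Main
variable {Ω : Type*} [Group Ω]

/-- action of automorphisms on the center -/
noncomputable def actOf (Q : Subgroup Ω) (A : Subgroup (MulAut Q)) : A →* MulAut (Subgroup.center Q) where
  toFun a := Subgroup.centerCongr (a : MulAut Q)
  map_one' := rfl
  map_mul' _ _ := rfl

theorem actOf_val (Q : Subgroup Ω) (A : Subgroup (MulAut Q)) (a : A) (v : Subgroup.center Q) :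
    (actOf Q A a v : Q) = (a : MulAut Q) v := rfl

end Main

/-- Let F be a saturated fusion system over a finite p-group S whose centre Z(S) lies in the largest subgroup O_p(F) normal in F. Then the centre Z(F) of F is a direct factor of Z(S): there is a subgroup K of Z(S) with Z(F) ∩ K = 1 and Z(F)K = Z(S). -/
theorem result {Ω : Type u} [Group Ω] {S : Subgroup Ω} [Finite S] (p : ℕ) [Fact p.Prime] (hS : IsPGroup p S)
    (F : Cfsg.FusionSystem S) (hF : F.IsSaturated p) (hZ : (S ⊓ Subgroup.centralizer (S : Set Ω)) ≤ F.core) :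
    ∃ K : Subgroup Ω, K ≤ (S ⊓ Subgroup.centralizer (S : Set Ω)) ∧ F.center ⊓ K = ⊥ ∧ F.center ⊔ K = (S ⊓ Subgroup.centralizer (S : Set Ω)) := by
  obtain ⟨Q, hQdef⟩ : ∃ Q, Q = F.core := ⟨_, rfl⟩
  have hQn : F.IsNormal Q := hQdef ▸ core_normal F
  have hQS : Q ≤ S := hQn.1
  haveI : Finite Q := finite_of_le hQS
  have hZQ : (S ⊓ Subgroup.centralizer (S : Set Ω)) ≤ Q := hQdef ▸ hZ
  have hFN : F.IsFullyNormalized Q := by
    refine ⟨hQS, fun R hR => ?_⟩
    rw [normal_conj_eq hQn hR]
  obtain ⟨-, B, hB⟩ := fullyAutomized_of_fullyNormalized hS F hF hFN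
  let ι : Subgroup.center Q →* Ω := Q.subtype.comp (Subgroup.center Q).subtype
  have hι : Function.Injective ι := fun a b h => Subtype.ext (Subtype.ext h)
  haveI : Finite (F.autGroup Q) := inferInstance
  have hQp : IsPGroup p Q := hS.to_le hQS
  have hVp : IsPGroup p (Subgroup.center Q) := hQp.to_subgroup _
  have hco : Nat.Coprime ((autInducedBy S Q).subgroupOf (F.autGroup Q)).index (Nat.card (Subgroup.center Q)) := by
    rw [← hB]
    obtain ⟨k, hk⟩ := IsPGroup.iff_card.1 hVp
    rw [hk]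
    exact Nat.Coprime.pow_right k ((Nat.Prime.coprime_iff_not_dvd (Fact.out)).2 B.not_dvd_index).symm
  letI : CommGroup (Subgroup.center Q) :=
    { (inferInstance : Group (Subgroup.center Q)) with
      mul_comm := fun a b => Subtype.ext (a.2.comm b.1) }
  obtain ⟨K, hK1, hK2, hK3⟩ := exists_complement (actOf Q (F.autGroup Q)) _ hco
  have hPmap : (fixOf (actOf Q (F.autGroup Q)) ((autInducedBy S Q).subgroupOf (F.autGroup Q))).map ι = S ⊓ Subgroup.centralizer (S : Set Ω) := by
    apply le_antisymm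
    · rintro _ ⟨v, hv, rfl⟩
      refine ⟨hQS (v : Q).2, ?_⟩
      refine Subgroup.mem_centralizer_iff.2 ?_
      intro s hs
      have hn := sc_normalizer F (stronglyClosed_of_normal F hQn) hs
      have h1 : cAut Q ⟨s, hn⟩ ∈ autInducedBy S Q := mem_autInducedBy'.2 ⟨s, hs, fun _ => rfl⟩
      have h2 := autInduced_le_autGroup F hQS h1
      have h3 := hv ⟨_, h2⟩ h1
      have h4 : s * ι v * s⁻¹ = ι v := congrArg (fun z : Subgroup.center Q => ((z : Q) : Ω)) h3
      rw [mul_inv_eq_iff_eq_mul] at h4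
      exact h4
    · intro z hz
      have hzQ := hZQ hz
      have hc : (⟨z, hzQ⟩ : Q) ∈ Subgroup.center Q := by
        rw [Subgroup.mem_center_iff]
        intro g
        exact Subtype.ext ((Subgroup.mem_centralizer_iff.1 hz.2) g (hQS g.2))
      refine ⟨⟨⟨z, hzQ⟩, hc⟩, ?_, rfl⟩
      rintro ⟨b, hb⟩ hb'
      obtain ⟨g, hg, he⟩ := mem_autInducedBy'.1 hb'
      refine Subtype.ext (Subtype.ext ?_)
      refine (he ⟨z, hzQ⟩).trans ?_
      show g * z * g⁻¹ = z
      rw [(Subgroup.mem_centralizer_iff.1 hz.2) g hg]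
      group
  have hGmap : (fixOf (actOf Q (F.autGroup Q)) ⊤).map ι = F.center := by
    apply le_antisymm
    · apply le_sSup
      refine (central_iff hS F hF _).2 ⟨?_, ?_⟩
      · rintro _ ⟨v, -, rfl⟩
        exact hQS (v : Q).2
      · rintro _ ⟨v, hv, rfl⟩ y ⟨φ, hφ, rfl⟩
        have hle : Subgroup.zpowers (ι v) ≤ Q := (Subgroup.zpowers_le).2 (v : Q).2
        obtain ⟨α, hα, he⟩ := (normal_iff_ext hS F hF hQS).1 hQn _ hle φ hφ
        rw [← he]
        have h3 := hv ⟨α, hα⟩ trivial
        exact congrArg (fun z : Subgroup.center Q => ((z : Q) : Ω)) h3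
    · intro x hx
      have hC := center_central F
      have hxS : x ∈ S := hC.1 hx
      have hxZ : x ∈ S ⊓ Subgroup.centralizer (S : Set Ω) := by
        refine ⟨hxS, Subgroup.mem_centralizer_iff.2 fun s hs => ?_⟩
        exact Cfsg.Agent.S5315.central_comm hC hs hx
      have hzQ := hZQ hxZ
      have hc : (⟨x, hzQ⟩ : Q) ∈ Subgroup.center Q := by
        rw [Subgroup.mem_center_iff]
        intro g
        exact Subtype.ext ((Subgroup.mem_centralizer_iff.1 hxZ.2) g (hQS g.2))
      refine ⟨⟨⟨x, hzQ⟩, hc⟩, ?_, rfl⟩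
      rintro ⟨b, hb⟩ -
      refine Subtype.ext (Subtype.ext ?_)
      have hφ := (mem_autGroup_iff F hQS).1 hb
      exact Cfsg.Agent.S5315.central_fix hC hφ ⟨x, hzQ⟩ hx
  refine ⟨K.map ι, ?_, ?_, ?_⟩
  · rw [← hPmap]
    exact Subgroup.map_mono hK1
  · rw [← hGmap, ← Subgroup.map_inf _ _ _ hι, hK2, Subgroup.map_bot]
  · rw [← hGmap, ← Subgroup.map_sup, hK3, hPmap]


end Cfsg.Agent.S5294
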