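import Cfsg.Statements.S5299
import Mathlib
import Cfsg.Agent.Lib.FusFactor
import Cfsg.Agent.Lib.FusAut
import Cfsg.Agent.Lib.SylowTools

set_option autoImplicit false
universe u
open Cfsg

namespace Cfsg.Agent.S5299

open Cfsg.Agent.Lib.FusBasic Cfsg.Agent.Lib.FusFactor Cfsg.Agent.Lib.FusAut Cfsg.FusionSystem

universe w1 w2 w3

theorem involves_of_surj_inj {A : Type*} [Group A] {Q : Type w1} [Group Q] {G : Type w2} [Group G] (f : A →* Q) (hf : Function.Surjective f)
    (j : A →* G) (hj : Function.Injective j) : Cfsg.Involves Q G := by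
  let f' : j.range →* Q := f.comp (MonoidHom.ofInjective hj).symm.toMonoidHom
  have hf' : Function.Surjective f' := by
    intro y
    obtain ⟨a, rfl⟩ := hf y
    refine ⟨MonoidHom.ofInjective hj a, ?_⟩
    show f ((MonoidHom.ofInjective hj).symm (MonoidHom.ofInjective hj a)) = f a
    rw [MulEquiv.symm_apply_apply]
  have hR : (f'.ker.map j.range.subtype).subgroupOf j.range = f'.ker := by
    ext x
    constructor
    · rintro ⟨y, hy, e⟩
      have : y = x := Subtype.ext e
      rw [← this]
      exact hy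
    · intro hx
      exact ⟨x, hx, rfl⟩
  haveI hN : ((f'.ker.map j.range.subtype).subgroupOf j.range).Normal := by
    rw [hR]
    infer_instance
  refine ⟨j.range, f'.ker.map j.range.subtype, hN, ?_⟩
  exact ⟨(QuotientGroup.quotientMulEquivOfEq hR).trans (QuotientGroup.quotientKerEquivOfSurjective f' hf')⟩

/-- Let F be a saturated fusion system over a finite p-group S, H a finite group and Q a p-subgroup of H. If Q is not involved in S (no section of S is isomorphic to Q), then F is H-free: H is involved in no model of the normalizer system of a fully normalized centric subgroup. -/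
theorem result {Ω : Type u} [Group Ω] {S : Subgroup Ω} [Finite S] (p : ℕ) [Fact p.Prime] (hS : IsPGroup p S)
    (F : Cfsg.FusionSystem S) (hF : F.IsSaturated p) (H : Type*) [Group H] [Finite H] (Q : Subgroup H) (hQ : IsPGroup p Q)
    (hfree : ¬ Cfsg.Involves (↥Q) (↥S)) : F.IsSectionFree p H := by
  intro R hRn hRc N hN L _ ι hmodel hinv
  apply hfree
  obtain ⟨hfinL, ⟨hιinj, -⟩, ⟨T, hT⟩, -⟩ := hmodel
  obtain ⟨K, D, hD, ⟨e⟩⟩ := hinv
  let π : K →* H := e.toMonoidHom.comp (QuotientGroup.mk' (D.subgroupOf K))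
  have hπ : Function.Surjective π := by
    intro y
    obtain ⟨x, hx⟩ := QuotientGroup.mk'_surjective (D.subgroupOf K) (e.symm y)
    refine ⟨x, ?_⟩
    show e (QuotientGroup.mk' (D.subgroupOf K) x) = y
    rw [hx, MulEquiv.apply_symm_apply]
  let K₀ : Subgroup K := Q.comap π
  let π₀ : K₀ →* Q := (π.comp K₀.subtype).codRestrict Q (fun x => x.2)
  have hπ₀ : Function.Surjective π₀ := by
    rintro ⟨y, hy⟩
    obtain ⟨x, rfl⟩ := hπ y
    exact ⟨⟨x, hy⟩, rfl⟩
  obtain P₀ : Sylow p K₀ := Classical.choice inferInstance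
  have hsurj : Function.Surjective (π₀.comp (P₀ : Subgroup K₀).subtype) := by
    have h1 : IsPGroup p ((P₀ : Subgroup K₀).map π₀) := P₀.isPGroup'.map _
    let P₁ := P₀.mapSurjective hπ₀
    have h2 : (P₁ : Subgroup Q) = ⊤ := by
      have h3 : IsPGroup p (⊤ : Subgroup Q) := hQ.of_injective (⊤ : Subgroup Q).subtype Subtype.coe_injective
      exact P₁.is_maximal' h3 le_top |>.symm
    intro y
    have hy : y ∈ (P₁ : Subgroup Q) := by
      rw [h2]
      trivial
    rw [Sylow.coe_mapSurjective] at hy
    obtain ⟨x, hx, e1⟩ := hy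
    exact ⟨⟨x, hx⟩, e1⟩
  -- embed `P₀` in `L`
  let a : (P₀ : Subgroup K₀) →* L := K.subtype.comp (K₀.subtype.comp (P₀ : Subgroup K₀).subtype)
  have ha : Function.Injective a := by
    intro x y hxy
    exact Subtype.ext (Subtype.ext (Subtype.ext hxy))
  have hWp : IsPGroup p a.range := by
    have : IsPGroup p (P₀ : Subgroup K₀) := P₀.isPGroup'
    exact this.of_surjective a.rangeRestrict (MonoidHom.rangeRestrict_surjective a)
  obtain ⟨g, hg⟩ := Cfsg.Agent.Lib.SylowTools.exists_conj_le_sylow T hWp
  let b : (P₀ : Subgroup K₀) →* L := (MulAut.conj g).toMonoidHom.comp a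
  have hb : ∀ x, b x ∈ ι.range := fun x => by
    rw [← hT]
    exact hg ⟨a x, ⟨x, rfl⟩, rfl⟩
  let c : (P₀ : Subgroup K₀) →* ι.range := b.codRestrict _ hb
  let d : (P₀ : Subgroup K₀) →* ↥(normalizerIn S R) := (MonoidHom.ofInjective hιinj).symm.toMonoidHom.comp c
  have hle : normalizerIn S R ≤ S := inf_le_left
  let j : (P₀ : Subgroup K₀) →* S := (Subgroup.inclusion hle).comp d
  have hj : Function.Injective j := by
    intro x y hxy
    have h1 : d x = d y := Subgroup.inclusion_injective hle hxy
    have h2 : c x = c y := (MonoidHom.ofInjective hιinj).symm.injective h1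
    have h3 : b x = b y := congrArg Subtype.val h2
    have h4 : a x = a y := (MulAut.conj g).injective h3
    exact ha h4
  exact involves_of_surj_inj _ hsurj j hj

end Cfsg.Agent.S5299
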