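import Cfsg.Statements.S5343
import Mathlib
import Cfsg.Agent.Lib.FusNSub

set_option autoImplicit false
universe u
open Cfsg

namespace Cfsg.Agent.S5343


open Cfsg Cfsg.FusionSystem Cfsg.Agent.Lib.FusBasic Cfsg.Agent.Lib.FusAut Cfsg.Agent.Lib.FusSat Cfsg.Agent.Lib.FusNorm
  Cfsg.Agent.Lib.FusFactor Cfsg.Agent.Lib.FusSolv Cfsg.Agent.Lib.H1Core Cfsg.Agent.Lib.FusReal Cfsg.Agent.Lib.FusReal2
  Cfsg.Agent.Lib.FusGroup Cfsg.Agent.Lib.FusGT Cfsg.Agent.Lib.SylowTools Cfsg.Agent.Lib.FusLift Cfsg.Agent.Lib.FusNSub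

variable {Ω : Type u} [Group Ω] {S : Subgroup Ω} {F : FusionSystem S} {G : Type u} [Group G] {ι : S →* G} {p : ℕ} [Fact p.Prime]

/-- the system of a normal subgroup exists -/
theorem exists_subSys (hr : F.IsRealizedBy ι) (H : Subgroup G) [hHn : H.Normal] {T : Subgroup Ω}
    (hT : ∀ x, x ∈ T ↔ ∃ h : x ∈ S, ι ⟨x, h⟩ ∈ H) : ∃ E : FusionSystem T, IsSubSys ι H E := by
  classical
  have hTS : T ≤ S := fun x hx => ((hT x).1 hx).1
  have hinj : ∀ {P : Subgroup Ω} {φ : P →* Ω}, (∃ (hP : P ≤ S) (hv : ∀ x, φ x ∈ S), P ≤ T ∧ (∀ x, φ x ∈ T) ∧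
              ∃ g ∈ H, ∀ x : P, ι ⟨φ x, hv x⟩ = g * ι ⟨x, hP x.2⟩ * g⁻¹) → Function.Injective φ := by
    rintro P φ ⟨hP, hv, h1, h2, g, hg, he⟩ a b e
    have e1 : (⟨φ a, hv a⟩ : S) = ⟨φ b, hv b⟩ := Subtype.ext e
    have e2 := congrArg ι e1
    rw [he, he] at e2
    have e3 : ι ⟨a, hP a.2⟩ = ι ⟨b, hP b.2⟩ := mul_left_cancel (mul_right_cancel e2)
    have e4 := hr.1 e3
    exact Subtype.ext (congrArg (fun z : S => (z : Ω)) e4)
  refine ⟨{ Hom := fun P => {φ | ∃ (hP : P ≤ S) (hv : ∀ x, φ x ∈ S), P ≤ T ∧ (∀ x, φ x ∈ T) ∧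
              ∃ g ∈ H, ∀ x : P, ι ⟨φ x, hv x⟩ = g * ι ⟨x, hP x.2⟩ * g⁻¹}
            le_of_mem := ?_
            injective_of_mem := fun h => hinj h
            conj_mem := ?_
            comp_mem := ?_
            inv_mem := ?_ }, fun P φ => Iff.rfl⟩
  · rintro P φ ⟨hP, hv, h1, h2, -⟩
    exact ⟨h1, h2⟩
  · intro P g hP hg
    have hgS := hTS hg
    have hv : ∀ x : P, (conjHom P g) x ∈ T := fun x => T.mul_mem (T.mul_mem hg (hP x.2)) (T.inv_mem hg)
    refine ⟨hP.trans hTS, fun x => hTS (hv x), hP, hv, ι ⟨g, hgS⟩, ((hT _).1 hg).2, fun x => ?_⟩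
    have e : (⟨(conjHom P g) x, hTS (hv x)⟩ : S) = ⟨g, hgS⟩ * ⟨x, hTS (hP x.2)⟩ * ⟨g, hgS⟩⁻¹ := rfl
    rw [e, map_mul, map_mul, map_inv]
  · rintro P Q φ ψ ⟨hP, hv, h1, h2, g, hg, he⟩ ⟨hQ, hw, h3, h4, k, hk, he'⟩ h
    refine ⟨hP, fun x => hw _, h1, fun x => h4 _, k * g, Subgroup.mul_mem _ hk hg, fun x => ?_⟩
    have e1 := he' (φ.codRestrict Q h x)
    have e2 : ι ⟨((φ.codRestrict Q h x : Q) : Ω), hQ (h x)⟩ = g * ι ⟨x, hP x.2⟩ * g⁻¹ := he x
    rw [e2] at e1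
    refine e1.trans ?_
    group
  · intro P φ hφ
    have hφi := hinj hφ
    obtain ⟨hP, hv, h1, h2, g, hg, he⟩ := hφ
    have hrS : φ.range ≤ S := by
      rintro _ ⟨x, rfl⟩
      exact hv x
    have hrT : φ.range ≤ T := by
      rintro _ ⟨x, rfl⟩
      exact h2 x
    let e := MonoidHom.ofInjective hφi
    have hee : ∀ x : P, e.symm ⟨φ x, ⟨x, rfl⟩⟩ = x := fun x => e.symm_apply_apply x
    refine ⟨P.subtype.comp e.symm.toMonoidHom, ⟨hrS, fun y => hP (e.symm y).2, hrT, fun y => h1 (e.symm y).2, g⁻¹, Subgroup.inv_mem _ hg, ?_⟩, fun x => ?_⟩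
    · rintro ⟨_, x, rfl⟩
      have e2 : (⟨((e.symm ⟨φ x, ⟨x, rfl⟩⟩ : P) : Ω), hP (e.symm _).2⟩ : S) = ⟨x, hP x.2⟩ :=
        Subtype.ext (congrArg (fun z : P => (z : Ω)) (hee x))
      show ι ⟨((e.symm ⟨φ x, ⟨x, rfl⟩⟩ : P) : Ω), hP (e.symm _).2⟩ = g⁻¹ * ι ⟨φ x, hv x⟩ * g⁻¹⁻¹
      rw [e2, he x]
      group
    · exact congrArg (fun z : P => (z : Ω)) (hee x)

/-- quotient by a normal subgroup meeting the Sylow subgroup trivially -/
theorem realized_quot [Finite G] (hr : F.IsRealizedBy ι) (T₀ : Sylow p G) (hT₀ : (T₀ : Subgroup G) = ι.range)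
    (H : Subgroup G) [hHn : H.Normal] (hH : ∀ y ∈ ι.range, y ∈ H → y = 1) :
    F.IsRealizedBy ((QuotientGroup.mk' H).comp ι) := by
  classical
  refine ⟨?_, fun P hP φ hv => ?_⟩
  · rw [injective_iff_map_eq_one]
    intro a ha
    have h1 : ι a ∈ H := (QuotientGroup.eq_one_iff _).1 ha
    have h2 := hH _ ⟨a, rfl⟩ h1
    exact hr.1 (h2.trans (map_one ι).symm)
  rw [hr.2 P hP φ hv]
  constructor
  · rintro ⟨g, hg⟩
    refine ⟨QuotientGroup.mk g, fun x => ?_⟩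
    show QuotientGroup.mk (ι _) = _
    rw [hg]
    rfl
  · rintro ⟨gb, hg⟩
    obtain ⟨g, rfl⟩ := QuotientGroup.mk'_surjective H gb
    have hcong : ∀ x : P, (ι ⟨φ x, hv x⟩)⁻¹ * (g * ι ⟨x, hP x.2⟩ * g⁻¹) ∈ H := by
      intro x
      have h1 := hg x
      have h2 : (QuotientGroup.mk' H) (ι ⟨φ x, hv x⟩) = (QuotientGroup.mk' H) (g * ι ⟨x, hP x.2⟩ * g⁻¹) := by
        rw [map_mul, map_mul, map_inv]
        exact h1
      exact QuotientGroup.eq.1 h2
    -- the two images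
    let A : Subgroup G := (φ.range.comap S.subtype).map ι
    have hA : ∀ x : P, ι ⟨φ x, hv x⟩ ∈ A := by
      intro x
      exact ⟨⟨φ x, hv x⟩, ⟨x, rfl⟩, rfl⟩
    have hAr : A ≤ ι.range := by
      rintro _ ⟨y, -, rfl⟩
      exact ⟨y, rfl⟩
    let B : Subgroup G := (P.comap (S.subtype)).map (((MulAut.conj g).toMonoidHom).comp ι)
    have hB : ∀ x : P, g * ι ⟨x, hP x.2⟩ * g⁻¹ ∈ B := fun x => ⟨⟨x, hP x.2⟩, x.2, rfl⟩
    have hBf : ∀ b ∈ B, ∃ x : P, b = g * ι ⟨x, hP x.2⟩ * g⁻¹ := by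
      rintro _ ⟨y, hy, rfl⟩
      exact ⟨⟨y, hy⟩, rfl⟩
    have hBp : IsPGroup p B := by
      have h1 : IsPGroup p ((P.comap S.subtype).map ι) := by
        refine IsPGroup.to_le (K := (T₀ : Subgroup G)) T₀.isPGroup' ?_
        rw [hT₀]
        rintro _ ⟨y, -, rfl⟩
        exact ⟨y, rfl⟩
      have h2 : B = ((P.comap S.subtype).map ι).map (MulAut.conj g).toMonoidHom := by
        rw [Subgroup.map_map]
      rw [h2]
      exact h1.map _
    have hAp : IsPGroup p A := by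
      refine IsPGroup.to_le (K := (T₀ : Subgroup G)) T₀.isPGroup' ?_
      rw [hT₀]
      exact hAr
    have hAH : A ≤ Subgroup.normalizer (H : Set G) := fun a _ => by
      rw [Subgroup.normalizer_eq_top]
      trivial
    have hBK : B ≤ A ⊔ H := by
      intro b hb
      obtain ⟨x, rfl⟩ := hBf b hb
      have e : g * ι ⟨x, hP x.2⟩ * g⁻¹ = ι ⟨φ x, hv x⟩ * ((ι ⟨φ x, hv x⟩)⁻¹ * (g * ι ⟨x, hP x.2⟩ * g⁻¹)) := by group
      rw [e]
      exact Subgroup.mul_mem _ ((le_sup_left : A ≤ A ⊔ H) (hA x)) ((le_sup_right : H ≤ A ⊔ H) (hcong x))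
    -- `p`-subgroups meet `H` trivially
    have htriv : ∀ C : Subgroup G, IsPGroup p C → ∀ c ∈ C, c ∈ H → c = 1 := by
      intro C hC c hc hcH
      obtain ⟨k, hk⟩ := exists_conj_le_sylow T₀ hC
      have h1 : k * c * k⁻¹ ∈ (T₀ : Subgroup G) := hk ⟨c, hc, rfl⟩
      rw [hT₀] at h1
      have h2 := hH _ h1 (hHn.conj_mem _ hcH k)
      have e : c = k⁻¹ * (k * c * k⁻¹) * k := by group
      rw [e, h2]
      group
    have hinjon : ∀ C : Subgroup G, IsPGroup p C → Function.Injective ((QuotientGroup.mk' H).comp C.subtype) := by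
      intro C hC
      rw [injective_iff_map_eq_one]
      rintro ⟨c, hc⟩ hc1
      have h1 : c ∈ H := (QuotientGroup.eq_one_iff _).1 hc1
      exact Subtype.ext (htriv C hC c hc h1)
    have hSyl : IsSylowSub p A (A ⊔ H) := by
      refine isSylowSub_of_card le_sup_left hAp (fun C hC hCp => ?_)
      have h1 := Nat.card_congr (MonoidHom.ofInjective (hinjon C hCp)).toEquiv
      have h2 := Nat.card_congr (MonoidHom.ofInjective (hinjon A hAp)).toEquiv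
      rw [h1, h2]
      refine Subgroup.card_le_of_le ?_
      rintro _ ⟨⟨c, hc⟩, rfl⟩
      obtain ⟨a, ha, h', hh', e⟩ := mem_sup_of_le_normalizer hAH (hC hc)
      refine ⟨⟨a, ha⟩, ?_⟩
      show (QuotientGroup.mk' H) a = (QuotientGroup.mk' H) c
      rw [← e, map_mul]
      have : (QuotientGroup.mk' H) h' = 1 := (QuotientGroup.eq_one_iff _).2 hh'
      rw [this, mul_one]
    obtain ⟨n, hn, hle⟩ := hSyl.exists_conj hBK hBp
    obtain ⟨a, ha, k, hk, rfl⟩ := mem_sup_of_le_normalizer hAH hn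
    refine ⟨k * g, fun x => ?_⟩
    have h1 : (a * k) * (g * ι ⟨x, hP x.2⟩ * g⁻¹) * (a * k)⁻¹ ∈ A := hle ⟨_, hB x, rfl⟩
    have h2 : k * (g * ι ⟨x, hP x.2⟩ * g⁻¹) * k⁻¹ ∈ A := by
      have e : k * (g * ι ⟨x, hP x.2⟩ * g⁻¹) * k⁻¹ = a⁻¹ * ((a * k) * (g * ι ⟨x, hP x.2⟩ * g⁻¹) * (a * k)⁻¹) * a⁻¹⁻¹ := by group
      rw [e]
      exact Subgroup.mul_mem _ (Subgroup.mul_mem _ (Subgroup.inv_mem _ ha) h1) (Subgroup.inv_mem _ (Subgroup.inv_mem _ ha))
    have h3 : (ι ⟨φ x, hv x⟩)⁻¹ * (k * (g * ι ⟨x, hP x.2⟩ * g⁻¹) * k⁻¹) ∈ H := by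
      rw [← QuotientGroup.eq_one_iff, ← QuotientGroup.mk'_apply, map_mul, map_mul, map_mul, map_inv, map_inv]
      have e1 : (QuotientGroup.mk' H) k = 1 := (QuotientGroup.eq_one_iff _).2 hk
      rw [e1, one_mul, inv_one, mul_one]
      have e2 := hcong x
      rw [← QuotientGroup.eq_one_iff, ← QuotientGroup.mk'_apply, map_mul, map_inv] at e2
      exact e2
    have h4 := htriv A hAp _ (Subgroup.mul_mem _ (Subgroup.inv_mem _ (hA x)) h2) h3
    have h5 : ι ⟨φ x, hv x⟩ = k * (g * ι ⟨x, hP x.2⟩ * g⁻¹) * k⁻¹ := by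
      rw [inv_mul_eq_one] at h4
      exact h4
    rw [h5]
    group

/-- Let F be a simple saturated fusion system over a finite p-group S that is realized by some finite group on a Sylow p-subgroup. Then F is realized by a finite simple group on a Sylow p-subgroup. -/
theorem result {Ω : Type u} [Group Ω] {S : Subgroup Ω} [Finite S] (p : ℕ) [Fact p.Prime] (hS : IsPGroup p S) (F : Cfsg.FusionSystem S) (hsimple : F.IsSimple p) (hreal : F.IsRealizable p) : ∃ (G : Type u) (_ : Group G) (_ : Finite G) (_ : IsSimpleGroup G) (ι : ↥S →* G), F.IsRealizedBy ι ∧ ∃ T : Sylow p G, (T : Subgroup G) = ι.range := by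
  classical
  have hex : ∃ n, ∃ (G : Type u) (_ : Group G) (_ : Finite G) (ι : S →* G), F.IsRealizedBy ι ∧
      (∃ T : Sylow p G, (T : Subgroup G) = ι.range) ∧ Nat.card G = n := by
    obtain ⟨G, i1, i2, ι, hr, hT⟩ := hreal
    exact ⟨_, G, i1, i2, ι, hr, hT, rfl⟩
  obtain ⟨G, i1, i2, ι, hr, ⟨T₀, hT₀⟩, hcard⟩ := Nat.find_spec hex
  have hmin : ∀ (G' : Type u) [Group G'] [Finite G'] (ι' : S →* G'), F.IsRealizedBy ι' →
      (∃ T : Sylow p G', (T : Subgroup G') = ι'.range) → Nat.card G ≤ Nat.card G' := by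
    intro G' _ _ ι' hr' hT'
    rw [hcard]
    exact Nat.find_min' hex ⟨G', inferInstance, inferInstance, ι', hr', hT', rfl⟩
  have hS1 := hsimple.2.1
  haveI hnt : Nontrivial G := by
    by_contra hcon
    rw [not_nontrivial_iff_subsingleton] at hcon
    apply hS1
    rw [eq_bot_iff]
    intro x hx
    have h1 : (⟨x, hx⟩ : S) = 1 := hr.1 (Subsingleton.elim _ _)
    exact Subgroup.mem_bot.2 (congrArg (fun z : S => (z : Ω)) h1)
  refine ⟨G, i1, i2, ⟨fun H hH => ?_⟩, ι, hr, T₀, hT₀⟩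
  haveI := hH
  have hT : ∀ x, x ∈ preimageAlong ι H ↔ ∃ h : x ∈ S, ι ⟨x, h⟩ ∈ H := fun x => mem_preimage
  obtain ⟨E, hE⟩ := exists_subSys hr H hT
  have hn := subSys_normal hr T₀ hT₀ H hT hE
  rcases hsimple.2.2 _ E hn with h | ⟨h1, h2⟩
  · left
    have hH1 : ∀ y ∈ ι.range, y ∈ H → y = 1 := by
      rintro _ ⟨s, rfl⟩ hs
      have h3 : (s : Ω) ∈ preimageAlong ι H := (hT _).2 ⟨s.2, hs⟩
      rw [h] at h3
      have h4 : s = 1 := Subtype.ext (Subgroup.mem_bot.1 h3)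
      rw [h4, map_one]
    have hr' := realized_quot hr T₀ hT₀ H hH1
    have hT' : ∃ T : Sylow p (G ⧸ H), (T : Subgroup (G ⧸ H)) = ((QuotientGroup.mk' H).comp ι).range :=
      ⟨T₀.mapSurjective (QuotientGroup.mk'_surjective H), by
        rw [Sylow.coe_mapSurjective, hT₀, MonoidHom.range_comp]⟩
    have hc := hmin (G ⧸ H) _ hr' hT'
    have h3 := Subgroup.card_eq_card_quotient_mul_card_subgroup H
    have h4 : 0 < Nat.card (G ⧸ H) := Nat.card_pos
    have h5 : Nat.card H = 1 := by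
      have h6 : 0 < Nat.card H := Nat.card_pos
      nlinarith
    exact Subgroup.eq_bot_of_card_eq H h5
  · right
    have hrH : ∀ x : S, ι x ∈ H := by
      intro x
      have h3 : (x : Ω) ∈ preimageAlong ι H := by
        rw [h1]
        exact x.2
      exact ((hT _).1 h3).2
    let ι₁ : S →* H := ι.codRestrict H hrH
    have hr₁ : F.IsRealizedBy ι₁ := by
      refine ⟨fun a b e => hr.1 (congrArg (fun z : H => (z : G)) e), fun P hP φ hφ => ?_⟩
      rw [← h2 P, hE P φ]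
      have hTS : S ≤ preimageAlong ι H := h1.ge
      constructor
      · rintro ⟨h0, h00, -, -, g, hg, he⟩
        refine ⟨⟨g, hg⟩, fun x => Subtype.ext ?_⟩
        exact he x
      · rintro ⟨g, he⟩
        refine ⟨hP, hφ, hP.trans hTS, fun x => hTS (hφ x), g, g.2, fun x => ?_⟩
        exact congrArg (fun z : H => (z : G)) (he x)
    obtain ⟨R, hR⟩ := sylow_inf_normal T₀ H
    have hT₁ : ∃ T : Sylow p H, (T : Subgroup H) = ι₁.range := by
      refine ⟨R, ?_⟩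
      rw [hR, hT₀]
      ext ⟨x, hx⟩
      constructor
      · rintro ⟨y, hy⟩
        exact ⟨y, Subtype.ext hy⟩
      · rintro ⟨y, hy⟩
        exact ⟨y, congrArg (fun z : H => (z : G)) hy⟩
    have hc := hmin H _ hr₁ hT₁
    apply Subgroup.eq_of_le_of_card_ge le_top
    rw [Subgroup.card_top]
    exact hc


end Cfsg.Agent.S5343
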