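import Cfsg.Statements.S5726
-- import your own Cfsg.Agent.* helpers here

set_option autoImplicit false
open Cfsg

namespace Cfsg.Agent.S5726

/-- If a finite group acts faithfully and transitively on a set with p^k elements, p a prime and k ≥ 1, then some element of order p fixes no point. -/
theorem result {G Ω : Type*} [Group G] [Finite G] [MulAction G Ω] [FaithfulSMul G Ω] [Fintype Ω] (htr : MulAction.IsPretransitive G Ω)
    (p k : ℕ) (hp : p.Prime) (hk : 1 ≤ k) (hΩ : Fintype.card Ω = p ^ k) :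
    ∃ g : G, orderOf g = p ∧ ∀ ω : Ω, g • ω ≠ ω := by
  classical
  haveI : Fact p.Prime := ⟨hp⟩
  obtain ⟨P⟩ : Nonempty (Sylow p G) := inferInstance
  have hpos : 0 < Fintype.card Ω := by rw [hΩ]; exact pow_pos hp.pos k
  haveI : Nonempty Ω := Fintype.card_pos_iff.1 hpos
  have hst : ∀ ω : Ω, (MulAction.stabilizer G ω).index = p ^ k := by
    intro ω
    rw [← hΩ, MulAction.index_stabilizer, ← Nat.card_eq_fintype_card, ← Set.ncard_univ]
    congr 1
    exact MulAction.orbit_eq_univ G ω
  have horb : ∀ ω : Ω, MulAction.orbit (P : Subgroup G) ω = Set.univ := by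
    intro ω
    have h1 : ((P : Subgroup G) ⊓ MulAction.stabilizer G ω).relIndex (MulAction.stabilizer G ω) * (MulAction.stabilizer G ω).index
        = ((P : Subgroup G) ⊓ MulAction.stabilizer G ω).relIndex (P : Subgroup G) * (P : Subgroup G).index := by
      rw [Subgroup.relIndex_mul_index inf_le_right, Subgroup.relIndex_mul_index inf_le_left]
    have h2 : p ^ k ∣ ((P : Subgroup G) ⊓ MulAction.stabilizer G ω).relIndex (P : Subgroup G) := by
      apply Nat.Coprime.dvd_of_dvd_mul_right (n := (P : Subgroup G).index)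
      · exact Nat.Coprime.pow_left k ((Nat.Prime.coprime_iff_not_dvd hp).2 P.not_dvd_index)
      · rw [← h1, hst]
        exact dvd_mul_left _ _
    have h3 : ((P : Subgroup G) ⊓ MulAction.stabilizer G ω).relIndex (P : Subgroup G) = (MulAction.orbit (P : Subgroup G) ω).ncard := by
      rw [← MulAction.index_stabilizer, Subgroup.relIndex]
      congr 1
      ext g
      simp [Subgroup.mem_subgroupOf, MulAction.mem_stabilizer_iff]
      rfl
    rw [h3] at h2
    have h4 : p ^ k ≤ (MulAction.orbit (P : Subgroup G) ω).ncard := by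
      apply Nat.le_of_dvd _ h2
      have hne : (MulAction.orbit (P : Subgroup G) ω).Nonempty := ⟨ω, MulAction.mem_orbit_self ω⟩
      exact (Set.ncard_pos (Set.toFinite _)).2 hne
    rw [Set.eq_univ_iff_ncard, Nat.card_eq_fintype_card, hΩ]
    apply le_antisymm _ h4
    rw [← hΩ, ← Nat.card_eq_fintype_card, ← Set.ncard_univ]
    exact Set.ncard_le_ncard (Set.subset_univ _)
  obtain ⟨ω₀⟩ := ‹Nonempty Ω›
  have htrans : ∀ x y : Ω, ∃ h : (P : Subgroup G), h • x = y := by
    intro x y
    have : y ∈ MulAction.orbit (P : Subgroup G) x := horb x ▸ Set.mem_univ y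
    exact this
  have hpk : 1 < Fintype.card Ω := by
    rw [hΩ]
    exact Nat.one_lt_pow (by omega) hp.one_lt
  haveI : Nontrivial Ω := Fintype.one_lt_card_iff_nontrivial.1 hpk
  obtain ⟨ω₁, hω₁⟩ := exists_ne ω₀
  obtain ⟨g00, hg00⟩ := htrans ω₀ ω₁
  have hg00' : g00 ≠ 1 := by
    rintro rfl
    rw [one_smul] at hg00
    exact hω₁ hg00.symm
  haveI : Nontrivial (P : Subgroup G) := ⟨⟨g00, 1, hg00'⟩⟩
  have hH : IsPGroup p (P : Subgroup G) := P.isPGroup'
  haveI := hH.center_nontrivial
  have hZ : IsPGroup p (Subgroup.center (P : Subgroup G)) := hH.to_subgroup _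
  obtain ⟨j, hj⟩ := IsPGroup.iff_card.1 hZ
  have hj0 : j ≠ 0 := by
    rintro rfl
    rw [pow_zero] at hj
    exact (Finite.one_lt_card (α := Subgroup.center (P : Subgroup G))).ne' hj
  obtain ⟨x, hx⟩ := exists_prime_orderOf_dvd_card' (G := Subgroup.center (P : Subgroup G)) p (by rw [hj]; exact dvd_pow_self p hj0)
  have hx1 : orderOf ((x : (P : Subgroup G)) : G) = p := by
    rw [Subgroup.orderOf_coe, Subgroup.orderOf_coe]
    exact hx
  refine ⟨((x : (P : Subgroup G)) : G), hx1, fun ω hω => ?_⟩
  have hone : ((x : (P : Subgroup G)) : G) = 1 := by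
    apply FaithfulSMul.eq_of_smul_eq_smul (α := Ω)
    intro y
    obtain ⟨h, rfl⟩ := htrans ω y
    have e : (x : (P : Subgroup G)) * h = h * x := Subgroup.mem_center_iff.1 x.2 h |>.symm
    have e2 : ((x : (P : Subgroup G)) : G) * (h : G) = (h : G) * ((x : (P : Subgroup G)) : G) := congrArg Subtype.val e
    show ((x : (P : Subgroup G)) : G) • ((h : G) • ω) = (1 : G) • ((h : G) • ω)
    rw [one_smul, ← mul_smul, e2, mul_smul]
    have hω' : ((x : (P : Subgroup G)) : G) • ω = ω := hω
    rw [hω']
  rw [hone, orderOf_one] at hx1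
  exact hp.one_lt.ne hx1


end Cfsg.Agent.S5726
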