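import Cfsg.Statements.S5727
-- import your own Cfsg.Agent.* helpers here

set_option autoImplicit false
open Cfsg

namespace Cfsg.Agent.S5727

open MulAction in
theorem core {H Ω : Type*} [Group H] [Finite H] [MulAction H Ω] [FaithfulSMul H Ω] [Fintype Ω] {p m : ℕ} (hp : p.Prime)
    (hH : IsPGroup p H) (hnf : ∀ ω : Ω, ∃ g : H, g • ω ≠ ω) (hΩ : Fintype.card Ω = m * p) (hmp : m ≤ p) (hm : 1 ≤ m) :
    ∃ g : H, orderOf g = p ∧ ∀ ω : Ω, g • ω ≠ ω := by
  classical
  haveI : Fact p.Prime := ⟨hp⟩
  haveI : Fintype H := Fintype.ofFinite H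
  have hpos : 0 < Fintype.card Ω := by rw [hΩ]; exact Nat.mul_pos hm hp.pos
  haveI : Nonempty Ω := Fintype.card_pos_iff.1 hpos
  have horb : ∀ ω : Ω, ∃ n, 1 ≤ n ∧ Nat.card (orbit H ω) = p ^ n := by
    intro ω
    obtain ⟨n, hn⟩ := hH.card_orbit ω
    refine ⟨n, ?_, hn⟩
    by_contra h0
    have hn0 : n = 0 := by omega
    rw [hn0, pow_zero] at hn
    obtain ⟨g, hg⟩ := hnf ω
    have hsub : (orbit H ω).Subsingleton := by
      have := Nat.card_eq_one_iff_unique.1 hn
      exact (Set.subsingleton_coe _).1 this.1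
    exact hg (hsub (mem_orbit ω g) (mem_orbit_self ω))
  obtain ⟨ω00⟩ := ‹Nonempty Ω›
  obtain ⟨g00, hg00⟩ := hnf ω00
  have hg00' : g00 ≠ 1 := by
    rintro rfl
    exact hg00 (one_smul _ _)
  haveI : Nontrivial H := ⟨⟨g00, 1, hg00'⟩⟩
  obtain ⟨k, hk⟩ := IsPGroup.iff_card.1 hH
  have hk0 : k ≠ 0 := by
    rintro rfl
    rw [pow_zero] at hk
    exact (Finite.one_lt_card (α := H)).ne' hk
  by_cases hA : ∃ ω : Ω, Nat.card (orbit H ω) ≠ p
  · -- a large orbit: the group is transitive
    obtain ⟨ω₀, hω₀⟩ := hA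
    obtain ⟨n, hn1, hn⟩ := horb ω₀
    have hn2 : 2 ≤ n := by
      by_contra h
      have : n = 1 := by omega
      rw [this, pow_one] at hn
      exact hω₀ hn
    have hge : Fintype.card Ω ≤ Nat.card (orbit H ω₀) := by
      rw [hn, hΩ]
      calc m * p ≤ p * p := Nat.mul_le_mul_right _ hmp
        _ = p ^ 2 := by ring
        _ ≤ p ^ n := Nat.pow_le_pow_right hp.pos hn2
    have huniv : orbit H ω₀ = Set.univ := by
      rw [Set.eq_univ_iff_ncard, ← Nat.card_coe_set_eq]
      apply le_antisymm
      · exact Nat.card_le_card_of_injective _ Subtype.val_injective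
      · rwa [Nat.card_eq_fintype_card (α := Ω)]
    have htrans : ∀ x y : Ω, ∃ h : H, h • x = y := by
      intro x y
      obtain ⟨a, rfl⟩ : x ∈ orbit H ω₀ := huniv ▸ Set.mem_univ x
      obtain ⟨b, rfl⟩ : y ∈ orbit H ω₀ := huniv ▸ Set.mem_univ y
      refine ⟨b * a⁻¹, ?_⟩
      simp [mul_smul]
    -- a central element of order `p`
    haveI := hH.center_nontrivial
    have hZ : IsPGroup p (Subgroup.center H) := hH.to_subgroup _
    obtain ⟨j, hj⟩ := IsPGroup.iff_card.1 hZ
    have hj0 : j ≠ 0 := by
      rintro rfl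
      rw [pow_zero] at hj
      exact (Finite.one_lt_card (α := Subgroup.center H)).ne' hj
    obtain ⟨x, hx⟩ := exists_prime_orderOf_dvd_card' (G := Subgroup.center H) p (by rw [hj]; exact dvd_pow_self p hj0)
    refine ⟨(x : H), by rw [Subgroup.orderOf_coe]; exact hx, fun ω hω => ?_⟩
    have hone : (x : H) = 1 := by
      apply FaithfulSMul.eq_of_smul_eq_smul (α := Ω)
      intro y
      obtain ⟨h, rfl⟩ := htrans ω y
      rw [one_smul, ← mul_smul, (Subgroup.mem_center_iff.1 x.2 h).symm, mul_smul, hω]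
    have h1 : orderOf (x : H) = p := by rw [Subgroup.orderOf_coe]; exact hx
    rw [hone, orderOf_one] at h1
    exact hp.one_lt.ne h1
  · push Not at hA
    have hindex : ∀ ω : Ω, (stabilizer H ω).index = p := by
      intro ω
      rw [index_stabilizer, ← Nat.card_coe_set_eq]
      exact hA ω
    have hnormal : ∀ ω : Ω, (stabilizer H ω).Normal := by
      intro ω
      apply Subgroup.normal_of_index_eq_minFac_card
      rw [hindex, hk, hp.pow_minFac hk0]
    have hconj : ∀ (ω : Ω) (h : H) (g : H), g ∈ stabilizer H (h • ω) → g ∈ stabilizer H ω := by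
      intro ω h g hg
      rw [mem_stabilizer_iff] at hg
      have h1 : (h⁻¹ * g * h) ∈ stabilizer H ω := by
        rw [mem_stabilizer_iff, mul_smul, mul_smul, hg, inv_smul_smul]
      have := (hnormal ω).conj_mem _ h1 h
      simpa [mul_assoc] using this
    obtain ⟨Q, hQ⟩ : ∃ Q : Type _, Q = orbitRel.Quotient H Ω := ⟨_, rfl⟩
    haveI : Fintype (orbitRel.Quotient H Ω) := Fintype.ofFinite _
    have hQcard : Fintype.card (orbitRel.Quotient H Ω) = m := by
      have e := Fintype.card_congr (selfEquivSigmaOrbits H Ω)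
      rw [Fintype.card_sigma] at e
      have e2 : ∀ q : orbitRel.Quotient H Ω, Fintype.card (orbit H q.out) = p := by
        intro q
        rw [← Nat.card_eq_fintype_card]
        exact hA _
      simp only [e2, Finset.sum_const, Finset.card_univ, smul_eq_mul] at e
      rw [hΩ] at e
      exact (Nat.eq_of_mul_eq_mul_right hp.pos e).symm
    obtain ⟨s, hs⟩ : ∃ s, s = Nat.card (stabilizer H ω00) := ⟨_, rfl⟩
    have hss : ∀ ω : Ω, Nat.card (stabilizer H ω) * p = Fintype.card H := by
      intro ω
      rw [← hindex ω, Subgroup.card_mul_index, Nat.card_eq_fintype_card]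
    have hsω : ∀ ω : Ω, Nat.card (stabilizer H ω) = s := by
      intro ω
      have h1 := hss ω
      have h2 := hss ω00
      rw [← h2] at h1
      rw [hs]
      exact Nat.eq_of_mul_eq_mul_right hp.pos h1
    have hcardH : s * p = Fintype.card H := by
      rw [← hss ω00, hs]
    have hs1 : 1 ≤ s := by
      rw [← hsω ω00]
      exact Nat.card_pos
    let B : Finset H := Finset.univ.biUnion (fun q : orbitRel.Quotient H Ω => (Finset.univ.filter (· ∈ stabilizer H q.out)).erase 1)
    have hBcard : B.card ≤ m * (s - 1) := by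
      refine Finset.card_biUnion_le.trans ?_
      have : ∀ q ∈ (Finset.univ : Finset (orbitRel.Quotient H Ω)), ((Finset.univ.filter (· ∈ stabilizer H q.out)).erase (1 : H)).card = s - 1 := by
        intro q _
        rw [Finset.card_erase_of_mem (by simp [Subgroup.one_mem]), ← hsω q.out, Nat.card_eq_fintype_card, Fintype.card_subtype]
      rw [Finset.sum_congr rfl this, Finset.sum_const, Finset.card_univ, hQcard, smul_eq_mul]
    have hlt : (insert 1 B).card < Fintype.card H := by
      have h1 : (insert 1 B).card ≤ m * (s - 1) + 1 := (Finset.card_insert_le _ _).trans (Nat.add_le_add_right hBcard 1)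
      have h2 : m * (s - 1) ≤ p * (s - 1) := Nat.mul_le_mul_right _ hmp
      obtain ⟨r, rfl⟩ : ∃ r, s = r + 1 := ⟨s - 1, by omega⟩
      rw [← hcardH]
      simp only [Nat.add_sub_cancel] at h1 h2
      have h3 : (r + 1) * p = p * r + p := by ring
      have := hp.two_le
      omega
    obtain ⟨g, hg⟩ : ∃ g : H, g ∉ insert 1 B := by
      by_contra hcon
      push Not at hcon
      have : insert 1 B = Finset.univ := Finset.eq_univ_iff_forall.2 hcon
      rw [this, Finset.card_univ] at hlt
      exact lt_irrefl _ hlt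
    rw [Finset.mem_insert, not_or] at hg
    obtain ⟨hg1, hg2⟩ := hg
    have hfix : ∀ ω : Ω, g • ω ≠ ω := by
      intro ω hω
      apply hg2
      have hrep : ∃ h : H, h • (Quotient.out (Quotient.mk'' ω : orbitRel.Quotient H Ω)) = ω := by
        have := Quotient.out_eq' (Quotient.mk'' ω : orbitRel.Quotient H Ω)
        rw [Quotient.eq''] at this
        obtain ⟨h, hh⟩ := this
        have hh' : h • ω = Quotient.out (Quotient.mk'' ω : orbitRel.Quotient H Ω) := hh
        exact ⟨h⁻¹, by rw [← hh', inv_smul_smul]⟩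
      obtain ⟨h, hh⟩ := hrep
      have hmem : g ∈ stabilizer H (Quotient.out (Quotient.mk'' ω : orbitRel.Quotient H Ω)) := by
        apply hconj _ h
        rw [hh]
        exact hω
      exact Finset.mem_biUnion.2 ⟨Quotient.mk'' ω, Finset.mem_univ _, Finset.mem_erase.2 ⟨hg1, by simpa using hmem⟩⟩
    have hpow : g ^ p = 1 := by
      apply FaithfulSMul.eq_of_smul_eq_smul (α := Ω)
      intro y
      rw [one_smul]
      haveI := hnormal y
      have := Subgroup.pow_index_mem (stabilizer H y) g
      rw [hindex] at this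
      exact this
    exact ⟨g, orderOf_eq_prime hpow hg1, hfix⟩

/-- If a finite group acts faithfully and transitively on a set with m·p elements, where p is a prime and 1 ≤ m ≤ p, then some element of order p fixes no point. -/
theorem result {G Ω : Type*} [Group G] [Finite G] [MulAction G Ω] [FaithfulSMul G Ω] [Fintype Ω] (htr : MulAction.IsPretransitive G Ω)
    (p m : ℕ) (hp : p.Prime) (hm : 1 ≤ m) (hmp : m ≤ p) (hΩ : Fintype.card Ω = m * p) :
    ∃ g : G, orderOf g = p ∧ ∀ ω : Ω, g • ω ≠ ω := by
  classical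
  haveI : Fact p.Prime := ⟨hp⟩
  obtain ⟨P⟩ : Nonempty (Sylow p G) := inferInstance
  have hnf : ∀ ω : Ω, ∃ g : (P : Subgroup G), g • ω ≠ ω := by
    intro ω
    by_contra hcon
    push Not at hcon
    have hle : (P : Subgroup G) ≤ MulAction.stabilizer G ω := fun g hg => hcon ⟨g, hg⟩
    have hdvd : (MulAction.stabilizer G ω).index ∣ (P : Subgroup G).index := Subgroup.index_dvd_of_le hle
    have hst : (MulAction.stabilizer G ω).index = m * p := by
      rw [← hΩ, MulAction.index_stabilizer, ← Nat.card_eq_fintype_card, ← Set.ncard_univ]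
      congr 1
      exact MulAction.orbit_eq_univ G ω
    rw [hst] at hdvd
    exact P.not_dvd_index ((dvd_mul_left _ _).trans hdvd)
  obtain ⟨g, hg1, hg2⟩ := core hp P.isPGroup' hnf hΩ hmp hm
  refine ⟨(g : G), ?_, fun ω => hg2 ω⟩
  rw [Subgroup.orderOf_coe]
  exact hg1


end Cfsg.Agent.S5727
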