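import Cfsg.Statements.S5728


set_option autoImplicit false
open Cfsg

namespace Cfsg.Agent.S5728


theorem mem_prime_of_pow {p : ℕ} [Fact p.Prime] (F : Type*) [Field F] [Algebra (ZMod p) F] [Finite F]
    (a : F) (h : a ^ p = a) : ∃ c : ZMod p, algebraMap (ZMod p) F c = a := by
  haveI : CharP F p := charP_of_injective_algebraMap (algebraMap (ZMod p) F).injective p
  have h1 : a ∈ (⊥ : Subfield F) := (Subfield.mem_bot_iff_pow_eq_self F p).2 h
  obtain ⟨n, hn⟩ := (mem_bot_iff_intCast p F).1 h1
  refine ⟨(n : ZMod p), ?_⟩
  rw [map_intCast, hn]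


/-- An elusive transitive action. Let p = 2^s − 1 be a prime and let F be the field with p² elements. Inside the group of affine maps x ↦ a·x + b of F (a ≠ 0), consider the subgroup of maps with both coefficients in the prime field. Then every element of prime order of the affine group is conjugate, within the affine group, to an element of that subgroup; equivalently, in the transitive action of the affine group on the cosets of that subgroup (of degree p(p + 1)) every element of prime order fixes a point. -/
theorem result (p s : ℕ) [Fact p.Prime] (hs : p = 2 ^ s - 1)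
    (g : Equiv.Perm (GaloisField p 2)) (hg : g ∈ Cfsg.affineGroup (GaloisField p 2)) (hord : (orderOf g).Prime) :
    ∃ x ∈ Cfsg.affineGroup (GaloisField p 2), ∃ a b : ZMod p, a ≠ 0 ∧
      ∀ y : GaloisField p 2, (x * g * x⁻¹) y = algebraMap (ZMod p) (GaloisField p 2) a * y + algebraMap (ZMod p) (GaloisField p 2) b := by
  classical
  haveI : Finite (GaloisField p 2) := Module.finite_of_finite (ZMod p)
  obtain ⟨u, b, hg'⟩ := hg
  set a : GaloisField p 2 := (u : GaloisField p 2) with ha
  have hp2 : 2 ≤ p := (Fact.out : p.Prime).two_le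
  have hr1 := hord.one_lt
  by_cases hu : a = 1
  · -- translations
    have hb : b ≠ 0 := by
      rintro rfl
      have : g = 1 := by
        ext y
        rw [hg', hu]
        simp
      rw [this, orderOf_one] at hr1
      omega
    let x : Equiv.Perm (GaloisField p 2) :=
      (Equiv.mulLeft₀ b⁻¹ (inv_ne_zero hb))
    refine ⟨x, ⟨Units.mk0 b⁻¹ (inv_ne_zero hb), 0, fun y => by simp [x]⟩, 1, 1, one_ne_zero, fun y => ?_⟩
    have h1 : x⁻¹ y = b * y := by
      rw [Equiv.Perm.inv_eq_iff_eq]
      simp [x, hb]
    simp only [Equiv.Perm.coe_mul, Function.comp_apply, h1, hg', hu]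
    simp [x]
    field_simp
  · -- the fixed point
    have h1a : (1 - a) ≠ 0 := sub_ne_zero.2 (Ne.symm hu)
    let c : GaloisField p 2 := b / (1 - a)
    have hc : a * c + b = c := by
      simp only [c]
      field_simp
      ring
    let x : Equiv.Perm (GaloisField p 2) := Equiv.subRight c
    have hxinv : ∀ y, x⁻¹ y = y + c := by
      intro y
      rw [Equiv.Perm.inv_eq_iff_eq]
      simp [x]
    have hconj : ∀ y, (x * g * x⁻¹) y = a * y := by
      intro y
      simp only [Equiv.Perm.coe_mul, Function.comp_apply, hxinv, hg']
      show a * (y + c) + b - c = _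
      linear_combination hc
    have hmem : x ∈ affineGroup (GaloisField p 2) := ⟨1, -c, fun y => by simp [x, sub_eq_add_neg]⟩
    -- a^r = 1
    set r := orderOf g with hr
    have hgr : g ^ r = 1 := pow_orderOf_eq_one g
    have hwr : ∀ (n : ℕ) (y : GaloisField p 2), ((x * g * x⁻¹) ^ n) y = a ^ n * y := by
      intro n
      induction n with
      | zero => intro y; simp
      | succ n ih =>
        intro y
        rw [pow_succ, Equiv.Perm.coe_mul, Function.comp_apply, hconj, ih, pow_succ]
        ring
    have har : a ^ r = 1 := by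
      have h1 := hwr r 1
      have h2 : (x * g * x⁻¹) ^ r = 1 := by
        rw [conj_pow, hgr, mul_one, mul_inv_cancel]
      rw [h2] at h1
      simpa using h1.symm
    -- a is in the prime field
    have hcard : Nat.card (GaloisField p 2) = p ^ 2 := GaloisField.card p 2 (by norm_num)
    letI : Fintype (GaloisField p 2) := Fintype.ofFinite _
    have hcard' : Fintype.card (GaloisField p 2) = p ^ 2 := by rw [← Nat.card_eq_fintype_card, hcard]
    have ha0 : a ≠ 0 := u.ne_zero
    have hq : a ^ (p ^ 2 - 1) = 1 := by
      rw [← hcard']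
      exact FiniteField.pow_card_sub_one_eq_one a ha0
    haveI : Fact r.Prime := ⟨hord⟩
    have hrd : r ∣ p ^ 2 - 1 := by
      have : orderOf a = r := orderOf_eq_prime har hu |> fun h => h
      rw [← this]
      exact orderOf_dvd_of_pow_eq_one hq
    have hps : 2 ^ s = p + 1 := by
      have : 1 ≤ 2 ^ s := Nat.one_le_two_pow
      omega
    have hfac : p ^ 2 - 1 = (p - 1) * 2 ^ s := by
      rw [hps]
      obtain ⟨t, rfl⟩ : ∃ t, p = t + 1 := ⟨p - 1, by omega⟩
      simp only [Nat.add_sub_cancel]
      have : (t + 1) ^ 2 = t * (t + 1 + 1) + 1 := by ring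
      rw [this, Nat.add_sub_cancel]
    obtain ⟨c', hc'⟩ : ∃ c' : ZMod p, algebraMap (ZMod p) (GaloisField p 2) c' = a := by
      by_cases hr2 : r = 2
      · refine ⟨-1, ?_⟩
        rw [hr2] at har
        have h3 : (a - 1) * (a + 1) = 0 := by linear_combination har
        have h4 : a + 1 = 0 := (mul_eq_zero.1 h3).resolve_left (sub_ne_zero.2 hu)
        rw [map_neg, map_one]
        linear_combination -h4
      · have hcop : Nat.Coprime r (2 ^ s) := by
          apply Nat.Coprime.pow_right
          exact (Nat.coprime_primes hord Nat.prime_two).2 hr2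
        have hd : r ∣ p - 1 := by
          rw [hfac] at hrd
          exact hcop.dvd_of_dvd_mul_right hrd
        apply mem_prime_of_pow
        have h5 : a ^ (p - 1) = 1 := by
          obtain ⟨t, ht⟩ := hd
          rw [ht, pow_mul, har, one_pow]
        have h6 : a ^ p = a ^ (p - 1) * a := by
          rw [← pow_succ]
          congr 1
          omega
        rw [h6, h5, one_mul]
    refine ⟨x, hmem, c', 0, ?_, fun y => ?_⟩
    · rintro rfl
      apply ha0
      rw [← hc', map_zero]
    · rw [hconj, hc', map_zero, add_zero]

end Cfsg.Agent.S5728
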