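import Cfsg.Statements.S5905
-- import your own Cfsg.Agent.* helpers here

set_option autoImplicit false
open Cfsg

namespace Cfsg.Agent.S5905

variable {Ω : Type*} {b : ℕ}

/-- The stabiliser of a partition. -/
def stab (f : Ω → Fin b) : Subgroup (Equiv.Perm Ω) where
  carrier := {g | ∀ x y : Ω, f x = f y ↔ f (g x) = f (g y)}
  mul_mem' := by
    intro g h hg hh x y
    rw [hh x y, hg (h x) (h y)]
    rfl
  one_mem' := fun x y => Iff.rfl
  inv_mem' := by
    intro g hg x y
    have := hg (g⁻¹ x) (g⁻¹ y)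
    have e : ∀ z, g (g⁻¹ z) = z := fun z => by simp
    rw [e, e] at this
    exact this.symm

/-- Let Ω be a finite set and f : Ω → Fin b a map onto b ≥ 2 labels whose fibres all have the same size a ≥ 2 (a partition of Ω into b blocks of size a, so |Ω| = ab). Then the stabilizer of this partition in the symmetric group on Ω — the permutations g such that x and y lie in the same block exactly when g x and g y do, a group isomorphic to the imprimitive wreath product S_a ≀ S_b — is a maximal subgroup of the symmetric group. -/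
theorem result {Ω : Type*} [Fintype Ω] [DecidableEq Ω] (a b : ℕ) (ha : 2 ≤ a) (hb : 2 ≤ b)
    (f : Ω → Fin b) (hf : ∀ i : Fin b, Nat.card {x : Ω // f x = i} = a) :
    IsCoatom (Subgroup.closure {g : Equiv.Perm Ω | ∀ x y : Ω, f x = f y ↔ f (g x) = f (g y)}) := by
  classical
  have hcl : Subgroup.closure {g : Equiv.Perm Ω | ∀ x y : Ω, f x = f y ↔ f (g x) = f (g y)} = stab f := by
    apply le_antisymm
    · rw [Subgroup.closure_le]
      intro g hg
      exact hg
    · intro g hg
      exact Subgroup.subset_closure hg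
  rw [hcl]
  have hne : ∀ i : Fin b, ∃ x : Ω, f x = i := by
    intro i
    have h1 : 0 < Nat.card {x : Ω // f x = i} := by rw [hf]; omega
    obtain ⟨⟨x, hx⟩⟩ := (Nat.card_pos_iff.1 h1).1
    exact ⟨x, hx⟩
  let i0 : Fin b := ⟨0, by omega⟩
  let i1 : Fin b := ⟨1, by omega⟩
  have h01 : i0 ≠ i1 := by
    intro h
    have := congrArg Fin.val h
    simp [i0, i1] at this
  have hsame : ∀ p q : Ω, f p = f q → Equiv.swap p q ∈ stab f := by
    intro p q hpq x y
    have e : ∀ z, f (Equiv.swap p q z) = f z := by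
      intro z
      by_cases h1 : z = p
      · subst h1
        rw [Equiv.swap_apply_left, hpq]
      · by_cases h2 : z = q
        · subst h2
          rw [Equiv.swap_apply_right, hpq]
        · rw [Equiv.swap_apply_of_ne_of_ne h1 h2]
    rw [e, e]
  obtain ⟨x0, hx0⟩ := hne i0
  obtain ⟨z0, hz0⟩ := hne i1
  have hx1 : ∃ y0 : Ω, f y0 = i0 ∧ y0 ≠ x0 := by
    have h1 : 1 < Nat.card {x : Ω // f x = i0} := by rw [hf]; omega
    haveI := Finite.one_lt_card_iff_nontrivial.1 h1
    obtain ⟨⟨y, hy⟩, hne⟩ := exists_ne (⟨x0, hx0⟩ : {x : Ω // f x = i0})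
    exact ⟨y, hy, fun h => hne (Subtype.ext h)⟩
  obtain ⟨y0, hy0, hyx⟩ := hx1
  constructor
  · intro htop
    have h1 : Equiv.swap y0 z0 ∈ stab f := htop ▸ Subgroup.mem_top _
    have h2 := (h1 x0 y0).1 (by rw [hx0, hy0])
    have hxz : x0 ≠ z0 := by
      rintro rfl
      rw [hx0] at hz0
      exact h01 hz0
    have h3 : Equiv.swap y0 z0 x0 = x0 := Equiv.swap_apply_of_ne_of_ne hyx.symm hxz
    rw [h3, Equiv.swap_apply_left, hx0, hz0] at h2
    exact h01 h2
  · intro M hM
    obtain ⟨hle, g, hgM, hg⟩ := SetLike.lt_iff_le_and_exists.1 hM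
    -- find a swap across blocks
    have hcross : ∃ u v : Ω, f u ≠ f v ∧ Equiv.swap u v ∈ M := by
      have h1 : ∃ g' ∈ M, ∃ x y : Ω, f x = f y ∧ f (g' x) ≠ f (g' y) := by
        have h2 : ¬ ∀ x y : Ω, f x = f y ↔ f (g x) = f (g y) := hg
        push Not at h2
        obtain ⟨x, y, h3⟩ := h2
        rcases h3 with ⟨h3, h4⟩ | ⟨h3, h4⟩
        · exact ⟨g, hgM, x, y, h3, h4⟩
        · refine ⟨g⁻¹, M.inv_mem hgM, g x, g y, h4, ?_⟩
          simpa using h3
      obtain ⟨g', hg', x, y, hxy, hne'⟩ := h1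
      refine ⟨g' x, g' y, hne', ?_⟩
      rw [Equiv.swap_apply_apply]
      exact M.mul_mem (M.mul_mem hg' (hle (hsame x y hxy))) (M.inv_mem hg')
    obtain ⟨u, v, huv, hsw⟩ := hcross
    -- block structure
    obtain ⟨e, he⟩ : ∃ e : Ω ≃ Fin b × Fin a, ∀ x, (e x).1 = f x := by
      have hc : ∀ i : Fin b, {x : Ω // f x = i} ≃ Fin a := fun i =>
        Fintype.equivFinOfCardEq (by rw [← Nat.card_eq_fintype_card]; exact hf i)
      let e1 : Ω ≃ Σ i : Fin b, {x : Ω // f x = i} := (Equiv.sigmaFiberEquiv f).symm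
      let e2 : (Σ i : Fin b, {x : Ω // f x = i}) ≃ Σ _ : Fin b, Fin a := Equiv.sigmaCongrRight hc
      refine ⟨e1.trans (e2.trans (Equiv.sigmaEquivProd _ _)), fun x => rfl⟩
    have hblock : ∀ τ : Equiv.Perm (Fin b), ∃ σ ∈ stab f, ∀ x, f (σ x) = τ (f x) := by
      intro τ
      let σ : Equiv.Perm Ω := e.trans ((Equiv.prodCongr τ (Equiv.refl _)).trans e.symm)
      have hσ : ∀ x, f (σ x) = τ (f x) := by
        intro x
        rw [← he, ← he]
        simp [σ]
      refine ⟨σ, ?_, hσ⟩
      intro x y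
      rw [hσ, hσ]
      exact τ.injective.eq_iff.symm
    have hall : ∀ x y : Ω, f x ≠ f y → Equiv.swap x y ∈ M := by
      intro x y hxy
      let w := Equiv.swap (f u) (f x) (f v)
      have hw : w ≠ f x := by
        intro h
        apply huv
        apply (Equiv.swap (f u) (f x)).injective
        rw [Equiv.swap_apply_left]
        exact h.symm
      let τ : Equiv.Perm (Fin b) := Equiv.swap w (f y) * Equiv.swap (f u) (f x)
      have h1 : τ (f u) = f x := by
        simp only [τ, Equiv.Perm.mul_apply, Equiv.swap_apply_left]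
        exact Equiv.swap_apply_of_ne_of_ne hw.symm hxy
      have h2 : τ (f v) = f y := by
        simp only [τ, Equiv.Perm.mul_apply]
        exact Equiv.swap_apply_left _ _
      obtain ⟨σ, hσ, hσf⟩ := hblock τ
      have h3 : Equiv.swap (σ u) (σ v) ∈ M := by
        rw [Equiv.swap_apply_apply]
        exact M.mul_mem (M.mul_mem (hle hσ) hsw) (M.inv_mem (hle hσ))
      have h4 : f (σ u) = f x := by rw [hσf, h1]
      have h5 : f (σ v) = f y := by rw [hσf, h2]
      let c : Equiv.Perm Ω := Equiv.swap (σ u) x * Equiv.swap (σ v) y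
      have hc : c ∈ M := M.mul_mem (hle (hsame _ _ h4)) (hle (hsame _ _ h5))
      have hne1 : σ u ≠ σ v := fun h => hxy (by rw [← h4, ← h5, h])
      have hne2 : σ u ≠ y := fun h => hxy (by rw [← h4, h])
      have hne3 : x ≠ σ v := fun h => hxy (by rw [← h5, ← h])
      have hne4 : x ≠ y := fun h => hxy (by rw [h])
      have h6 : c (σ u) = x := by
        simp only [c, Equiv.Perm.mul_apply]
        rw [Equiv.swap_apply_of_ne_of_ne hne1 hne2, Equiv.swap_apply_left]
      have h7 : c (σ v) = y := by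
        simp only [c, Equiv.Perm.mul_apply]
        rw [Equiv.swap_apply_left]
        exact Equiv.swap_apply_of_ne_of_ne hne2.symm hne4.symm
      rw [← h6, ← h7, Equiv.swap_apply_apply]
      exact M.mul_mem (M.mul_mem hc h3) (M.inv_mem hc)
    rw [eq_top_iff, ← Equiv.Perm.closure_isSwap, Subgroup.closure_le]
    rintro _ ⟨x, y, hxy, rfl⟩
    by_cases hf' : f x = f y
    · exact hle (hsame x y hf')
    · exact hall x y hf'


end Cfsg.Agent.S5905
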