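import Cfsg.Statements.S5894
import Cfsg.Agent.S5905

set_option autoImplicit false
open Cfsg

namespace Cfsg.Agent.S5894


open Equiv MulAction
open scoped Pointwise

/-- The two-block labelling. -/
def lab (m : ℕ) (i : Fin (2 * m)) : Fin 2 := if i.val < m then 0 else 1

theorem lab_zero {m : ℕ} {i : Fin (2 * m)} : lab m i = 0 ↔ i.val < m := by
  unfold lab
  split_ifs with h <;> simp [h]

theorem lab_one {m : ℕ} {i : Fin (2 * m)} : lab m i = 1 ↔ m ≤ i.val := by
  unfold lab
  split_ifs with h
  · simp; omega
  · simp; omega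

theorem card_fib (m : ℕ) (i : Fin 2) : Nat.card {x : Fin (2 * m) // lab m x = i} = m := by
  have h0 : Nat.card {x : Fin (2 * m) // lab m x = 0} = m := by
    let e : {x : Fin (2 * m) // lab m x = 0} ≃ Fin m :=
      { toFun := fun x => ⟨x.1.val, lab_zero.1 x.2⟩
        invFun := fun j => ⟨⟨j.val, by omega⟩, lab_zero.2 j.2⟩
        left_inv := fun x => by ext; rfl
        right_inv := fun j => by ext; rfl }
    rw [Nat.card_congr e, Nat.card_fin]
  have h1 : Nat.card {x : Fin (2 * m) // lab m x = 1} = m := by
    let e : {x : Fin (2 * m) // lab m x = 1} ≃ Fin m :=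
      { toFun := fun x => ⟨x.1.val - m, by have := lab_one.1 x.2; omega⟩
        invFun := fun j => ⟨⟨j.val + m, by omega⟩, lab_one.2 (by simp)⟩
        left_inv := fun x => by
          ext
          have := lab_one.1 x.2
          simp
          omega
        right_inv := fun j => by ext; simp }
    rw [Nat.card_congr e, Nat.card_fin]
  fin_cases i
  · exact h0
  · exact h1

/-- Permutations preserving the two blocks. -/
def WW (m : ℕ) : Subgroup (Perm (Fin (2 * m))) where
  carrier := {g | ∀ y, lab m (g y) = lab m y}
  one_mem' := fun _ => rfl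
  mul_mem' := fun {g h} hg hh y => by
    show lab m (g (h y)) = _
    rw [hg, hh]
  inv_mem' := fun {g} hg y => by
    have := hg (g⁻¹ y)
    rw [← this]
    simp

/-- The involution exchanging the blocks. -/
def swp (m : ℕ) (i : Fin (2 * m)) : Fin (2 * m) :=
  if h : i.val < m then ⟨i.val + m, by omega⟩ else ⟨i.val - m, by have := i.2; omega⟩

theorem swp_inv (m : ℕ) : Function.Involutive (swp m) := by
  intro i
  unfold swp
  by_cases h : i.val < m
  · simp [h]
  · have h1 : ¬ (i.val - m < m) → False := by have := i.2; omega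
    have h2 : i.val - m < m := by by_contra h3; exact h1 h3
    simp [h, h2]
    ext
    simp
    omega


/-- For every m ≥ 2 the symmetric group on 2m letters has a maximal subgroup M of index 2m together with a maximal subgroup H of M that is not second maximal: some maximal subgroup K of the symmetric group contains H without H being maximal in K. (One may take M the stabiliser of a letter, H ≅ S_m × S_{m−1} inside it, and K ≅ S_m ≀ S₂ the stabiliser of a partition into two m-sets, with H < S_m × S_m < K.) So the prime-index hypothesis in the second-maximality criterion cannot be relaxed to any even index ≥ 4. -/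
theorem result (m : ℕ) (hm : 2 ≤ m) :
    ∃ M H K : Subgroup (Equiv.Perm (Fin (2 * m))), IsCoatom M ∧ M.index = 2 * m ∧ H ≤ M ∧ IsCoatom (H.subgroupOf M) ∧
      IsCoatom K ∧ H ≤ K ∧ ¬ IsCoatom (H.subgroupOf K) := by
  classical
  have hm0 : 0 < 2 * m := by omega
  let x₀ : Fin (2 * m) := ⟨2 * m - 1, by omega⟩
  have hx₀ : lab m x₀ = 1 := lab_one.2 (by show m ≤ 2 * m - 1; omega)
  let M : Subgroup (Perm (Fin (2 * m))) := stabilizer (Perm (Fin (2 * m))) x₀
  let K : Subgroup (Perm (Fin (2 * m))) :=
    Subgroup.closure {g : Perm (Fin (2 * m)) | ∀ x y, lab m x = lab m y ↔ lab m (g x) = lab m (g y)}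
  have hK : IsCoatom K := Cfsg.Agent.S5905.result m 2 hm le_rfl (lab m) (card_fib m)
  have hWK : WW m ≤ K := by
    intro g hg
    apply Subgroup.subset_closure
    intro x y
    rw [hg x, hg y]
  let H : Subgroup (Perm (Fin (2 * m))) := M ⊓ WW m
  have hMeq : stabilizer (Perm (Fin (2 * m))) ({x₀} : Set (Fin (2 * m))) = M := by
    ext g
    simp only [mem_stabilizer_iff, M, Set.smul_set_singleton, Set.singleton_eq_singleton_iff]
  have hMc : IsCoatom M := by
    rw [← hMeq]
    apply Equiv.Perm.isCoatom_stabilizer
    · exact Set.singleton_nonempty _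
    · refine ⟨⟨0, hm0⟩, ?_⟩
      simp only [Set.mem_compl_iff, Set.mem_singleton_iff, Fin.ext_iff, x₀]
      omega
    · rw [Set.ncard_singleton, Nat.card_fin]
      omega
  refine ⟨M, H, K, hMc, ?_, inf_le_left, ?_, hK, inf_le_right.trans hWK, ?_⟩
  · rw [show M = stabilizer (Perm (Fin (2 * m))) x₀ from rfl, index_stabilizer_of_transitive, Nat.card_fin]
  · -- `H` is maximal in `M`: reduce to the permutations of the other points
    let Ωx := {y : Fin (2 * m) // y ≠ x₀}
    let jj : Perm Ωx →* Perm (Fin (2 * m)) := Equiv.Perm.ofSubtype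
    have hjM : ∀ y', jj y' ∈ M := by
      intro y'
      show jj y' • x₀ = x₀
      exact Equiv.Perm.ofSubtype_apply_of_not_mem y' (by simp)
    let j' : Perm Ωx →* M := jj.codRestrict M hjM
    have hj'surj : Function.Surjective j' := by
      rintro ⟨g, hg⟩
      have hgf : g x₀ = x₀ := hg
      have hp : ∀ y, y ≠ x₀ ↔ g y ≠ x₀ := by
        intro y
        rw [ne_eq, ne_eq, not_iff_not]
        constructor
        · rintro rfl
          exact hgf
        · intro h
          exact g.injective (h.trans hgf.symm)
      refine ⟨g.subtypePerm (fun y => (hp y).symm), Subtype.ext ?_⟩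
      apply Equiv.Perm.ofSubtype_subtypePerm
      intro y hy
      rintro rfl
      exact hy hgf
    let A' : Set Ωx := {z | lab m z.1 = 0}
    have hS' : IsCoatom (stabilizer (Perm Ωx) A') := by
      apply Equiv.Perm.isCoatom_stabilizer
      · refine ⟨⟨⟨0, hm0⟩, ?_⟩, lab_zero.2 (by show 0 < m; omega)⟩
        simp only [ne_eq, Fin.ext_iff, x₀]
        omega
      · refine ⟨⟨⟨m, by omega⟩, ?_⟩, ?_⟩
        · simp only [ne_eq, Fin.ext_iff, x₀]
          omega
        · show ¬ (lab m _ = 0)
          rw [lab_zero]
          simp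
      · have hc : Fintype.card Ωx = 2 * m - 1 := by
          show Fintype.card {y // ¬ y = x₀} = _
          rw [Fintype.card_subtype_compl, Fintype.card_subtype_eq, Fintype.card_fin]
        rw [Nat.card_eq_fintype_card, hc]
        omega
    have hjH : ∀ y', j' y' ∈ H.subgroupOf M ↔ y' ∈ stabilizer (Perm Ωx) A' := by
      intro y'
      rw [Subgroup.mem_subgroupOf]
      have hval : ∀ z : Ωx, jj y' z.1 = (y' z).1 := fun z => Equiv.Perm.ofSubtype_apply_coe y' z
      constructor
      · rintro ⟨-, h2⟩
        rw [mem_stabilizer_iff]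
        ext z
        rw [Set.mem_smul_set_iff_inv_smul_mem]
        show lab m ((y'⁻¹ • z : Ωx)).1 = 0 ↔ lab m z.1 = 0
        have := h2 ((y'⁻¹ • z : Ωx)).1
        have h3 : jj y' ((y'⁻¹ • z : Ωx)).1 = z.1 := by
          rw [hval]
          show ((y' (y'⁻¹ z) : Ωx)).1 = _
          simp
        rw [show (j' y' : Perm (Fin (2 * m))) = jj y' from rfl, h3] at this
        rw [← this]
      · intro hy
        rw [mem_stabilizer_iff] at hy
        refine ⟨hjM y', ?_⟩
        intro w
        show lab m (jj y' w) = lab m w
        by_cases hw : w = x₀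
        · subst hw
          have h1 : jj y' x₀ = x₀ := hjM y'
          rw [h1]
        · have h1 := hval ⟨w, hw⟩
          show lab m (jj y' (⟨w, hw⟩ : Ωx).1) = _
          rw [h1]
          have h2 : (y' ⟨w, hw⟩ : Ωx) ∈ y' • A' ↔ (⟨w, hw⟩ : Ωx) ∈ A' := by
            rw [Set.mem_smul_set_iff_inv_smul_mem]
            simp [Perm.smul_def]
          rw [hy] at h2
          have h3 : lab m (y' ⟨w, hw⟩ : Ωx).1 = 0 ↔ lab m w = 0 := h2
          have h4 : ∀ a b : Fin 2, (a = 0 ↔ b = 0) → a = b := by decide
          exact h4 _ _ h3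
    constructor
    · intro htop
      obtain ⟨y', hy'⟩ : ∃ y', y' ∉ stabilizer (Perm Ωx) A' := by
        by_contra hcon
        push Not at hcon
        exact hS'.1 (eq_top_iff.2 fun x _ => hcon x)
      apply hy'
      rw [← hjH, htop]
      trivial
    · intro b hb
      obtain ⟨y, hyb, hyH⟩ := SetLike.exists_of_lt hb
      obtain ⟨y', rfl⟩ := hj'surj y
      have hc : b.comap j' = ⊤ := by
        apply hS'.2
        refine lt_of_le_of_ne ?_ ?_
        · intro z hz
          exact hb.le ((hjH z).2 hz)
        · intro he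
          have h1 : y' ∈ b.comap j' := hyb
          rw [← he] at h1
          exact hyH ((hjH y').2 h1)
      rw [eq_top_iff]
      intro x _
      obtain ⟨x', rfl⟩ := hj'surj x
      have h1 : x' ∈ b.comap j' := by rw [hc]; trivial
      exact h1
  · -- not maximal in `K`
    intro hco
    have hle : H.subgroupOf K ≤ (WW m).subgroupOf K := by
      rintro ⟨g, hgK⟩ hg
      rw [Subgroup.mem_subgroupOf] at hg ⊢
      exact hg.2
    -- a transposition moving the point inside its block
    let y₁ : Fin (2 * m) := ⟨m, by omega⟩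
    have hy₁ : lab m y₁ = 1 := lab_one.2 le_rfl
    have hy₁x : y₁ ≠ x₀ := by
      simp only [ne_eq, Fin.ext_iff, y₁, x₀]
      omega
    have hswW : swap y₁ x₀ ∈ WW m := by
      intro y
      rcases eq_or_ne y y₁ with rfl | h1
      · rw [swap_apply_left, hy₁, hx₀]
      · rcases eq_or_ne y x₀ with rfl | h2
        · rw [swap_apply_right, hy₁, hx₀]
        · rw [swap_apply_of_ne_of_ne h1 h2]
    have hlt : H.subgroupOf K < (WW m).subgroupOf K := by
      refine lt_of_le_of_ne hle ?_
      intro he
      have h1 : (⟨swap y₁ x₀, hWK hswW⟩ : K) ∈ (WW m).subgroupOf K := by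
        rw [Subgroup.mem_subgroupOf]
        exact hswW
      rw [← he, Subgroup.mem_subgroupOf] at h1
      have h2 : swap y₁ x₀ x₀ = x₀ := h1.1
      rw [swap_apply_right] at h2
      exact hy₁x h2
    have htop := hco.2 _ hlt
    -- the block exchange
    let g₀ : Perm (Fin (2 * m)) := (swp_inv m).toPerm
    have hg₀K : g₀ ∈ K := by
      apply Subgroup.subset_closure
      intro x y
      have hlab : ∀ z : Fin (2 * m), lab m (swp m z) = if lab m z = 0 then 1 else 0 := by
        intro z
        unfold swp
        by_cases h : z.val < m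
        · rw [dif_pos h, if_pos (lab_zero.2 h)]
          exact lab_one.2 (by simp)
        · rw [dif_neg h, if_neg (by rw [lab_zero]; exact h)]
          exact lab_zero.2 (by have := z.2; simp; omega)
      show _ ↔ lab m (swp m x) = lab m (swp m y)
      rw [hlab, hlab]
      generalize lab m x = a
      generalize lab m y = b
      revert a b
      decide
    have h3 : (⟨g₀, hg₀K⟩ : K) ∈ (WW m).subgroupOf K := by rw [htop]; trivial
    rw [Subgroup.mem_subgroupOf] at h3
    have h4 : lab m (swp m x₀) = lab m x₀ := h3 x₀
    have h5 : lab m (swp m x₀) = 0 := by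
      unfold swp
      have : ¬ (x₀.val < m) := by show ¬ (2 * m - 1 < m); omega
      rw [dif_neg this]
      exact lab_zero.2 (by show 2 * m - 1 - m < m; omega)
    rw [h5, hx₀] at h4
    exact absurd h4 (by decide)

end Cfsg.Agent.S5894
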